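import Cfsg.Agent.Lib.Components.Basic
import Cfsg.Agent.Lib.Cores.Basic

/-!
The Fitting subgroup and the generalized Fitting subgroup of a finite group.

* `fitting_isNilpotent`, `le_fitting`, `le_fitting_of_isSubnormal`, `map_fitting_subtype` (subnormal subgroups);
* `component_commutator_fitting`, `layer_commutator_fitting`;
* `isSubnormal_le_genFitting_eq`: a subnormal subgroup `S ≤ F*(G)` is `E(S) (F(G) ⊓ S)`;
* `centralizer_genFitting_le`: `C_G(F*(G)) ≤ F*(G)`;
* `genFitting_inf_eq_map`: `F*(G) ⊓ N = F*(N)` for normal `N`.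
-/

set_option autoImplicit false

namespace Cfsg.Agent.Components.Fitting

open Subgroup
open Cfsg.Agent.Components.Basic

open scoped IsMulCommutative in
lemma isNilpotent_of_isMulCommutative (A : Type*) [Group A] [IsMulCommutative A] : Group.IsNilpotent A :=
  inferInstance

universe u

variable {G : Type u} [Group G]

/-! ### The Fitting subgroup -/

instance fitting_normal : (Cfsg.fittingSubgroup G).Normal :=
  Subgroup.sSup_normal _ fun _ h => h.1

lemma le_fitting {N : Subgroup G} [hN : N.Normal] (h : Group.IsNilpotent N) :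
    N ≤ Cfsg.fittingSubgroup G :=
  le_sSup ⟨hN, h⟩

lemma fitting_map_equiv {G' : Type*} [Group G'] (e : G ≃* G') :
    (Cfsg.fittingSubgroup G).map e.toMonoidHom = Cfsg.fittingSubgroup G' := by
  apply le_antisymm
  · rw [map_le_iff_le_comap]
    refine sSup_le fun N hN => map_le_iff_le_comap.mp ?_
    have : (N.map e.toMonoidHom).Normal := hN.1.map _ e.surjective
    have := hN.2
    exact le_fitting (Group.nilpotent_of_mulEquiv (e.subgroupMap N))
  · refine sSup_le fun N hN => ?_
    have this_1 : (N.map e.symm.toMonoidHom).Normal := hN.1.map _ e.symm.surjective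
    have := hN.2
    have h := Subgroup.map_mono (f := e.toMonoidHom)
      (le_fitting (hN := this_1) (N := N.map e.symm.toMonoidHom)
        (Group.nilpotent_of_mulEquiv (e.symm.subgroupMap N)))
    rw [Subgroup.map_map] at h
    simpa using h

instance fitting_characteristic : (Cfsg.fittingSubgroup G).Characteristic :=
  characteristic_iff_map_eq.mpr fun φ => fitting_map_equiv φ

/-- The join of the `p`-cores over all primes `p`. -/
def coreJoin (G : Type u) [Group G] : Subgroup G :=
  ⨆ p : {p : ℕ // p.Prime}, Cfsg.pCore (p : ℕ) G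

lemma coreJoin_le_sup [Finite G] (p : ℕ) [hp : Fact p.Prime] :
    coreJoin G ≤ Cfsg.pCore p G ⊔ Cfsg.pPrimeCore p G := by
  refine iSup_le fun q => ?_
  by_cases h : (q : ℕ) = p
  · rw [h]
    exact le_sup_left
  · refine le_trans (Cores.le_pPrimeCore ?_) le_sup_right
    have : Fact (q : ℕ).Prime := ⟨q.2⟩
    obtain ⟨n, hn⟩ := IsPGroup.iff_card.1 (Cores.pCore_isPGroup (G := G) (q : ℕ))
    rw [hn]
    exact Nat.Coprime.pow_left _ ((Nat.coprime_primes q.2 hp.out).mpr h)

lemma pCore_le_coreJoin (p : ℕ) [hp : Fact p.Prime] : Cfsg.pCore p G ≤ coreJoin G :=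
  le_iSup_of_le (⟨p, hp.out⟩ : {p : ℕ // p.Prime}) le_rfl

lemma coreJoin_isNilpotent [Finite G] : Group.IsNilpotent (coreJoin G) := by
  refine (Group.isNilpotent_of_finite_tfae.out 0 3 rfl rfl).mpr fun p hp P => ?_
  set A := (Cfsg.pCore p G).subgroupOf (coreJoin G) with hA
  have hAP : A ≤ P := IsPGroup.le_sylow_of_normal (Cores.pCore_isPGroup p).comap_subtype P
  have hcard : Nat.card P ∣ Nat.card A := by
    have h1 : Nat.card A = Nat.card (Cfsg.pCore p G) :=
      Nat.card_congr (subgroupOfEquivOfLe (pCore_le_coreJoin p)).toEquiv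
    obtain ⟨k, hk⟩ := IsPGroup.iff_card.1 P.isPGroup'
    rw [h1, hk]
    refine ((Cores.pPrimeCore_card_coprime (G := G) p).symm.pow_left k).dvd_of_dvd_mul_right ?_
    rw [← hk]
    exact (Subgroup.card_subgroup_dvd_card _).trans
      ((Subgroup.card_dvd_of_le (coreJoin_le_sup p)).trans (Cores.card_sup_dvd_mul _ _))
  have : A = (P : Subgroup (coreJoin G)) :=
    Subgroup.eq_of_le_of_card_ge hAP (Nat.le_of_dvd Nat.card_pos hcard)
  rw [← this]
  exact inferInstance

lemma le_coreJoin_of_isNilpotent [Finite G] {N : Subgroup G} [N.Normal] [Group.IsNilpotent N] :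
    N ≤ coreJoin G := by
  rw [← subgroupOf_eq_top, ← index_eq_one]
  refine Nat.eq_one_iff_not_exists_prime_dvd.mpr fun p hp hdvd => ?_
  have : Fact p.Prime := ⟨hp⟩
  obtain ⟨P⟩ := (inferInstance : Nonempty (Sylow p N))
  have : (P : Subgroup N).Characteristic := P.characteristic_of_normal inferInstance
  have hPle : (P : Subgroup N) ≤ (coreJoin G).subgroupOf N :=
    fun x hx => pCore_le_coreJoin p (Cores.le_pCore (P.isPGroup'.map N.subtype) ⟨x, hx, rfl⟩)
  exact P.not_dvd_index (hdvd.trans (index_dvd_of_le hPle))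

lemma fitting_eq_coreJoin [Finite G] : Cfsg.fittingSubgroup G = coreJoin G := by
  refine le_antisymm (sSup_le fun N hN => ?_) (iSup_le fun p => ?_)
  · have := hN.1
    have := hN.2
    exact le_coreJoin_of_isNilpotent
  · have : Fact (p : ℕ).Prime := ⟨p.2⟩
    exact le_fitting (Cores.pCore_isPGroup (p : ℕ)).isNilpotent

/-- Fitting's theorem. -/
instance fitting_isNilpotent [Finite G] : Group.IsNilpotent (Cfsg.fittingSubgroup G) := by
  rw [fitting_eq_coreJoin]
  exact coreJoin_isNilpotent

lemma pCore_le_fitting [Finite G] (p : ℕ) [Fact p.Prime] : Cfsg.pCore p G ≤ Cfsg.fittingSubgroup G :=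
  le_fitting (Cores.pCore_isPGroup p).isNilpotent

lemma isNilpotent_of_le [Finite G] {H : Subgroup G} (h : H ≤ Cfsg.fittingSubgroup G) :
    Group.IsNilpotent H :=
  Group.nilpotent_of_mulEquiv (subgroupOfEquivOfLe h)

/-- A subnormal nilpotent subgroup lies in the Fitting subgroup. -/
lemma le_fitting_of_isSubnormal [Finite G] {H : Subgroup G} (hH : H.IsSubnormal)
    (hn : Group.IsNilpotent H) : H ≤ Cfsg.fittingSubgroup G := by
  induction hd : Nat.card G using Nat.strong_induction_on generalizing G with
  | _ n ih =>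
    subst hd
    rcases hH.lt_normal with rfl | ⟨M, hM, hHM, hMlt⟩
    · exact le_fitting hn
    · have hlt : Nat.card M < Nat.card G :=
        lt_of_le_of_ne (Subgroup.card_le_card_group M)
          (fun h => hMlt.ne (Subgroup.eq_top_of_card_eq M h))
      have h := ih _ hlt (hH.subgroupOf (K := M))
        (Group.nilpotent_of_mulEquiv (subgroupOfEquivOfLe hHM).symm) rfl
      have h2 : (Cfsg.fittingSubgroup M).map M.subtype ≤ Cfsg.fittingSubgroup G :=
        le_fitting (Group.nilpotent_of_mulEquiv
          (equivMapOfInjective (Cfsg.fittingSubgroup M) M.subtype M.subtype_injective))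
      have h3 := (Subgroup.map_mono (f := M.subtype) h).trans h2
      rwa [map_subgroupOf_eq_of_le hHM] at h3

/-- The Fitting subgroup of a subnormal subgroup `H` is `F(G) ⊓ H`. -/
lemma map_fitting_subtype [Finite G] {H : Subgroup G} (hH : H.IsSubnormal) :
    (Cfsg.fittingSubgroup H).map H.subtype = Cfsg.fittingSubgroup G ⊓ H := by
  refine le_antisymm (le_inf ?_ (map_subtype_le _)) ?_
  · exact le_fitting_of_isSubnormal
      ((isSubnormal_map_subtype_iff hH _).mpr (fitting_normal (G := H)).isSubnormal)
      (Group.nilpotent_of_mulEquiv (equivMapOfInjective _ H.subtype H.subtype_injective))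
  · rw [← subgroupOf_map_subtype]
    refine Subgroup.map_mono ?_
    have : Group.IsNilpotent ((Cfsg.fittingSubgroup G ⊓ H : Subgroup G)) :=
      isNilpotent_of_le inf_le_left
    have h2 : Group.IsNilpotent ((Cfsg.fittingSubgroup G).subgroupOf H) := by
      rw [← inf_subgroupOf_right]
      exact Group.nilpotent_of_mulEquiv (subgroupOfEquivOfLe inf_le_right).symm
    exact le_fitting h2

lemma fitting_isSolvable [Finite G] : Group.IsSolvable (Cfsg.fittingSubgroup G) := inferInstance

lemma component_commutator_fitting [Finite G] {L : Subgroup G} (hL : Cfsg.IsComponent L) :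
    ⁅L, Cfsg.fittingSubgroup G⁆ = ⊥ :=
  component_commutator_eq_bot_of_isSolvable hL (fitting_normal (G := G)).isSubnormal fitting_isSolvable

lemma layer_commutator_fitting [Finite G] : ⁅Cfsg.layer G, Cfsg.fittingSubgroup G⁆ = ⊥ :=
  commutator_layer_eq_bot fun _ hL => component_commutator_fitting hL

lemma layer_le_centralizer_fitting [Finite G] :
    Cfsg.layer G ≤ centralizer (Cfsg.fittingSubgroup G : Set G) :=
  commutator_eq_bot_iff_le_centralizer.mp layer_commutator_fitting

lemma fitting_le_centralizer_layer [Finite G] :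
    Cfsg.fittingSubgroup G ≤ centralizer (Cfsg.layer G : Set G) :=
  commutator_eq_bot_iff_le_centralizer.mp (by rw [commutator_comm]; exact layer_commutator_fitting)

/-! ### The generalized Fitting subgroup -/

lemma layer_le_genFitting : Cfsg.layer G ≤ Cfsg.generalizedFittingSubgroup G := le_sup_left

lemma fitting_le_genFitting : Cfsg.fittingSubgroup G ≤ Cfsg.generalizedFittingSubgroup G :=
  le_sup_right

lemma genFitting_map_equiv {G' : Type*} [Group G'] (e : G ≃* G') :
    (Cfsg.generalizedFittingSubgroup G).map e.toMonoidHom = Cfsg.generalizedFittingSubgroup G' := by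
  rw [Cfsg.generalizedFittingSubgroup, Subgroup.map_sup, layer_map_equiv, fitting_map_equiv]
  rfl

instance genFitting_characteristic : (Cfsg.generalizedFittingSubgroup G).Characteristic :=
  characteristic_iff_map_eq.mpr fun φ => genFitting_map_equiv φ

lemma component_le_genFitting {L : Subgroup G} (hL : Cfsg.IsComponent L) :
    L ≤ Cfsg.generalizedFittingSubgroup G :=
  (le_layer hL).trans layer_le_genFitting

lemma isSubnormal_of_isSubnormal_genFitting {S : Subgroup G}
    (hS : S ≤ Cfsg.generalizedFittingSubgroup G)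
    (h : (S.subgroupOf (Cfsg.generalizedFittingSubgroup G)).IsSubnormal) : S.IsSubnormal :=
  IsSubnormal.trans hS h (inferInstance : (Cfsg.generalizedFittingSubgroup G).Normal).isSubnormal

/-- An element of the layer centralizing it lies in the Fitting subgroup. -/
lemma layer_inf_centralizer_le_fitting :
    Cfsg.layer G ⊓ centralizer (Cfsg.layer G : Set G) ≤ Cfsg.fittingSubgroup G := by
  have : IsMulCommutative (Cfsg.layer G ⊓ centralizer (Cfsg.layer G : Set G) : Subgroup G) :=
    commutator_self_eq_bot_iff.mp (le_bot_iff.mp ((commutator_mono inf_le_left inf_le_right).trans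
      (commutator_eq_bot_iff_le_centralizer.mpr (Subgroup.le_centralizer_iff.mp le_rfl)).le))
  exact le_fitting (isNilpotent_of_isMulCommutative _)

/-- A subnormal subgroup contained in `F*(G)` is the product of its components and `F(G) ⊓ S`. -/
lemma le_layerIn_sup_fitting [Finite G] {S : Subgroup G} (hS : S ≤ Cfsg.generalizedFittingSubgroup G)
    (hsn : S.IsSubnormal) :
    S ≤ sSup {L : Subgroup G | Cfsg.IsComponent L ∧ L ≤ S} ⊔ (Cfsg.fittingSubgroup G ⊓ S) := by
  set E1 := sSup {L : Subgroup G | Cfsg.IsComponent L ∧ L ≤ S} with hE1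
  set E2 := sSup {L : Subgroup G | Cfsg.IsComponent L ∧ ¬ L ≤ S} with hE2
  have hE1S : E1 ≤ S := sSup_le fun L hL => hL.2
  have hE12 : Cfsg.layer G ≤ E1 ⊔ E2 := by
    refine layer_le fun L hL => ?_
    by_cases h : L ≤ S
    · exact le_trans (le_sSup (show L ∈ {L : Subgroup G | Cfsg.IsComponent L ∧ L ≤ S} from ⟨hL, h⟩)) le_sup_left
    · exact le_trans (le_sSup (⟨hL, h⟩ : L ∈ {L : Subgroup G | Cfsg.IsComponent L ∧ ¬ L ≤ S}))
        le_sup_right
  have hE2S : E2 ≤ centralizer (S : Set G) := sSup_le fun L hL =>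
    commutator_eq_bot_iff_le_centralizer.mp
      ((component_le_or_commutator_eq_bot hL.1 hsn).resolve_left hL.2)
  have hE2E : E2 ≤ Cfsg.layer G := sSup_le fun L hL => le_layer hL.1
  have hnorm : E2 ≤ normalizer (E1 : Set G) :=
    (hE2S.trans (centralizer_le (by exact hE1S))).trans (centralizer_le_normalizer _)
  intro s hs
  obtain ⟨e, he, f, hf, rfl⟩ := mem_sup_of_normal_right.mp (hS hs)
  have he' : e ∈ E2 ⊔ E1 := sup_comm E1 E2 ▸ hE12 he
  rw [← SetLike.mem_coe, coe_mul_of_left_le_normalizer_right E2 E1 hnorm] at he'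
  obtain ⟨e2, he2, e1, he1, rfl⟩ := he'
  simp only [] at he hs ⊢
  -- `t = e2 * f` lies in `S`
  have hc : e2 * e1 = e1 * e2 := (mem_centralizer_iff.mp (hE2S he2) e1 (hE1S he1)).symm
  have ht : e2 * f ∈ S := by
    have := S.mul_mem (S.inv_mem (hE1S he1)) hs
    rwa [hc, mul_assoc, inv_mul_cancel_left] at this
  have he2c : e2 ∈ centralizer (E2 : Set G) := by
    rw [mem_centralizer_iff]
    intro x hx
    have h1 : (e2 * f) * x = x * (e2 * f) := mem_centralizer_iff.mp (hE2S hx) _ ht
    have h2 : x * f = f * x := mem_centralizer_iff.mp (fitting_le_centralizer_layer hf) x (hE2E hx)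
    rw [mul_assoc, ← h2, ← mul_assoc, ← mul_assoc] at h1
    exact (mul_right_cancel h1).symm
  have he2E1 : e2 ∈ centralizer (E1 : Set G) := centralizer_le (by exact hE1S) (hE2S he2)
  have he2F : e2 ∈ Cfsg.fittingSubgroup G := by
    refine layer_inf_centralizer_le_fitting ⟨hE2E he2, ?_⟩
    have h : E1 ⊔ E2 ≤ centralizer ({e2} : Set G) := sup_le
      (fun x hx => mem_centralizer_singleton_iff.mpr (mem_centralizer_iff.mp he2E1 x hx))
      (fun x hx => mem_centralizer_singleton_iff.mpr (mem_centralizer_iff.mp he2c x hx))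
    show e2 ∈ centralizer (Cfsg.layer G : Set G)
    rw [mem_centralizer_iff]
    intro x hx
    exact mem_centralizer_singleton_iff.mp (h (hE12 hx))
  rw [hc, mul_assoc]
  exact mul_mem_sup he1 ⟨mul_mem he2F hf, ht⟩

lemma isSubnormal_le_genFitting_eq [Finite G] {S : Subgroup G}
    (hS : S ≤ Cfsg.generalizedFittingSubgroup G) (hsn : S.IsSubnormal) :
    (Cfsg.layer S).map S.subtype ⊔ (Cfsg.fittingSubgroup G ⊓ S) = S := by
  refine le_antisymm (sup_le (map_subtype_le _) inf_le_right) ((le_layerIn_sup_fitting hS hsn).trans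
    (sup_le_sup_right (sSup_le fun L hL => ?_) _))
  rw [← map_subgroupOf_eq_of_le hL.2]
  exact Subgroup.map_mono (le_layer (component_subgroupOf hL.1 hL.2))

lemma map_layer_subtype_le [Finite G] {H : Subgroup G} (hH : H.IsSubnormal) :
    (Cfsg.layer H).map H.subtype ≤ Cfsg.layer G ⊓ H := by
  refine le_inf (map_le_iff_le_comap.mpr (layer_le fun L hL => map_le_iff_le_comap.mp ?_))
    (map_subtype_le _)
  exact le_layer ((isComponent_map_subtype_iff hH L).mpr hL)

lemma map_genFitting_subtype_le [Finite G] {H : Subgroup G} (hH : H.IsSubnormal) :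
    (Cfsg.generalizedFittingSubgroup H).map H.subtype ≤ Cfsg.generalizedFittingSubgroup G ⊓ H := by
  refine le_inf ?_ (map_subtype_le _)
  rw [Cfsg.generalizedFittingSubgroup, Subgroup.map_sup]
  exact sup_le ((map_layer_subtype_le hH).trans (inf_le_left.trans layer_le_genFitting))
    ((map_fitting_subtype hH).le.trans (inf_le_left.trans fitting_le_genFitting))

/-- `F*(G) ⊓ N = F*(N)` for a normal subgroup `N`. -/
lemma genFitting_inf_eq_map [Finite G] (N : Subgroup G) [hN : N.Normal] :
    Cfsg.generalizedFittingSubgroup G ⊓ N = (Cfsg.generalizedFittingSubgroup N).map N.subtype := by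
  refine le_antisymm ?_ (map_genFitting_subtype_le hN.isSubnormal)
  have hsn : (Cfsg.generalizedFittingSubgroup G ⊓ N).IsSubnormal :=
    Subgroup.Normal.isSubnormal inferInstance
  refine (le_layerIn_sup_fitting inf_le_left hsn).trans (sup_le (sSup_le fun L hL => ?_) ?_)
  · rw [← map_subgroupOf_eq_of_le (hL.2.trans inf_le_right)]
    exact Subgroup.map_mono (component_le_genFitting (component_subgroupOf hL.1 (hL.2.trans inf_le_right)))
  · refine le_trans ?_ (Subgroup.map_mono fitting_le_genFitting)
    rw [map_fitting_subtype hN.isSubnormal]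
    exact inf_le_inf_left _ inf_le_right

/-- The centralizer of the generalized Fitting subgroup is contained in it. -/
theorem centralizer_genFitting_le [Finite G] :
    centralizer (Cfsg.generalizedFittingSubgroup G : Set G) ≤ Cfsg.generalizedFittingSubgroup G := by
  set F := Cfsg.generalizedFittingSubgroup G with hF
  set C := centralizer (F : Set G) with hC
  by_contra hCF
  have hCn : C.Normal := inferInstance
  obtain ⟨K, hKC, ⟨hKsn, hKF⟩, hmin⟩ := exists_minimal_le
    (fun K : Subgroup G => K.IsSubnormal ∧ ¬ K ≤ F) (H := C) ⟨hCn.isSubnormal, hCF⟩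
  have hsmall : ∀ M : Subgroup K, M.IsSubnormal → M = ⊤ ∨ M ≤ center K := by
    intro M hM
    by_cases h : M.map K.subtype ≤ F
    · right
      intro m hm
      rw [Subgroup.mem_center_iff]
      intro g
      exact Subtype.ext ((mem_centralizer_iff.mp (hKC g.2) _ (h ⟨m, hm, rfl⟩)).symm)
    · left
      have := hmin _ (map_subtype_le M) ⟨(isSubnormal_map_subtype_iff hKsn M).mpr hM, h⟩
      rw [← map_subtype_inj, this, ← MonoidHom.range_eq_map, range_subtype]
  have hnil : ¬ Group.IsNilpotent K := fun h =>
    hKF ((le_fitting_of_isSubnormal hKsn h).trans fitting_le_genFitting)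
  have hperf : Group.IsPerfect K := by
    refine ⟨(hsmall (commutator K) (Subgroup.Normal.isSubnormal inferInstance)).resolve_right fun h => ?_⟩
    refine hnil (Group.of_quotient_center_nilpotent ?_)
    have := Subgroup.Normal.quotient_commutative_iff_commutator_le.mpr h
    exact isNilpotent_of_isMulCommutative _
  have hne : Nontrivial K := by
    by_contra h
    rw [not_nontrivial_iff_subsingleton] at h
    exact hnil inferInstance
  exact hKF (component_le_genFitting
    ⟨hKsn, isQuasisimple_of_normal hperf hne fun M hM => hsmall M hM.isSubnormal⟩)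

end Cfsg.Agent.Components.Fitting
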