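import Cfsg.Agent.Lib.Components.Local

/-!
Balance in groups with trivial `p`-layer (in particular solvable groups).
-/

set_option autoImplicit false

namespace Cfsg.Agent.Components.Balance

open Subgroup
open Cfsg.Agent.Components.Basic Cfsg.Agent.Components.Fitting Cfsg.Agent.Components.PComponents
open Cfsg.Agent.Components.Local

universe u

variable {G : Type u} [Group G] {p : ℕ}

lemma layer_eq_bot_of_isSolvable [Group.IsSolvable G] : Cfsg.layer G = ⊥ :=
  layer_eq_bot_iff.mpr fun _ hL => component_not_isSolvable hL inferInstance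

lemma pLayer_eq_bot_of_isSolvable [Finite G] [hp : Fact p.Prime] [Group.IsSolvable G] :
    Cfsg.pLayer p G = ⊥ := by
  have : Group.IsSolvable (G ⧸ Cfsg.pPrimeCore p G) :=
    Group.isSolvable_of_surjective (QuotientGroup.mk'_surjective _)
  exact pLayer_eq_bot_iff.mpr layer_eq_bot_of_isSolvable

/-- If the `p`-layer is trivial, `O_{p'}(C(P)) ≤ O_{p'}(G)` for a `p`-subgroup `P`. -/
lemma le_pPrimeCore_of_normalized [Finite G] [hp : Fact p.Prime] (hL : Cfsg.pLayer p G = ⊥)
    {P D : Subgroup G} (hP : IsPGroup p P) (hD : D ≤ centralizer (P : Set G))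
    (hDn : centralizer (P : Set G) ≤ normalizer (D : Set G)) (hDc : (Nat.card D).Coprime p) :
    D ≤ Cfsg.pPrimeCore p G := by
  set q := QuotientGroup.mk' (Cfsg.pPrimeCore p G) with hq
  set Q := G ⧸ Cfsg.pPrimeCore p G
  have hQ : centralizer (Cfsg.pCore p Q : Set Q) ≤ Cfsg.pCore p Q := by
    have := centralizer_genFitting_le (G := Q)
    rwa [Cfsg.generalizedFittingSubgroup, pLayer_eq_bot_iff.mp hL, bot_sup_eq,
      fitting_eq_pCore (Cores.pPrimeCore_quotient_self p)] at this
  have hC := map_centralizer_eq hP (Cores.pPrimeCore_card_coprime (G := G) p)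
  have hDc' : (Nat.card (D.map q)).Coprime p := hDc.coprime_dvd_left (D.card_map_dvd q)
  have hPD : P.map q ≤ centralizer ((D.map q : Subgroup Q) : Set Q) :=
    le_centralizer_iff.mp ((Subgroup.map_mono hD).trans hC.le)
  have htop : normalizer (Cfsg.pCore p Q : Set Q) = ⊤ := normalizer_eq_top _
  have hcd : Cfsg.pCore p Q ⊓ centralizer ((P.map q : Subgroup Q) : Set Q) ≤
      centralizer ((D.map q : Subgroup Q) : Set Q) := by
    rw [← commutator_eq_bot_iff_le_centralizer, ← le_bot_iff]
    have hd : Cfsg.pCore p Q ⊓ D.map q = ⊥ := by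
      obtain ⟨k, hk⟩ := IsPGroup.iff_card.1 (Cores.pCore_isPGroup (G := Q) p)
      refine disjoint_iff.mp (disjoint_of_coprime_natCard ?_)
      rw [hk]
      exact hDc'.symm.pow_left k
    rw [← hd]
    refine le_inf ((commutator_mono inf_le_left le_rfl).trans (commutator_le_left _ _))
      (le_normalizer_iff_commutator_le_right.mp (inf_le_right.trans ?_))
    rw [← hC]
    exact (Subgroup.map_mono hDn).trans (le_normalizer_map q)
  have h := Coprime.le_centralizer_of_pxq (hP.map q) hDc' (Cores.pCore_isPGroup p) hPD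
    (htop ▸ le_top) (htop ▸ le_top) hcd
  intro x hx
  have hx' : q x ∈ Cfsg.pCore p Q := hQ (h ⟨x, hx, rfl⟩)
  obtain ⟨k, hk⟩ := Cores.pCore_isPGroup p (⟨_, hx'⟩ : Cfsg.pCore p Q)
  rw [← QuotientGroup.eq_one_iff]
  show q x = 1
  rw [← orderOf_eq_one_iff]
  exact Nat.eq_one_of_dvd_coprimes ((coprime_orderOf_of_mem hDc' ⟨x, hx, rfl⟩).pow_right k) dvd_rfl
    (orderOf_dvd_of_pow_eq_one (congrArg Subtype.val hk))

/-- If the `p`-layer is trivial, `O_{p'}(C(a)) ≤ O_{p'}(G)` for a `p`-element `a`. -/
lemma centralizerPPrimeCore_le [Finite G] [hp : Fact p.Prime] (hL : Cfsg.pLayer p G = ⊥) {a : G}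
    (ha : IsPGroup p (zpowers a)) : Cfsg.centralizerPPrimeCore p a ≤ Cfsg.pPrimeCore p G := by
  have heq : centralizer (zpowers a : Set G) = centralizer ({a} : Set G) := by
    rw [zpowers_eq_closure, centralizer_closure]
  refine le_pPrimeCore_of_normalized hL ha (heq ▸ map_subtype_le _) ?_ ?_
  · rw [heq, Cfsg.centralizerPPrimeCore]
    refine le_normalizer_of_normal_subgroupOf (hK := ?_) (map_subtype_le _)
    rw [subgroupOf, comap_map_eq_self_of_injective (subtype_injective _)]
    infer_instance
  · rw [Cfsg.centralizerPPrimeCore, Subgroup.card_map_of_injective (subtype_injective _)]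
    exact Cores.pPrimeCore_card_coprime p

lemma centralizerPPrimeCore_le_centralizer (p : ℕ) (a : G) :
    Cfsg.centralizerPPrimeCore p a ≤ centralizer ({a} : Set G) :=
  map_subtype_le _

lemma centralizerPPrimeCore_coprime [Finite G] (p : ℕ) (a : G) :
    (Nat.card (Cfsg.centralizerPPrimeCore p a)).Coprime p := by
  rw [Cfsg.centralizerPPrimeCore, Subgroup.card_map_of_injective (subtype_injective _)]
  exact Cores.pPrimeCore_card_coprime p

lemma le_normalizer_centralizerPPrimeCore (p : ℕ) (a : G) :
    centralizer ({a} : Set G) ≤ normalizer (Cfsg.centralizerPPrimeCore p a : Set G) := by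
  refine le_normalizer_of_normal_subgroupOf (hK := ?_) (map_subtype_le _)
  rw [subgroupOf, Cfsg.centralizerPPrimeCore, comap_map_eq_self_of_injective (subtype_injective _)]
  infer_instance

/-- For commuting `a`, `b`: `O_{p'}(C(a)) ⊓ C(b) ≤ O_{p'}(C(b))` when `C(b)` has trivial `p`-layer. -/
lemma centralizerPPrimeCore_inf_le [Finite G] [hp : Fact p.Prime] {a b : G}
    (ha : IsPGroup p (zpowers a)) (hab : a * b = b * a)
    (hL : Cfsg.pLayer p (centralizer ({b} : Set G)) = ⊥) :
    Cfsg.centralizerPPrimeCore p a ⊓ centralizer ({b} : Set G) ≤ Cfsg.centralizerPPrimeCore p b := by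
  set C := centralizer ({b} : Set G) with hC
  set D := Cfsg.centralizerPPrimeCore p a ⊓ C with hD
  have haC : a ∈ C := mem_centralizer_singleton_iff.mpr hab
  set P : Subgroup C := (zpowers a).subgroupOf C
  have hP : IsPGroup p P := ha.comap_subtype
  have h1 : D.subgroupOf C ≤ Cfsg.pPrimeCore p C := by
    refine le_pPrimeCore_of_normalized hL hP ?_ ?_ ?_
    · intro x hx
      rw [mem_centralizer_iff]
      intro y hy
      obtain ⟨m, hm⟩ := Subgroup.mem_zpowers_iff.mp (mem_subgroupOf.mp hy)
      refine Subtype.ext ?_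
      have hxa : (x : G) ∈ centralizer ({a} : Set G) :=
        centralizerPPrimeCore_le_centralizer p a (mem_subgroupOf.mp hx).1
      have hcom : Commute a (x : G) := (mem_centralizer_singleton_iff.mp hxa).symm
      rw [Subgroup.coe_mul, Subgroup.coe_mul, ← hm]
      exact hcom.zpow_left m
    · intro x hx
      have hxa : (x : G) ∈ centralizer ({a} : Set G) := by
        rw [mem_centralizer_singleton_iff]
        exact (congrArg Subtype.val
          (mem_centralizer_iff.mp hx ⟨a, haC⟩ (mem_subgroupOf.mpr (mem_zpowers a)))).symm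
      exact le_normalizer_comap C.subtype
        (inf_normalizer_le_normalizer_inf ⟨le_normalizer_centralizerPPrimeCore p a hxa, le_normalizer x.2⟩)
    · rw [Nat.card_congr (subgroupOfEquivOfLe inf_le_right).toEquiv]
      exact (centralizerPPrimeCore_coprime p a).coprime_dvd_left (card_dvd_of_le inf_le_left)
  have := Subgroup.map_mono (f := C.subtype) h1
  rwa [map_subgroupOf_eq_of_le inf_le_right] at this

end Cfsg.Agent.Components.Balance
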