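import Cfsg.Agent.Lib.Coprime.Generation
import Cfsg.Prelude.Def_Transfer

/-!
Generation by the fixed points of hyperplanes of an elementary abelian group acting coprimely.
-/

set_option autoImplicit false

namespace Cfsg.Agent.Components.Hyperplane

open Subgroup

universe u

variable {G : Type u} [Group G] {p : ℕ}

lemma isElementaryAbelian_of_le {A B : Subgroup G} (hA : Cfsg.IsElementaryAbelian p A) (h : B ≤ A) :
    Cfsg.IsElementaryAbelian p B :=
  ⟨⟨⟨fun x y => Subtype.ext
    (congrArg Subtype.val (hA.1.is_comm.comm (⟨x, h x.2⟩ : A) ⟨y, h y.2⟩) :)⟩⟩,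
    fun b hb => hA.2 b (h hb)⟩

lemma mem_comm {A : Subgroup G} (hA : Cfsg.IsElementaryAbelian p A) {a b : G} (ha : a ∈ A)
    (hb : b ∈ A) : a * b = b * a :=
  congrArg Subtype.val (hA.1.is_comm.comm (⟨a, ha⟩ : A) ⟨b, hb⟩)

lemma orderOf_eq [hp : Fact p.Prime] {A : Subgroup G} (hA : Cfsg.IsElementaryAbelian p A)
    {a : G} (ha : a ∈ A) (ha1 : a ≠ 1) : orderOf a = p :=
  _root_.orderOf_eq_prime (hA.2 a ha) ha1

lemma zpowers_isPGroup [hp : Fact p.Prime] {A : Subgroup G} (hA : Cfsg.IsElementaryAbelian p A)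
    {a : G} (ha : a ∈ A) : IsPGroup p (zpowers a) := by
  rintro ⟨x, hx⟩
  obtain ⟨m, rfl⟩ := Subgroup.mem_zpowers_iff.mp hx
  exact ⟨1, Subtype.ext (by
    simp only [pow_one, SubgroupClass.coe_pow]
    rw [← zpow_natCast, ← zpow_mul, mul_comm, zpow_mul, zpow_natCast, hA.2 a ha, one_zpow]; rfl)⟩

lemma isPGroup [hp : Fact p.Prime] {A : Subgroup G} (hA : Cfsg.IsElementaryAbelian p A) : IsPGroup p A :=
  fun x => ⟨1, Subtype.ext (by simpa using hA.2 x x.2)⟩

lemma not_isCyclic [Finite G] [hp : Fact p.Prime] {A : Subgroup G} (hA : Cfsg.IsElementaryAbelian p A)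
    (hA2 : p ^ 2 ≤ Nat.card A) : ¬ IsCyclic A := by
  intro hc
  obtain ⟨g, hg⟩ := hc.exists_ofOrder_eq_natCard
  have h1 : orderOf g ≤ p := Nat.le_of_dvd hp.out.pos
    (orderOf_dvd_of_pow_eq_one (Subtype.ext (by simpa using hA.2 g g.2)))
  nlinarith [hp.out.one_lt]

/-- A hyperplane avoiding a given nontrivial element. -/
lemma exists_complement [Finite G] [hp : Fact p.Prime] {A : Subgroup G}
    (hA : Cfsg.IsElementaryAbelian p A) {a : G} (ha : a ∈ A) (ha1 : a ≠ 1) :
    ∃ E ≤ A, a ∉ E ∧ E ⊔ zpowers a = A ∧ Nat.card A = p * Nat.card E := by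
  obtain ⟨E, ⟨hEA, haE⟩, hmax⟩ : ∃ E, (E ≤ A ∧ a ∉ E) ∧ ∀ E', (E' ≤ A ∧ a ∉ E') → E ≤ E' → E' = E := by
    obtain ⟨E, -, hE, hmax⟩ := Finite.exists_le_maximal (p := fun E : Subgroup G => E ≤ A ∧ a ∉ E)
      (a := ⊥) ⟨bot_le, by simpa using ha1⟩
    exact ⟨E, hE, fun E' h hle => le_antisymm (hmax h hle) hle⟩
  have hnorm : ∀ {B : Subgroup G}, B ≤ A → A ≤ normalizer (B : Set G) := fun hB x hx => by
    rw [mem_normalizer_iff]
    intro y
    have hcomm : ∀ z ∈ A, x * z * x⁻¹ = z := fun z hz => by
      rw [mem_comm hA hx hz, mul_inv_cancel_right]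
    constructor
    · intro hy
      rwa [hcomm y (hB hy)]
    · intro hy
      have h1 : y ∈ A := by
        have := mul_mem (mul_mem (inv_mem hx) (hB hy)) hx
        simpa [mul_assoc] using this
      rwa [hcomm y h1] at hy
  have haA : zpowers a ≤ A := zpowers_le.mpr ha
  have hsup : E ⊔ zpowers a = A := by
    refine le_antisymm (sup_le hEA haA) fun x hx => ?_
    by_cases hxE : x ∈ E
    · exact mem_sup_left hxE
    have hmem : a ∈ E ⊔ zpowers x := by
      by_contra hna
      have := hmax (E ⊔ zpowers x) ⟨sup_le hEA (zpowers_le.mpr hx), hna⟩ le_sup_left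
      exact hxE (this ▸ mem_sup_right (mem_zpowers x))
    obtain ⟨e, he, y, hy, hey⟩ :=
      (Coprime.mem_sup_of_le_normalizer ((zpowers_le.mpr hx).trans (hnorm hEA))).mp hmem
    have hy1 : y ≠ 1 := by
      rintro rfl
      exact haE (by rw [← hey, mul_one]; exact he)
    have hx1 : orderOf x = p := orderOf_eq hA hx fun h => hxE (h ▸ one_mem E)
    have hxy : x ∈ zpowers y := by
      have hprime : (Nat.card (zpowers x)).Prime := by rw [Nat.card_zpowers, hx1]; exact hp.out
      have hle : zpowers y ≤ zpowers x := zpowers_le.mpr hy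
      have := eq_of_le_of_card_ge hle (by
        rw [Nat.card_zpowers, Nat.card_zpowers, hx1,
          orderOf_eq hA ((zpowers_le.mpr hx) hy) hy1])
      exact this ▸ mem_zpowers x
    have hyE : y ∈ E ⊔ zpowers a := by
      have : y = e⁻¹ * a := by rw [← hey, inv_mul_cancel_left]
      rw [this]
      exact mul_mem_sup (inv_mem he) (mem_zpowers a)
    exact zpowers_le.mpr hyE hxy
  refine ⟨E, hEA, haE, hsup, ?_⟩
  have hd : Disjoint E (zpowers a) := by
    rw [disjoint_def]
    intro x hxE hxa
    by_contra hx1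
    refine haE ?_
    have := eq_of_le_of_card_ge (zpowers_le.mpr hxa) (by
      rw [Nat.card_zpowers, Nat.card_zpowers, orderOf_eq hA (hEA hxE) hx1,
        orderOf_eq hA ha ha1])
    exact zpowers_le.mpr hxE (this ▸ mem_zpowers a)
  have h := Coprime.card_sup_of_disjoint (haA.trans (hnorm hEA)) hd
  rw [hsup, Nat.card_zpowers, orderOf_eq hA ha ha1] at h
  rw [h, mul_comm]

/-- An `A`-invariant `p'`-group is generated by the fixed points of the subgroups of index `p` of `A`. -/
theorem eq_iSup_hyperplane [Finite G] [hp : Fact p.Prime] {A K : Subgroup G}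
    (hA : Cfsg.IsElementaryAbelian p A) (hA2 : p ^ 2 ≤ Nat.card A) (hK : ¬ p ∣ Nat.card K)
    (hAK : A ≤ normalizer (K : Set G)) :
    K = ⨆ D : {D : Subgroup G // D ≤ A ∧ D.relIndex A = p},
      K ⊓ centralizer ((D : Subgroup G) : Set G) := by
  induction hn : Nat.card A using Nat.strong_induction_on generalizing A K with
  | _ n ih =>
    subst hn
    refine le_antisymm ?_ (iSup_le fun _ => inf_le_left)
    obtain ⟨k, hk⟩ := (isPGroup hA).exists_card_eq
    have hcop : (Nat.card A).Coprime (Nat.card K) := by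
      rw [hk]
      exact (hp.out.coprime_iff_not_dvd.mpr hK).pow_left k
    have := hA.1
    conv_lhs => rw [← Coprime.fixedGen_eq (not_isCyclic hA hA2) hAK hcop]
    refine iSup₂_le fun a ha => ?_
    obtain ⟨E, hEA, haE, hsup, hcard⟩ := exists_complement hA ha.1 ha.2
    have hk2 : 2 ≤ k := (Nat.pow_le_pow_iff_right hp.out.one_lt).mp (hk ▸ hA2)
    by_cases hE2 : p ^ 2 ≤ Nat.card E
    · have hKE : E ≤ normalizer ((K ⊓ centralizer ({a} : Set G) : Subgroup G) : Set G) := by
        refine le_trans (le_inf (hEA.trans hAK) ?_) inf_normalizer_le_normalizer_inf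
        intro e he
        exact le_normalizer (mem_centralizer_singleton_iff.mpr (mem_comm hA (hEA he) ha.1))
      have hKd : ¬ p ∣ Nat.card (K ⊓ centralizer ({a} : Set G) : Subgroup G) := fun h =>
        hK (h.trans (card_dvd_of_le inf_le_left))
      have hlt : Nat.card E < Nat.card A := by
        rw [hcard]
        exact lt_mul_of_one_lt_left Nat.card_pos hp.out.one_lt
      rw [ih _ hlt (isElementaryAbelian_of_le hA hEA) hE2 hKd hKE rfl]
      refine iSup_le fun D => ?_
      refine le_iSup_of_le ⟨(D : Subgroup G) ⊔ zpowers a, sup_le (D.2.1.trans hEA) (zpowers_le.mpr ha.1), ?_⟩ ?_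
      · have hd : Disjoint (D : Subgroup G) (zpowers a) := by
          rw [disjoint_def]
          intro x hxD hxa
          by_contra hx1
          refine haE ?_
          have := eq_of_le_of_card_ge (zpowers_le.mpr hxa) (by
            rw [Nat.card_zpowers, Nat.card_zpowers, orderOf_eq hA (hEA (D.2.1 hxD)) hx1,
              orderOf_eq hA ha.1 ha.2])
          exact zpowers_le.mpr (D.2.1 hxD) (this ▸ mem_zpowers a)
        have hnorm : zpowers a ≤ normalizer ((D : Subgroup G) : Set G) :=
          le_trans (zpowers_le.mpr (mem_centralizer_iff.mpr fun d hd' =>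
            mem_comm hA (hEA (D.2.1 hd')) ha.1)) (centralizer_le_normalizer _)
        have h1 := Coprime.card_sup_of_disjoint hnorm hd
        rw [Nat.card_zpowers, orderOf_eq hA ha.1 ha.2] at h1
        have h2 : Nat.card ↥((D : Subgroup G) ⊔ zpowers a) * ((D : Subgroup G) ⊔ zpowers a).relIndex A =
            Nat.card A := by
          rw [← relIndex_bot_left, ← relIndex_bot_left A]
          exact relIndex_mul_relIndex _ _ _ bot_le (sup_le (D.2.1.trans hEA) (zpowers_le.mpr ha.1))
        have h3 : Nat.card (D : Subgroup G) * (D : Subgroup G).relIndex E = Nat.card E := by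
          rw [← relIndex_bot_left, ← relIndex_bot_left E]
          exact relIndex_mul_relIndex _ _ _ bot_le D.2.1
        rw [D.2.2] at h3
        rw [h1, hcard, ← h3] at h2
        exact Nat.eq_of_mul_eq_mul_left (Nat.mul_pos Nat.card_pos hp.out.pos) (h2.trans (by ring))
      · rintro x ⟨⟨hxK, hxa⟩, hxD⟩
        refine ⟨hxK, ?_⟩
        have hle : (D : Subgroup G) ⊔ zpowers a ≤ centralizer ({x} : Set G) := sup_le
          (fun d hd => mem_centralizer_singleton_iff.mpr (mem_centralizer_iff.mp hxD d hd))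
          (zpowers_le.mpr (mem_centralizer_singleton_iff.mpr (mem_centralizer_singleton_iff.mp hxa).symm))
        show x ∈ centralizer (((D : Subgroup G) ⊔ zpowers a : Subgroup G) : Set G)
        rw [mem_centralizer_iff]
        intro y hy
        exact mem_centralizer_singleton_iff.mp (hle hy)
    · -- `|A| = p ^ 2`
      have hk' : k = 2 := by
        by_contra hne
        refine hE2 ?_
        have h1 : Nat.card E = p ^ (k - 1) := by
          refine Nat.eq_of_mul_eq_mul_left hp.out.pos ?_
          rw [← hcard, hk, mul_comm, ← pow_succ]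
          congr 1
          omega
        rw [h1]
        exact Nat.pow_le_pow_right hp.out.pos (by omega)
      refine le_iSup_of_le ⟨zpowers a, zpowers_le.mpr ha.1, ?_⟩ ?_
      · have h2 : Nat.card (zpowers a) * (zpowers a).relIndex A = Nat.card A := by
          rw [← relIndex_bot_left, ← relIndex_bot_left A]
          exact relIndex_mul_relIndex _ _ _ bot_le (zpowers_le.mpr ha.1)
        rw [Nat.card_zpowers, orderOf_eq hA ha.1 ha.2, hk, hk', sq] at h2
        exact Nat.eq_of_mul_eq_mul_left hp.out.pos h2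
      · refine inf_le_inf_left _ ?_
        show centralizer ({a} : Set G) ≤ centralizer ((zpowers a : Subgroup G) : Set G)
        rw [zpowers_eq_closure, centralizer_closure]

end Cfsg.Agent.Components.Hyperplane
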