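import Cfsg.Agent.Lib.Components.PComponents
import Cfsg.Agent.Lib.Coprime.PGroup
import Cfsg.Agent.Lib.Coprime.SchurZassenhaus

/-!
`p`-local consequences: images of components, `p'`-generation of perfect groups, the `P × Q` lemma in the
form used for local subgroups, normalizers and centralizers of `p`-subgroups modulo a normal `p'`-subgroup,
groups of characteristic `p`.
-/

set_option autoImplicit false

namespace Cfsg.Agent.Components.Local

open Subgroup
open scoped Pointwise
open Cfsg.Agent.Components.Basic Cfsg.Agent.Components.Fitting Cfsg.Agent.Components.PComponents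

universe u

variable {G : Type u} [Group G] {p : ℕ}

/-! ### Images of components -/

lemma isQuasisimple_of_surjective {G' : Type*} [Group G'] [Nontrivial G'] {f : G →* G'}
    (hf : Function.Surjective f) (h : Cfsg.IsQuasisimple G) : Cfsg.IsQuasisimple G' := by
  have := h.1
  refine isQuasisimple_of_normal (Group.IsPerfect.ofSurjective hf) inferInstance fun N hN => ?_
  rcases quasisimple_eq_top_or_le_center_of_normal h (N.comap f) with h1 | h1
  · left
    rw [← map_comap_eq_self_of_surjective hf N, h1, map_top_of_surjective f hf]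
  · right
    intro y hy
    obtain ⟨x, rfl⟩ := hf y
    rw [Subgroup.mem_center_iff]
    intro g
    obtain ⟨g, rfl⟩ := hf g
    rw [← map_mul, ← map_mul, Subgroup.mem_center_iff.mp (h1 (mem_comap.mpr hy)) g]

lemma component_le_or_map_isComponent (R : Subgroup G) [R.Normal] {L : Subgroup G}
    (hL : Cfsg.IsComponent L) : L ≤ R ∨ Cfsg.IsComponent (L.map (QuotientGroup.mk' R)) := by
  by_cases h : L ≤ R
  · exact Or.inl h
  · right
    have : Nontrivial (L.map (QuotientGroup.mk' R)) := by
      rw [Subgroup.nontrivial_iff_ne_bot, Ne, Subgroup.map_eq_bot_iff, QuotientGroup.ker_mk']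
      exact h
    exact ⟨hL.1.quotient,
      isQuasisimple_of_surjective ((QuotientGroup.mk' R).subgroupMap_surjective L) hL.2⟩

lemma map_layer_le (R : Subgroup G) [R.Normal] :
    (Cfsg.layer G).map (QuotientGroup.mk' R) ≤ Cfsg.layer (G ⧸ R) := by
  rw [map_le_iff_le_comap]
  refine layer_le fun L hL => ?_
  rcases component_le_or_map_isComponent R hL with h | h
  · exact h.trans ((QuotientGroup.ker_mk' R).symm.le.trans (ker_le_comap _ _))
  · exact map_le_iff_le_comap.mp (le_layer h)

/-! ### Generation by `p'`-elements -/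

lemma coprime_orderOf_of_mem {R : Subgroup G} (hR : (Nat.card R).Coprime p) {x : G} (hx : x ∈ R) :
    (orderOf x).Coprime p :=
  hR.coprime_dvd_left (Subgroup.orderOf_dvd_natCard R hx)

/-- A group which is perfect modulo a normal `p'`-subgroup is generated by its `p'`-elements. -/
lemma closure_pPrime_eq_top [Finite G] [hp : Fact p.Prime] (R : Subgroup G) [R.Normal]
    (hR : (Nat.card R).Coprime p) (hperf : Group.IsPerfect (G ⧸ R)) :
    closure {x : G | (orderOf x).Coprime p} = ⊤ := by
  set K := closure {x : G | (orderOf x).Coprime p} with hK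
  have hKn : K.Normal := by
    refine ⟨fun n hn g => ?_⟩
    have : K.map (MulAut.conj g).toMonoidHom ≤ K := by
      rw [hK, MonoidHom.map_closure, closure_le]
      rintro _ ⟨x, hx, rfl⟩
      refine subset_closure ?_
      have : orderOf (MulAut.conj g x) = orderOf x := orderOf_injective (MulAut.conj g).toMonoidHom (MulAut.conj g).injective x
      exact (show (orderOf (MulAut.conj g x)).Coprime p by rwa [this])
    exact this ⟨n, hn, rfl⟩
  have hRK : R ≤ K := fun x hx => subset_closure (coprime_orderOf_of_mem hR hx)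
  have hpow : ∃ k, K.index = p ^ k := by
    refine ⟨_, Nat.eq_prime_pow_of_unique_prime_dvd Subgroup.index_ne_zero_of_finite
      fun {q} hq hd => ?_⟩
    by_contra hne
    have : Fact q.Prime := ⟨hq⟩
    obtain ⟨P⟩ := (inferInstance : Nonempty (Sylow q G))
    have hP : (P : Subgroup G) ≤ K := by
      intro x hx
      refine subset_closure ?_
      obtain ⟨k, hk⟩ := P.isPGroup' ⟨x, hx⟩
      have h1 : orderOf x ∣ q ^ k := orderOf_dvd_of_pow_eq_one (congrArg Subtype.val hk)
      exact (((Nat.coprime_primes hq hp.out).mpr hne).pow_left k).coprime_dvd_left h1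
    exact P.not_dvd_index (hd.trans (index_dvd_of_le hP))
  by_contra hne
  have : Nontrivial (G ⧸ K) := QuotientGroup.nontrivial_iff.mpr hne
  have : Group.IsPerfect (G ⧸ K) :=
    Group.IsPerfect.ofSurjective (f := QuotientGroup.map R K (MonoidHom.id G) hRK)
      (fun y => by
        obtain ⟨x, rfl⟩ := QuotientGroup.mk'_surjective K y
        exact ⟨QuotientGroup.mk' R x, rfl⟩)
  obtain ⟨k, hk⟩ := hpow
  exact Group.IsPerfect.not_isNilpotent (G ⧸ K) (IsPGroup.of_card hk).isNilpotent

/-- A subgroup perfect modulo a normal `p'`-subgroup is contained in every subgroup containing its `p'`-elements. -/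
lemma le_of_pPrime_mem [Finite G] [hp : Fact p.Prime] {W R H : Subgroup G} [R.Normal]
    (hR : (Nat.card R).Coprime p) (hperf : Group.IsPerfect (W.map (QuotientGroup.mk' R)))
    (h : ∀ x ∈ W, (orderOf x).Coprime p → x ∈ H) : W ≤ H := by
  have hW := hperf
  set f := (QuotientGroup.mk' R).subgroupMap W with hf
  have hRW : (Nat.card (R.subgroupOf W)).Coprime p := by
    refine hR.coprime_dvd_left ?_
    rw [← Subgroup.card_map_of_injective W.subtype_injective, subgroupOf_map_subtype]
    exact card_dvd_of_le inf_le_left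
  have hker : f.ker = R.subgroupOf W := by
    ext x
    rw [MonoidHom.mem_ker, mem_subgroupOf, ← Subtype.coe_inj]
    exact QuotientGroup.eq_one_iff (x : G)
  have hperf' : Group.IsPerfect (W ⧸ R.subgroupOf W) :=
    Group.IsPerfect.ofSurjective
      (f := ((QuotientGroup.quotientKerEquivOfSurjective f
        ((QuotientGroup.mk' R).subgroupMap_surjective W)).symm.trans
          (QuotientGroup.quotientMulEquivOfEq hker)).toMonoidHom)
      (MulEquiv.surjective _)
  have htop := closure_pPrime_eq_top (R.subgroupOf W) hRW hperf'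
  intro x hx
  have : (closure {x : W | (orderOf x).Coprime p}) ≤ H.subgroupOf W :=
    (closure_le _).mpr fun y hy => mem_subgroupOf.mpr (h y y.2 (by rwa [orderOf_coe]))
  exact this (htop ▸ Subgroup.mem_top (⟨x, hx⟩ : W))

/-- A perfect subgroup is contained in every subgroup containing its `p'`-elements. -/
lemma le_of_pPrime_mem_of_perfect [Finite G] [hp : Fact p.Prime] {W H : Subgroup G}
    (hperf : ⁅W, W⁆ = W) (h : ∀ x ∈ W, (orderOf x).Coprime p → x ∈ H) : W ≤ H := by
  refine le_of_pPrime_mem (R := ⊥) (by simp) ?_ h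
  have := Subgroup.isPerfect_iff.mpr hperf
  exact Group.IsPerfect.map _

/-! ### The `P × Q` lemma for local subgroups -/

/-- A `p'`-element centralizing `P` and `U ⊓ N(P)` centralizes the `p`-group `U`. -/
lemma mem_centralizer_of_pxq [Finite G] [hp : Fact p.Prime] {P U : Subgroup G} (hP : IsPGroup p P)
    (hU : IsPGroup p U) (hPU : P ≤ normalizer (U : Set G)) {x : G} (hx : (orderOf x).Coprime p)
    (hxU : x ∈ normalizer (U : Set G)) (hxP : x ∈ centralizer (P : Set G))
    (hxC : x ∈ centralizer ((U ⊓ normalizer (P : Set G) : Subgroup G) : Set G)) :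
    x ∈ centralizer (U : Set G) := by
  refine Coprime.le_centralizer_of_pxq hP (Q := zpowers x) (by rwa [Nat.card_zpowers]) hU
    (le_centralizer_iff.mp (zpowers_le.mpr hxP)) hPU (zpowers_le.mpr hxU) ?_ (mem_zpowers x)
  intro u hu
  have hc : zpowers x ≤ centralizer ((U ⊓ normalizer (P : Set G) : Subgroup G) : Set G) :=
    zpowers_le.mpr hxC
  exact le_centralizer_iff.mp hc ⟨hu.1, centralizer_le_normalizer _ hu.2⟩

lemma le_map_pCore_normalizer [Finite G] {P : Subgroup G} (hP : IsPGroup p P) :
    P ≤ (Cfsg.pCore p (normalizer (P : Set G))).map (normalizer (P : Set G)).subtype := by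
  refine (map_subgroupOf_eq_of_le (le_normalizer (H := P))).symm.le.trans (Subgroup.map_mono ?_)
  exact Cores.le_pCore hP.comap_subtype

lemma pCore_inf_normalizer_le [Finite G] {P : Subgroup G} :
    Cfsg.pCore p G ⊓ normalizer (P : Set G) ≤
      (Cfsg.pCore p (normalizer (P : Set G))).map (normalizer (P : Set G)).subtype := by
  rw [← subgroupOf_map_subtype]
  exact Subgroup.map_mono (Cores.pCore_subgroupOf_le p _)

/-- A `p'`-element of `N_G(P)` centralizing `O_p(N_G(P))` centralizes `O_p(G)`. -/
lemma mem_centralizer_pCore [Finite G] [hp : Fact p.Prime] {P : Subgroup G} (hP : IsPGroup p P)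
    {x : G} (hx : (orderOf x).Coprime p)
    (hxC : x ∈ centralizer
      (((Cfsg.pCore p (normalizer (P : Set G))).map (normalizer (P : Set G)).subtype : Subgroup G) : Set G)) :
    x ∈ centralizer (Cfsg.pCore p G : Set G) := by
  have htop : normalizer (Cfsg.pCore p G : Set G) = ⊤ := normalizer_eq_top _
  exact mem_centralizer_of_pxq hP (Cores.pCore_isPGroup p) (htop ▸ le_top) hx (htop ▸ Subgroup.mem_top x)
    (centralizer_le (by exact le_map_pCore_normalizer hP) hxC)
    (centralizer_le (by exact pCore_inf_normalizer_le) hxC)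

/-- The preimage of the layer of `G ⧸ O_{p'}(G)` centralizes `O_p(G)`. -/
lemma comap_layer_le_centralizer_pCore [Finite G] [hp : Fact p.Prime] :
    (Cfsg.layer (G ⧸ Cfsg.pPrimeCore p G)).comap (QuotientGroup.mk' (Cfsg.pPrimeCore p G)) ≤
      centralizer (Cfsg.pCore p G : Set G) := by
  rw [← commutator_eq_bot_iff_le_centralizer, ← le_bot_iff]
  set q := QuotientGroup.mk' (Cfsg.pPrimeCore p G)
  have h1 : ⁅(Cfsg.layer (G ⧸ Cfsg.pPrimeCore p G)).comap q, Cfsg.pCore p G⁆.map q = ⊥ := by
    rw [map_commutator, ← le_bot_iff, ← layer_commutator_fitting]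
    exact commutator_mono (map_comap_le _ _)
      ((Cores.map_pCore_le (QuotientGroup.mk'_surjective _) p).trans (pCore_le_fitting p))
  rw [Subgroup.map_eq_bot_iff, QuotientGroup.ker_mk'] at h1
  rw [← Cores.pCore_inf_pPrimeCore (G := G) p]
  exact le_inf (commutator_le_right _ _) h1

lemma layer_le_centralizer_pCore [Finite G] [hp : Fact p.Prime] :
    Cfsg.layer G ≤ centralizer (Cfsg.pCore p G : Set G) :=
  layer_le_centralizer_fitting.trans (centralizer_le (by exact pCore_le_fitting p))

/-- The image of the layer of `N_G(P)` centralizes `O_p(G)`. -/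
lemma map_layer_normalizer_le_centralizer [Finite G] [hp : Fact p.Prime] {P : Subgroup G}
    (hP : IsPGroup p P) :
    (Cfsg.layer (normalizer (P : Set G))).map (normalizer (P : Set G)).subtype ≤
      centralizer (Cfsg.pCore p G : Set G) := by
  refine le_of_pPrime_mem_of_perfect (p := p) (by rw [← map_commutator, commutator_layer_self]) ?_
  rintro _ ⟨y, hy, rfl⟩ hord
  refine mem_centralizer_pCore hP hord ?_
  rw [mem_centralizer_iff]
  rintro _ ⟨z, hz, rfl⟩
  exact congrArg Subtype.val (mem_centralizer_iff.mp (layer_le_centralizer_pCore hy) z hz)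

/-- Groups of characteristic `p` have local subgroups of characteristic `p`. -/
lemma normalizer_of_characteristic [Finite G] [hp : Fact p.Prime]
    (h : centralizer (Cfsg.pCore p G : Set G) ≤ Cfsg.pCore p G) {P : Subgroup G} (hP : IsPGroup p P) :
    Cfsg.pPrimeCore p (normalizer (P : Set G)) = ⊥ ∧ Cfsg.layer (normalizer (P : Set G)) = ⊥ := by
  constructor
  · rw [← le_bot_iff]
    intro y hy
    have hcop : (orderOf y).Coprime p := coprime_orderOf_of_mem (Cores.pPrimeCore_card_coprime p) hy
    have hy' : (y : G) ∈ Cfsg.pCore p G := by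
      refine h (mem_centralizer_pCore hP (by rwa [orderOf_coe]) ?_)
      rw [mem_centralizer_iff]
      rintro _ ⟨z, hz, rfl⟩
      have hc : ⁅Cfsg.pCore p (normalizer (P : Set G)), Cfsg.pPrimeCore p (normalizer (P : Set G))⁆ = ⊥ :=
        commutator_eq_bot_of_disjoint (disjoint_iff.mpr (Cores.pCore_inf_pPrimeCore p))
      exact congrArg Subtype.val
        (mem_centralizer_iff.mp (commutator_eq_bot_iff_le_centralizer.mp hc hz) y hy).symm
    obtain ⟨k, hk⟩ := Cores.pCore_isPGroup p (⟨_, hy'⟩ : Cfsg.pCore p G)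
    have h1 : orderOf y ∣ p ^ k := by
      rw [← orderOf_coe]
      exact orderOf_dvd_of_pow_eq_one (congrArg Subtype.val hk)
    rw [mem_bot, ← orderOf_eq_one_iff]
    exact Nat.eq_one_of_dvd_coprimes (hcop.pow_right k) dvd_rfl h1
  · refine layer_eq_bot_iff.mpr fun L hL => ?_
    refine component_not_le_of_isSolvable hL (H := (Cfsg.pCore p G).subgroupOf (normalizer (P : Set G)))
      ?_ ?_
    · have h1 : IsPGroup p ((Cfsg.pCore p G).subgroupOf (normalizer (P : Set G))) :=
        (Cores.pCore_isPGroup (G := G) p).comap_subtype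
      have := h1.isNilpotent
      exact IsNilpotent.to_isSolvable
    · intro x hx
      exact mem_subgroupOf.mpr (h (map_layer_normalizer_le_centralizer hP ⟨x, le_layer hL hx, rfl⟩))

/-! ### Modulo a normal `p'`-subgroup -/

/-- Normalizers of `p`-subgroups map onto normalizers modulo a normal `p'`-subgroup. -/
lemma map_normalizer_eq [Finite G] [hp : Fact p.Prime] {P R : Subgroup G} [R.Normal]
    (hP : IsPGroup p P) (hR : (Nat.card R).Coprime p) :
    (normalizer (P : Set G)).map (QuotientGroup.mk' R) =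
      normalizer ((P.map (QuotientGroup.mk' R) : Subgroup (G ⧸ R)) : Set (G ⧸ R)) := by
  set q := QuotientGroup.mk' R
  refine le_antisymm (le_normalizer_map q) fun y hy => ?_
  obtain ⟨g, rfl⟩ := QuotientGroup.mk'_surjective R y
  obtain ⟨n, hn⟩ := IsPGroup.iff_card.1 hP
  have hcop : (Nat.card R).Coprime (Nat.card P) := by rw [hn]; exact hR.pow_right n
  have himg : (MulAut.conj g • P).map q = P.map q := by
    rw [Coprime.map_conj_smul, Coprime.conj_smul_eq_self_iff.mpr hy]
  have heq : R ⊔ (MulAut.conj g • P) = R ⊔ P := by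
    have := congrArg (Subgroup.comap q) himg
    rw [comap_map_eq, comap_map_eq, QuotientGroup.ker_mk'] at this
    rwa [sup_comm R, sup_comm R]
  obtain ⟨r, hr, hconj⟩ := Coprime.exists_conj_eq_of_sup_eq le_normalizer_of_normal
    le_normalizer_of_normal heq (by rwa [Coprime.card_conj_smul]) hcop
    (Or.inr (Coprime.isSolvable_conj_smul g (Coprime.isSolvable_of_isPGroup hP)))
  refine ⟨r * g, Coprime.conj_smul_eq_self_iff.mp (by rw [Coprime.conj_smul_mul, hconj]), ?_⟩
  rw [map_mul, show q r = 1 from (QuotientGroup.eq_one_iff r).mpr hr, one_mul]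

/-- Centralizers of `p`-subgroups map onto centralizers modulo a normal `p'`-subgroup. -/
lemma map_centralizer_eq [Finite G] [hp : Fact p.Prime] {P R : Subgroup G} [R.Normal]
    (hP : IsPGroup p P) (hR : (Nat.card R).Coprime p) :
    (centralizer (P : Set G)).map (QuotientGroup.mk' R) =
      centralizer ((P.map (QuotientGroup.mk' R) : Subgroup (G ⧸ R)) : Set (G ⧸ R)) := by
  set q := QuotientGroup.mk' R
  refine le_antisymm ?_ fun y hy => ?_
  · rintro _ ⟨x, hx, rfl⟩
    rw [mem_centralizer_iff]
    rintro _ ⟨a, ha, rfl⟩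
    rw [← map_mul, ← map_mul, mem_centralizer_iff.mp hx a ha]
  · have hy' : y ∈ (normalizer (P : Set G)).map q :=
      (map_normalizer_eq hP hR).symm ▸ centralizer_le_normalizer _ hy
    obtain ⟨x, hx, rfl⟩ := hy'
    refine ⟨x, mem_centralizer_iff.mpr fun a ha => ?_, rfl⟩
    have h1 : x * a * x⁻¹ * a⁻¹ ∈ P := P.mul_mem ((mem_normalizer_iff.mp hx a).mp ha) (P.inv_mem ha)
    have h2 : x * a * x⁻¹ * a⁻¹ ∈ R := by
      rw [← QuotientGroup.eq_one_iff]
      show q (x * a * x⁻¹ * a⁻¹) = 1
      rw [map_mul, map_mul, map_mul, map_inv, map_inv,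
        ← mem_centralizer_iff.mp hy (q a) ⟨a, ha, rfl⟩]
      group
    obtain ⟨n, hn⟩ := IsPGroup.iff_card.1 hP
    have hd : Disjoint P R :=
      disjoint_of_coprime_natCard (by rw [hn]; exact hR.symm.pow_left n)
    have h3 := disjoint_def.mp hd h1 h2
    rw [mul_inv_eq_one, mul_inv_eq_iff_eq_mul] at h3
    exact h3.symm

/-- The image of a Sylow `p`-subgroup of `O_{p',p}(G)` is `O_p(G ⧸ O_{p'}(G))`. -/
lemma map_sylow_pPrimePCore [Finite G] [hp : Fact p.Prime] (P : Sylow p (Cfsg.pPrimePCore p G)) :
    ((P : Subgroup (Cfsg.pPrimePCore p G)).map (Cfsg.pPrimePCore p G).subtype).map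
      (QuotientGroup.mk' (Cfsg.pPrimeCore p G)) = Cfsg.pCore p (G ⧸ Cfsg.pPrimeCore p G) := by
  set q := QuotientGroup.mk' (Cfsg.pPrimeCore p G) with hq
  set P' := (P : Subgroup (Cfsg.pPrimePCore p G)).map (Cfsg.pPrimePCore p G).subtype with hP'
  have hWq : (Cfsg.pPrimePCore p G).map q = Cfsg.pCore p (G ⧸ Cfsg.pPrimeCore p G) :=
    map_comap_eq_self_of_surjective (QuotientGroup.mk'_surjective _) _
  rw [← hWq]
  refine le_antisymm (Subgroup.map_mono (map_subtype_le _)) (relIndex_eq_one.mp ?_)
  obtain ⟨k, hk⟩ := IsPGroup.iff_card.1 (hWq.symm ▸ Cores.pCore_isPGroup p : IsPGroup p ((Cfsg.pPrimePCore p G).map q))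
  have h1 : (P'.map q).relIndex ((Cfsg.pPrimePCore p G).map q) ∣ p ^ k := hk ▸ relIndex_dvd_card _ _
  have h2 : (P'.map q).relIndex ((Cfsg.pPrimePCore p G).map q) ∣ P'.relIndex (Cfsg.pPrimePCore p G) := by
    have hk' : (Cfsg.pPrimePCore p G) ⊔ q.ker = (Cfsg.pPrimePCore p G) := sup_eq_left.mpr (Subgroup.ker_le_comap q _)
    rw [relIndex_map_map, hk']
    exact relIndex_dvd_of_le_left (Cfsg.pPrimePCore p G) le_sup_left
  have h3 : P'.relIndex (Cfsg.pPrimePCore p G) = (P : Subgroup (Cfsg.pPrimePCore p G)).index := by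
    rw [relIndex, subgroupOf, hP', comap_map_eq_self_of_injective (Cfsg.pPrimePCore p G).subtype_injective]
  rw [h3] at h2
  exact Nat.eq_one_of_dvd_coprimes ((hp.out.coprime_iff_not_dvd.mpr P.not_dvd_index).pow_left k) h1 h2

end Cfsg.Agent.Components.Local
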