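import Mathlib.GroupTheory.IsSubnormal
import Mathlib.GroupTheory.IsPerfect
import Mathlib.Tactic.Group
import Mathlib.GroupTheory.Nilpotent
import Mathlib.GroupTheory.Index
import Mathlib.GroupTheory.QuotientGroup.Basic
import Mathlib.Data.Set.Finite.Lattice
import Cfsg.Prelude.Def_Local

/-!
Quasisimple groups, components and the layer.

* `IsQuasisimple`: `of_mulEquiv`, `eq_top_or_le_center_of_normal`, `eq_top_or_le_center_of_isSubnormal`, ...
* `IsComponent`: `subgroupOf`, `map_subtype`, `map_equiv`, `le_or_commutator_eq_bot` (a component is contained in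
  a subnormal subgroup or centralizes it), `commutator_eq_bot_of_ne`, ...
* `layer`: normal, characteristic, perfect.
-/

set_option autoImplicit false

namespace Cfsg.Agent.Components.Basic

open Subgroup
open scoped commutatorElement

universe u

variable {G : Type u} [Group G]

/-! ### Subnormal subgroups -/

lemma isSubnormal_map_subtype_iff {H : Subgroup G} (hH : H.IsSubnormal) (K : Subgroup H) :
    (K.map H.subtype).IsSubnormal ↔ K.IsSubnormal := by
  refine ⟨fun h => ?_, fun h => h.trans' hH⟩
  have := h.comap H.subtype
  rwa [comap_map_eq_self_of_injective H.subtype_injective] at this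

lemma isSubnormal_subgroupOf_iff {H K : Subgroup G} (hKH : K ≤ H) (hH : H.IsSubnormal) :
    (K.subgroupOf H).IsSubnormal ↔ K.IsSubnormal := by
  rw [← isSubnormal_map_subtype_iff hH, map_subgroupOf_eq_of_le hKH]

/-- A subnormal subgroup of `⊤` transported along an isomorphism. -/
lemma isSubnormal_map_equiv {G' : Type*} [Group G'] (e : G ≃* G') {K : Subgroup G} :
    (K.map e.toMonoidHom).IsSubnormal ↔ K.IsSubnormal := by
  refine ⟨fun h => ?_, fun h => h.map e.surjective⟩
  have := h.comap e.toMonoidHom
  rwa [comap_map_eq_self_of_injective e.injective] at this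

/-- Three subgroups lemma for a perfect first argument. -/
lemma commutator_eq_bot_of_perfect {L M : Subgroup G} (hL : ⁅L, L⁆ = L)
    (h : ⁅⁅L, M⁆, L⁆ = ⊥) : ⁅L, M⁆ = ⊥ := by
  have h2 : ⁅⁅M, L⁆, L⁆ = ⊥ := by rwa [commutator_comm M L]
  have := commutator_commutator_eq_bot_of_rotate h h2
  rwa [hL] at this

lemma commutatorElement_mul_center_left (a y : G) {z : G} (hz : z ∈ Subgroup.center G) :
    ⁅a * z, y⁆ = ⁅a, y⁆ := by
  simp only [commutatorElement_def, mul_inv_rev]
  rw [mul_assoc a z y, ← Subgroup.mem_center_iff.mp hz y]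
  group

lemma commutatorElement_mul_center_right (a y : G) {z : G} (hz : z ∈ Subgroup.center G) :
    ⁅a, y * z⁆ = ⁅a, y⁆ := by
  rw [← commutatorElement_inv, commutatorElement_mul_center_left y a hz, commutatorElement_inv]

/-- A minimal subnormal subgroup with a given property exists below any one with it. -/
lemma exists_minimal_le [Finite G] (P : Subgroup G → Prop) {H : Subgroup G} (h : P H) :
    ∃ K ≤ H, P K ∧ ∀ K' ≤ K, P K' → K' = K := by
  induction H using WellFoundedLT.induction with
  | ind H ih =>
    by_cases hm : ∀ K' ≤ H, P K' → K' = H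
    · exact ⟨H, le_rfl, h, hm⟩
    · push Not at hm
      obtain ⟨K', hK', hP, hne⟩ := hm
      obtain ⟨K, hK, hK2⟩ := ih K' (lt_of_le_of_ne hK' hne) hP
      exact ⟨K, hK.trans hK', hK2⟩

/-! ### Quasisimple groups -/

lemma quotient_center_equiv {G' : Type*} [Group G'] (e : G ≃* G') :
    Nonempty ((G ⧸ Subgroup.center G) ≃* (G' ⧸ Subgroup.center G')) := by
  refine ⟨QuotientGroup.congr _ _ e ?_⟩
  ext x
  simp only [mem_map, mem_center_iff]
  constructor
  · rintro ⟨y, hy, rfl⟩ g
    obtain ⟨g, rfl⟩ := e.surjective g
    rw [show (e : G →* G') y = e y from rfl, ← map_mul, ← map_mul, hy]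
  · intro hx
    refine ⟨e.symm x, fun g => e.injective ?_, by simp⟩
    simpa using hx (e g)

lemma quasisimple_of_mulEquiv {G' : Type*} [Group G'] (e : G ≃* G') (h : Cfsg.IsQuasisimple G) :
    Cfsg.IsQuasisimple G' := by
  obtain ⟨h1, h2⟩ := h
  refine ⟨Group.IsPerfect.ofSurjective (f := e.toMonoidHom) e.surjective, ?_⟩
  obtain ⟨f⟩ := quotient_center_equiv e
  exact @IsSimpleGroup.isSimpleGroup_of_surjective _ _ _ _ h2
    f.symm.surjective.nontrivial f.toMonoidHom f.surjective

lemma isQuasisimple_congr {G' : Type*} [Group G'] (e : G ≃* G') :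
    Cfsg.IsQuasisimple G ↔ Cfsg.IsQuasisimple G' :=
  ⟨quasisimple_of_mulEquiv e, quasisimple_of_mulEquiv e.symm⟩

lemma quasisimple_nontrivial (h : Cfsg.IsQuasisimple G) : Nontrivial G := by
  have := h.2
  exact (QuotientGroup.mk'_surjective (Subgroup.center G)).nontrivial

lemma quasisimple_center_ne_top (h : Cfsg.IsQuasisimple G) : Subgroup.center G ≠ ⊤ := by
  intro h'
  have := h.2
  have : Subsingleton (G ⧸ Subgroup.center G) := by
    rw [h']
    exact QuotientGroup.subsingleton_quotient_top
  exact not_nontrivial (G ⧸ Subgroup.center G) inferInstance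

lemma quasisimple_not_isSolvable (h : Cfsg.IsQuasisimple G) : ¬ Group.IsSolvable G := by
  have := quasisimple_nontrivial h
  have := h.1
  exact Group.IsPerfect.not_isSolvable G

/-- Every normal subgroup of a quasisimple group is the whole group or central. -/
lemma quasisimple_eq_top_or_le_center_of_normal (h : Cfsg.IsQuasisimple G) (N : Subgroup G)
    [hN : N.Normal] : N = ⊤ ∨ N ≤ Subgroup.center G := by
  have hs := h.2
  have := h.1
  rcases (hN.map (QuotientGroup.mk' (Subgroup.center G))
    (QuotientGroup.mk'_surjective _)).eq_bot_or_eq_top with h0 | h1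
  · right
    rwa [Subgroup.map_eq_bot_iff, QuotientGroup.ker_mk'] at h0
  · left
    have hsup : N ⊔ Subgroup.center G = ⊤ := by
      have := congrArg (Subgroup.comap (QuotientGroup.mk' (Subgroup.center G))) h1
      rwa [comap_map_eq, QuotientGroup.ker_mk', comap_top] at this
    rw [eq_top_iff, ← Group.IsPerfect.commutator_eq_top (G := G)]
    exact Subgroup.Normal.commutator_le_of_self_sup_commutative_eq_top hsup inferInstance

/-- Every subnormal subgroup of a quasisimple group is the whole group or central. -/
lemma quasisimple_eq_top_or_le_center_of_isSubnormal (h : Cfsg.IsQuasisimple G) (H : Subgroup G)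
    (hH : H.IsSubnormal) : H = ⊤ ∨ H ≤ Subgroup.center G := by
  rcases hH.lt_normal with h1 | ⟨K, hK, hHK, hKlt⟩
  · exact Or.inl h1
  · exact Or.inr (hHK.trans ((quasisimple_eq_top_or_le_center_of_normal h K).resolve_left hKlt.ne))

/-- A perfect group in which every normal subgroup is the whole group or central is quasisimple. -/
lemma isQuasisimple_of_normal (hp : Group.IsPerfect G) (hne : Nontrivial G)
    (h : ∀ N : Subgroup G, N.Normal → N = ⊤ ∨ N ≤ Subgroup.center G) : Cfsg.IsQuasisimple G := by
  have hZ : Subgroup.center G ≠ ⊤ := by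
    intro hZ
    rw [← commutator_eq_bot_iff_center_eq_top, hp.commutator_eq_top] at hZ
    exact top_ne_bot hZ
  refine ⟨hp, @IsSimpleGroup.mk _ _ ?_ fun N hN => ?_⟩
  · exact (QuotientGroup.nontrivial_iff (N := Subgroup.center G)).mpr hZ
  · have hsurj := QuotientGroup.mk'_surjective (Subgroup.center G)
    rcases h _ (hN.comap (QuotientGroup.mk' (Subgroup.center G))) with h1 | h1
    · right
      have := congrArg (Subgroup.map (QuotientGroup.mk' (Subgroup.center G))) h1
      rwa [map_comap_eq_self_of_surjective hsurj, map_top_of_surjective _ hsurj] at this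
    · left
      have := Subgroup.map_mono (f := QuotientGroup.mk' (Subgroup.center G)) h1
      rwa [map_comap_eq_self_of_surjective hsurj, QuotientGroup.map_mk'_self, le_bot_iff] at this

/-! ### Components -/

lemma component_commutator_self {L : Subgroup G} (h : Cfsg.IsComponent L) : ⁅L, L⁆ = L :=
  Subgroup.isPerfect_iff.mp h.2.1

lemma component_ne_bot {L : Subgroup G} (h : Cfsg.IsComponent L) : L ≠ ⊥ :=
  (Subgroup.nontrivial_iff_ne_bot L).mp (quasisimple_nontrivial h.2)

lemma component_not_isSolvable {L : Subgroup G} (h : Cfsg.IsComponent L) :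
    ¬ Group.IsSolvable L :=
  quasisimple_not_isSolvable h.2

lemma component_not_le_of_isSolvable {L H : Subgroup G} (h : Cfsg.IsComponent L)
    (hH : Group.IsSolvable H) : ¬ L ≤ H := fun hle =>
  component_not_isSolvable h (Group.isSolvable_of_isSolvable_injective (Subgroup.inclusion_injective hle))

/-- A component of `G` inside `H` is a component of `H`. -/
lemma component_subgroupOf {L H : Subgroup G} (h : Cfsg.IsComponent L) (hle : L ≤ H) :
    Cfsg.IsComponent (L.subgroupOf H) :=
  ⟨h.1.subgroupOf, quasisimple_of_mulEquiv (subgroupOfEquivOfLe hle).symm h.2⟩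

/-- Components of a subnormal subgroup are components of the group. -/
lemma isComponent_map_subtype_iff {H : Subgroup G} (hH : H.IsSubnormal) (K : Subgroup H) :
    Cfsg.IsComponent (K.map H.subtype) ↔ Cfsg.IsComponent K :=
  and_congr (isSubnormal_map_subtype_iff hH K)
    (isQuasisimple_congr (equivMapOfInjective K H.subtype H.subtype_injective).symm)

lemma isComponent_subgroupOf_iff {L H : Subgroup G} (hle : L ≤ H) (hH : H.IsSubnormal) :
    Cfsg.IsComponent (L.subgroupOf H) ↔ Cfsg.IsComponent L := by
  rw [← isComponent_map_subtype_iff hH, map_subgroupOf_eq_of_le hle]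

lemma isComponent_map_equiv {G' : Type*} [Group G'] (e : G ≃* G') (K : Subgroup G) :
    Cfsg.IsComponent (K.map e.toMonoidHom) ↔ Cfsg.IsComponent K :=
  and_congr (isSubnormal_map_equiv e) (isQuasisimple_congr (e.subgroupMap K).symm)

lemma component_conj {L : Subgroup G} (h : Cfsg.IsComponent L) (g : G) :
    Cfsg.IsComponent (L.map (MulAut.conj g).toMonoidHom) :=
  (isComponent_map_equiv (MulAut.conj g) L).mpr h

/-- A component is contained in a subnormal subgroup or centralizes it. -/
theorem component_le_or_commutator_eq_bot [Finite G] {L H : Subgroup G}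
    (hL : Cfsg.IsComponent L) (hH : H.IsSubnormal) : L ≤ H ∨ ⁅L, H⁆ = ⊥ := by
  induction hn : Nat.card G using Nat.strong_induction_on generalizing G with
  | _ n ih =>
    subst hn
    -- the statement inside a proper subgroup
    have key : ∀ (M A B : Subgroup G), M ≠ ⊤ → A ≤ M → B ≤ M → Cfsg.IsComponent A →
        B.IsSubnormal → A ≤ B ∨ ⁅A, B⁆ = ⊥ := by
      intro M A B hM hAM hBM hA hB
      have hlt : Nat.card M < Nat.card G :=
        lt_of_le_of_ne (Subgroup.card_le_card_group M)
          (fun h => hM (Subgroup.eq_top_of_card_eq M h))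
      rcases ih _ hlt (component_subgroupOf hA hAM) (hB.subgroupOf (K := M)) rfl with h | h
      · left
        have := Subgroup.map_mono (f := M.subtype) h
        rwa [map_subgroupOf_eq_of_le hAM, map_subgroupOf_eq_of_le hBM] at this
      · right
        have := congrArg (Subgroup.map M.subtype) h
        rwa [map_commutator, map_subgroupOf_eq_of_le hAM, map_subgroupOf_eq_of_le hBM,
          Subgroup.map_bot] at this
    rcases hH.lt_normal with rfl | ⟨M, hMn, hHM, hMlt⟩
    · exact Or.inl le_top
    by_cases hLM : L ≤ M
    · exact key M L H hMlt.ne hLM hHM hL hH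
    right
    suffices h : ⁅L, M⁆ = ⊥ from le_bot_iff.mp ((commutator_mono le_rfl hHM).trans h.le)
    rcases hL.1.lt_normal with rfl | ⟨N, hNn, hLN, hNlt⟩
    · -- `G` itself is quasisimple
      have hq : Cfsg.IsQuasisimple G := quasisimple_of_mulEquiv Subgroup.topEquiv hL.2
      exact commutator_top_left_eq_bot_iff_le_center.mpr
        ((quasisimple_eq_top_or_le_center_of_normal hq M).resolve_left hMlt.ne)
    · have hU : ⁅L, M⁆ ≤ M ⊓ N :=
        le_inf (commutator_le_right _ _) ((commutator_mono hLN le_rfl).trans (commutator_le_left _ _))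
      rcases key N L (M ⊓ N) hNlt.ne hLN inf_le_right hL (hMn.isSubnormal.inf hNn.isSubnormal)
        with h | h
      · exact absurd (h.trans inf_le_left) hLM
      · apply commutator_eq_bot_of_perfect (component_commutator_self hL)
        rw [commutator_comm]
        exact le_bot_iff.mp ((commutator_mono le_rfl hU).trans h.le)

/-- Distinct components commute elementwise. -/
theorem component_commutator_eq_bot_of_ne [Finite G] {L K : Subgroup G}
    (hL : Cfsg.IsComponent L) (hK : Cfsg.IsComponent K) (hne : L ≠ K) : ⁅L, K⁆ = ⊥ := by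
  rcases component_le_or_commutator_eq_bot hL hK.1 with h | h
  · rcases component_le_or_commutator_eq_bot hK hL.1 with h' | h'
    · exact absurd (le_antisymm h h') hne
    · rwa [commutator_comm]
  · exact h

/-- A component centralizes every subnormal solvable subgroup. -/
theorem component_commutator_eq_bot_of_isSolvable [Finite G] {L H : Subgroup G}
    (hL : Cfsg.IsComponent L) (hH : H.IsSubnormal) (hs : Group.IsSolvable H) : ⁅L, H⁆ = ⊥ :=
  (component_le_or_commutator_eq_bot hL hH).resolve_left (component_not_le_of_isSolvable hL hs)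

/-- A component centralizes every solvable subgroup which it normalizes. -/
theorem component_commutator_eq_bot_of_le_normalizer [Finite G] {L H : Subgroup G}
    (hL : Cfsg.IsComponent L) (hs : Group.IsSolvable H)
    (hn : L ≤ Subgroup.normalizer (H : Set G)) : ⁅L, H⁆ = ⊥ := by
  have hsub : (H.subgroupOf (L ⊔ H)).Normal :=
    normal_subgroupOf_of_le_normalizer (sup_le hn le_normalizer)
  have hs' : Group.IsSolvable (H.subgroupOf (L ⊔ H)) :=
    Group.isSolvable_of_isSolvable_injective (f := (subgroupOfEquivOfLe (le_sup_right : H ≤ L ⊔ H)).toMonoidHom)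
      (MulEquiv.injective _)
  have := congrArg (Subgroup.map (L ⊔ H).subtype)
    (component_commutator_eq_bot_of_isSolvable
      (component_subgroupOf hL (le_sup_left : L ≤ L ⊔ H)) hsub.isSubnormal hs')
  rwa [map_commutator, map_subgroupOf_eq_of_le le_sup_left, map_subgroupOf_eq_of_le le_sup_right,
    Subgroup.map_bot] at this

/-! ### The layer -/

lemma le_layer {L : Subgroup G} (h : Cfsg.IsComponent L) : L ≤ Cfsg.layer G := le_sSup h

lemma layer_le {H : Subgroup G} (h : ∀ L : Subgroup G, Cfsg.IsComponent L → L ≤ H) :
    Cfsg.layer G ≤ H := sSup_le h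

lemma layer_eq_bot_iff : Cfsg.layer G = ⊥ ↔ ∀ L : Subgroup G, ¬ Cfsg.IsComponent L := by
  constructor
  · intro h L hL
    exact component_ne_bot hL (le_bot_iff.mp (h ▸ le_layer hL))
  · exact fun h => le_bot_iff.mp (layer_le fun L hL => absurd hL (h L))

lemma layer_map_equiv {G' : Type*} [Group G'] (e : G ≃* G') :
    (Cfsg.layer G).map e.toMonoidHom = Cfsg.layer G' := by
  apply le_antisymm
  · rw [map_le_iff_le_comap]
    exact layer_le fun L hL => map_le_iff_le_comap.mp (le_layer ((isComponent_map_equiv e L).mpr hL))
  · refine layer_le fun L hL => ?_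
    have hL' : Cfsg.IsComponent (L.map e.symm.toMonoidHom) := (isComponent_map_equiv e.symm L).mpr hL
    have := Subgroup.map_mono (f := e.toMonoidHom) (le_layer hL')
    rw [Subgroup.map_map] at this
    simpa using this

instance layer_characteristic : (Cfsg.layer G).Characteristic :=
  characteristic_iff_map_eq.mpr fun φ => layer_map_equiv φ

/-- A subgroup commuting with every component commutes with the layer. -/
lemma commutator_layer_eq_bot {H : Subgroup G}
    (h : ∀ L : Subgroup G, Cfsg.IsComponent L → ⁅L, H⁆ = ⊥) : ⁅Cfsg.layer G, H⁆ = ⊥ :=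
  commutator_eq_bot_iff_le_centralizer.mpr
    (layer_le fun L hL => commutator_eq_bot_iff_le_centralizer.mp (h L hL))

lemma commutator_layer_self : ⁅Cfsg.layer G, Cfsg.layer G⁆ = Cfsg.layer G :=
  le_antisymm (commutator_le_left _ _)
    (layer_le fun _ hL => (component_commutator_self hL).symm.trans_le
      (commutator_mono (le_layer hL) (le_layer hL)))

/-- Every component is normalized by the layer. -/
lemma layer_le_normalizer [Finite G] {L : Subgroup G} (hL : Cfsg.IsComponent L) :
    Cfsg.layer G ≤ Subgroup.normalizer (L : Set G) := by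
  refine layer_le fun K hK => ?_
  by_cases h : K = L
  · subst h
    exact le_normalizer
  · exact (commutator_eq_bot_iff_le_centralizer.mp
      (component_commutator_eq_bot_of_ne hK hL h)).trans (centralizer_le_normalizer _)

end Cfsg.Agent.Components.Basic
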