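import Cfsg.Agent.GenA.Lazard
import Cfsg.Prelude.Def_PLocal

/-!
Regular `p`-groups: from the condition at exponent `p` to all of the classical properties
(P. Hall): `a^(p^n) = b^(p^n) ↔ (a b⁻¹)^(p^n) = 1`, powers form subgroups, commuting of powers.
-/

set_option autoImplicit false
set_option linter.unusedSectionVars false
set_option linter.style.haveILetI false

namespace Cfsg.Agent.Components.RegularPGroup

open Subgroup
open scoped commutatorElement

universe u

variable {G : Type u} [Group G] {p : ℕ}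

lemma powerClosure_map {K : Type u} [Group K] (f : G →* K) (n : ℕ) (H : Subgroup G) :
    (Cfsg.powerClosure p n H).map f = Cfsg.powerClosure p n (H.map f) := by
  rw [Cfsg.powerClosure, MonoidHom.map_closure, Cfsg.powerClosure]
  congr 1
  ext y
  constructor
  · rintro ⟨_, ⟨x, hx, rfl⟩, rfl⟩; exact ⟨f x, ⟨x, hx, rfl⟩, map_pow f x _⟩
  · rintro ⟨_, ⟨x, hx, rfl⟩, rfl⟩; exact ⟨_, ⟨x, hx, rfl⟩, map_pow f x _⟩

lemma powerClosure_mono (n : ℕ) {H K : Subgroup G} (h : H ≤ K) :
    Cfsg.powerClosure p n H ≤ Cfsg.powerClosure p n K :=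
  closure_mono fun _ ⟨x, hx, e⟩ => ⟨x, h hx, e⟩

lemma powerClosure_le_self (n : ℕ) (H : Subgroup G) : Cfsg.powerClosure p n H ≤ H :=
  (Subgroup.closure_le _).mpr fun _ ⟨_, hx, e⟩ => e ▸ H.pow_mem hx _

lemma pow_mem_powerClosure (n : ℕ) {H : Subgroup G} {x : G} (hx : x ∈ H) :
    x ^ p ^ n ∈ Cfsg.powerClosure p n H := Subgroup.subset_closure ⟨x, hx, rfl⟩

lemma powerClosure_normal (n : ℕ) (H : Subgroup G) [H.Normal] : (Cfsg.powerClosure p n H).Normal := by
  refine normalizer_eq_top_iff.mp (eq_top_iff.mpr fun g _ => ?_)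
  rw [mem_normalizer_iff_map_conj_eq, powerClosure_map, Normal.map_conj_eq]

/-- The defining condition at exponent `p`. -/
def Weak (p : ℕ) (G : Type u) [Group G] : Prop :=
  IsPGroup p G ∧ ∀ a b : G, ∃ c ∈ Cfsg.powerClosure p 1
    ⁅closure ({a, b} : Set G), closure ({a, b} : Set G)⁆, (a * b) ^ p = a ^ p * b ^ p * c

lemma weak_of_regular (h : Cfsg.IsRegularPGroup p G) : Weak p G :=
  ⟨h.1, fun a b => by simpa only [pow_one] using h.2 a b 1⟩

lemma Weak.subgroup (h : Weak p G) (K : Subgroup G) : Weak p K := by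
  refine ⟨h.1.to_subgroup K, fun a b => ?_⟩
  obtain ⟨c, hc, he⟩ := h.2 a b
  have e : (closure ({a, b} : Set K)).map K.subtype = closure ({(a : G), (b : G)} : Set G) := by
    rw [MonoidHom.map_closure, Set.image_pair]; rfl
  rw [← e, ← map_commutator, ← powerClosure_map] at hc
  obtain ⟨d, hd, rfl⟩ := hc
  exact ⟨d, hd, Subtype.ext (by simpa using he)⟩

lemma Weak.quotient (h : Weak p G) (N : Subgroup G) [N.Normal] : Weak p (G ⧸ N) := by
  refine ⟨h.1.to_quotient N, fun a b => ?_⟩
  obtain ⟨a, rfl⟩ := QuotientGroup.mk'_surjective N a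
  obtain ⟨b, rfl⟩ := QuotientGroup.mk'_surjective N b
  obtain ⟨c, hc, he⟩ := h.2 a b
  set f := QuotientGroup.mk' N
  refine ⟨f c, ?_, by simp only [← map_mul, ← map_pow, he]⟩
  have e : (closure ({a, b} : Set G)).map f = closure ({f a, f b} : Set (G ⧸ N)) := by
    rw [MonoidHom.map_closure, Set.image_pair]
  rw [← e, ← map_commutator, ← powerClosure_map]
  exact mem_map_of_mem f hc

variable [hp : Fact p.Prime]

lemma commutator_le_coatom [Finite G] (hG : IsPGroup p G) {M : Subgroup G} (hM : IsCoatom M) :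
    commutator G ≤ M := by
  haveI := hG.isNilpotent
  haveI := Subgroup.NormalizerCondition.normal_of_coatom M Group.normalizerCondition_of_isNilpotent hM
  haveI : Nontrivial (G ⧸ M) := QuotientGroup.nontrivial_iff.mpr hM.1
  haveI : Group.IsSolvable (G ⧸ M) := IsNilpotent.to_isSolvable
  by_contra hne
  have htop : commutator G ⊔ M = ⊤ := hM.2 _ (right_lt_sup.mpr hne)
  refine (Group.IsSolvable.commutator_lt_top_of_nontrivial (G ⧸ M)).ne ?_
  rw [commutator_def, ← map_top_of_surjective _ (QuotientGroup.mk'_surjective M), ← map_commutator,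
    ← commutator_def]
  have := congrArg (Subgroup.map (QuotientGroup.mk' M)) htop
  rwa [Subgroup.map_sup, QuotientGroup.map_mk'_self, sup_bot_eq] at this

/-- A `p`-group generated by one element modulo the derived subgroup is cyclic. -/
lemma zpowers_eq_top [Finite G] (hG : IsPGroup p G) {x : G} (h : zpowers x ⊔ commutator G = ⊤) :
    zpowers x = ⊤ := by
  by_contra hne
  obtain ⟨M, hM, hxM⟩ := (eq_top_or_exists_le_coatom (zpowers x)).resolve_left hne
  exact hM.1 (top_le_iff.mp (h ▸ sup_le hxM (commutator_le_coatom hG hM)))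

lemma commute_of_normalClosure_eq_top [Finite G] (hG : IsPGroup p G) {x : G}
    (h : normalClosure ({x} : Set G) = ⊤) (u v : G) : Commute u v := by
  have hnorm : (zpowers x ⊔ commutator G).Normal := ⟨fun y hy g => by
    rw [show g * y * g⁻¹ = ⁅g, y⁆ * y by rw [commutatorElement_def]; group]
    refine mul_mem (mem_sup_right ?_) hy
    rw [commutator_def]
    exact commutator_mem_commutator (mem_top g) (mem_top y)⟩
  have htop := zpowers_eq_top hG (top_le_iff.mp (h ▸ normalClosure_le_normal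
    (Set.singleton_subset_iff.mpr (mem_sup_left (mem_zpowers x)))))
  obtain ⟨i, rfl⟩ := mem_zpowers_iff.mp (htop ▸ mem_top u)
  obtain ⟨j, rfl⟩ := mem_zpowers_iff.mp (htop ▸ mem_top v)
  exact (Commute.refl x).zpow_zpow i j

/-- If `G = ⟨u, v⟩` and a normal subgroup in which products of elements of order dividing `p` have
order dividing `p` contains `v`, then `⁅u, v⁆ ^ p = 1` gives the derived subgroup exponent `p`. -/
lemma commutator_exponent [Finite G] {u v : G} (hgen : closure ({u, v} : Set G) = ⊤)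
    {N : Subgroup G} [N.Normal] (hv : v ∈ N)
    (hN : ∀ x ∈ N, ∀ y ∈ N, x ^ p = 1 → y ^ p = 1 → (x * y) ^ p = 1)
    (huv : ⁅u, v⁆ ^ p = 1) : ∀ z ∈ commutator G, z ^ p = 1 := by
  let S : Subgroup G :=
    { carrier := {z | z ∈ N ∧ z ^ p = 1}
      one_mem' := ⟨one_mem N, one_pow p⟩
      mul_mem' := fun hx hy => ⟨mul_mem hx.1 hy.1, hN _ hx.1 _ hy.1 hx.2 hy.2⟩
      inv_mem' := fun hx => ⟨inv_mem hx.1, by rw [inv_pow, hx.2, inv_one]⟩ }
  haveI : S.Normal := ⟨fun x hx g => ⟨Normal.conj_mem inferInstance x hx.1 g, by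
    rw [conj_pow, hx.2, mul_one, mul_inv_cancel]⟩⟩
  have hmem : ⁅u, v⁆ ∈ S := ⟨by
    rw [commutatorElement_def]; exact mul_mem (Normal.conj_mem inferInstance v hv u) (inv_mem hv), huv⟩
  set q := QuotientGroup.mk' S
  have hc : Commute (q u) (q v) := by
    rw [← commutatorElement_eq_one_iff_commute, ← map_commutatorElement]
    exact (QuotientGroup.eq_one_iff (N := S) _).mpr hmem
  have hgq : closure ({q u, q v} : Set (G ⧸ S)) = ⊤ := by
    rw [← Set.image_pair, ← MonoidHom.map_closure, hgen, map_top_of_surjective _ (QuotientGroup.mk'_surjective S)]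
  have hcomm : ∀ a : G ⧸ S, a ∈ center (G ⧸ S) := by
    intro a
    have : closure ({q u, q v} : Set (G ⧸ S)) ≤ center (G ⧸ S) := by
      rw [Subgroup.closure_le]
      intro w hw
      refine mem_center_iff.mpr fun b => ?_
      have hb : closure ({q u, q v} : Set (G ⧸ S)) ≤ centralizer ({w} : Set (G ⧸ S)) := by
        rw [Subgroup.closure_le]
        intro y hy
        rw [SetLike.mem_coe, mem_centralizer_singleton_iff]
        rcases hw with rfl | rfl <;> rcases hy with rfl | rfl
        exacts [rfl, hc.symm.eq, hc.eq, rfl]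
      exact mem_centralizer_singleton_iff.mp (hb (hgq ▸ mem_top b))
    exact this (hgq ▸ mem_top a)
  have hle : commutator G ≤ S := by
    rw [commutator_def, commutator_le]
    intro x _ y _
    refine (QuotientGroup.eq_one_iff (N := S) _).mp ?_
    show q ⁅x, y⁆ = 1
    rw [map_commutatorElement, commutatorElement_eq_one_iff_commute]
    exact (mem_center_iff.mp (hcomm (q y)) (q x))
  exact fun z hz => (hle hz).2

lemma powerClosure_one_eq_bot {H : Subgroup G} (h : ∀ z ∈ H, z ^ p = 1) :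
    Cfsg.powerClosure p 1 H = ⊥ := by
  rw [Cfsg.powerClosure, closure_eq_bot_iff]
  rintro _ ⟨x, hx, rfl⟩
  rw [pow_one, h x hx]; exact Set.mem_singleton 1

/-- The basic lemma, by induction on the order. -/
theorem pow_eq_iff_one : ∀ (m : ℕ) (G : Type u) [Group G] [Finite G], Nat.card G ≤ m → Weak p G →
    ∀ a b : G, a ^ p = b ^ p ↔ (a * b⁻¹) ^ p = 1 := by
  intro m
  induction m with
  | zero => intro G _ _ h; exact absurd h (Nat.not_le.mpr Nat.card_pos)
  | succ m ih =>
    intro G _ _ hm hG a b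
    have hsub : ∀ K : Subgroup G, K ≠ ⊤ → ∀ u ∈ K, ∀ v ∈ K, (u ^ p = v ^ p ↔ (u * v⁻¹) ^ p = 1) := by
      intro K hK u hu v hv
      have hlt : Nat.card K < Nat.card G :=
        lt_of_le_of_ne K.card_le_card_group fun h => hK (Subgroup.eq_top_of_card_eq K h)
      have := ih K (by omega) (hG.subgroup K) ⟨u, hu⟩ ⟨v, hv⟩
      simpa [Subtype.ext_iff] using this
    by_cases hgen : closure ({a, b} : Set G) = ⊤
    swap
    · exact hsub _ hgen a (Subgroup.subset_closure (Or.inl rfl)) b (Subgroup.subset_closure (Or.inr rfl))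
    have key : ∀ u v : G, closure ({u, v} : Set G) = ⊤ → (u * v * u⁻¹) ^ p = v ^ p →
        (u * v) ^ p = u ^ p * v ^ p := by
      intro u v huv hconj
      by_cases hN : normalClosure ({v} : Set G) = ⊤
      · exact (commute_of_normalClosure_eq_top hG.1 hN u v).mul_pow p
      haveI : (normalClosure ({v} : Set G)).Normal := normalClosure_normal
      have hv : v ∈ normalClosure ({v} : Set G) := subset_normalClosure rfl
      have hexp := commutator_exponent huv hv (fun x hx y hy h1 h2 => by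
          have := (hsub _ hN x hx y⁻¹ (inv_mem hy)).mp (by rw [inv_pow, h1, h2, inv_one])
          rwa [inv_inv] at this)
        (by rw [commutatorElement_def]
            exact (hsub _ hN _ (Normal.conj_mem inferInstance v hv u) v hv).mp hconj)
      obtain ⟨c, hc, he⟩ := hG.2 u v
      rw [huv, ← commutator_def, powerClosure_one_eq_bot hexp, mem_bot] at hc
      rw [he, hc, mul_one]
    have hgen' : closure ({a * b⁻¹, b} : Set G) = ⊤ := by
      refine top_le_iff.mp (hgen ▸ (Subgroup.closure_le _).mpr ?_)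
      rintro x (rfl | rfl)
      · simpa using mul_mem (Subgroup.subset_closure (k := ({x * b⁻¹, b} : Set G)) (Or.inl rfl))
          (Subgroup.subset_closure (Or.inr rfl))
      · exact Subgroup.subset_closure (Or.inr rfl)
    constructor
    · intro h
      have hconj : (a * b⁻¹ * b * (a * b⁻¹)⁻¹) ^ p = b ^ p := by
        rw [show a * b⁻¹ * b * (a * b⁻¹)⁻¹ = a * b * a⁻¹ by group, conj_pow, ← h,
          ((Commute.refl a).pow_right p).eq, mul_inv_cancel_right]
      have := key _ _ hgen' hconj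
      rw [inv_mul_cancel_right, h] at this
      exact mul_right_cancel ((one_mul _).trans this) |>.symm
    · intro h
      have hgen'' : closure ({b, a * b⁻¹} : Set G) = ⊤ := by rw [Set.pair_comm]; exact hgen'
      have hconj : (b * (a * b⁻¹) * b⁻¹) ^ p = (a * b⁻¹) ^ p := by
        rw [conj_pow, h, mul_one, mul_inv_cancel]
      have := key _ _ hgen'' hconj
      rw [h, mul_one] at this
      rwa [show b * (a * b⁻¹) = b * a * b⁻¹ by group, conj_pow, mul_inv_eq_iff_eq_mul,
        ((Commute.refl b).pow_left p).eq, mul_right_inj] at this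

variable [Finite G]

theorem pow_eq_iff : ∀ (n : ℕ) (G : Type u) [Group G] [Finite G], Weak p G →
    ∀ a b : G, a ^ p ^ n = b ^ p ^ n ↔ (a * b⁻¹) ^ p ^ n = 1 := by
  intro n
  induction n with
  | zero => intro G _ _ _ a b; simp [mul_inv_eq_one]
  | succ n ih =>
    intro G _ _ hG a b
    let S : Subgroup G :=
      { carrier := {z | z ^ p ^ n = 1}
        one_mem' := one_pow _
        mul_mem' := fun {x y} hx hy => by
          have := (ih G hG x y⁻¹).mp (by rw [inv_pow, hx, hy, inv_one])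
          rwa [inv_inv] at this
        inv_mem' := fun {x} hx => by show x⁻¹ ^ p ^ n = 1; rw [inv_pow, hx, inv_one] }
    haveI : S.Normal := ⟨fun x hx g => by
      show (g * x * g⁻¹) ^ p ^ n = 1
      rw [conj_pow, hx, mul_one, mul_inv_cancel]⟩
    set q := QuotientGroup.mk' S
    have h1 : ∀ x : G, x ^ p ^ (n + 1) = 1 ↔ q x ^ p = 1 := fun x => by
      rw [← map_pow]
      refine Iff.trans ?_ (QuotientGroup.eq_one_iff (N := S) _).symm
      show _ ↔ (x ^ p) ^ p ^ n = 1
      rw [← pow_mul, pow_succ']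
    rw [pow_succ', pow_mul, pow_mul, ih G hG, ← pow_succ', h1, map_mul, map_inv,
      ← pow_eq_iff_one (Nat.card (G ⧸ S)) (G ⧸ S) le_rfl (hG.quotient S) (q a) (q b), ← map_pow, ← map_pow,
      ← mul_inv_eq_one (a := q (a ^ p)), ← map_inv, ← map_mul]
    exact (QuotientGroup.eq_one_iff (N := S) _).symm

/-- The elements of order dividing `p ^ n`. -/
def omegaSub (hG : Weak p G) (n : ℕ) : Subgroup G where
  carrier := {z | z ^ p ^ n = 1}
  one_mem' := one_pow _
  mul_mem' := fun {x y} hx hy => by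
    have := (pow_eq_iff n G hG x y⁻¹).mp (by rw [inv_pow, hx, hy, inv_one])
    rwa [inv_inv] at this
  inv_mem' := fun {x} hx => by show x⁻¹ ^ p ^ n = 1; rw [inv_pow, hx, inv_one]

lemma pow_commute_iff (hG : Weak p G) (a b : G) (n : ℕ) :
    Commute (a ^ p ^ n) b ↔ (a⁻¹ * b⁻¹ * a * b) ^ p ^ n = 1 := by
  rw [show a⁻¹ * b⁻¹ * a * b = a⁻¹ * (b⁻¹ * a * b) by group]
  have h := pow_eq_iff n G hG (b⁻¹ * a * b) a
  have hc : (b⁻¹ * a * b) ^ p ^ n = b⁻¹ * a ^ p ^ n * b := by
    simpa using conj_pow (i := p ^ n) (a := b⁻¹) (b := a)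
  rw [hc] at h
  have hconj : ((b⁻¹ * a * b) * a⁻¹) ^ p ^ n = 1 ↔ (a⁻¹ * (b⁻¹ * a * b)) ^ p ^ n = 1 := by
    rw [show (b⁻¹ * a * b) * a⁻¹ = a * (a⁻¹ * (b⁻¹ * a * b)) * a⁻¹ by group, conj_pow,
      mul_inv_eq_one, mul_eq_left]
  rw [← hconj, ← h, mul_assoc, inv_mul_eq_iff_eq_mul]
  exact Iff.rfl

/-- `p`-th powers are closed under products. -/
theorem exists_pow_mul : ∀ (m : ℕ) (G : Type u) [Group G] [Finite G], Nat.card G ≤ m → Weak p G →
    ∀ a b : G, ∃ z : G, a ^ p * b ^ p = z ^ p := by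
  intro m
  induction m with
  | zero => intro G _ _ h; exact absurd h (Nat.not_le.mpr Nat.card_pos)
  | succ m ih =>
    intro G _ _ hm hG a b
    have hsub : ∀ K : Subgroup G, K ≠ ⊤ → ∀ u ∈ K, ∀ v ∈ K, ∃ z ∈ K, u ^ p * v ^ p = z ^ p := by
      intro K hK u hu v hv
      have hlt : Nat.card K < Nat.card G :=
        lt_of_le_of_ne K.card_le_card_group fun h => hK (Subgroup.eq_top_of_card_eq K h)
      obtain ⟨z, hz⟩ := ih K (by omega) (hG.subgroup K) ⟨u, hu⟩ ⟨v, hv⟩
      exact ⟨z, z.2, congrArg Subtype.val hz⟩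
    obtain ⟨c, hc, he⟩ := hG.2 a b
    by_cases hK : zpowers (a * b) ⊔ commutator G = ⊤
    · have htop := zpowers_eq_top hG.1 hK
      have hab : ∀ u v : G, Commute u v := fun u v => by
        obtain ⟨i, rfl⟩ := mem_zpowers_iff.mp (htop ▸ mem_top u)
        obtain ⟨j, rfl⟩ := mem_zpowers_iff.mp (htop ▸ mem_top v)
        exact (Commute.refl _).zpow_zpow i j
      exact ⟨a * b, ((hab a b).mul_pow p).symm⟩
    set K := zpowers (a * b) ⊔ commutator G with hKdef
    have hcK : c⁻¹ ∈ Cfsg.powerClosure p 1 K := inv_mem (powerClosure_mono 1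
      ((commutator_mono le_top le_top).trans ((commutator_def G).ge.trans le_sup_right)) hc)
    have hset : ∀ y ∈ Cfsg.powerClosure p 1 K, ∃ z ∈ K, y = z ^ p := by
      intro y hy
      induction hy using closure_induction with
      | mem y hy => obtain ⟨x, hx, rfl⟩ := hy; exact ⟨x, hx, by rw [pow_one]⟩
      | one => exact ⟨1, one_mem K, (one_pow p).symm⟩
      | mul y y' _ _ hy hy' =>
        obtain ⟨x, hx, rfl⟩ := hy
        obtain ⟨x', hx', rfl⟩ := hy'
        exact hsub K hK x hx x' hx'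
      | inv y _ hy => obtain ⟨x, hx, rfl⟩ := hy; exact ⟨x⁻¹, inv_mem hx, (inv_pow x p).symm⟩
    obtain ⟨z, hz, hzc⟩ := hset _ hcK
    obtain ⟨w, -, hw⟩ := hsub K hK (a * b) (mem_sup_left (mem_zpowers _)) z hz
    exact ⟨w, by rw [← hw, he, ← hzc, mul_inv_cancel_right]⟩

theorem exists_ppow_mul : ∀ (n : ℕ) (G : Type u) [Group G] [Finite G], Weak p G →
    ∀ a b : G, ∃ z : G, a ^ p ^ n * b ^ p ^ n = z ^ p ^ n := by
  intro n
  induction n with
  | zero => intro G _ _ _ a b; exact ⟨a * b, by simp⟩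
  | succ n ih =>
    intro G _ _ hG a b
    let U : Subgroup G :=
      { carrier := {y | ∃ z : G, y = z ^ p}
        one_mem' := ⟨1, (one_pow p).symm⟩
        mul_mem' := fun {x y} ⟨u, hu⟩ ⟨v, hv⟩ => by
          obtain ⟨z, hz⟩ := exists_pow_mul (Nat.card G) G le_rfl hG u v
          exact ⟨z, by rw [hu, hv, hz]⟩
        inv_mem' := fun {x} ⟨u, hu⟩ => ⟨u⁻¹, by rw [hu, inv_pow]⟩ }
    obtain ⟨⟨w, z, rfl⟩, hw⟩ := ih U (hG.subgroup U) ⟨a ^ p, a, rfl⟩ ⟨b ^ p, b, rfl⟩
    refine ⟨z, ?_⟩
    have := congrArg Subtype.val hw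
    simpa [pow_succ', pow_mul] using this

/-- The powers of a subgroup form a subgroup. -/
theorem powerClosure_eq (hG : Weak p G) (n : ℕ) (H : Subgroup G) :
    {y : G | ∃ x ∈ H, y = x ^ p ^ n} = (Cfsg.powerClosure p n H : Set G) := by
  refine Set.Subset.antisymm Subgroup.subset_closure fun y hy => ?_
  induction hy using closure_induction with
  | mem y hy => exact hy
  | one => exact ⟨1, one_mem H, (one_pow _).symm⟩
  | mul y y' _ _ hy hy' =>
    obtain ⟨x, hx, rfl⟩ := hy
    obtain ⟨x', hx', rfl⟩ := hy'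
    obtain ⟨z, hz⟩ := exists_ppow_mul n H (hG.subgroup H) ⟨x, hx⟩ ⟨x', hx'⟩
    exact ⟨z, z.2, congrArg Subtype.val hz⟩
  | inv y _ hy => obtain ⟨x, hx, rfl⟩ := hy; exact ⟨x⁻¹, inv_mem hx, (inv_pow x _).symm⟩

theorem commutator_powerClosure_le (hG : Weak p G) (n : ℕ) (H : Subgroup G) :
    ⁅Cfsg.powerClosure p n H, Cfsg.powerClosure p n H⁆ ≤ Cfsg.powerClosure p n ⁅H, H⁆ := by
  have e : (Cfsg.powerClosure p n (commutator H)).map H.subtype = Cfsg.powerClosure p n ⁅H, H⁆ := by
    rw [powerClosure_map, map_subtype_commutator]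
  haveI := powerClosure_normal (p := p) n (commutator H)
  set N := Cfsg.powerClosure p n (commutator H)
  set q := QuotientGroup.mk' N
  rw [commutator_le, ← e]
  intro x hx y hy
  rw [← SetLike.mem_coe, ← powerClosure_eq hG n H] at hx hy
  obtain ⟨a, ha, rfl⟩ := hx
  obtain ⟨b, hb, rfl⟩ := hy
  refine ⟨⁅(⟨a, ha⟩ : H) ^ p ^ n, (⟨b, hb⟩ : H) ^ p ^ n⁆, ?_, rfl⟩
  refine (QuotientGroup.eq_one_iff (N := N) _).mp ?_
  show q _ = 1
  rw [map_commutatorElement, commutatorElement_eq_one_iff_commute, map_pow, map_pow]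
  refine (((pow_commute_iff ((hG.subgroup H).quotient N) _ _ n).mpr ?_).pow_right _)
  rw [← map_inv, ← map_inv, ← map_mul, ← map_mul, ← map_mul, ← map_pow]
  refine (QuotientGroup.eq_one_iff (N := N) _).mpr (pow_mem_powerClosure n ?_)
  rw [commutator_def]
  have h := commutator_mem_commutator (mem_top ((⟨a, ha⟩ : H)⁻¹)) (mem_top ((⟨b, hb⟩ : H)⁻¹))
  simpa only [commutatorElement_def, inv_inv] using h

/-- With derived subgroup of exponent `p ^ n`, the `p ^ n`-th power is multiplicative. -/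
theorem mul_ppow : ∀ (n : ℕ) (G : Type u) [Group G] [Finite G], Weak p G →
    (∀ z ∈ commutator G, z ^ p ^ n = 1) → ∀ a b : G, (a * b) ^ p ^ n = a ^ p ^ n * b ^ p ^ n := by
  intro n
  induction n with
  | zero => intro G _ _ _ _ a b; simp
  | succ n ih =>
    intro G _ _ hG hexp a b
    have hker : Cfsg.powerClosure p 1 (commutator G) ≤ omegaSub hG n := by
      rw [Cfsg.powerClosure, Subgroup.closure_le]
      rintro _ ⟨x, hx, rfl⟩
      show (x ^ p ^ 1) ^ p ^ n = 1
      rw [pow_one, ← pow_mul, ← pow_succ', hexp x hx]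
    obtain ⟨c, hc, he⟩ := hG.2 a b
    have hc' : c ^ p ^ n = 1 := hker (powerClosure_mono 1
      ((commutator_mono le_top le_top).trans (commutator_def G).ge) hc)
    have h1 : (a ^ p * b ^ p * c) ^ p ^ n = (a ^ p * b ^ p) ^ p ^ n := by
      refine (pow_eq_iff n G hG _ _).mpr ?_
      rw [conj_pow, hc', mul_one, mul_inv_cancel]
    set U := Cfsg.powerClosure p 1 (⊤ : Subgroup G)
    have hU : ∀ z ∈ commutator U, z ^ p ^ n = 1 := by
      intro z hz
      refine Subtype.ext ?_
      have hz' : (z : G) ∈ ⁅U, U⁆ := by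
        rw [← map_subtype_commutator]; exact mem_map_of_mem U.subtype hz
      have h2 := hker ((commutator_powerClosure_le hG 1 ⊤).trans (by rw [← commutator_def]) hz')
      rw [SubgroupClass.coe_pow, OneMemClass.coe_one]
      exact h2
    have h2 := congrArg Subtype.val (ih U (hG.subgroup U) hU
      ⟨a ^ p, by simpa using pow_mem_powerClosure (p := p) 1 (mem_top a)⟩
      ⟨b ^ p, by simpa using pow_mem_powerClosure (p := p) 1 (mem_top b)⟩)
    simp only [coe_mul, SubgroupClass.coe_pow] at h2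
    rw [pow_succ', pow_mul, pow_mul, pow_mul, he, h1, h2]

/-- The condition at exponent `p` gives regularity. -/
theorem regular_of_weak (hG : Weak p G) : Cfsg.IsRegularPGroup p G := by
  refine ⟨hG.1, fun a b n => ?_⟩
  set K := closure ({a, b} : Set G) with hK
  haveI := powerClosure_normal (p := p) n (commutator K)
  set N := Cfsg.powerClosure p n (commutator K) with hN
  set q := QuotientGroup.mk' N
  have hexp : ∀ z ∈ commutator (K ⧸ N), z ^ p ^ n = 1 := by
    intro z hz
    rw [commutator_def, ← map_top_of_surjective q (QuotientGroup.mk'_surjective N), ← map_commutator] at hz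
    obtain ⟨x, hx, rfl⟩ := hz
    rw [← map_pow]
    exact (QuotientGroup.eq_one_iff (N := N) _).mpr (pow_mem_powerClosure n hx)
  let A : K := ⟨a, Subgroup.subset_closure (Or.inl rfl)⟩
  let B : K := ⟨b, Subgroup.subset_closure (Or.inr rfl)⟩
  have h := mul_ppow n (K ⧸ N) ((hG.subgroup K).quotient N) hexp (q A) (q B)
  rw [← map_mul, ← map_pow, ← map_pow, ← map_pow, ← map_mul] at h
  have hmem : (A ^ p ^ n * B ^ p ^ n)⁻¹ * (A * B) ^ p ^ n ∈ N := QuotientGroup.eq.mp h.symm
  refine ⟨(((A ^ p ^ n * B ^ p ^ n)⁻¹ * (A * B) ^ p ^ n : K) : G), ?_, ?_⟩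
  · rw [← map_subtype_commutator, ← powerClosure_map]
    exact mem_map_of_mem K.subtype hmem
  · simp [A, B, mul_assoc]

/-- Class less than `p` gives the condition at exponent `p`. -/
theorem weak_of_class (hG : IsPGroup p G) (hcl : (⊤ : Subgroup G).lowerCentralSeries (p - 1) = ⊥) :
    Weak p G := by
  refine ⟨hG, fun a b => ?_⟩
  set K := closure ({a, b} : Set G) with hK
  haveI := powerClosure_normal (p := p) 1 (commutator K)
  set N := Cfsg.powerClosure p 1 (commutator K) with hN
  set q := QuotientGroup.mk' N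
  have hc : (⊤ : Subgroup (K ⧸ N)).lowerCentralSeries (p - 1) = ⊥ := by
    have h1 : (⊤ : Subgroup K).lowerCentralSeries (p - 1) = ⊥ := by
      rw [eq_bot_iff, ← map_le_map_iff_of_injective K.subtype_injective, Subgroup.map_bot,
        top_subtype_lowerCentralSeries]
      exact (lowerCentralSeries_mono (p - 1) le_top).trans hcl.le
    rw [← map_top_of_surjective q (QuotientGroup.mk'_surjective N), ← map_lowerCentralSeries, h1,
      Subgroup.map_bot]
  have hexp : ∀ z ∈ GenA.Lazard.F (K ⧸ N) 2, z ^ p = 1 := by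
    intro z hz
    have hz' : z ∈ commutator (K ⧸ N) := by
      rw [← top_lowerCentralSeries_one]; exact hz
    rw [commutator_def, ← map_top_of_surjective q (QuotientGroup.mk'_surjective N), ← map_commutator] at hz'
    obtain ⟨x, hx, rfl⟩ := hz'
    rw [← map_pow]
    refine (QuotientGroup.eq_one_iff (N := N) _).mpr ?_
    rw [hN, commutator_def]
    simpa using pow_mem_powerClosure (p := p) 1 hx
  let A : K := ⟨a, Subgroup.subset_closure (Or.inl rfl)⟩
  let B : K := ⟨b, Subgroup.subset_closure (Or.inr rfl)⟩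
  set x := q A
  set y := q B
  set f : ℕ → K ⧸ N := fun n => (x ^ n)⁻¹ * (x * y) ^ n * (y ^ n)⁻¹ with hf
  have hP : ∀ z : K ⧸ N, GenA.Lazard.P (p - 1) 0 (fun n => z ^ n) := fun z => by
    simpa using GenA.Lazard.P_choose hc (z := z) 1 0 (by rw [zero_add]; exact mem_top z)
  have hv : ∀ n, f n ∈ GenA.Lazard.F (K ⧸ N) 2 := fun n => by
    show f n ∈ (⊤ : Subgroup (K ⧸ N)).lowerCentralSeries 1
    rw [top_lowerCentralSeries_one, ← QuotientGroup.eq_one_iff]
    change Abelianization.of ((x ^ n)⁻¹ * (x * y) ^ n * (y ^ n)⁻¹) = 1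
    simp [mul_pow]
  have h := GenA.Lazard.eval_prime hc hp.out (Nat.sub_lt hp.out.pos one_pos) hexp p 2 le_rfl (by omega) f
    (GenA.Lazard.P_mul hc (GenA.Lazard.P_mul hc (GenA.Lazard.P_inv hc 0 _ (hP x)) (hP (x * y)))
      (GenA.Lazard.P_inv hc 0 _ (hP y))) hv (by simp [hf]) (by simp [hf])
  have h' : x ^ p * y ^ p = (x * y) ^ p := by
    rw [hf] at h
    rw [mul_inv_eq_one, inv_mul_eq_iff_eq_mul] at h
    exact h.symm
  rw [show x * y = q (A * B) from (map_mul q A B).symm, ← map_pow, ← map_pow, ← map_pow, ← map_mul] at h'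
  have hmem : (A ^ p * B ^ p)⁻¹ * (A * B) ^ p ∈ N := QuotientGroup.eq.mp h'
  refine ⟨(((A ^ p * B ^ p)⁻¹ * (A * B) ^ p : K) : G), ?_, ?_⟩
  · rw [← map_subtype_commutator, ← powerClosure_map]
    exact mem_map_of_mem K.subtype hmem
  · simp [A, B, mul_assoc]

end Cfsg.Agent.Components.RegularPGroup
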