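import Mathlib
import Cfsg.Agent.Lib.PGroups.AbelianNormal
import Cfsg.Agent.Lib.PGroups.UniqueSubgroup

/-!
Normal subgroups of a `2`-group containing no normal four-group: they have at most one involution,
or a cyclic normal subgroup of index two and an involution outside it.
-/

set_option autoImplicit false
set_option linter.all false

namespace Cfsg.Agent.Components.FourAction

open Subgroup

variable {T : Type*} [Group T]

/-- `S` has a cyclic subgroup `⟨r⟩` of index two, normal in the whole group, inverted (dihedral case)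
or inverted up to the involution of `⟨r⟩` (semidihedral case) by the involution `s`. -/
structure MaxClass (S : Subgroup T) (r s : T) (n : ℕ) (ε : ℤ) : Prop where
  two_le : 2 ≤ n
  order : orderOf r = 2 ^ n
  rS : r ∈ S
  sS : s ∈ S
  s_sq : s * s = 1
  s_out : s ∉ zpowers r
  index : ∀ g ∈ S, g ∈ zpowers r ∨ g * s ∈ zpowers r
  conj_s : s * r * s⁻¹ = r ^ ε
  norm : ∀ g : T, ∃ k : ℤ, g * r * g⁻¹ = r ^ k
  four : (4 : ℤ) ∣ ε + 1
  near : ((2 ^ (n - 1) : ℕ) : ℤ) ∣ ε + 1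

theorem zpow_eq_one_iff {r : T} {N : ℕ} (h : orderOf r = N) (a : ℤ) : r ^ a = 1 ↔ (N : ℤ) ∣ a := by
  rw [← orderOf_dvd_iff_zpow_eq_one, h]

theorem zpow_eq_zpow_iff {r : T} {N : ℕ} (h : orderOf r = N) (a b : ℤ) :
    r ^ a = r ^ b ↔ (N : ℤ) ∣ a - b := by
  rw [← zpow_eq_one_iff h, zpow_sub, mul_inv_eq_one]

theorem conj_zpow_eq {g r : T} {k : ℤ} (h : g * r * g⁻¹ = r ^ k) (a : ℤ) :
    g * r ^ a * g⁻¹ = r ^ (k * a) := by
  rw [← conj_zpow, h, ← zpow_mul]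

theorem dvd_of_mul_odd {n : ℕ} {a q : ℤ} (hq : Odd q) (h : (2 : ℤ) ^ n ∣ q * a) : (2 : ℤ) ^ n ∣ a :=
  (Int.isCoprime_iff_gcd_eq_one.mpr (by
    obtain ⟨t, rfl⟩ := hq
    exact Int.isCoprime_iff_gcd_eq_one.mp ⟨-t, 1, by ring⟩) : IsCoprime (2 : ℤ) q).pow_left.dvd_of_dvd_mul_left h

theorem exists_mul_odd_modEq {n : ℕ} {q : ℤ} (hq : Odd q) (b : ℤ) :
    ∃ x : ℤ, (2 : ℤ) ^ n ∣ q * x - b := by
  have hc : IsCoprime (2 : ℤ) q := by
    obtain ⟨t, rfl⟩ := hq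
    exact ⟨-t, 1, by ring⟩
  obtain ⟨u, v, huv⟩ := hc.pow_left (m := n)
  exact ⟨v * b, -u * b, by linear_combination b * huv⟩

theorem isPGroup_two_sq [Finite T] (hT : IsPGroup 2 T) {r : T} : ∃ n : ℕ, orderOf r = 2 ^ n :=
  IsPGroup.iff_orderOf.mp hT r

/-- A normal four-group from a normal abelian subgroup with two involutions. -/
theorem normal_four_of_abelian [Finite T] (hT : IsPGroup 2 T) {S B : Subgroup T} [B.Normal]
    (hBS : B ≤ S) (hBc : ∀ a ∈ B, ∀ b ∈ B, a * b = b * a) {x y : T} (hx : x ∈ B) (hy : y ∈ B)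
    (hx2 : x * x = 1) (hy2 : y * y = 1) (hx1 : x ≠ 1) (hy1 : y ≠ 1) (hxy : x ≠ y) :
    ∃ a b : T, a ∈ S ∧ b ∈ S ∧ a ≠ 1 ∧ b ≠ 1 ∧ a ≠ b ∧ a * a = 1 ∧ b * b = 1 ∧ a * b = b * a ∧
      (∀ g : T, g * a = a * g) ∧ ∀ g : T, g * b * g⁻¹ = b ∨ g * b * g⁻¹ = a * b := by
  haveI : Fact (Nat.Prime 2) := ⟨Nat.prime_two⟩
  let Ω : Subgroup T :=
    { carrier := {v | v ∈ B ∧ v * v = 1}
      one_mem' := ⟨one_mem _, one_mul _⟩
      mul_mem' := fun {a b} ha hb => ⟨mul_mem ha.1 hb.1, by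
        rw [mul_assoc, ← mul_assoc b a b, ← hBc a ha.1 b hb.1, mul_assoc a b b, hb.2, mul_one, ha.2]⟩
      inv_mem' := fun {a} ha => ⟨inv_mem ha.1, by rw [← mul_inv_rev, ha.2, inv_one]⟩ }
  haveI hΩ : Ω.Normal := ⟨fun v hv g => ⟨Normal.conj_mem inferInstance v hv.1 g, by
    rw [show g * v * g⁻¹ * (g * v * g⁻¹) = g * (v * v) * g⁻¹ by group, hv.2, mul_one, mul_inv_cancel]⟩⟩
  have hΩne : Ω ≠ ⊥ := fun h => hx1 (mem_bot.mp (h ▸ (⟨hx, hx2⟩ : x ∈ Ω)))
  haveI := hT.isNilpotent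
  have hZ := Cfsg.Agent.Cores.inf_center_ne_bot hΩne
  obtain ⟨⟨a, ha⟩, ha1⟩ := ne_bot_iff_exists_ne_one.mp hZ
  obtain ⟨haΩ, haC⟩ := mem_inf.mp ha
  have ha1' : a ≠ 1 := fun h => ha1 (Subtype.ext h)
  have hac : ∀ g : T, g * a = a * g := fun g => mem_center_iff.mp haC g
  haveI hA : (zpowers a).Normal := ⟨fun v hv g => by
    obtain ⟨k, rfl⟩ := hv
    rw [← conj_zpow, hac g, mul_inv_cancel_right]
    exact zpow_mem (mem_zpowers a) k⟩
  have hlt : zpowers a < Ω := by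
    refine lt_of_le_of_ne (zpowers_le.mpr haΩ) fun h => hxy ?_
    have key : ∀ v ∈ zpowers a, v = 1 ∨ v = a := by
      rintro v ⟨k, rfl⟩
      rcases Int.even_or_odd k with ⟨q, rfl⟩ | ⟨q, rfl⟩
      · left; simp only; rw [← two_mul, zpow_mul, zpow_two, haΩ.2, one_zpow]
      · right; simp only; rw [zpow_add_one, zpow_mul, zpow_two, haΩ.2, one_zpow, one_mul]
    rw [((key x (h ▸ (⟨hx, hx2⟩ : x ∈ Ω))).resolve_left hx1),
      ((key y (h ▸ (⟨hy, hy2⟩ : y ∈ Ω))).resolve_left hy1)]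
  obtain ⟨b, hbΩ, hbA, -, hbc⟩ := Cfsg.Agent.PGroups.AbelianNormal.exists_step hT hlt
  refine ⟨a, b, hBS haΩ.1, hBS hbΩ.1, ha1', fun h => hbA (h ▸ one_mem _),
    fun h => hbA (h ▸ mem_zpowers a), haΩ.2, hbΩ.2, hBc a haΩ.1 b hbΩ.1, hac, fun g => ?_⟩
  obtain ⟨k, hk⟩ := hbc g
  simp only at hk
  rcases Int.even_or_odd k with ⟨q, rfl⟩ | ⟨q, rfl⟩
  · left
    rw [← two_mul, zpow_mul, zpow_two, haΩ.2, one_zpow] at hk
    exact mul_inv_eq_one.mp hk.symm
  · right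
    rw [zpow_add_one, zpow_mul, zpow_two, haΩ.2, one_zpow, one_mul] at hk
    exact (mul_inv_eq_iff_eq_mul.mp hk.symm)

/-- The structure theorem. -/
theorem structure_of_no_four [Finite T] (hT : IsPGroup 2 T) (S : Subgroup T) [S.Normal]
    (hno : ∀ a b : T, a ∈ S → b ∈ S → a ≠ 1 → b ≠ 1 → a ≠ b → a * a = 1 → b * b = 1 → a * b = b * a →
      (∀ g : T, g * a = a * g) → (∀ g : T, g * b * g⁻¹ = b ∨ g * b * g⁻¹ = a * b) → False) :
    (∀ x ∈ S, ∀ y ∈ S, x * x = 1 → y * y = 1 → x ≠ 1 → y ≠ 1 → x = y) ∨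
      ∃ (r s : T) (n : ℕ) (ε : ℤ), MaxClass S r s n ε := by
  classical
  haveI : Fact (Nat.Prime 2) := ⟨Nat.prime_two⟩
  obtain ⟨B, ⟨hBn, hBc, hBS⟩, hmax⟩ := (wellFounded_gt (α := Subgroup T)).has_min
    {B : Subgroup T | B.Normal ∧ IsMulCommutative B ∧ B ≤ S}
    ⟨⊥, inferInstance, ⟨⟨fun a b => Subtype.ext (by simp [mem_bot.mp a.2, mem_bot.mp b.2])⟩⟩, bot_le⟩
  haveI := hBn
  haveI := hBc
  have hBcomm : ∀ a ∈ B, ∀ b ∈ B, a * b = b * a := fun a ha b hb => setLike_mul_comm ha hb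
  have hinv1 : ∀ x ∈ B, ∀ y ∈ B, x * x = 1 → y * y = 1 → x ≠ 1 → y ≠ 1 → x = y := by
    intro x hx y hy hx2 hy2 hx1 hy1
    by_contra hxy
    obtain ⟨a, b, h1, h2, h3, h4, h5, h6, h7, h8, h9, h10⟩ :=
      normal_four_of_abelian hT hBS hBcomm hx hy hx2 hy2 hx1 hy1 hxy
    exact hno a b h1 h2 h3 h4 h5 h6 h7 h8 h9 h10
  haveI hcyc : IsCyclic B := Cfsg.Agent.PGroups.UniqueSubgroup.isCyclic_of_abelian (p := 2)
    (hT.to_subgroup B) (fun x y hx hy hx1 => by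
      rcases eq_or_ne y 1 with rfl | hy1
      · exact one_mem _
      · rw [Subtype.ext (hinv1 (y : T) y.2 (x : T) x.2 (by simpa [pow_two] using congrArg Subtype.val hy)
          (by simpa [pow_two] using congrArg Subtype.val hx) (fun h => hy1 (Subtype.ext h))
          (fun h => hx1 (Subtype.ext h)))]
        exact mem_zpowers _)
  obtain ⟨⟨r, hrB⟩, hr⟩ := hcyc.exists_generator
  have hB : B = zpowers r := le_antisymm (fun b hb => by
    obtain ⟨k, hk⟩ := hr ⟨b, hb⟩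
    exact ⟨k, congrArg Subtype.val hk⟩) (zpowers_le.mpr hrB)
  subst hB
  -- self-centralising
  have hcent : ∀ g ∈ S, g * r = r * g → g ∈ zpowers r := by
    intro g hg hgr
    by_contra hgB
    haveI : (centralizer (zpowers r : Set T)).Normal := normal_centralizer (H := zpowers r)
    have hlt : zpowers r < S ⊓ centralizer (zpowers r : Set T) := by
      refine lt_of_le_of_ne (le_inf hBS fun b hb => mem_centralizer_iff.mpr fun a ha => hBcomm a ha b hb) ?_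
      intro h
      refine hgB (h ▸ mem_inf.mpr ⟨hg, ?_⟩)
      rw [← zpowers_le, le_centralizer_iff, zpowers_le]
      exact mem_centralizer_iff.mpr fun a ha => by
        obtain ⟨k, rfl⟩ := ha
        exact ((show Commute g r from hgr).zpow_left k).eq
    obtain ⟨x, hxN, hxB, -, hxc⟩ := Cfsg.Agent.PGroups.AbelianNormal.exists_step hT hlt
    haveI := Cfsg.Agent.PGroups.AbelianNormal.normal_sup_zpowers hxc
    have hc := Cfsg.Agent.PGroups.AbelianNormal.le_centralizer_sup_zpowers (B := zpowers r) hxN.2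
    refine hmax (zpowers r ⊔ zpowers x) ⟨inferInstance, ⟨⟨fun a b => Subtype.ext
      (mem_centralizer_iff.mp (hc b.2) a a.2)⟩⟩, sup_le hBS (zpowers_le.mpr hxN.1)⟩ ?_
    exact lt_of_le_of_ne le_sup_left fun h => hxB (h ▸ mem_sup_right (mem_zpowers x))
  obtain ⟨n, hn⟩ : ∃ n, orderOf r = 2 ^ n := isPGroup_two_sq hT
  have hnorm : ∀ g : T, ∃ k : ℤ, g * r * g⁻¹ = r ^ k := fun g => by
    obtain ⟨k, hk⟩ := hBn.conj_mem r (mem_zpowers r) g
    exact ⟨k, hk.symm⟩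
  by_cases hn2 : n < 2
  · left
    have hrc : ∀ g : T, g * r = r * g := by
      intro g
      obtain ⟨k, hk⟩ := hnorm g
      obtain rfl | rfl : n = 0 ∨ n = 1 := by omega
      · have hr1 : r = 1 := orderOf_eq_one_iff.mp (by simpa using hn)
        rw [hr1, mul_one, one_mul]
      · have hr1 : orderOf r = 2 := by simpa using hn
        have hr2 : r * r = 1 := by rw [← pow_two, ← hr1, pow_orderOf_eq_one]
        rcases Int.even_or_odd k with ⟨q, rfl⟩ | ⟨q, rfl⟩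
        · rw [← two_mul, zpow_mul, zpow_two, hr2, one_zpow, mul_inv_eq_one, mul_eq_left] at hk
          rw [hk, mul_one, one_mul]
        · rw [zpow_add_one, zpow_mul, zpow_two, hr2, one_zpow, one_mul] at hk
          exact mul_inv_eq_iff_eq_mul.mp hk
    intro x hx y hy
    exact hinv1 x (hcent x hx (hrc x)) y (hcent y hy (hrc y))
  push Not at hn2
  have hN : (((2 : ℕ) ^ n : ℕ) : ℤ) = (2 : ℤ) ^ n := by push_cast; ring
  have hone : ∀ a : ℤ, r ^ a = 1 ↔ (2 : ℤ) ^ n ∣ a := fun a => by rw [zpow_eq_one_iff hn, hN]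
  have heq : ∀ a b : ℤ, r ^ a = r ^ b ↔ (2 : ℤ) ^ n ∣ a - b := fun a b => by
    rw [zpow_eq_zpow_iff hn, hN]
  have hk4 : ∀ g : T, ∀ k k' : ℤ, g * r * g⁻¹ = r ^ k → g * r * g⁻¹ = r ^ k' → (4 : ℤ) ∣ k - k' := by
    intro g k k' h h'
    exact (show (4 : ℤ) ∣ 2 ^ n from ⟨2 ^ (n - 2), by
      rw [show (4 : ℤ) = 2 ^ 2 by norm_num, ← pow_add]; congr 1; omega⟩).trans
      ((heq k k').mp (h ▸ h'))
  let K : Subgroup T :=
    { carrier := {g | g ∈ S ∧ ∃ k : ℤ, g * r * g⁻¹ = r ^ k ∧ (4 : ℤ) ∣ k - 1}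
      one_mem' := ⟨one_mem _, 1, by simp, by simp⟩
      mul_mem' := fun {a b} ⟨haS, k, hk, hk1⟩ ⟨hbS, l, hl, hl1⟩ => ⟨mul_mem haS hbS, k * l, by
        rw [show a * b * r * (a * b)⁻¹ = a * (b * r * b⁻¹) * a⁻¹ by group, hl, conj_zpow_eq hk], by
        obtain ⟨u, hu⟩ := hk1
        obtain ⟨v, hv⟩ := hl1
        exact ⟨4 * u * v + u + v, by rw [show k = 4 * u + 1 by omega, show l = 4 * v + 1 by omega]; ring⟩⟩
      inv_mem' := fun {a} ⟨haS, k, hk, hk1⟩ => ⟨inv_mem haS, by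
        obtain ⟨l, hl⟩ := hnorm a⁻¹
        refine ⟨l, hl, ?_⟩
        have h1 : (1 : T) * r * (1 : T)⁻¹ = r ^ (k * l) := by
          rw [← conj_zpow_eq hk, ← hl]; group
        have h2 := hk4 1 (k * l) 1 h1 (by simp)
        obtain ⟨u, hu⟩ := hk1
        obtain ⟨v, hv⟩ := h2
        exact ⟨v - u * l, by linear_combination hv - l * hu⟩⟩ }
  haveI hK : K.Normal := ⟨fun g ⟨hgS, k, hk, hk1⟩ t => ⟨Normal.conj_mem inferInstance g hgS t, by
    obtain ⟨a, ha⟩ := hnorm t⁻¹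
    obtain ⟨b, hb⟩ := hnorm t
    refine ⟨b * (k * a), ?_, ?_⟩
    · calc t * g * t⁻¹ * r * (t * g * t⁻¹)⁻¹ = t * (g * (t⁻¹ * r * t⁻¹⁻¹) * g⁻¹) * t⁻¹ := by group
        _ = r ^ (b * (k * a)) := by rw [ha, conj_zpow_eq hk, conj_zpow_eq hb]
    · have h1 : (1 : T) * r * (1 : T)⁻¹ = r ^ (b * a) := by
        rw [← conj_zpow_eq hb, ← ha]; group
      obtain ⟨v, hv⟩ := hk4 1 (b * a) 1 h1 (by simp)
      obtain ⟨u, hu⟩ := hk1
      exact ⟨v + u * (b * a), by linear_combination hv + (b * a) * hu⟩⟩⟩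
  have hrK : zpowers r ≤ K := zpowers_le.mpr ⟨hBS (mem_zpowers r), 1, by simp, by simp⟩
  have hKB : K = zpowers r := by
    by_contra hne
    obtain ⟨x, hxK, hxB, hx2, hxc⟩ :=
      Cfsg.Agent.PGroups.AbelianNormal.exists_step hT (lt_of_le_of_ne hrK (Ne.symm hne))
    obtain ⟨hxS, k, hk, hk1⟩ := hxK
    obtain ⟨e, he⟩ := hx2
    have he' : r ^ e = x * x := by rw [← pow_two]; exact he
    have hkk : (2 : ℤ) ^ n ∣ k * k - 1 := by
      rw [← heq, zpow_one, ← conj_zpow_eq hk, ← hk,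
        show x * (x * r * x⁻¹) * x⁻¹ = x * x * r * (x * x)⁻¹ by group, ← he',
        ((Commute.refl r).zpow_left e).eq, mul_inv_cancel_right]
    have hk_ne : ¬ (2 : ℤ) ^ n ∣ k - 1 := fun h => hxB (hcent x hxS
      (mul_inv_eq_iff_eq_mul.mp (by rw [hk, (heq k 1).mpr h, zpow_one])))
    obtain ⟨u, hu⟩ := hk1
    have hodd : Odd (1 + 2 * u) := ⟨u, by ring⟩
    have hk2 : (2 : ℤ) ^ (n - 1) ∣ k - 1 := by
      obtain ⟨c, hc⟩ := hkk
      refine dvd_of_mul_odd hodd ⟨c, ?_⟩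
      have h2 : (2 : ℤ) ^ n = 2 * 2 ^ (n - 1) := by rw [← pow_succ']; congr 1; omega
      rw [h2] at hc
      refine mul_left_cancel₀ (show (2 : ℤ) ≠ 0 by norm_num) ?_
      rw [show k = 4 * u + 1 by omega] at hc ⊢
      linear_combination hc
    have hxcomm : (2 : ℤ) ^ n ∣ k * e - e := by
      rw [← heq, ← conj_zpow_eq hk, he']
      group
    obtain ⟨d, hd⟩ := hk2
    have hd2 : ¬ 2 ∣ d := by
      rintro ⟨d', rfl⟩
      refine hk_ne ⟨d', ?_⟩
      rw [hd, show (2 : ℤ) ^ n = 2 * 2 ^ (n - 1) by rw [← pow_succ']; congr 1; omega]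
      ring
    have he2 : 2 ∣ e := by
      obtain ⟨c, hc⟩ := hxcomm
      rw [show k * e - e = (k - 1) * e by ring, hd,
        show (2 : ℤ) ^ n = 2 ^ (n - 1) * 2 by rw [← pow_succ]; congr 1; omega, mul_assoc, mul_assoc] at hc
      exact (Int.prime_two.dvd_or_dvd ⟨c, mul_left_cancel₀ (pow_ne_zero _ (by norm_num)) hc⟩).resolve_left hd2
    obtain ⟨f, rfl⟩ := he2
    obtain ⟨a, ha⟩ := exists_mul_odd_modEq (n := n) hodd (-f)
    have hinv : (r ^ a * x) * (r ^ a * x) = 1 := by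
      calc (r ^ a * x) * (r ^ a * x) = r ^ a * (x * r ^ a * x⁻¹) * (x * x) := by group
        _ = r ^ (a + k * a + 2 * f) := by rw [conj_zpow_eq hk, ← he', ← zpow_add, ← zpow_add]
        _ = 1 := by
          rw [hone]
          obtain ⟨c, hc⟩ := ha
          exact ⟨2 * c, by rw [show k = 4 * u + 1 by omega]; linear_combination 2 * hc⟩
    set x' := r ^ a * x with hx'
    have hx'B : x' ∉ zpowers r := fun h => hxB (by
      have := mul_mem (inv_mem (zpow_mem (mem_zpowers r) a)) h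
      simpa [hx', mul_assoc] using this)
    set z := r ^ ((2 : ℤ) ^ (n - 1)) with hz
    have hz2 : z * z = 1 := by
      rw [hz, ← zpow_add, hone, ← two_mul, ← pow_succ']
      exact pow_dvd_pow _ (by omega)
    have hz1 : z ≠ 1 := by
      rw [hz, Ne, hone]
      rintro ⟨c, hc⟩
      rw [show (2 : ℤ) ^ n = 2 ^ (n - 1) * 2 by rw [← pow_succ]; congr 1; omega, mul_assoc] at hc
      have h := mul_left_cancel₀ (pow_ne_zero _ (show (2 : ℤ) ≠ 0 by norm_num))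
        (hc.symm.trans (mul_one _).symm)
      omega
    have hzc : ∀ g : T, g * z = z * g := by
      intro g
      by_contra hne
      obtain ⟨l, hl⟩ := hnorm g
      have hgz : g * z * g⁻¹ = r ^ (l * 2 ^ (n - 1)) := conj_zpow_eq hl _
      have h := hinv1 z (zpow_mem (mem_zpowers r) _) (g * z * g⁻¹) (hgz ▸ zpow_mem (mem_zpowers r) _) hz2
        (by rw [show g * z * g⁻¹ * (g * z * g⁻¹) = g * (z * z) * g⁻¹ by group, hz2, mul_one, mul_inv_cancel])
        hz1 (fun h => hz1 (by simpa using conj_eq_one_iff.mp h))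
      exact hne (mul_inv_eq_iff_eq_mul.mp h.symm)
    refine hno z x' (hBS (zpow_mem (mem_zpowers r) _)) (mul_mem (hBS (zpow_mem (mem_zpowers r) _)) hxS)
      hz1 (fun h => hx'B (h ▸ one_mem _)) (fun h => hx'B (h ▸ zpow_mem (mem_zpowers r) _)) hz2 hinv
      (hzc x').symm hzc fun g => ?_
    -- a conjugate of `x'` is an involution of the coset `x' ⟨r⟩`
    obtain ⟨l, hl⟩ := hnorm g
    obtain ⟨c, hc⟩ := hxc g
    simp only at hc
    have hgx : g * x * g⁻¹ = r ^ c * x := mul_inv_eq_iff_eq_mul.mp hc.symm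
    have hgx' : g * x' * g⁻¹ = r ^ (l * a + c - a) * x' := by
      rw [hx', show g * (r ^ a * x) * g⁻¹ = (g * r ^ a * g⁻¹) * (g * x * g⁻¹) by group,
        conj_zpow_eq hl, hgx, ← mul_assoc, ← mul_assoc, ← zpow_add, ← zpow_add]
      congr 2
      ring
    have hkx' : x' * r * x'⁻¹ = r ^ k := by
      rw [hx', show r ^ a * x * r * (r ^ a * x)⁻¹ = r ^ a * (x * r * x⁻¹) * (r ^ a)⁻¹ by group, hk,
        ← zpow_neg, ← zpow_add, ← zpow_add]
      congr 1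
      ring
    set d' := l * a + c - a
    have hw : r ^ (d' + k * d') = 1 := by
      calc r ^ (d' + k * d') = r ^ d' * (x' * r ^ d' * x'⁻¹) * (x' * x') := by
            rw [conj_zpow_eq hkx', hinv, mul_one, zpow_add]
        _ = (r ^ d' * x') * (r ^ d' * x') := by group
        _ = 1 := by
            rw [← hgx', show g * x' * g⁻¹ * (g * x' * g⁻¹) = g * (x' * x') * g⁻¹ by group, hinv,
              mul_one, mul_inv_cancel]
    rw [hone] at hw
    have hd' : (2 : ℤ) ^ (n - 1) ∣ d' := by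
      refine dvd_of_mul_odd hodd ?_
      obtain ⟨q, hq⟩ := hw
      refine ⟨q, mul_left_cancel₀ (show (2 : ℤ) ≠ 0 by norm_num) ?_⟩
      rw [show k = 4 * u + 1 by omega,
        show (2 : ℤ) ^ n = 2 * 2 ^ (n - 1) by rw [← pow_succ']; congr 1; omega] at hq
      linear_combination hq
    obtain ⟨q, hq⟩ := hd'
    rw [hgx', hq, zpow_mul, ← hz]
    rcases Int.even_or_odd q with ⟨t, rfl⟩ | ⟨t, rfl⟩
    · left; rw [← two_mul, zpow_mul, zpow_two, hz2, one_zpow, one_mul]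
    · right; rw [zpow_add_one, zpow_mul, zpow_two, hz2, one_zpow, one_mul]
  -- index at most two
  have hkodd : ∀ g : T, ∀ k : ℤ, g * r * g⁻¹ = r ^ k → ¬ 2 ∣ k := by
    intro g k hk ⟨q, hq⟩
    obtain ⟨l, hl⟩ := hnorm g⁻¹
    have h1 : (1 : T) * r * (1 : T)⁻¹ = r ^ (l * k) := by rw [← conj_zpow_eq hl, ← hk]; group
    obtain ⟨v, hv⟩ := hk4 1 (l * k) 1 h1 (by simp)
    rw [hq, show l * (2 * q) = 2 * (l * q) by ring] at hv
    omega
  have hS2 : ∀ g ∈ S, g ∉ zpowers r → ∃ k : ℤ, g * r * g⁻¹ = r ^ k ∧ (4 : ℤ) ∣ k + 1 := by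
    intro g hg hgB
    obtain ⟨k, hk⟩ := hnorm g
    have := hkodd g k hk
    refine ⟨k, hk, ?_⟩
    by_contra h
    exact hgB (hKB ▸ (⟨hg, k, hk, by omega⟩ : g ∈ K))
  by_cases hinv : ∃ s ∈ S, s * s = 1 ∧ s ∉ zpowers r
  · obtain ⟨s, hsS, hs2, hsB⟩ := hinv
    obtain ⟨ε, hε, hε4⟩ := hS2 s hsS hsB
    have hεε : (2 : ℤ) ^ n ∣ ε * ε - 1 := by
      rw [← heq, zpow_one, ← conj_zpow_eq hε, ← hε,
        show s * (s * r * s⁻¹) * s⁻¹ = s * s * r * (s * s)⁻¹ by group, hs2, one_mul, inv_one, mul_one]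
    have hεn : (2 : ℤ) ^ (n - 1) ∣ ε + 1 := by
      obtain ⟨u, hu⟩ := hε4
      obtain ⟨c, hc⟩ := hεε
      refine dvd_of_mul_odd (q := 2 * u - 1) ⟨u - 1, by ring⟩
        ⟨c, mul_left_cancel₀ (show (2 : ℤ) ≠ 0 by norm_num) ?_⟩
      rw [show (2 : ℤ) ^ n = 2 * 2 ^ (n - 1) by rw [← pow_succ']; congr 1; omega] at hc
      rw [show ε = 4 * u - 1 by omega] at hc ⊢
      linear_combination hc
    refine Or.inr ⟨r, s, n, ε, hn2, hn, hBS (mem_zpowers r), hsS, hs2, hsB, fun g hg => ?_, hε, hnorm,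
      hε4, by push_cast; exact hεn⟩
    by_cases hgB : g ∈ zpowers r
    · exact Or.inl hgB
    · right
      obtain ⟨k, hk, hk4'⟩ := hS2 g hg hgB
      have hgs : g * s ∈ K := ⟨mul_mem hg hsS, k * ε, by
        rw [show g * s * r * (g * s)⁻¹ = g * (s * r * s⁻¹) * g⁻¹ by group, hε, conj_zpow_eq hk], by
        obtain ⟨u, hu⟩ := hk4'
        obtain ⟨v, hv⟩ := hε4
        exact ⟨4 * u * v - u - v, by rw [show k = 4 * u - 1 by omega, show ε = 4 * v - 1 by omega]; ring⟩⟩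
      rwa [hKB] at hgs
  · push Not at hinv
    exact Or.inl fun x hx y hy hx2 hy2 => hinv1 x (hinv x hx hx2) y (hinv y hy hy2) hx2 hy2

end Cfsg.Agent.Components.FourAction
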