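import Mathlib
import Cfsg.Agent.S3380
import Cfsg.Agent.Lib.Involutions.HalfTransitive.OddP

/-!
# Half-transitive linear 2-groups (Passman)
-/

set_option autoImplicit false
set_option linter.all false

namespace Cfsg.Agent.Components.HalfTrans

open MulAction

/-- `q ^ j + 1` a power of two forces `j = 1`. -/
theorem exp_one_of_succ {q j m : ℕ} (hq : Odd q) (h3 : 3 ≤ q) (hj : j ≠ 0)
    (h : q ^ j + 1 = 2 ^ m) : j = 1 := by
  rcases Nat.even_or_odd j with ⟨i, rfl⟩ | hodd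
  · exfalso
    obtain ⟨a, ha⟩ := hq.pow (n := i)
    rw [pow_add, ha] at h
    have hge : 3 ≤ q ^ i := h3.trans (Nat.le_self_pow (by omega) q)
    match m with
    | 0 => simp at h
    | 1 => rw [pow_one] at h; nlinarith
    | m + 2 =>
      have h4 : (4 : ℕ) ∣ 2 ^ (m + 2) := ⟨2 ^ m, by rw [pow_add]; ring⟩
      rw [← h] at h4
      have e : (2 * a + 1) * (2 * a + 1) + 1 = 4 * (a * a + a) + 2 := by ring
      rw [e] at h4
      omega
  · -- `q + 1` divides `q ^ j + 1` with odd quotient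
    by_contra hne
    obtain ⟨i, rfl⟩ := hodd
    have key : ∀ i : ℕ, ∃ s : ℕ, Odd s ∧ q ^ (2 * i + 1) + 1 = (q + 1) * s := by
      intro i
      induction i with
      | zero => exact ⟨1, odd_one, by simp⟩
      | succ i ih =>
        obtain ⟨s, hs, he⟩ := ih
        obtain ⟨c, hc⟩ : ∃ c, q = c + 1 := ⟨q - 1, by omega⟩
        refine ⟨q ^ 2 * s - c, ?_, ?_⟩
        · have hle : c ≤ q ^ 2 * s := by
            have : q ≤ q ^ 2 * s := (Nat.le_self_pow two_ne_zero q).trans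
              (Nat.le_mul_of_pos_right _ hs.pos)
            omega
          have h1 : Odd (q ^ 2 * s) := hq.pow.mul hs
          have h2 : Even c := by
            obtain ⟨b, hb⟩ := hq
            exact ⟨b, by omega⟩
          exact Nat.Odd.sub_even hle h1 h2
        · have e1 : q ^ (2 * (i + 1) + 1) + q ^ 2 = (q + 1) * (q ^ 2 * s) := by
            rw [mul_left_comm, ← he]; ring
          have e2 : q ^ 2 = (q + 1) * c + 1 := by rw [hc]; ring
          rw [Nat.mul_sub, ← e1]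
          omega
    obtain ⟨s, hs, he⟩ := key i
    have hs1 : s ∣ 2 ^ m := ⟨q + 1, by rw [← h, he, mul_comm]⟩
    obtain ⟨k, -, rfl⟩ := (Nat.dvd_prime_pow Nat.prime_two).1 hs1
    have hk : k = 0 := by
      by_contra hk
      exact Nat.not_even_iff_odd.2 hs ((Nat.even_pow' hk).2 even_two)
    rw [hk, pow_zero, mul_one] at he
    have : q ^ (2 * i + 1) = q ^ 1 := by rw [pow_one]; omega
    have := Nat.pow_right_injective (by omega : 2 ≤ q) this
    omega

/-- `q ^ j - 1` a power of two forces `j = 1` or `q ^ j = 9`. -/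
theorem exp_one_of_pred {q j m : ℕ} (hq : Odd q) (h3 : 3 ≤ q) (hj : j ≠ 0)
    (h : q ^ j = 2 ^ m + 1) : j = 1 ∨ q ^ j = 9 := by
  rcases Nat.even_or_odd j with ⟨i, rfl⟩ | hodd
  · right
    have hge : 3 ≤ q ^ i := h3.trans (Nat.le_self_pow (by omega) q)
    rw [pow_add] at h ⊢
    obtain ⟨c, hc⟩ : ∃ c, q ^ i = c + 1 := ⟨q ^ i - 1, by omega⟩
    have e : c * (c + 2) = 2 ^ m := by rw [hc] at h; nlinarith
    obtain ⟨a, -, ha⟩ := (Nat.dvd_prime_pow Nat.prime_two).1 ⟨c + 2, e.symm⟩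
    obtain ⟨b, -, hb⟩ := (Nat.dvd_prime_pow Nat.prime_two).1 ⟨c, by rw [← e, mul_comm]⟩
    have : c = 2 := by
      match a, b with
      | 0, b => simp at ha; omega
      | 1, b => simpa using ha
      | a + 2, 0 => simp at hb
      | a + 2, 1 => simp at hb; omega
      | a + 2, b + 2 =>
        have h1 : c = 4 * 2 ^ a := by rw [ha]; ring
        have h2 : c + 2 = 4 * 2 ^ b := by rw [hb]; ring
        omega
    rw [hc, this]
    all_goals norm_num
  · left
    by_contra hne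
    obtain ⟨i, rfl⟩ := hodd
    have hd : ∃ s : ℕ, Odd s ∧ q ^ (2 * i + 1) = (q - 1) * s + 1 := by
      clear h hne hj
      induction i with
      | zero => exact ⟨1, odd_one, by simp; omega⟩
      | succ i ih =>
        obtain ⟨s, hs, he⟩ := ih
        refine ⟨q ^ 2 * s + (q + 1), ?_, ?_⟩
        · exact (hq.pow.mul hs).add_even hq.add_one
        · obtain ⟨c, hc⟩ : ∃ c, q = c + 1 := ⟨q - 1, by omega⟩
          have : q - 1 = c := by omega
          rw [this] at he ⊢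
          calc q ^ (2 * (i + 1) + 1) = q ^ 2 * q ^ (2 * i + 1) := by ring
            _ = q ^ 2 * (c * s + 1) := by rw [he]
            _ = c * (q ^ 2 * s + (q + 1)) + 1 := by rw [hc]; ring
    obtain ⟨s, hs, he⟩ := hd
    have hm : (q - 1) * s = 2 ^ m := by omega
    obtain ⟨k, -, rfl⟩ := (Nat.dvd_prime_pow Nat.prime_two).1 ⟨q - 1, by rw [← hm, mul_comm]⟩
    have hk : k = 0 := by
      by_contra hk
      exact Nat.not_even_iff_odd.2 hs ((Nat.even_pow' hk).2 even_two)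
    rw [hk, pow_zero, mul_one] at he
    have : q ^ (2 * i + 1) = q ^ 1 := by rw [pow_one]; omega
    have := Nat.pow_right_injective (by omega : 2 ≤ q) this
    omega

variable {q : ℕ} [hqf : Fact q.Prime] {V : Type*} [AddCommGroup V] [Module (ZMod q) V] [Finite V]
  [Nontrivial V] {G : Type*} [Group G] [Finite G] {ρ : G →* (V ≃ₗ[ZMod q] V)}

local notation "fix" => Cfsg.Agent.S3380.fixedSpace ρ

/-- The standing hypotheses. -/
structure Half (ρ : G →* (V ≃ₗ[ZMod q] V)) (z : G) : Prop where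
  hq2 : q ≠ 2
  hG : IsPGroup 2 G
  hρ : Function.Injective ρ
  hconst : ∀ v w : V, v ≠ 0 → w ≠ 0 →
    Nat.card {g : G // ρ g v = v} = Nat.card {g : G // ρ g w = w}
  hz : z * z = 1
  hneg : ∀ v : V, ρ z v = -v
  hzc : ∀ g : G, Commute g z

theorem two_ne (hq2 : q ≠ 2) : (2 : ZMod q) ≠ 0 := by
  intro h
  have : ((2 : ℕ) : ZMod q) = 0 := by exact_mod_cast h
  rw [ZMod.natCast_eq_zero_iff] at this
  exact hq2 ((Nat.prime_dvd_prime_iff_eq hqf.out Nat.prime_two).1 this)

theorem eq_zero_of_neg (hq2 : q ≠ 2) {v : V} (h : -v = v) : v = 0 := by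
  have h2 : (2 : ZMod q) • v = 0 := by
    rw [two_smul]
    nth_rw 1 [← h]
    exact neg_add_cancel v
  rcases smul_eq_zero.1 h2 with h3 | h3
  · exact absurd h3 (two_ne hq2)
  · exact h3

theorem rho_mul (x y : G) (v : V) : ρ (x * y) v = ρ x (ρ y v) :=
  Cfsg.Agent.S3380.rho_mul_apply ρ x y v

theorem rho_one (v : V) : ρ 1 v = v := by rw [map_one]; rfl

namespace Half

variable {z : G} (h : Half ρ z)
include h

theorem z_ne : z ≠ 1 := by
  intro e
  obtain ⟨v, hv⟩ := exists_ne (0 : V)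
  exact hv (eq_zero_of_neg h.hq2 (by rw [← h.hneg v, e, rho_one]))

theorem central_eq {c : G} (hc : ∀ g : G, Commute g c) (hc2 : c * c = 1) (hc1 : c ≠ 1) : c = z := by
  letI : DistribMulAction G V :=
    { smul := fun g v => ρ g v
      one_smul := fun v => rho_one v
      mul_smul := fun g g' v => rho_mul g g' v
      smul_zero := fun g => map_zero (ρ g)
      smul_add := fun g => map_add (ρ g) }
  haveI : FaithfulSMul G V := ⟨fun {g g'} e => h.hρ (LinearEquiv.ext fun v => e v)⟩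
  have hE : ∀ e : V, q • e = 0 := fun e => by
    rw [← Nat.cast_smul_eq_nsmul (ZMod q), ZMod.natCast_self, zero_smul]
  refine h.hρ (LinearEquiv.ext fun v => ?_)
  rw [h.hneg]
  have hfix : ρ c (ρ c v + v) = ρ c v + v := by
    rw [map_add, ← rho_mul, hc2, rho_one, add_comm]
  have h0 : ρ c v + v = 0 := by
    refine Involutions.HalfTransitive.fixed_eq_zero h.hG hqf.out h.hq2.symm hE
      (fun a b ha hb => h.hconst a b ha hb) (N := Subgroup.zpowers c) ?_
      (Subgroup.zpowers_ne_bot.2 hc1) ?_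
    · exact ⟨fun m hm g => by
        obtain ⟨k, rfl⟩ := hm
        show g * c ^ k * g⁻¹ ∈ _
        rw [((hc g).zpow_right k).eq, mul_inv_cancel_right]
        exact ⟨k, rfl⟩⟩
    · intro m hm
      exact (Subgroup.zpowers_le.2 (show c ∈ stabilizer G (ρ c v + v) from hfix) :
        Subgroup.zpowers c ≤ stabilizer G (ρ c v + v)) hm
  exact eq_neg_of_add_eq_zero_left h0

theorem mul_z_apply (t : G) (v : V) : ρ (t * z) v = -ρ t v := by
  rw [(h.hzc t).eq, rho_mul, h.hneg]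

theorem bijective_add {t : G} (ht : t * t = 1) :
    Function.Bijective (fun p : fix t × fix (t * z) => (p.1 : V) + p.2) := by
  have h2 : (2 : ZMod q) ≠ 0 := two_ne h.hq2
  constructor
  · rintro ⟨u, w⟩ ⟨u', w'⟩ e
    simp only at e
    have eu := (Cfsg.Agent.S3380.mem_fixedSpace ρ).1 u.2
    have eu' := (Cfsg.Agent.S3380.mem_fixedSpace ρ).1 u'.2
    have ew := (Cfsg.Agent.S3380.mem_fixedSpace ρ).1 w.2
    have ew' := (Cfsg.Agent.S3380.mem_fixedSpace ρ).1 w'.2
    rw [h.mul_z_apply, neg_eq_iff_eq_neg] at ew ew'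
    have et := congrArg (ρ t) e
    rw [map_add, map_add, eu, eu', ew, ew'] at et
    have e1 : (2 : ZMod q) • ((u : V) - u') = 0 := by
      rw [two_smul]
      calc _ = ((u : V) + w) + (u + -(w : V)) - ((u' + w') + (u' + -(w' : V))) := by abel
        _ = 0 := by rw [e, et, sub_self]
    have e2 : (u : V) = u' := sub_eq_zero.1 ((smul_eq_zero.1 e1).resolve_left h2)
    rw [e2, add_left_cancel_iff] at e
    exact Prod.ext (Subtype.ext e2) (Subtype.ext e)
  · intro v
    have m1 : (2 : ZMod q)⁻¹ • (v + ρ t v) ∈ fix t := by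
      rw [Cfsg.Agent.S3380.mem_fixedSpace, map_smul, map_add, ← rho_mul, ht, rho_one, add_comm]
    have m2 : (2 : ZMod q)⁻¹ • (v - ρ t v) ∈ fix (t * z) := by
      rw [Cfsg.Agent.S3380.mem_fixedSpace, h.mul_z_apply, map_smul, map_sub, ← rho_mul, ht, rho_one,
        ← smul_neg, neg_sub]
    refine ⟨(⟨_, m1⟩, ⟨_, m2⟩), ?_⟩
    show (2 : ZMod q)⁻¹ • (v + ρ t v) + (2 : ZMod q)⁻¹ • (v - ρ t v) = v
    rw [← smul_add, show v + ρ t v + (v - ρ t v) = (2 : ZMod q) • v by rw [two_smul]; abel, smul_smul,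
      inv_mul_cancel₀ h2, one_smul]

theorem card_conj (g t : G) : Nat.card (fix (g * t * g⁻¹)) = Nat.card (fix t) := by
  rw [← Cfsg.Agent.S3380.map_fixedSpace ρ g t]
  exact (Nat.card_congr (Submodule.equivMapOfInjective _ (ρ g).injective (fix t)).toEquiv).symm

theorem card_sq {t g : G} (ht : t * t = 1) (hg : g * t * g⁻¹ = t * z) :
    Nat.card V = Nat.card (fix t) * Nat.card (fix t) := by
  rw [← Nat.card_congr (Equiv.ofBijective _ (h.bijective_add ht)), Nat.card_prod, ← hg, h.card_conj]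

theorem card_fix_pow (W : Submodule (ZMod q) V) : ∃ j, Nat.card W = q ^ j :=
  ⟨Module.finrank (ZMod q) W, by rw [Module.natCard_eq_pow_finrank (K := ZMod q), Nat.card_zmod]⟩

/-- The counting for groups of maximal class. -/
theorem cyclic_index_two (C : Subgroup G) [IsCyclic C] (hCi : C.index = 2) (N : Set G)
    (hN1 : ∀ t ∈ N, t * t = 1 ∧ t ≠ 1 ∧ ∃ g : G, g * t * g⁻¹ = t * z)
    (hN2 : ∀ t : G, t ∉ C → t * t = 1 → t ∈ N) (hNne : N.Nonempty)
    (m : ℕ) (hm : Nat.card N = 2 ^ m) :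
    Nat.card V = q ^ 2 ∧ q = 2 ^ m - 1 := by
  classical
  haveI := Fintype.ofFinite G
  obtain ⟨t0, ht0⟩ := hNne
  obtain ⟨j, hj⟩ := card_fix_pow h (fix t0)
  set d := Nat.card (fix t0) with hd
  have hsq : ∀ t ∈ N, Nat.card V = Nat.card (fix t) * Nat.card (fix t) := by
    intro t ht
    obtain ⟨h1, -, g, hg⟩ := hN1 t ht
    exact h.card_sq h1 hg
  have hdt : ∀ t ∈ N, Nat.card (fix t) = d := fun t ht =>
    Nat.mul_self_inj.1 ((hsq t ht).symm.trans (hsq t0 ht0))
  have hd1 : 1 < d := by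
    by_contra hc
    have h1 : 1 < Nat.card V := Finite.one_lt_card
    rw [hsq t0 ht0, ← hd] at h1
    have : d * d ≤ 1 := by
      push Not at hc
      exact Nat.mul_le_mul hc hc
    omega
  have hCn : C.Normal := Subgroup.normal_of_index_eq_two hCi
  -- the involution of `C`
  have hCz : ∀ c ∈ C, c * c = 1 → c ≠ 1 → c = z := by
    intro c hc hc2 hc1
    refine h.central_eq (fun g => ?_) hc2 hc1
    have hm : g * c * g⁻¹ ∈ C := hCn.conj_mem c hc g
    have o1 : orderOf (⟨c, hc⟩ : C) = 2 := orderOf_eq_prime (Subtype.ext (by simp [sq, hc2]))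
      (fun e => hc1 (congrArg Subtype.val e))
    have o2 : orderOf (⟨g * c * g⁻¹, hm⟩ : C) = 2 := by
      refine orderOf_eq_prime (Subtype.ext ?_) ?_
      · show (g * c * g⁻¹) ^ 2 = 1
        rw [conj_pow, sq, hc2, mul_one, mul_inv_cancel]
      · intro e
        exact hc1 (conj_eq_one_iff.1 (congrArg Subtype.val e))
    have e : Subgroup.zpowers (⟨g * c * g⁻¹, hm⟩ : C) = Subgroup.zpowers (⟨c, hc⟩ : C) :=
      Cfsg.Agent.S3380.cyclic_subgroup_ext _ _ (by rw [Nat.card_zpowers, Nat.card_zpowers, o1, o2])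
    have hmem : (⟨g * c * g⁻¹, hm⟩ : C) ∈ Subgroup.zpowers (⟨c, hc⟩ : C) :=
      e ▸ Subgroup.mem_zpowers _
    obtain ⟨k, hk⟩ := hmem
    rcases Int.even_or_odd k with ⟨i, rfl⟩ | ⟨i, rfl⟩
    · exfalso
      refine hc1 (conj_eq_one_iff (a := g).1 ?_)
      have := congrArg Subtype.val hk
      simp only [SubgroupClass.coe_zpow] at this
      rw [← this, zpow_add, ← (Commute.refl c).mul_zpow, hc2, one_zpow]
    · have := congrArg Subtype.val hk
      simp only [SubgroupClass.coe_zpow] at this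
      rw [zpow_add, zpow_mul, show c ^ (2 : ℤ) = 1 by rw [zpow_two, hc2], one_zpow, one_mul,
        zpow_one] at this
      exact mul_inv_eq_iff_eq_mul.1 this.symm
  have hCfree : ∀ c ∈ C, ∀ v : V, v ≠ 0 → ρ c v = v → c = 1 := by
    intro c hc v hv hcv
    by_contra hc1
    obtain ⟨e, he⟩ := IsPGroup.iff_orderOf.1 h.hG c
    obtain ⟨e', rfl⟩ : ∃ e', e = e' + 1 := Nat.exists_eq_succ_of_ne_zero (by
      rintro rfl
      rw [pow_zero, orderOf_eq_one_iff] at he
      exact hc1 he)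
    have h1 : c ^ 2 ^ e' * c ^ 2 ^ e' = 1 := by
      rw [← pow_add, ← two_mul, ← pow_succ', ← he, pow_orderOf_eq_one]
    have h2 : c ^ 2 ^ e' ≠ 1 := pow_ne_one_of_lt_orderOf (by simp)
      (by rw [he]; exact Nat.pow_lt_pow_right (by norm_num) (Nat.lt_succ_self _))
    have h3 : ∀ i : ℕ, ρ (c ^ i) v = v := by
      intro i
      induction i with
      | zero => rw [pow_zero, rho_one]
      | succ i ih => rw [pow_succ, rho_mul, hcv, ih]
    have h4 := h3 (2 ^ e')
    rw [hCz _ (pow_mem hc _) h1 h2, h.hneg] at h4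
    exact hv (eq_zero_of_neg h.hq2 h4)
  -- each vector is fixed by exactly one member of `N`
  have hunique : ∀ v : V, v ≠ 0 → ∀ s t : G, ρ s v = v → ρ t v = v → s ≠ 1 → t ≠ 1 → s = t := by
    intro v hv s t hs ht hs1 ht1
    have hsC : s ∉ C := fun hc => hs1 (hCfree s hc v hv hs)
    have htC : t ∉ C := fun hc => ht1 (hCfree t hc v hv ht)
    have ht' : ρ t⁻¹ v = v := by
      conv_lhs => rw [← ht]
      exact Cfsg.Agent.S3380.rho_inv_apply ρ t v
    have hm : t⁻¹ * s ∈ C := by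
      rw [Subgroup.mul_mem_iff_of_index_two hCi, inv_mem_iff]
      tauto
    have := hCfree _ hm v hv (by rw [rho_mul, hs, ht'])
    exact (eq_of_inv_mul_eq_one this).symm
  obtain ⟨v0, hv0, hv0n⟩ : ∃ v : V, v ∈ fix t0 ∧ v ≠ 0 := by
    by_contra hc
    push Not at hc
    have : fix t0 = ⊥ := (Submodule.eq_bot_iff _).2 hc
    have h1 : d = 1 := by rw [hd, this]; simp
    omega
  have hexists : ∀ v : V, v ≠ 0 → ∃ t ∈ N, ρ t v = v := by
    intro v hv
    have h1 := h.hconst v v0 hv hv0n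
    obtain ⟨t, ht, ht1⟩ : ∃ t : G, ρ t v = v ∧ t ≠ 1 := by
      by_contra hc
      push Not at hc
      haveI : Subsingleton {g : G // ρ g v = v} :=
        ⟨fun a b => Subtype.ext ((hc _ a.2).trans (hc _ b.2).symm)⟩
      have h2 : Nat.card {g : G // ρ g v = v} = 1 :=
        Nat.card_eq_one_iff_unique.2 ⟨inferInstance, ⟨⟨1, rho_one v⟩⟩⟩
      have h3 : 1 < Nat.card {g : G // ρ g v0 = v0} := by
        haveI : Nontrivial {g : G // ρ g v0 = v0} := ⟨⟨⟨1, rho_one v0⟩,
          ⟨t0, (Cfsg.Agent.S3380.mem_fixedSpace ρ).1 hv0⟩, fun e => (hN1 t0 ht0).2.1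
            (congrArg Subtype.val e).symm⟩⟩
        exact Finite.one_lt_card
      omega
    refine ⟨t, hN2 t (fun hc => ht1 (hCfree t hc v hv ht)) ?_, ht⟩
    by_contra h2
    have e := hunique v hv (t * t) t (by rw [rho_mul, ht, ht]) ht h2 ht1
    exact ht1 (mul_eq_left.1 e)
  -- count
  let f : (Σ t : N, {w : fix (t : G) // w ≠ 0}) → {v : V // v ≠ 0} :=
    fun p => ⟨((p.2 : fix (p.1 : G)) : V), fun e => p.2.2 (Subtype.ext e)⟩
  have hf : Function.Bijective f := by
    constructor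
    · rintro ⟨⟨s, hs⟩, ⟨⟨v, hv⟩, hvn⟩⟩ ⟨⟨t, ht⟩, ⟨⟨w, hw⟩, hwn⟩⟩ e
      have e' : v = w := congrArg Subtype.val e
      subst e'
      have est : s = t := hunique v (fun e => hvn (Subtype.ext e)) s t
        ((Cfsg.Agent.S3380.mem_fixedSpace ρ).1 hv) ((Cfsg.Agent.S3380.mem_fixedSpace ρ).1 hw)
        (hN1 s hs).2.1 (hN1 t ht).2.1
      subst est
      rfl
    · rintro ⟨v, hv⟩
      obtain ⟨t, ht, htv⟩ := hexists v hv
      exact ⟨⟨⟨t, ht⟩, ⟨⟨v, (Cfsg.Agent.S3380.mem_fixedSpace ρ).2 htv⟩,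
        fun e => hv (congrArg Subtype.val e)⟩⟩, rfl⟩
  have hne : ∀ (α : Type _) [Finite α] (a : α), Nat.card {x : α // x ≠ a} = Nat.card α - 1 := by
    intro α _ a
    haveI := Fintype.ofFinite α
    rw [Nat.card_eq_fintype_card, Nat.card_eq_fintype_card, Fintype.card_subtype_compl,
      Fintype.card_subtype_eq]
  have hc := Nat.card_congr (Equiv.ofBijective f hf)
  haveI := Fintype.ofFinite N
  have hsum : ∀ t : N, Nat.card {w : fix (t : G) // w ≠ 0} = d - 1 := fun t => by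
    rw [hne (fix (t : G)) 0, hdt t t.2]
  rw [Nat.card_sigma] at hc
  simp only [hsum] at hc
  rw [Finset.sum_const, Finset.card_univ, ← Nat.card_eq_fintype_card, hm,
    smul_eq_mul, hne V 0, hsq t0 ht0, ← hd] at hc
  have hd2 : d + 1 = 2 ^ m := by
    have e : d * d - 1 = (d + 1) * (d - 1) := by
      have := Nat.sq_sub_sq d 1
      simpa [sq] using this
    rw [e] at hc
    exact (Nat.eq_of_mul_eq_mul_right (by omega) hc).symm
  have hq3 : 3 ≤ q := by
    have := hqf.out.two_le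
    have := h.hq2
    omega
  have hj1 : j = 1 := exp_one_of_succ (hqf.out.odd_of_ne_two h.hq2) hq3
    (by rintro rfl; simp at hj; omega) (by rw [← hj]; exact hd2)
  rw [hj, hj1, pow_one] at hd2
  refine ⟨?_, by omega⟩
  rw [hsq t0 ht0, ← hd, hj, hj1]
  ring

/-- Two blocks interchanged by the group. -/
theorem two_blocks (a : G) (ha : a * a = 1) (haz : a ≠ z) (ha1 : a ≠ 1)
    (hconj : ∀ g : G, g * a * g⁻¹ = a ∨ g * a * g⁻¹ = a * z) :
    (Nat.card V = q ^ 2 ∧ (∃ m : ℕ, q = 2 ^ m + 1) ∧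
      ∃ e : V ≃ₗ[ZMod q] (Fin 2 → ZMod q), ∀ f : (Fin 2 → ZMod q) ≃ₗ[ZMod q] (Fin 2 → ZMod q),
        (∃ g : G, f = e.symm.trans ((ρ g).trans e)) ↔
        ∃ a s : ZMod q, a ≠ 0 ∧ (s = 1 ∨ s = -1) ∧
          ((∀ v, f v = ![a * v 0, s * a⁻¹ * v 1]) ∨ (∀ v, f v = ![s * a⁻¹ * v 1, a * v 0]))) ∨
    (Nat.card V = 81 ∧ q = 3) := by
  classical
  have hfs : ∀ {x : G} {v : V}, v ∈ fix x ↔ ρ x v = v := Cfsg.Agent.S3380.mem_fixedSpace ρ
  have hU' : ∀ {v : V}, v ∈ fix (a * z) ↔ ρ a v = -v := fun {v} => by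
    rw [hfs, h.mul_z_apply, neg_eq_iff_eq_neg]
  have hdisj : ∀ v : V, v ∈ fix a → v ∈ fix (a * z) → v = 0 := fun v h1 h2 =>
    eq_zero_of_neg h.hq2 ((hU'.1 h2).symm.trans (hfs.1 h1))
  have hmove : ∀ (g : G) (x : G) (v : V), v ∈ fix x → ρ g v ∈ fix (g * x * g⁻¹) := fun g x v hv => by
    rw [← Cfsg.Agent.S3380.map_fixedSpace ρ g x]
    exact Submodule.mem_map_of_mem hv
  obtain ⟨g0, hg0⟩ : ∃ g0 : G, g0 * a * g0⁻¹ = a * z := by
    by_contra hc
    push Not at hc
    refine haz (h.central_eq (fun g => ?_) ha ha1)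
    exact mul_inv_eq_iff_eq_mul.1 ((hconj g).resolve_right (hc g))
  have hsq := h.card_sq ha hg0
  obtain ⟨u0, hu0, hu0n⟩ : ∃ u : V, u ∈ fix a ∧ u ≠ 0 := by
    by_contra hc
    push Not at hc
    have h1 : fix a = ⊥ := (Submodule.eq_bot_iff _).2 hc
    have h2 : Nat.card (⊥ : Submodule (ZMod q) V) = 1 := Nat.card_unique
    rw [h1, h2, mul_one] at hsq
    exact absurd hsq (Finite.one_lt_card (α := V)).ne'
  let H : Subgroup G := Subgroup.centralizer {a}
  have hH : ∀ g : G, g ∈ H ↔ g * a = a * g := fun g => Subgroup.mem_centralizer_singleton_iff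
  have hHswap : ∀ g : G, g ∉ H → g * a * g⁻¹ = a * z := fun g hg =>
    (hconj g).resolve_left fun e => hg ((hH g).2 (mul_inv_eq_iff_eq_mul.1 e))
  have hHU : ∀ g ∈ H, ∀ v ∈ fix a, ρ g v ∈ fix a := fun g hg v hv => by
    have := hmove g a v hv
    rwa [(hH g).1 hg, mul_inv_cancel_right] at this
  have hHU' : ∀ g ∈ H, ∀ v ∈ fix (a * z), ρ g v ∈ fix (a * z) := fun g hg v hv => by
    have := hmove g _ v hv
    rwa [show g * (a * z) * g⁻¹ = (g * a * g⁻¹) * z by
      rw [mul_assoc, mul_assoc, (h.hzc g⁻¹).eq.symm]; group, (hH g).1 hg, mul_inv_cancel_right] at this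
  have hsU : ∀ g, g ∉ H → ∀ v ∈ fix a, ρ g v ∈ fix (a * z) := fun g hg v hv => by
    have := hmove g a v hv
    rwa [hHswap g hg] at this
  have hsU' : ∀ g, g ∉ H → ∀ v ∈ fix (a * z), ρ g v ∈ fix a := fun g hg v hv => by
    have := hmove g _ v hv
    rwa [show g * (a * z) * g⁻¹ = (g * a * g⁻¹) * z by
      rw [mul_assoc, mul_assoc, (h.hzc g⁻¹).eq.symm]; group, hHswap g hg, mul_assoc, h.hz,
      mul_one] at this
  have huniq : ∀ u ∈ fix a, ∀ w ∈ fix (a * z), ∀ u' ∈ fix a, ∀ w' ∈ fix (a * z),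
      u + w = u' + w' → u = u' ∧ w = w' := by
    intro u hu w hw u' hu' w' hw' e
    have := (h.bijective_add ha).1 (a₁ := (⟨u, hu⟩, ⟨w, hw⟩)) (a₂ := (⟨u', hu'⟩, ⟨w', hw'⟩)) e
    exact ⟨congrArg (fun p => ((p.1 : fix a) : V)) this,
      congrArg (fun p => ((p.2 : fix (a * z)) : V)) this⟩
  -- every pair of non-zero vectors in the two blocks has an interchanging element
  have hswap : ∀ u ∈ fix a, u ≠ 0 → ∀ w ∈ fix (a * z), w ≠ 0 →
      ∃ g, g ∉ H ∧ ρ g u = w ∧ ρ g w = u := by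
    intro u hu hun w hw hwn
    by_contra hc
    push Not at hc
    have huwn : u + w ≠ 0 := fun e => hun (hdisj u hu (by
      rw [show u = -w from eq_neg_of_add_eq_zero_left e]
      exact neg_mem hw))
    have hle : ∀ g : G, ρ g (u + w) = u + w → ρ g u = u ∧ ρ g w = w := by
      intro g hg
      rw [map_add] at hg
      by_cases hgH : g ∈ H
      · exact huniq _ (hHU g hgH u hu) _ (hHU' g hgH w hw) u hu w hw hg
      · exfalso
        rw [add_comm] at hg
        obtain ⟨e1, e2⟩ := huniq _ (hsU' g hgH w hw) _ (hsU g hgH u hu) u hu w hw hg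
        exact hc g hgH e2 e1
    let f : {g : G // ρ g (u + w) = u + w} → {g : G // ρ g u = u} := fun g => ⟨g.1, (hle g.1 g.2).1⟩
    have hf : Function.Bijective f := by
      refine (Nat.bijective_iff_injective_and_card f).2 ⟨fun x y e => ?_, h.hconst _ _ huwn hun⟩
      exact Subtype.ext (congrArg (fun t : {g : G // ρ g u = u} => t.1) e)
    obtain ⟨x, hx⟩ := hf.2 ⟨a, hfs.1 hu⟩
    have hx' : x.1 = a := congrArg Subtype.val hx
    have := (hle x.1 x.2).2
    rw [hx'] at this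
    exact hwn (hdisj w (hfs.2 this) hw)
  -- `H` is transitive on the non-zero vectors of the first block
  obtain ⟨w0, hw0, hw0n⟩ : ∃ w : V, w ∈ fix (a * z) ∧ w ≠ 0 :=
    ⟨ρ g0 u0, by have := hmove g0 a u0 hu0; rwa [hg0] at this,
      fun e => hu0n ((ρ g0).map_eq_zero_iff.1 e)⟩
  have hidx : H.index = 2 := by
    refine Subgroup.index_eq_two_iff.2 ⟨g0, fun b => ?_⟩
    have key : ∀ x : G, x ∈ H ↔ x * a * x⁻¹ = a := fun x => by rw [hH, mul_inv_eq_iff_eq_mul]
    have haz' : a * z ≠ a := fun e => h.z_ne (mul_eq_left.1 e)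
    have e1 : b * g0 * a * (b * g0)⁻¹ = (b * a * b⁻¹) * z := by
      calc b * g0 * a * (b * g0)⁻¹ = b * (g0 * a * g0⁻¹) * b⁻¹ := by group
        _ = b * a * (z * b⁻¹) := by rw [hg0]; group
        _ = b * a * (b⁻¹ * z) := by rw [(h.hzc b⁻¹).eq]
        _ = (b * a * b⁻¹) * z := by group
    rcases hconj b with hb | hb
    · refine Or.inr ⟨(key b).2 hb, fun hm => haz' ?_⟩
      have := (key _).1 hm
      rwa [e1, hb] at this
    · refine Or.inl ⟨(key _).2 ?_, fun hm => haz' ?_⟩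
      · rw [e1, hb, mul_assoc, h.hz, mul_one]
      · exact hb.symm.trans ((key b).1 hm)
  have htrans : ∀ u ∈ fix a, u ≠ 0 → ∃ g ∈ H, ρ g u0 = u := by
    intro u hu hun
    obtain ⟨g1, h1, e1, -⟩ := hswap u0 hu0 hu0n w0 hw0 hw0n
    obtain ⟨g2, h2, -, e2⟩ := hswap u hu hun w0 hw0 hw0n
    exact ⟨g2 * g1, by rw [Subgroup.mul_mem_iff_of_index_two hidx]; tauto, by rw [rho_mul, e1, e2]⟩
  letI : MulAction H V :=
    { smul := fun g v => ρ (g : G) v
      one_smul := fun v => rho_one v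
      mul_smul := fun g g' v => rho_mul (g : G) g' v }
  have horb : orbit H u0 = {u : V | u ∈ fix a ∧ u ≠ 0} := by
    ext u
    constructor
    · rintro ⟨g, rfl⟩
      exact ⟨hHU g g.2 u0 hu0, fun e => hu0n ((ρ (g : G)).map_eq_zero_iff.1 e)⟩
    · rintro ⟨hu, hun⟩
      obtain ⟨g, hg, e⟩ := htrans u hu hun
      exact ⟨⟨g, hg⟩, e⟩
  obtain ⟨k, hk⟩ := (h.hG.to_subgroup H).card_orbit u0
  have hk' : Nat.card (fix a) - 1 = 2 ^ k := by
    rw [← hk, horb, Set.coe_setOf, ← Nat.card_congr (Equiv.subtypeSubtypeEquivSubtypeInter (fun u : V => u ∈ fix a)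
      (fun u => u ≠ 0))]
    haveI := Fintype.ofFinite (fix a)
    have : Nat.card {x : fix a // (x : V) ≠ 0} = Nat.card {x : fix a // x ≠ 0} :=
      Nat.card_congr (Equiv.subtypeEquivRight fun x => by simp)
    refine Eq.trans ?_ this.symm
    rw [Nat.card_eq_fintype_card, Nat.card_eq_fintype_card, Fintype.card_subtype_compl,
      Fintype.card_subtype_eq]
  obtain ⟨j, hj⟩ := card_fix_pow h (fix a)
  have hq3 : 3 ≤ q := by
    have := hqf.out.two_le
    have := h.hq2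
    omega
  have hj0 : j ≠ 0 := by
    rintro rfl
    have := Nat.two_pow_pos k
    rw [hj, pow_zero] at hk'
    omega
  rcases exp_one_of_pred (m := k) (hqf.out.odd_of_ne_two h.hq2) hq3 hj0
    (by rw [← hj]; have : 0 < 2 ^ k := Nat.two_pow_pos k; omega) with hj1 | h9
  swap
  · refine Or.inr ⟨?_, ?_⟩
    · rw [hsq, hj, h9]
    · have hd : q ∣ 3 ^ 2 := by
        rw [show 3 ^ 2 = q ^ j by rw [h9]; norm_num]
        exact dvd_pow_self q hj0
      exact (Nat.prime_dvd_prime_iff_eq hqf.out Nat.prime_three).1 (hqf.out.dvd_of_dvd_pow hd)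
  refine Or.inl ⟨?_, ⟨k, ?_⟩, ?_⟩
  · rw [hsq, hj, hj1]; ring
  · rw [hj, hj1, pow_one] at hk'
    omega
  subst hj1
  rw [pow_one] at hj
  have hline : ∀ e ∈ fix a, e ≠ 0 → ∀ u ∈ fix a, ∃ c : ZMod q, c • e = u := by
    intro e he hen u hu
    let f : ZMod q → fix a := fun c => ⟨c • e, Submodule.smul_mem _ c he⟩
    have hfb : Function.Bijective f := by
      refine (Nat.bijective_iff_injective_and_card f).2 ⟨fun c c' ec => ?_, by rw [hj, Nat.card_zmod]⟩
      exact smul_left_injective (ZMod q) hen (congrArg Subtype.val ec)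
    obtain ⟨c, hc⟩ := hfb.2 ⟨u, hu⟩
    exact ⟨c, congrArg Subtype.val hc⟩
  obtain ⟨σ, hσ, hσ0, hσ1⟩ := hswap u0 hu0 hu0n w0 hw0 hw0n
  have hline' : ∀ w ∈ fix (a * z), ∃ c : ZMod q, c • w0 = w := by
    intro w hw
    obtain ⟨c, hc⟩ := hline u0 hu0 hu0n (ρ σ w) (hsU' σ hσ w hw)
    refine ⟨c, (ρ σ).injective ?_⟩
    rw [map_smul, hσ1, hc]
  let L : (Fin 2 → ZMod q) →ₗ[ZMod q] V :=
    { toFun := fun v => v 0 • u0 + v 1 • w0
      map_add' := fun x y => by simp [add_smul]; abel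
      map_smul' := fun c x => by simp [mul_smul, smul_add] }
  have hLb : Function.Bijective L := by
    constructor
    · intro x y e
      obtain ⟨e1, e2⟩ := huniq _ (Submodule.smul_mem _ (x 0) hu0) _ (Submodule.smul_mem _ (x 1) hw0) _
        (Submodule.smul_mem _ (y 0) hu0) _ (Submodule.smul_mem _ (y 1) hw0) e
      funext i
      fin_cases i
      · exact smul_left_injective (ZMod q) hu0n e1
      · exact smul_left_injective (ZMod q) hw0n e2
    · intro v
      obtain ⟨⟨⟨u, hu⟩, ⟨w, hw⟩⟩, rfl⟩ := (h.bijective_add ha).2 v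
      obtain ⟨c, hc⟩ := hline u0 hu0 hu0n u hu
      obtain ⟨c', hc'⟩ := hline' w hw
      exact ⟨![c, c'], by simp [L, hc, hc']⟩
  let e : V ≃ₗ[ZMod q] (Fin 2 → ZMod q) := (LinearEquiv.ofBijective L hLb).symm
  have hLapply : ∀ v, L v = v 0 • u0 + v 1 • w0 := fun v => rfl
  -- the diagonal part
  have hdiag : ∀ g ∈ H, ∀ α β : ZMod q, ρ g u0 = α • u0 → ρ g w0 = β • w0 →
      ∀ v, ρ g (L v) = L ![α * v 0, β * v 1] := by
    intro g _ α β hα hβ v
    simp [hLapply, hα, hβ, smul_smul, mul_comm]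
  have hanti : ∀ g ∈ H, ∀ α β : ZMod q, ρ g u0 = α • u0 → ρ g w0 = β • w0 →
      ∀ v, ρ (σ * g) (L v) = L ![β * v 1, α * v 0] := by
    intro g hg α β hα hβ v
    rw [rho_mul, hdiag g hg α β hα hβ]
    simp [hLapply, hσ0, hσ1, add_comm]
  have hexist : ∀ b : ZMod q, b ≠ 0 → ∃ g ∈ H, ρ g u0 = b • u0 ∧ ρ g w0 = b⁻¹ • w0 := by
    intro b hb
    obtain ⟨g, hg, e1, e2⟩ := hswap u0 hu0 hu0n (b • w0) (Submodule.smul_mem _ b hw0)
      (smul_ne_zero hb hw0n)
    refine ⟨σ * g, by rw [Subgroup.mul_mem_iff_of_index_two hidx]; tauto, ?_, ?_⟩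
    · rw [rho_mul, e1, map_smul, hσ1]
    · have : ρ g w0 = b⁻¹ • u0 := by
        rw [← e2, map_smul, smul_smul, inv_mul_cancel₀ hb, one_smul]
      rw [rho_mul, this, map_smul, hσ0]
  have haH : a ∈ H := (hH a).2 rfl
  have hsign : ∀ g ∈ H, ∀ β : ZMod q, ρ g u0 = u0 → ρ g w0 = β • w0 → β = 1 ∨ β = -1 := by
    intro g hg β e1 e2
    have hfa : ∀ x : {x : G // ρ x u0 = u0}, x.1 ∈ H := fun x => by
      by_contra hx
      exact hu0n (hdisj u0 hu0 (by have := hsU x.1 hx u0 hu0; rwa [x.2] at this))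
    have hfaith : ∀ x ∈ H, ∀ y ∈ H, ρ x u0 = ρ y u0 → ρ x w0 = ρ y w0 → x = y := by
      intro x _ y _ h1 h2
      refine h.hρ (LinearEquiv.ext fun v => ?_)
      obtain ⟨c, rfl⟩ := hLb.2 v
      simp [hLapply, h1, h2]
    -- stabilisers have order two
    have hcard : Nat.card {x : G // ρ x u0 = u0} ≤ 2 := by
      have huwn : u0 + w0 ≠ 0 := fun e => hu0n (hdisj u0 hu0 (by
        rw [show u0 = -w0 from eq_neg_of_add_eq_zero_left e]
        exact neg_mem hw0))
      rw [h.hconst u0 _ hu0n huwn]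
      have hsub : ∀ x : {x : G // ρ x (u0 + w0) = u0 + w0},
          x.1 ∈ ({1, σ} : Finset G) := by
        intro x
        have hx := x.2
        rw [map_add] at hx
        rw [Finset.mem_insert, Finset.mem_singleton]
        by_cases hxH : x.1 ∈ H
        · obtain ⟨a1, a2⟩ := huniq _ (hHU _ hxH u0 hu0) _ (hHU' _ hxH w0 hw0) u0 hu0 w0 hw0 hx
          exact Or.inl (hfaith _ hxH 1 (one_mem H) (by rw [a1, rho_one]) (by rw [a2, rho_one]))
        · rw [add_comm] at hx
          obtain ⟨a1, a2⟩ := huniq _ (hsU' _ hxH w0 hw0) _ (hsU _ hxH u0 hu0) u0 hu0 w0 hw0 hx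
          refine Or.inr ?_
          have hm : σ * x.1 ∈ H := by rw [Subgroup.mul_mem_iff_of_index_two hidx]; tauto
          have hx1 : σ * x.1 = 1 := hfaith _ hm 1 (one_mem H)
            (by rw [rho_mul, a2, hσ1, rho_one]) (by rw [rho_mul, a1, hσ0, rho_one])
          have hs1 : σ * σ = 1 := hfaith _
            (by rw [Subgroup.mul_mem_iff_of_index_two hidx]) 1 (one_mem H)
            (by rw [rho_mul, hσ0, hσ1, rho_one]) (by rw [rho_mul, hσ1, hσ0, rho_one])
          exact mul_left_cancel (hx1.trans hs1.symm)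
      calc Nat.card {x : G // ρ x (u0 + w0) = u0 + w0} ≤ Nat.card ({1, σ} : Finset G) :=
            Nat.card_le_card_of_injective (fun x => (⟨x.1, hsub x⟩ : ({1, σ} : Finset G)))
              (fun x y e => Subtype.ext (Subtype.ext_iff.1 e :))
        _ ≤ 2 := by
          rw [Nat.card_eq_fintype_card, Fintype.card_coe]
          exact Finset.card_le_two
    by_contra hc
    push Not at hc
    have h1ne : (⟨1, rho_one u0⟩ : {x : G // ρ x u0 = u0}) ≠ ⟨a, hfs.1 hu0⟩ :=
      fun e => ha1 (congrArg Subtype.val e).symm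
    have hg1 : g ≠ 1 := fun e => hc.1 (smul_left_injective (ZMod q) hw0n (by
      show β • w0 = (1 : ZMod q) • w0
      rw [one_smul, ← e2, e, rho_one]))
    have hga : g ≠ a := fun e => hc.2 (smul_left_injective (ZMod q) hw0n (by
      show β • w0 = (-1 : ZMod q) • w0
      rw [neg_one_smul, ← e2, e, hU'.1 hw0]))
    haveI := Fintype.ofFinite {x : G // ρ x u0 = u0}
    rw [Nat.card_eq_fintype_card] at hcard
    have h3 : 2 < Fintype.card {x : G // ρ x u0 = u0} :=
      Fintype.two_lt_card_iff.2 ⟨⟨1, rho_one u0⟩, ⟨a, hfs.1 hu0⟩, ⟨g, e1⟩, h1ne,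
        fun e => hg1 (congrArg Subtype.val e).symm, fun e => hga (congrArg Subtype.val e).symm⟩
    omega
  refine ⟨e, fun f => ⟨?_, ?_⟩⟩
  · rintro ⟨g, rfl⟩
    have hcomp : ∀ (g : G) (w : Fin 2 → ZMod q) (v : Fin 2 → ZMod q),
        ρ g (L v) = L w → (e.symm.trans ((ρ g).trans e)) v = w := by
      intro g w v hw
      show e (ρ g (e.symm v)) = w
      rw [show e.symm v = L v from rfl, hw]
      exact (LinearEquiv.ofBijective L hLb).symm_apply_apply w
    have hform : ∀ x ∈ H, ∃ α β : ZMod q, α ≠ 0 ∧ ρ x u0 = α • u0 ∧ ρ x w0 = β • w0 ∧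
        ∃ s : ZMod q, (s = 1 ∨ s = -1) ∧ β = s * α⁻¹ := by
      intro x hx
      obtain ⟨α, hα⟩ := hline u0 hu0 hu0n _ (hHU x hx u0 hu0)
      obtain ⟨β, hβ⟩ := hline' _ (hHU' x hx w0 hw0)
      have hα0 : α ≠ 0 := by
        rintro rfl
        rw [zero_smul] at hα
        exact hu0n ((ρ x).map_eq_zero_iff.1 hα.symm)
      obtain ⟨y, hy, y1, y2⟩ := hexist α⁻¹ (inv_ne_zero hα0)
      rw [inv_inv] at y2
      have := hsign (y * x) (mul_mem hy hx) (α * β)
        (by rw [rho_mul, ← hα, map_smul, y1, smul_smul, mul_inv_cancel₀ hα0, one_smul])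
        (by rw [rho_mul, ← hβ, map_smul, y2, smul_smul, mul_comm])
      refine ⟨α, β, hα0, hα.symm, hβ.symm, α * β, this, ?_⟩
      field_simp
    by_cases hgH : g ∈ H
    · obtain ⟨α, β, hα0, hα, hβ, s, hs, rfl⟩ := hform g hgH
      exact ⟨α, s, hα0, hs, Or.inl fun v => hcomp g _ v (hdiag g hgH α _ hα hβ v)⟩
    · have hm : σ⁻¹ * g ∈ H := by
        rw [Subgroup.mul_mem_iff_of_index_two hidx, inv_mem_iff]; tauto
      obtain ⟨α, β, hα0, hα, hβ, s, hs, rfl⟩ := hform _ hm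
      refine ⟨α, s, hα0, hs, Or.inr fun v => hcomp g _ v ?_⟩
      have := hanti _ hm α _ hα hβ v
      rwa [mul_inv_cancel_left] at this
  · rintro ⟨b, s, hb, hs, hf⟩
    obtain ⟨y, hy, y1, y2⟩ := hexist b hb
    obtain ⟨x, hx, x1, x2⟩ : ∃ x ∈ H, ρ x u0 = b • u0 ∧ ρ x w0 = (s * b⁻¹) • w0 := by
      rcases hs with rfl | rfl
      · exact ⟨y, hy, y1, by rw [one_mul]; exact y2⟩
      · refine ⟨y * a, mul_mem hy haH, by rw [rho_mul, hfs.1 hu0, y1], ?_⟩
        rw [rho_mul, hU'.1 hw0, map_neg, y2, neg_one_mul, neg_smul]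
    rcases hf with hf | hf
    · refine ⟨x, LinearEquiv.ext fun v => ?_⟩
      rw [hf v]
      show _ = e (ρ x (e.symm v))
      rw [show e.symm v = L v from rfl, hdiag x hx _ _ x1 x2]
      exact ((LinearEquiv.ofBijective L hLb).symm_apply_apply _).symm
    · refine ⟨σ * x, LinearEquiv.ext fun v => ?_⟩
      rw [hf v]
      show _ = e (ρ (σ * x) (e.symm v))
      rw [show e.symm v = L v from rfl, hanti x hx _ _ x1 x2]
      exact ((LinearEquiv.ofBijective L hLb).symm_apply_apply _).symm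

end Half

end Cfsg.Agent.Components.HalfTrans
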