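import Cfsg.Agent.Lib.Components.Layer
import Mathlib.GroupTheory.SchurZassenhaus

/-!
`p`-components and the `p`-layer.  Throughout `R = O_{p'}(G)` and `K̄` is the image in `G ⧸ R`.

* `pGen p H`: the subgroup generated by the `p`-elements of `H` (`O^{p'}(H)` for finite `H`);
* `component_dvd_card`: with `O_{p'}(G) = 1` every component has order divisible by `p`;
* `isPComponent_iff`: the `p`-components are the `pGen` of the preimages of the components of `G ⧸ R`;
* `pcomp_*`: perfect, order divisible by `p`, cores, normalized by the `p`-layer, pairwise commutators.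
-/

set_option autoImplicit false

namespace Cfsg.Agent.Components.PComponents

open Subgroup
open Cfsg.Agent.Components.Basic Cfsg.Agent.Components.Fitting

universe u

variable {G : Type u} [Group G] {p : ℕ}

/-! ### Cores and subnormal subgroups -/

/-- A subnormal subgroup of order prime to `p` lies in the `p'`-core. -/
lemma le_pPrimeCore_of_isSubnormal [Finite G] {H : Subgroup G} (hH : H.IsSubnormal)
    (hc : (Nat.card H).Coprime p) : H ≤ Cfsg.pPrimeCore p G := by
  induction hd : Nat.card G using Nat.strong_induction_on generalizing G with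
  | _ n ih =>
    subst hd
    rcases hH.lt_normal with rfl | ⟨M, hM, hHM, hMlt⟩
    · exact Cores.le_pPrimeCore hc
    · have hlt : Nat.card M < Nat.card G :=
        lt_of_le_of_ne (Subgroup.card_le_card_group M)
          (fun h => hMlt.ne (Subgroup.eq_top_of_card_eq M h))
      have hc' : (Nat.card (H.subgroupOf M)).Coprime p := by
        rwa [Nat.card_congr (subgroupOfEquivOfLe hHM).toEquiv]
      have h := Subgroup.map_mono (f := M.subtype) (ih _ hlt (hH.subgroupOf (K := M)) hc' rfl)
      rw [map_subgroupOf_eq_of_le hHM] at h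
      exact h.trans (Cores.map_pPrimeCore_subtype_le p M)

lemma map_pPrimeCore_le_of_isSubnormal [Finite G] {H : Subgroup G} (hH : H.IsSubnormal) :
    (Cfsg.pPrimeCore p H).map H.subtype ≤ Cfsg.pPrimeCore p G ⊓ H := by
  refine le_inf (le_pPrimeCore_of_isSubnormal ?_ ?_) (map_subtype_le _)
  · exact (isSubnormal_map_subtype_iff hH _).mpr (Cores.pPrimeCore_normal (G := H) p).isSubnormal
  · rw [Subgroup.card_map_of_injective H.subtype_injective]
    exact Cores.pPrimeCore_card_coprime p

/-- The `p'`-core of a subnormal subgroup `H` is `O_{p'}(G) ⊓ H`. -/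
lemma map_pPrimeCore_subtype [Finite G] {H : Subgroup G} (hH : H.IsSubnormal) :
    (Cfsg.pPrimeCore p H).map H.subtype = Cfsg.pPrimeCore p G ⊓ H := by
  refine le_antisymm (map_pPrimeCore_le_of_isSubnormal hH) ?_
  rw [← subgroupOf_map_subtype]
  exact Subgroup.map_mono (Cores.pPrimeCore_subgroupOf_le p H)

lemma fitting_le_pCore [Finite G] [hp : Fact p.Prime] (hO : Cfsg.pPrimeCore p G = ⊥) :
    Cfsg.fittingSubgroup G ≤ Cfsg.pCore p G := by
  rw [fitting_eq_coreJoin]
  refine (coreJoin_le_sup p).trans ?_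
  rw [hO, sup_bot_eq]

lemma fitting_eq_pCore [Finite G] [hp : Fact p.Prime] (hO : Cfsg.pPrimeCore p G = ⊥) :
    Cfsg.fittingSubgroup G = Cfsg.pCore p G :=
  le_antisymm (fitting_le_pCore hO) (pCore_le_fitting p)

/-- With `O_{p'}(G) = 1` every component has order divisible by `p`. -/
lemma component_dvd_card [Finite G] [hp : Fact p.Prime] (hO : Cfsg.pPrimeCore p G = ⊥)
    {L : Subgroup G} (hL : Cfsg.IsComponent L) : p ∣ Nat.card L := by
  by_contra h
  exact component_ne_bot hL (le_bot_iff.mp (hO ▸ le_pPrimeCore_of_isSubnormal hL.1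
    (Nat.coprime_comm.mp (hp.out.coprime_iff_not_dvd.mpr h))))

lemma isPGroup_center_component [Finite G] [hp : Fact p.Prime] (hO : Cfsg.pPrimeCore p G = ⊥)
    {L : Subgroup G} (hL : Cfsg.IsComponent L) : IsPGroup p (Subgroup.center L) := by
  have hle : (Subgroup.center L).map L.subtype ≤ Cfsg.pCore p G :=
    (le_fitting_of_isSubnormal
      ((isSubnormal_map_subtype_iff hL.1 _).mpr (Subgroup.Normal.isSubnormal inferInstance))
      (@Group.nilpotent_of_mulEquiv _ _ _ _ (isNilpotent_of_isMulCommutative (Subgroup.center L)) (equivMapOfInjective _ L.subtype L.subtype_injective))).trans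
      (fitting_le_pCore hO)
  exact ((Cores.pCore_isPGroup p).to_le hle).of_equiv
    (equivMapOfInjective _ L.subtype L.subtype_injective).symm

/-- With `O_{p'}(G) = 1`, a normal subgroup of `p'`-index in a component is the whole component. -/
lemma component_eq_top_of_coprime_index [Finite G] [hp : Fact p.Prime]
    (hO : Cfsg.pPrimeCore p G = ⊥) {L : Subgroup G} (hL : Cfsg.IsComponent L) (N : Subgroup L)
    [N.Normal] (hN : N.index.Coprime p) : N = ⊤ := by
  refine (quasisimple_eq_top_or_le_center_of_normal hL.2 N).resolve_right fun hle => ?_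
  have hidx : (Subgroup.center L).index.Coprime p :=
    hN.coprime_dvd_left (index_dvd_of_le hle)
  obtain ⟨n, hn⟩ := IsPGroup.iff_card.1 (isPGroup_center_component hO hL)
  have hco : (Nat.card (Subgroup.center L)).Coprime (Subgroup.center L).index := by
    rw [hn]
    exact (hidx.symm).pow_left n
  obtain ⟨C, hC⟩ := exists_right_complement'_of_coprime hco
  have hsup : C ⊔ Subgroup.center L = ⊤ := by rw [sup_comm]; exact hC.sup_eq_top
  have hCn : C.Normal := by
    rw [← normalizer_eq_top_iff, eq_top_iff, ← hsup]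
    refine sup_le le_normalizer ?_
    exact le_trans (fun z hz => mem_centralizer_iff.mpr fun c _ => Subgroup.mem_center_iff.mp hz c)
      (centralizer_le_normalizer _)
  have htop : C = ⊤ := by
    have := Subgroup.Normal.commutator_le_of_self_sup_commutative_eq_top hsup inferInstance
    rwa [hL.2.1.commutator_eq_top, top_le_iff] at this
  have hbot : Subgroup.center L = ⊥ := by
    have := hC.disjoint.eq_bot
    rwa [htop, inf_top_eq] at this
  have hcard : (Nat.card L).Coprime p := by
    rw [hbot, index_bot] at hidx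
    exact hidx
  exact hp.out.coprime_iff_not_dvd.mp hcard.symm (component_dvd_card hO hL)

/-! ### The subgroup generated by the `p`-elements -/

/-- The subgroup generated by the `p`-elements of `H`. -/
def pGen (p : ℕ) (H : Subgroup G) : Subgroup G :=
  closure {x : G | x ∈ H ∧ ∃ k : ℕ, x ^ p ^ k = 1}

lemma pGen_le (H : Subgroup G) : pGen p H ≤ H :=
  (closure_le _).mpr fun _ h => h.1

lemma map_pGen_le {G' : Type*} [Group G'] (f : G →* G') (H : Subgroup G) :
    (pGen p H).map f ≤ pGen p (H.map f) := by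
  rw [map_le_iff_le_comap]
  refine (closure_le _).mpr ?_
  rintro x ⟨hx, k, hk⟩
  exact subset_closure ⟨⟨x, hx, rfl⟩, k, by rw [← map_pow, hk, map_one]⟩

lemma normalizer_le_normalizer_pGen (H : Subgroup G) :
    normalizer (H : Set G) ≤ normalizer (pGen p H : Set G) := by
  intro g hg
  have key : ∀ g : G, g ∈ normalizer (H : Set G) →
      (pGen p H).map (MulAut.conj g).toMonoidHom ≤ pGen p H := by
    intro g hg
    refine (map_pGen_le _ _).trans (le_of_eq ?_)
    rw [show H.map (MulAut.conj g).toMonoidHom = H from mem_normalizer_iff_map_conj_eq.mp hg]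
  rw [mem_normalizer_iff]
  intro x
  constructor
  · intro hx
    exact key g hg ⟨x, hx, rfl⟩
  · intro hx
    have := key g⁻¹ (inv_mem hg) ⟨_, hx, rfl⟩
    simpa [mul_assoc] using this

lemma pGen_subgroupOf_normal (H : Subgroup G) : ((pGen p H).subgroupOf H).Normal :=
  normal_subgroupOf_of_le_normalizer (le_normalizer.trans (normalizer_le_normalizer_pGen H))

/-- The index of `pGen p H` in `H` is prime to `p`. -/
lemma coprime_relIndex_pGen [Finite G] [hp : Fact p.Prime] (H : Subgroup G) :
    ((pGen p H).relIndex H).Coprime p := by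
  obtain ⟨P⟩ := (inferInstance : Nonempty (Sylow p H))
  have hPle : (P : Subgroup H) ≤ (pGen p H).subgroupOf H := fun x hx => by
    obtain ⟨k, hk⟩ := P.isPGroup' ⟨x, hx⟩
    exact subset_closure ⟨x.2, k, congrArg Subtype.val (congrArg Subtype.val hk)⟩
  rw [Nat.coprime_comm, hp.out.coprime_iff_not_dvd]
  exact fun h => P.not_dvd_index (h.trans (index_dvd_of_le hPle))

/-- A subnormal subgroup of index prime to `p` contains all `p`-elements. -/
lemma mem_of_isSubnormal_of_coprime_index [Finite G] {A : Subgroup G} (hA : A.IsSubnormal)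
    (hc : A.index.Coprime p) {x : G} {k : ℕ} (hx : x ^ p ^ k = 1) : x ∈ A := by
  induction hA with
  | top => exact mem_top x
  | step A K hle _ hN ih =>
    have hxK : x ∈ K := ih (hc.coprime_dvd_left (index_dvd_of_le hle))
    have h1 : ((⟨x, hxK⟩ : K) : K ⧸ A.subgroupOf K) = 1 := by
      rw [← orderOf_eq_one_iff]
      have hd1 : orderOf ((⟨x, hxK⟩ : K) : K ⧸ A.subgroupOf K) ∣ p ^ k :=
        orderOf_dvd_of_pow_eq_one (by
          rw [← QuotientGroup.mk_pow, show (⟨x, hxK⟩ : K) ^ p ^ k = 1 from Subtype.ext hx]; rfl)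
      have hd2 : orderOf ((⟨x, hxK⟩ : K) : K ⧸ A.subgroupOf K) ∣ A.index :=
        (_root_.orderOf_dvd_natCard _).trans (Dvd.intro _ (relIndex_mul_index hle))
      exact Nat.eq_one_of_dvd_coprimes (hc.pow_right k) hd2 hd1
    exact (QuotientGroup.eq_one_iff (N := A.subgroupOf K) (⟨x, hxK⟩ : K)).mp h1

/-- A subnormal subgroup `A ≤ H` with the same image as `H` modulo a `p'`-group contains `pGen p H`. -/
lemma pGen_le_of_map_eq [Finite G] (R : Subgroup G) [R.Normal] (hR : (Nat.card R).Coprime p)
    {A H : Subgroup G} (hAH : A ≤ H) (hA : A.IsSubnormal)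
    (h : A.map (QuotientGroup.mk' R) = H.map (QuotientGroup.mk' R)) : pGen p H ≤ A := by
  refine (closure_le _).mpr ?_
  rintro x ⟨hx, k, hk⟩
  have hle : H ≤ A ⊔ R := by
    have := congrArg (Subgroup.comap (QuotientGroup.mk' R)) h
    rw [comap_map_eq, comap_map_eq, QuotientGroup.ker_mk'] at this
    exact this ▸ le_sup_left
  have hidx : (A.subgroupOf H).index.Coprime p := by
    refine hR.coprime_dvd_left ?_
    have h1 : Nat.card H ∣ Nat.card A * Nat.card R :=
      (card_dvd_of_le hle).trans (Cores.card_sup_dvd_mul A R)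
    rw [← (A.subgroupOf H).card_mul_index, Nat.card_congr (subgroupOfEquivOfLe hAH).toEquiv] at h1
    exact Nat.dvd_of_mul_dvd_mul_left Nat.card_pos h1
  exact mem_of_isSubnormal_of_coprime_index (hA.subgroupOf (K := H)) hidx
    (x := ⟨x, hx⟩) (k := k) (Subtype.ext hk)

/-! ### `p`-components -/

/-- `K` determined by its image: the subgroup generated by the `p`-elements of the preimage. -/
def liftComp (p : ℕ) (Kbar : Subgroup (G ⧸ Cfsg.pPrimeCore p G)) : Subgroup G :=
  pGen p (Kbar.comap (QuotientGroup.mk' (Cfsg.pPrimeCore p G)))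

variable [Finite G] [hp : Fact p.Prime]

lemma liftComp_isSubnormal {Kbar : Subgroup (G ⧸ Cfsg.pPrimeCore p G)}
    (h : Cfsg.IsComponent Kbar) : (liftComp p Kbar).IsSubnormal :=
  IsSubnormal.trans (pGen_le _) (pGen_subgroupOf_normal _).isSubnormal (h.1.comap _)

lemma map_liftComp {Kbar : Subgroup (G ⧸ Cfsg.pPrimeCore p G)} (h : Cfsg.IsComponent Kbar) :
    (liftComp p Kbar).map (QuotientGroup.mk' (Cfsg.pPrimeCore p G)) = Kbar := by
  set q := QuotientGroup.mk' (Cfsg.pPrimeCore p G) with hq
  set H := Kbar.comap q with hH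
  have hHK : H.map q = Kbar := map_comap_eq_self_of_surjective (QuotientGroup.mk'_surjective _) _
  have hle : (pGen p H).map q ≤ Kbar := (Subgroup.map_mono (pGen_le H)).trans hHK.le
  have hn : (((pGen p H).map q).subgroupOf Kbar).Normal := by
    refine normal_subgroupOf_of_le_normalizer ?_
    rw [← hHK]
    exact (Subgroup.map_mono (le_normalizer.trans (normalizer_le_normalizer_pGen H))).trans
      (le_normalizer_map q)
  have hidx : (((pGen p H).map q).subgroupOf Kbar).index.Coprime p := by
    refine (coprime_relIndex_pGen H).coprime_dvd_left ?_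
    show ((pGen p H).map q).relIndex Kbar ∣ (pGen p H).relIndex H
    rw [← hHK]
    rw [relIndex_map_map]
    rw [show H ⊔ q.ker = H from sup_eq_left.mpr (Subgroup.ker_le_comap q Kbar)]
    exact relIndex_dvd_of_le_left H le_sup_left
  exact le_antisymm hle
    (subgroupOf_eq_top.mp (component_eq_top_of_coprime_index (Cores.pPrimeCore_quotient_self p) h
      (((pGen p H).map q).subgroupOf Kbar) hidx))

lemma isPComponent_liftComp {Kbar : Subgroup (G ⧸ Cfsg.pPrimeCore p G)}
    (h : Cfsg.IsComponent Kbar) : Cfsg.IsPComponent p (liftComp p Kbar) := by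
  refine ⟨liftComp_isSubnormal h, by rw [map_liftComp h]; exact h, fun A hA hle hmap => ?_⟩
  refine le_antisymm hle (pGen_le_of_map_eq _ (Cores.pPrimeCore_card_coprime p)
    (hle.trans (pGen_le _)) hA ?_)
  rw [hmap, map_liftComp h, map_comap_eq_self_of_surjective (QuotientGroup.mk'_surjective _)]

lemma pcomp_eq_liftComp {K : Subgroup G} (hK : Cfsg.IsPComponent p K) :
    K = liftComp p (K.map (QuotientGroup.mk' (Cfsg.pPrimeCore p G))) := by
  have hle : liftComp p (K.map (QuotientGroup.mk' (Cfsg.pPrimeCore p G))) ≤ K := by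
    refine pGen_le_of_map_eq _ (Cores.pPrimeCore_card_coprime p) (le_comap_map _ _) hK.1 ?_
    rw [map_comap_eq_self_of_surjective (QuotientGroup.mk'_surjective _)]
  exact (hK.2.2 _ (liftComp_isSubnormal hK.2.1) hle (map_liftComp hK.2.1)).symm

lemma isPComponent_iff {K : Subgroup G} : Cfsg.IsPComponent p K ↔
    ∃ Kbar, Cfsg.IsComponent Kbar ∧ liftComp p Kbar = K :=
  ⟨fun hK => ⟨_, hK.2.1, (pcomp_eq_liftComp hK).symm⟩,
    fun ⟨_, h, e⟩ => e ▸ isPComponent_liftComp h⟩

lemma pcomp_ext {K L : Subgroup G} (hK : Cfsg.IsPComponent p K) (hL : Cfsg.IsPComponent p L)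
    (h : K.map (QuotientGroup.mk' (Cfsg.pPrimeCore p G)) =
      L.map (QuotientGroup.mk' (Cfsg.pPrimeCore p G))) : K = L := by
  rw [pcomp_eq_liftComp hK, pcomp_eq_liftComp hL, h]

lemma map_pLayer : (Cfsg.pLayer p G).map (QuotientGroup.mk' (Cfsg.pPrimeCore p G)) =
    Cfsg.layer (G ⧸ Cfsg.pPrimeCore p G) := by
  apply le_antisymm
  · rw [map_le_iff_le_comap]
    exact sSup_le fun K hK => map_le_iff_le_comap.mp (le_layer hK.2.1)
  · refine layer_le fun Kbar h => ?_
    rw [← map_liftComp h]
    exact Subgroup.map_mono (le_sSup (isPComponent_liftComp h))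

lemma pLayer_eq_bot_iff :
    Cfsg.pLayer p G = ⊥ ↔ Cfsg.layer (G ⧸ Cfsg.pPrimeCore p G) = ⊥ := by
  constructor
  · intro h
    rw [← map_pLayer, h, Subgroup.map_bot]
  · intro h
    refine le_bot_iff.mp (sSup_le fun K hK => ?_)
    exact absurd hK.2.1 (layer_eq_bot_iff.mp h _)

lemma pcomp_perfect {K : Subgroup G} (hK : Cfsg.IsPComponent p K) : ⁅K, K⁆ = K :=
  hK.2.2 _ (IsSubnormal.trans (commutator_le_self K)
      (normal_subgroupOf_of_le_normalizer (normalizer_commutator_ge_left K K)).isSubnormal hK.1)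
    (commutator_le_self K) (by rw [map_commutator]; exact component_commutator_self hK.2.1)

lemma pcomp_dvd_card {K : Subgroup G} (hK : Cfsg.IsPComponent p K) : p ∣ Nat.card K :=
  (component_dvd_card (Cores.pPrimeCore_quotient_self p) hK.2.1).trans (K.card_map_dvd _)

lemma pcomp_ne_bot {K : Subgroup G} (hK : Cfsg.IsPComponent p K) : K ≠ ⊥ := fun h =>
  component_ne_bot hK.2.1 (by rw [h, Subgroup.map_bot])

/-- `O_{p'}(K) = O_{p'}(G) ⊓ K`. -/
lemma pcomp_core {K : Subgroup G} (hK : Cfsg.IsPComponent p K) :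
    (Cfsg.pPrimeCore p K).map K.subtype = Cfsg.pPrimeCore p G ⊓ K :=
  map_pPrimeCore_subtype hK.1

/-- A subnormal subgroup inside a `p`-component is the component or is central modulo `O_{p'}(G)`. -/
lemma pcomp_eq_or_commutator_le {K : Subgroup G} (hK : Cfsg.IsPComponent p K) {A : Subgroup G}
    (hAK : A ≤ K) (hA : A.IsSubnormal) : A = K ∨ ⁅A, K⁆ ≤ Cfsg.pPrimeCore p G ⊓ K := by
  set q := QuotientGroup.mk' (Cfsg.pPrimeCore p G)
  have hle : A.map q ≤ K.map q := Subgroup.map_mono hAK
  rcases quasisimple_eq_top_or_le_center_of_isSubnormal hK.2.1.2 ((A.map q).subgroupOf (K.map q))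
    (hA.quotient).subgroupOf with h | h
  · exact Or.inl (hK.2.2 A hA hAK (le_antisymm hle (subgroupOf_eq_top.mp h)))
  · right
    refine le_inf ?_ ((commutator_mono hAK le_rfl).trans (commutator_le_self K))
    have h0 : ⁅A.map q, K.map q⁆ = ⊥ := by
      rw [commutator_eq_bot_iff_le_centralizer]
      intro a ha
      rw [mem_centralizer_iff]
      intro b hb
      exact congrArg Subtype.val (Subgroup.mem_center_iff.mp (h (show ⟨a, hle ha⟩ ∈ _ from ha)) ⟨b, hb⟩)
    rw [← map_commutator, Subgroup.map_eq_bot_iff, QuotientGroup.ker_mk'] at h0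
    exact h0

/-- The `p`-layer normalizes every `p`-component. -/
lemma pLayer_le_normalizer {K : Subgroup G} (hK : Cfsg.IsPComponent p K) :
    Cfsg.pLayer p G ≤ normalizer (K : Set G) := by
  intro g hg
  set q := QuotientGroup.mk' (Cfsg.pPrimeCore p G)
  have h1 : q g ∈ normalizer (K.map q : Set _) :=
    layer_le_normalizer hK.2.1 ((map_pLayer (G := G) (p := p)) ▸ (⟨g, hg, rfl⟩ : q g ∈ (Cfsg.pLayer p G).map q))
  have h2 : g ∈ normalizer (((K.map q).comap q : Subgroup G) : Set G) :=
    le_normalizer_comap q h1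
  rw [pcomp_eq_liftComp hK]
  exact normalizer_le_normalizer_pGen _ h2

lemma commutator_pcomp_le_core {K L : Subgroup G} (hK : Cfsg.IsPComponent p K)
    (hL : Cfsg.IsPComponent p L) (hne : K ≠ L) : ⁅K, L⁆ ≤ Cfsg.pPrimeCore p G ⊓ (K ⊓ L) := by
  have hKL : K ≤ normalizer (L : Set G) := le_trans (le_sSup hK) (pLayer_le_normalizer hL)
  have hLK : L ≤ normalizer (K : Set G) := le_trans (le_sSup hL) (pLayer_le_normalizer hK)
  refine le_inf ?_ (le_inf (le_normalizer_iff_commutator_le_left.mp hLK)
    (le_normalizer_iff_commutator_le_right.mp hKL))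
  have h0 := component_commutator_eq_bot_of_ne hK.2.1 hL.2.1 fun h => hne (pcomp_ext hK hL h)
  rw [← map_commutator, Subgroup.map_eq_bot_iff, QuotientGroup.ker_mk'] at h0
  exact h0

/-- A `p`-component `K` is quasisimple exactly when it centralizes `O_{p'}(K)`. -/
lemma pcomp_isQuasisimple_iff {K : Subgroup G} (hK : Cfsg.IsPComponent p K) :
    Cfsg.IsQuasisimple K ↔ ⁅K, Cfsg.pPrimeCore p G ⊓ K⁆ = ⊥ := by
  constructor
  · intro hq
    rcases component_le_or_commutator_eq_bot (⟨hK.1, hq⟩ : Cfsg.IsComponent K)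
      ((inferInstance : (Cfsg.pPrimeCore p G).Normal).isSubnormal.inf hK.1) with h | h
    · exfalso
      refine component_ne_bot hK.2.1 (le_bot_iff.mp ?_)
      rw [← QuotientGroup.map_mk'_self (Cfsg.pPrimeCore p G)]
      exact Subgroup.map_mono (h.trans inf_le_left)
    · exact h
  · intro h
    refine isQuasisimple_of_normal (Subgroup.isPerfect_iff.mpr (pcomp_perfect hK))
      ((Subgroup.nontrivial_iff_ne_bot K).mpr (pcomp_ne_bot hK)) fun N hN => ?_
    rcases pcomp_eq_or_commutator_le hK (map_subtype_le N)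
      ((isSubnormal_map_subtype_iff hK.1 N).mpr hN.isSubnormal) with h1 | h1
    · left
      rw [← map_subtype_inj, h1, ← MonoidHom.range_eq_map, range_subtype]
    · right
      have h2 : ⁅K, N.map K.subtype⁆ = ⊥ := by
        apply commutator_eq_bot_of_perfect (pcomp_perfect hK)
        rw [commutator_comm ⁅K, N.map K.subtype⁆, commutator_comm K (N.map K.subtype)]
        exact le_bot_iff.mp ((commutator_mono le_rfl h1).trans h.le)
      intro n hn
      rw [Subgroup.mem_center_iff]
      intro g
      exact Subtype.ext (mem_centralizer_iff.mp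
        (commutator_eq_bot_iff_le_centralizer.mp h2 g.2) (n : G) ⟨n, hn, rfl⟩).symm

end Cfsg.Agent.Components.PComponents
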