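import Cfsg.Agent.Lib.Components.QuotientDelta
import Cfsg.Agent.Lib.Coprime.Commutator

/-!
Solvable `p'`-groups generated by a compatible family indexed by the large subgroups of an
elementary abelian group of operators.
-/

set_option autoImplicit false
set_option linter.style.haveILetI false
set_option linter.unusedSectionVars false

namespace Cfsg.Agent.Components.KBalance

open Subgroup
open scoped commutatorElement

variable {G : Type*} [Group G] [Finite G] {p k : ℕ} [hp : Fact p.Prime]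

omit [Finite G] hp in
/-- The fixed points of `D` and of `E` are fixed by `D ⊔ E`. -/
lemma mem_centralizer_sup {D E : Subgroup G} {x : G} (hD : x ∈ centralizer (D : Set G))
    (hE : x ∈ centralizer (E : Set G)) : x ∈ centralizer ((D ⊔ E : Subgroup G) : Set G) := by
  have hle : D ⊔ E ≤ centralizer (zpowers x : Set G) :=
    sup_le (le_centralizer_iff.mp (zpowers_le.mpr hD)) (le_centralizer_iff.mp (zpowers_le.mpr hE))
  exact zpowers_le.mp (le_centralizer_iff.mp hle)

/-- A hyperplane of an elementary abelian group is large, and so is the meet of two of them. -/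
lemma card_le_of_hyperplane {A : Subgroup G} (hAk : p ^ (k + 2) ≤ Nat.card A) {F₁ F₂ : Subgroup G}
    (h1 : F₁ ≤ A) (hF1 : F₁.relIndex A = p) (hF2 : F₂.relIndex A = p) :
    p ^ k ≤ Nat.card ↥(F₁ ⊓ F₂) := by
  have h := relIndex_inf_le (H := F₁) (K := F₂) (L := A)
  rw [hF1, hF2] at h
  have hc : Nat.card ↥(F₁ ⊓ F₂) * (F₁ ⊓ F₂).relIndex A = Nat.card A := by
    rw [← relIndex_bot_left, ← relIndex_bot_left A]
    exact relIndex_mul_relIndex _ _ _ bot_le (inf_le_left.trans h1)
  have h2 : p ^ k * (p * p) ≤ Nat.card ↥(F₁ ⊓ F₂) * (p * p) := by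
    calc p ^ k * (p * p) = p ^ (k + 2) := by ring
      _ ≤ Nat.card A := hAk
      _ = Nat.card ↥(F₁ ⊓ F₂) * (F₁ ⊓ F₂).relIndex A := hc.symm
      _ ≤ _ := Nat.mul_le_mul_left _ h
  exact Nat.le_of_mul_le_mul_right h2 (Nat.mul_pos hp.out.pos hp.out.pos)

lemma card_hyperplane {A F : Subgroup G} (hAk : p ^ (k + 2) ≤ Nat.card A)
    (h1 : F ≤ A) (hF : F.relIndex A = p) : p ^ k ≤ Nat.card F :=
  (card_le_of_hyperplane hAk h1 hF hF).trans (le_of_eq (by rw [inf_idem]))

/-- `[X, Y] ≤ M` when it holds on generating sets and `Y`, `X` normalize `M`. -/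
lemma commutator_iSup_le {ι : Type*} (X : ι → Subgroup G) {M : Subgroup G}
    (hn : ∀ i, X i ≤ normalizer (M : Set G))
    (h : ∀ i j, ∀ x ∈ X i, ∀ y ∈ X j, ⁅x, y⁆ ∈ M) : ⁅⨆ i, X i, ⨆ i, X i⁆ ≤ M := by
  classical
  set N := normalizer (M : Set G) with hN
  have hnM : (⨆ i, X i) ≤ N := iSup_le hn
  have key : ∀ j, ∀ y ∈ X j, ∀ x ∈ ⨆ i, X i, ⁅x, y⁆ ∈ M := by
    intro j y hy x hx
    refine Subgroup.iSup_induction' X (C := fun x _ => ⁅x, y⁆ ∈ M) (fun i x hx => h i j x hx y hy)
      (by simp) (fun x₁ x₂ hx₁ hx₂ m1 m2 => ?_) hx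
    rw [commutatorElement_mul_left_eq_conj_mul]
    exact M.mul_mem ((mem_normalizer_iff.mp (hnM hx₁) _).mp m2) m1
  refine commutator_le.mpr fun x hx y hy => ?_
  refine Subgroup.iSup_induction' X (C := fun y _ => ⁅x, y⁆ ∈ M) (fun j y hy => key j y hy x hx)
    (by simp) (fun y₁ y₂ hy₁ hy₂ m1 m2 => ?_) hy
  rw [show ⁅x, y₁ * y₂⁆ = ⁅x, y₁⁆ * (y₁ * ⁅x, y₂⁆ * y₁⁻¹) by simp only [commutatorElement_def]; group]
  exact M.mul_mem m1 ((mem_normalizer_iff.mp (hnM hy₁) _).mp m2)

/-- The family `N` on the subgroups of order at least `p ^ k` of `A`. -/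
structure IsFamily (p k : ℕ) (A : Subgroup G) (N : Subgroup G → Subgroup G) : Prop where
  le_centralizer : ∀ E ≤ A, p ^ k ≤ Nat.card E → N E ≤ centralizer (E : Set G)
  le_norm : ∀ E ≤ A, A ≤ normalizer (N E : Set G)
  anti : ∀ D E : Subgroup G, D ≤ E → N E ≤ N D
  compat : ∀ D E : Subgroup G, D ≤ E → E ≤ A → p ^ k ≤ Nat.card D → N D ⊓ centralizer (E : Set G) ≤ N E

variable {A : Subgroup G} {N : Subgroup G → Subgroup G}

/-- An invariant `p'`-subgroup of a member is generated by its parts in the hyperplane members. -/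
lemma IsFamily.le_iSup (hN : IsFamily p k A N) (hA : Cfsg.IsElementaryAbelian p A)
    (hAk : p ^ (k + 2) ≤ Nat.card A) {D : Subgroup G} (hD : D ≤ A) (hDk : p ^ k ≤ Nat.card D)
    {X : Subgroup G} (hXD : X ≤ N D) (hAX : A ≤ normalizer (X : Set G)) (hX : ¬ p ∣ Nat.card X) :
    X ≤ ⨆ F : {F : Subgroup G // F ≤ A ∧ F.relIndex A = p}, X ⊓ N F := by
  have hA2 : p ^ 2 ≤ Nat.card A :=
    (Nat.pow_le_pow_right hp.out.pos (Nat.le_add_left 2 k)).trans hAk
  conv_lhs => rw [Hyperplane.eq_iSup_hyperplane hA hA2 hX hAX]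
  refine iSup_mono fun F x hx => ⟨hx.1, ?_⟩
  refine hN.anti _ _ (le_sup_right : (F : Subgroup G) ≤ D ⊔ F) ?_
  exact hN.compat D _ le_sup_left (sup_le hD F.2.1) hDk
    ⟨hXD hx.1, mem_centralizer_sup (hN.le_centralizer D hD hDk (hXD hx.1)) hx.2⟩

omit [Finite G] hp in
lemma norm_inf {Y : Subgroup G} (hN : IsFamily p k A N) (hY : A ≤ normalizer (Y : Set G))
    {E : Subgroup G} (hE : E ≤ A) : A ≤ normalizer ((Y ⊓ N E : Subgroup G) : Set G) :=
  (le_inf hY (hN.le_norm E hE)).trans inf_normalizer_le_normalizer_inf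

/-- The fixed points of a large subgroup on a solvable group generated by the family lie in the family. -/
theorem IsFamily.inf_centralizer_le (hN : IsFamily p k A N) (hA : Cfsg.IsElementaryAbelian p A)
    (hAk : p ^ (k + 2) ≤ Nat.card A) (Y : Subgroup G) (hAY : A ≤ normalizer (Y : Set G))
    (hY : ¬ p ∣ Nat.card Y) (hsolv : Group.IsSolvable Y)
    (hgen : Y ≤ ⨆ F : {F : Subgroup G // F ≤ A ∧ F.relIndex A = p}, Y ⊓ N F)
    {E : Subgroup G} (hE : E ≤ A) (hEk : p ^ k ≤ Nat.card E) :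
    Y ⊓ centralizer (E : Set G) ≤ N E := by
  induction hn : Nat.card Y using Nat.strong_induction_on generalizing Y with
  | _ n ih =>
    subst hn
    rcases eq_or_ne Y ⊥ with rfl | hne
    · rw [bot_inf_eq]; exact bot_le
    set ι := {F : Subgroup G // F ≤ A ∧ F.relIndex A = p}
    set M := ⁅Y, Y⁆ with hM
    have hMY : M < Y := Coprime.commutator_lt_of_isSolvable hsolv hne
    have hYM : Y ≤ normalizer (M : Set G) := by
      have := normalizer_commutator_ge_left Y Y
      exact this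
    have hAM : A ≤ normalizer (M : Set G) := by
      intro a ha
      rw [mem_normalizer_iff_map_conj_eq, hM, map_commutator,
        mem_normalizer_iff_map_conj_eq.mp (hAY ha)]
    have hdvd : ∀ {X : Subgroup G}, X ≤ Y → ¬ p ∣ Nat.card X := fun hX h =>
      hY (h.trans (card_dvd_of_le hX))
    have hgenM : M ≤ ⨆ F : ι, M ⊓ N F := by
      set M0 := ⨆ F : ι, M ⊓ N F
      have hD : ∀ D, D ≤ A → p ^ k ≤ Nat.card D → M ⊓ N D ≤ M0 := fun D hDA hDk =>
        (hN.le_iSup hA hAk hDA hDk inf_le_right (norm_inf hN hAM hDA)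
          (hdvd (inf_le_left.trans hMY.le))).trans (iSup_mono fun F => inf_le_inf_right _ inf_le_left)
      have hgn : ∀ F : ι, Y ⊓ N F ≤ normalizer (M0 : Set G) := by
        intro F x hx
        rw [mem_normalizer_iff_map_conj_eq]
        refine eq_of_le_of_card_ge ?_ (le_of_eq (card_map_of_injective (MulAut.conj x).injective).symm)
        rw [Subgroup.map_iSup]
        refine iSup_le fun F' => le_trans ?_ (hD (F.1 ⊓ F'.1) (inf_le_left.trans F.2.1)
          (card_le_of_hyperplane hAk F.2.1 F.2.2 F'.2.2))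
        rintro _ ⟨y, hy, rfl⟩
        refine ⟨(mem_normalizer_iff.mp (hYM hx.1) y).mp hy.1, ?_⟩
        have h1 : x ∈ N (F.1 ⊓ F'.1) := hN.anti _ _ inf_le_left hx.2
        have h2 : y ∈ N (F.1 ⊓ F'.1) := hN.anti _ _ inf_le_right hy.2
        exact Subgroup.mul_mem _ (Subgroup.mul_mem _ h1 h2) (Subgroup.inv_mem _ h1)
      refine (commutator_mono hgen hgen).trans (commutator_iSup_le _ hgn fun F F' x hx y hy => ?_)
      refine hD (F.1 ⊓ F'.1) (inf_le_left.trans F.2.1)
        (card_le_of_hyperplane hAk F.2.1 F.2.2 F'.2.2) ⟨commutator_mem_commutator hx.1 hy.1, ?_⟩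
      have h1 : x ∈ N (F.1 ⊓ F'.1) := hN.anti _ _ inf_le_left hx.2
      have h2 : y ∈ N (F.1 ⊓ F'.1) := hN.anti _ _ inf_le_right hy.2
      exact Subgroup.mul_mem _ (Subgroup.mul_mem _ (Subgroup.mul_mem _ h1 h2) (Subgroup.inv_mem _ h1)) (Subgroup.inv_mem _ h2)
    have hIH : M ⊓ centralizer (E : Set G) ≤ N E := ih _ (lt_of_not_ge fun h => hMY.ne (eq_of_le_of_card_ge hMY.le h)) M hAM (hdvd hMY.le)
      (Coprime.isSolvable_of_le hMY.le hsolv) hgenM rfl
    have hEY : E ≤ normalizer (Y : Set G) := hE.trans hAY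
    obtain ⟨c, hc⟩ := (Hyperplane.isPGroup (Hyperplane.isElementaryAbelian_of_le hA hE)).exists_card_eq
    have hcop : ∀ {X : Subgroup G}, X ≤ Y → (Nat.card E).Coprime (Nat.card X) := fun hX => by
      rw [hc]
      exact (hp.out.coprime_iff_not_dvd.mpr (hdvd hX)).pow_left c
    -- `Y = (Y ∩ N E) [Y, E] M`
    set W := ⁅Y, E⁆ ⊔ M with hW
    have hWY : W ≤ Y := sup_le (Coprime.commutator_le_of_le_normalizer hEY) hMY.le
    have hYW : Y ≤ normalizer (W : Set G) := by
      intro y hy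
      rw [mem_normalizer_iff]
      have hc : ∀ u ∈ Y, ∀ w ∈ W, u * w * u⁻¹ ∈ W := fun u hu w hw => by
        rw [show u * w * u⁻¹ = ⁅u, w⁆ * w by rw [commutatorElement_def]; group]
        exact W.mul_mem (mem_sup_right (commutator_mem_commutator hu (hWY hw))) hw
      refine fun w => ⟨hc y hy w, fun hw => ?_⟩
      simpa [mul_assoc] using hc y⁻¹ (inv_mem hy) _ hw
    have hdec : Y ≤ (Y ⊓ N E) ⊔ W := hgen.trans (iSup_le fun F x hx => by
      have hEX : E ≤ normalizer ((Y ⊓ N F : Subgroup G) : Set G) :=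
        hE.trans (norm_inf hN hAY F.2.1)
      obtain ⟨f, hf, h, hh, rfl⟩ := Coprime.exists_eq_centralizer_mul_commutator hEX
        (hcop inf_le_left) (Or.inr (Coprime.isSolvable_of_le inf_le_left hsolv)) hx
      refine mul_mem (mem_sup_left ⟨hf.1.1, hN.anti _ _ (le_sup_right : E ≤ F.1 ⊔ E) ?_⟩)
        (mem_sup_right (mem_sup_left (commutator_mono inf_le_left le_rfl hh)))
      exact hN.compat _ _ le_sup_left (sup_le F.2.1 hE) (card_hyperplane hAk F.2.1 F.2.2)
        ⟨hf.1.2, mem_centralizer_sup (hN.le_centralizer _ F.2.1 (card_hyperplane hAk F.2.1 F.2.2) hf.1.2)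
          hf.2⟩)
    -- `C_W(E) ≤ M`
    have hfix : W ⊓ centralizer (E : Set G) ≤ M := by
      set U := normalizer (M : Set G)
      set q := QuotientGroup.mk' (M.subgroupOf U)
      set V := (Y.subgroupOf U).map q with hV
      set Eb := (E.subgroupOf U).map q with hEb
      haveI : IsMulCommutative V := ⟨⟨by
        rintro ⟨_, u, hu, rfl⟩ ⟨_, v, hv, rfl⟩
        refine Subtype.ext ?_
        show q u * q v = q v * q u
        rw [← map_mul, ← map_mul]
        refine (QuotientGroup.eq (s := M.subgroupOf U)).mpr ?_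
        rw [mem_subgroupOf]
        have := commutator_mem_commutator (H₁ := Y) (H₂ := Y) (inv_mem hv) (inv_mem hu)
        simpa [commutatorElement_def, mul_assoc] using this⟩⟩
      have hnV : Eb ≤ normalizer (V : Set _) :=
        (Subgroup.map_mono (le_normalizer_comap U.subtype |>.trans' (comap_mono hEY))).trans
          (le_normalizer_map q)
      have hcopV : (Nat.card Eb).Coprime (Nat.card V) :=
        (hcop le_rfl).coprime_dvd_left
          (((E.subgroupOf U).card_map_dvd q).trans (dvd_of_eq (Nat.card_congr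
            (subgroupOfEquivOfLe (hE.trans hAM)).toEquiv))) |>.coprime_dvd_right
          (((Y.subgroupOf U).card_map_dvd q).trans (dvd_of_eq (Nat.card_congr
            (subgroupOfEquivOfLe hYM).toEquiv)))
      rintro w ⟨hwW, hwC⟩
      have hwU : w ∈ U := hYM (hWY hwW)
      have h1 : q ⟨w, hwU⟩ ∈ (V ⊓ centralizer (Eb : Set _)) ⊓ ⁅V, Eb⁆ := by
        refine ⟨⟨⟨⟨w, hwU⟩, hWY hwW, rfl⟩, ?_⟩, ?_⟩
        · refine mem_centralizer_iff.mpr ?_
          rintro _ ⟨e, he, rfl⟩
          rw [← map_mul, ← map_mul]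
          exact congrArg q (Subtype.ext (mem_centralizer_iff.mp hwC e he))
        · rw [hV, hEb, ← map_commutator]
          have hWU : (⟨w, hwU⟩ : U) ∈ ⁅Y.subgroupOf U, E.subgroupOf U⁆ ⊔ M.subgroupOf U := by
            have hle : W ≤ (⁅Y.subgroupOf U, E.subgroupOf U⁆ ⊔ M.subgroupOf U).map U.subtype := by
              rw [Subgroup.map_sup, map_commutator, map_subgroupOf_eq_of_le hYM,
                map_subgroupOf_eq_of_le (hE.trans hAM), map_subgroupOf_eq_of_le le_normalizer]
            obtain ⟨z, hz, hzw⟩ := hle hwW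
            rwa [show (⟨w, hwU⟩ : U) = z from Subtype.ext hzw.symm]
          have h := mem_map_of_mem q hWU
          rwa [Subgroup.map_sup, QuotientGroup.map_mk'_self, sup_bot_eq] at h
      rw [Coprime.inf_centralizer_inf_commutator hnV hcopV, Subgroup.mem_bot] at h1
      exact ((QuotientGroup.eq_one_iff (N := M.subgroupOf U) (⟨w, hwU⟩ : U)).mp h1 : _)
    rintro y ⟨hyY, hyC⟩
    obtain ⟨n, hn, w, hw, rfl⟩ : ∃ n ∈ Y ⊓ N E, ∃ w ∈ W, n * w = y := by
      have h : y ∈ (↑((Y ⊓ N E) ⊔ W) : Set G) := hdec hyY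
      rw [coe_mul_of_left_le_normalizer_right _ _ (inf_le_left.trans hYW)] at h
      exact h
    have hwC : w ∈ centralizer (E : Set G) := by
        simpa using mul_mem (inv_mem (hN.le_centralizer E hE hEk hn.2)) hyC
    exact mul_mem hn.2 (hIH ⟨hfix ⟨hw, hwC⟩, hwC⟩)

/-- `Δ_G` is a family on an elementary abelian subgroup with respect to which `G` is `k`-balanced. -/
lemma isFamily_delta (hk : 1 ≤ k) (hA : Cfsg.IsElementaryAbelian p A)
    (hbal : ∀ D ≤ A, Nat.card D = p ^ k → ∀ b ∈ A, b ≠ 1 →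
      Cfsg.signalizerDelta p D ⊓ centralizer {b} ≤ Cfsg.centralizerPPrimeCore p b) :
    IsFamily p k A (Cfsg.signalizerDelta p) where
  le_centralizer E _ _ x hx := by
    refine mem_centralizer_iff.mpr fun e he => ?_
    rcases eq_or_ne e 1 with rfl | hne
    · rw [one_mul, mul_one]
    · exact (mem_centralizer_singleton_iff.mp (Balance.centralizerPPrimeCore_le_centralizer p e
        (Subgroup.mem_iInf.mp hx ⟨e, he, hne⟩))).symm
  le_norm E hE a ha := by
    rw [mem_normalizer_iff_map_conj_eq]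
    refine eq_of_le_of_card_ge ?_ (le_of_eq (card_map_of_injective (MulAut.conj a).injective).symm)
    rintro _ ⟨x, hx, rfl⟩
    refine Subgroup.mem_iInf.mpr fun e => ?_
    exact (mem_normalizer_iff.mp (Balance.le_normalizer_centralizerPPrimeCore p _
      (mem_centralizer_singleton_iff.mpr (Hyperplane.mem_comm hA ha (hE e.2.1)))) x).mp
      (Subgroup.mem_iInf.mp hx e)
  anti D E hDE := le_iInf fun e => iInf_le_of_le ⟨(e : G), hDE e.2.1, e.2.2⟩ le_rfl
  compat D E hDE hE hDk x hx := by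
    obtain ⟨D', hD', -, hcard⟩ :=
      QuotientDelta.exists_card_eq (Hyperplane.isElementaryAbelian_of_le hA (hDE.trans hE)) hDk
    refine Subgroup.mem_iInf.mpr fun e => hbal D' (hD'.trans (hDE.trans hE)) hcard e (hE e.2.1) e.2.2
      ⟨Subgroup.mem_iInf.mpr fun d => Subgroup.mem_iInf.mp hx.1 ⟨d, hD' d.2.1, d.2.2⟩, ?_⟩
    exact mem_centralizer_singleton_iff.mpr (mem_centralizer_iff.mp hx.2 e e.2.1).symm

end Cfsg.Agent.Components.KBalance
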