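import Cfsg.Agent.Lib.Components.Local
import Cfsg.Agent.Lib.Coprime.Commutator
import Cfsg.Agent.Lib.Transfer.Special

/-!
A `p'`-group normalized by a `p`-group `A` and centralizing the elements of order `p` fixed by `A`
centralizes the `p`-group they act on (`p` odd).
-/

set_option autoImplicit false

namespace Cfsg.Agent.Components.AbelianSignalizer

open Subgroup
open scoped Pointwise commutatorElement

universe u

variable {G : Type u} [Group G] {p : ℕ}

/-- In class two, a product times the reversed product is independent of the order. -/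
lemma prod_mul_reverse_perm {D : Subgroup G} (hD : ⁅D, D⁆ ≤ centralizer (D : Set G)) {l l' : List G}
    (h : l.Perm l') (hl : ∀ x ∈ l, x ∈ D) :
    l.prod * l.reverse.prod = l'.prod * l'.reverse.prod := by
  induction h with
  | nil => rfl
  | cons a _ ih =>
    have := ih fun x hx => hl x (List.mem_cons_of_mem a hx)
    simp only [List.prod_cons, List.reverse_cons, List.prod_append, List.prod_nil, mul_one,
      mul_assoc]
    congr 1
    rw [← mul_assoc, this, mul_assoc]
  | swap a b t =>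
    have ha : a ∈ D := hl a (by simp)
    have hb : b ∈ D := hl b (by simp)
    have hM : t.prod * t.reverse.prod ∈ D := D.mul_mem
      (list_prod_mem fun x hx => hl x (by simp [hx]))
      (list_prod_mem fun x hx => hl x (by simp [List.mem_reverse.mp hx]))
    have hc : ∀ y ∈ D, y * (b * a * b⁻¹ * a⁻¹) = (b * a * b⁻¹ * a⁻¹) * y :=
      mem_centralizer_iff.mp (hD (commutatorElement_def b a ▸ commutator_mem_commutator hb ha))
    simp only [List.prod_cons, List.reverse_cons, List.prod_append, List.prod_nil, mul_one]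
    calc b * (a * t.prod) * (t.reverse.prod * a * b)
        = (b * a * b⁻¹ * a⁻¹) * (a * b * (t.prod * t.reverse.prod) * a * b) := by group
      _ = (a * b * (t.prod * t.reverse.prod)) * (b * a * b⁻¹ * a⁻¹) * (a * b) := by
          rw [hc _ (D.mul_mem (D.mul_mem ha hb) hM)]; group
      _ = a * (b * t.prod) * (t.reverse.prod * b * a) := by group
  | trans h₁ _ ih₁ ih₂ =>
    exact (ih₁ hl).trans (ih₂ fun x hx => hl x (h₁.mem_iff.mpr hx))

lemma prod_map_mul_central {D : Subgroup G} {z : G} (hz : z ∈ centralizer (D : Set G)) :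
    ∀ l : List G, (∀ x ∈ l, x ∈ D) → (l.map (· * z)).prod = l.prod * z ^ l.length := by
  intro l
  induction l with
  | nil => simp
  | cons a t ih =>
    intro h
    have ht : t.prod ∈ D := list_prod_mem fun x hx => h x (by simp [hx])
    rw [List.map_cons, List.prod_cons, ih fun x hx => h x (by simp [hx]), List.prod_cons,
      List.length_cons, pow_succ', mul_assoc a z, ← mul_assoc z, ← mem_centralizer_iff.mp hz _ ht]
    group

variable [Finite G] [hp : Fact p.Prime]

/-- The minimal case. -/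
lemma false_of_minimal (hp2 : p ≠ 2) {D A Q : Subgroup G} (hD : IsPGroup p D) (hA : IsPGroup p A)
    (hQ : ¬ p ∣ Nat.card Q) (hAD : A ≤ normalizer (D : Set G)) (hAQ : A ≤ normalizer (Q : Set G))
    (hQD : Q ≤ normalizer (D : Set G)) (hne : ¬ Q ≤ centralizer (D : Set G))
    (hmin : ∀ E, E ≤ D → A ≤ normalizer (E : Set G) → Q ≤ normalizer (E : Set G) → E ≠ D →
      Q ≤ centralizer (E : Set G))
    (hΩ : ∀ x ∈ D ⊓ centralizer (A : Set G), orderOf x = p → x ∈ centralizer (Q : Set G)) : False := by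
  classical
  have hcopQD : (Nat.card Q).Coprime (Nat.card D) := by
    obtain ⟨k, hk⟩ := IsPGroup.iff_card.mp hD
    rw [hk]
    exact ((hp.out.coprime_iff_not_dvd.mpr hQ).symm).pow_right k
  have hDs : Group.IsSolvable D := Coprime.isSolvable_of_isPGroup hD
  have inv_comm : ∀ {g : G} {X Y : Subgroup G}, g ∈ normalizer (X : Set G) → g ∈ normalizer (Y : Set G) →
      g ∈ normalizer ((⁅X, Y⁆ : Subgroup G) : Set G) := fun {g X Y} h1 h2 => by
    rw [← Coprime.conj_smul_eq_self_iff, Coprime.conj_smul_commutator,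
      Coprime.conj_smul_eq_self_iff.mpr h1, Coprime.conj_smul_eq_self_iff.mpr h2]
  have hDQ : ⁅D, Q⁆ = D := by
    by_contra hcon
    exact hne (Coprime.le_centralizer_of_series hQD hcopQD (Or.inr hDs)
      (hmin _ (Coprime.commutator_le_of_le_normalizer hQD) (fun a ha => inv_comm (hAD ha) (hAQ ha))
        (normalizer_commutator_ge_right D Q) hcon) le_rfl)
  have hDne : D ≠ ⊥ := fun h => hne (h ▸ fun x _ => mem_centralizer_iff.mpr fun y hy => by
    rw [mem_bot.mp hy, one_mul, mul_one])
  have hD'Q : Q ≤ centralizer ((⁅D, D⁆ : Subgroup G) : Set G) :=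
    hmin _ (Coprime.commutator_le_of_le_normalizer le_normalizer) (fun a ha => inv_comm (hAD ha) (hAD ha))
      (fun r hr => inv_comm (hQD hr) (hQD hr)) (Coprime.commutator_lt_of_isSolvable hDs hDne).ne
  set Z := D ⊓ centralizer (Q : Set G) with hZ
  have hD'Z : ⁅D, D⁆ ≤ Z := le_inf (Coprime.commutator_le_of_le_normalizer le_normalizer)
    (le_centralizer_iff.mp hD'Q)
  have hZD : Z ≤ centralizer (D : Set G) := by
    have h1 : ⁅⁅Q, Z⁆, D⁆ = ⊥ := by
      rw [commutator_eq_bot_iff_le_centralizer.mpr (le_centralizer_iff.mp inf_le_right :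
        Q ≤ centralizer (Z : Set G)), commutator_bot_left]
    have h2 : ⁅⁅Z, D⁆, Q⁆ = ⊥ := le_bot_iff.mp ((commutator_mono (commutator_mono inf_le_left le_rfl)
      le_rfl).trans (le_of_eq (commutator_eq_bot_iff_le_centralizer.mpr (le_centralizer_iff.mp hD'Q))))
    have h3 := commutator_commutator_eq_bot_of_rotate h1 h2
    rw [hDQ, commutator_eq_bot_iff_le_centralizer] at h3
    exact le_centralizer_iff.mp h3
  have hclass : ⁅D, D⁆ ≤ centralizer (D : Set G) := hD'Z.trans hZD
  have hZne : Z ≠ D := fun h => hne (le_centralizer_iff.mp (inf_eq_left.mp h))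
  -- `p`-th powers lie in `Z`
  have hqc : ∀ x ∈ D, ∀ y ∈ D, ∃ z ∈ Z, x * y = z * (y * x) := fun x hx y hy =>
    ⟨x * y * x⁻¹ * y⁻¹, hD'Z (commutatorElement_def x y ▸ commutator_mem_commutator hx hy), by group⟩
  have hcomm : commutator D ≤ center D := by
    rw [_root_.commutator_def, commutator_le]
    intro u _ v _
    refine mem_center_iff.mpr fun g => Subtype.ext ?_
    exact mem_centralizer_iff.mp (hclass (commutator_mem_commutator u.2 v.2)) g g.2
  have hpow : ∀ x ∈ D, x ^ p ∈ Z := by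
    set Zs := Z.subgroupOf D with hZs
    have hZn : Zs.Normal := ⟨fun n hn g => by
      have hn' : (n : G) ∈ Z := hn
      show (g : G) * n * (g : G)⁻¹ ∈ Z
      rw [mem_centralizer_iff.mp (hZD hn') g g.2, mul_inv_cancel_right]
      exact hn'⟩
    let q := QuotientGroup.mk' Zs
    have hqcomm : ∀ x y : D, Commute (q x) (q y) := fun x y => by
      show q x * q y = q y * q x
      rw [← map_mul, ← map_mul, QuotientGroup.mk'_eq_mk']
      refine ⟨(x * y)⁻¹ * (y * x), ?_, by group⟩
      show ((x : G) * y)⁻¹ * (y * x) ∈ Z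
      have := hD'Z (commutator_mem_commutator (D.inv_mem y.2) (D.inv_mem x.2))
      rw [commutatorElement_def] at this
      simpa [mul_assoc] using this
    let E : Subgroup G :=
      { carrier := {x | ∃ h : x ∈ D, q ⟨x, h⟩ ^ p = 1}
        one_mem' := ⟨D.one_mem, by rw [show (⟨1, _⟩ : D) = 1 from rfl, map_one, one_pow]⟩
        mul_mem' := fun {x y} ⟨hx, hx'⟩ ⟨hy, hy'⟩ => ⟨D.mul_mem hx hy, by
          rw [show (⟨x * y, _⟩ : D) = ⟨x, hx⟩ * ⟨y, hy⟩ from rfl, map_mul, (hqcomm _ _).mul_pow, hx', hy',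
            one_mul]⟩
        inv_mem' := fun {x} ⟨hx, hx'⟩ => ⟨D.inv_mem hx, by
          rw [show (⟨x⁻¹, _⟩ : D) = ⟨x, hx⟩⁻¹ from rfl, map_inv, inv_pow, hx', inv_one]⟩ }
    have hE : ∀ x, x ∈ E ↔ x ∈ D ∧ x ^ p ∈ Z := fun x => by
      constructor
      · rintro ⟨h, h'⟩
        rw [← map_pow] at h'
        exact ⟨h, mem_subgroupOf.mp ((QuotientGroup.eq_one_iff (N := Zs) ((⟨x, h⟩ : D) ^ p)).mp h')⟩
      · rintro ⟨h, h'⟩
        refine ⟨h, ?_⟩
        rw [← map_pow]
        exact (QuotientGroup.eq_one_iff (N := Zs) (⟨x, h⟩ ^ p)).mpr (mem_subgroupOf.mpr h')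
    have hinv : ∀ g, g ∈ normalizer (D : Set G) → g ∈ normalizer (Z : Set G) →
        g ∈ normalizer (E : Set G) := fun g hgD hgZ => mem_normalizer_iff.mpr fun x => by
      rw [hE, hE, conj_pow, ← mem_normalizer_iff.mp hgD x, ← mem_normalizer_iff.mp hgZ (x ^ p)]
    have hAZ : A ≤ normalizer (Z : Set G) :=
      le_trans (le_inf hAD fun a ha => ?_) inf_normalizer_le_normalizer_inf
    have hQZ : Q ≤ normalizer (Z : Set G) :=
      (le_centralizer_iff.mp inf_le_right).trans (centralizer_le_normalizer _)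
    · intro x hx
      by_contra hcon
      have hEne : E ≠ D := fun h => hcon ((hE x).mp (h ▸ hx)).2
      have hEZ : E ≤ Z := fun y hy => ⟨((hE y).mp hy).1, le_centralizer_iff.mp (hmin E (fun y hy => ((hE y).mp hy).1)
        (fun a ha => hinv a (hAD ha) (hAZ ha)) (fun r hr => hinv r (hQD hr) (hQZ hr)) hEne) hy⟩
      have hDp : IsPGroup p (D ⧸ Zs) := hD.to_quotient _
      obtain ⟨k, hk⟩ := IsPGroup.iff_card.mp hDp
      have hk0 : k ≠ 0 := fun h0 => hZne (le_antisymm inf_le_left (subgroupOf_eq_top.mp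
        (index_eq_one.mp (by rw [Subgroup.index_eq_card, hk, h0, pow_zero]))))
      obtain ⟨y, hy⟩ := exists_prime_orderOf_dvd_card' (G := D ⧸ Zs) p (by rw [hk]; exact dvd_pow_self p hk0)
      obtain ⟨y, rfl⟩ := QuotientGroup.mk'_surjective Zs y
      have hyE : (y : G) ∈ E := ⟨y.2, by
        show q y ^ p = 1
        rw [← hy]
        exact pow_orderOf_eq_one _⟩
      have h1 : q y = 1 := (QuotientGroup.eq_one_iff y).mpr (mem_subgroupOf.mpr (hEZ hyE))
      rw [h1, orderOf_one] at hy
      exact hp.out.ne_one hy.symm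
    · rw [← Coprime.conj_smul_eq_self_iff]
      rw [← Coprime.conj_smul_eq_self_iff.mpr (hAQ ha)]
      exact Coprime.conj_smul_eq_self_iff.mpr (mem_normalizer_iff.mpr fun x => by
        have key : ∀ b ∈ A, ∀ y ∈ centralizer (Q : Set G), b * y * b⁻¹ ∈ centralizer (Q : Set G) := by
          intro b hb y hy
          refine mem_centralizer_iff.mpr fun r hr => ?_
          have hr' : b⁻¹ * r * b ∈ Q := by
            simpa using (mem_normalizer_iff.mp (inv_mem (hAQ hb)) r).mp hr
          calc r * (b * y * b⁻¹) = b * ((b⁻¹ * r * b) * y) * b⁻¹ := by group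
            _ = b * (y * (b⁻¹ * r * b)) * b⁻¹ := by rw [mem_centralizer_iff.mp hy _ hr']
            _ = b * y * b⁻¹ * r := by group
        rw [Coprime.conj_smul_eq_self_iff.mpr (hAQ ha)]
        exact ⟨key a ha x, fun h => by simpa [mul_assoc] using key a⁻¹ (inv_mem ha) _ h⟩)
  -- exponent `p`
  have hmulp : ∀ x ∈ D, ∀ y ∈ D, (x * y) ^ p = x ^ p * y ^ p := fun x hx y hy => by
    have h := Transfer.Special.mul_pow_of_class_two (p := p) hp2 hcomm ⟨x, hx⟩ ⟨y, hy⟩
      (mem_center_iff.mpr fun g => Subtype.ext (mem_centralizer_iff.mp (hZD (hpow y hy)) g g.2))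
    exact congrArg Subtype.val h
  have hexp : ∀ x ∈ D, x ^ p = 1 := by
    let K : Subgroup G :=
      { carrier := {x | x ∈ D ∧ x ^ p = 1}
        one_mem' := ⟨D.one_mem, one_pow p⟩
        mul_mem' := fun {x y} hx hy => ⟨D.mul_mem hx.1 hy.1, by rw [hmulp x hx.1 y hy.1, hx.2, hy.2, one_mul]⟩
        inv_mem' := fun {x} hx => ⟨D.inv_mem hx.1, by rw [inv_pow, hx.2, inv_one]⟩ }
    intro x hx
    have hle : ⁅D, Q⁆ ≤ K := commutator_le.mpr fun d hd r hr => by
      have hd' : r * d⁻¹ * r⁻¹ ∈ D := (mem_normalizer_iff.mp (hQD hr) _).mp (D.inv_mem hd)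
      have e : ⁅d, r⁆ = d * (r * d⁻¹ * r⁻¹) := by rw [commutatorElement_def]; group
      refine ⟨e ▸ D.mul_mem hd hd', ?_⟩
      rw [e, hmulp d hd _ hd', conj_pow, inv_pow,
        ← show (d ^ p)⁻¹ = r * (d ^ p)⁻¹ * r⁻¹ from eq_mul_inv_of_mul_eq
          (mem_centralizer_iff.mp ((centralizer (Q : Set G)).inv_mem (hpow d hd).2) r hr).symm,
        mul_inv_cancel]
    exact (hle (hDQ.symm ▸ hx)).2
  -- the canonical lifts
  have : Fintype Q := Fintype.ofFinite Q
  let L : G → List G := fun x => (Finset.univ.toList (α := Q)).map fun r : Q => (r : G) * x * (r : G)⁻¹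
  let F : G → G := fun x => (L x).prod * (L x).reverse.prod
  have hLD : ∀ x ∈ D, ∀ y ∈ L x, y ∈ D := fun x hx y hy => by
    obtain ⟨r, -, rfl⟩ := List.mem_map.mp hy
    exact (mem_normalizer_iff.mp (hQD r.2) x).mp hx
  have hFconj : ∀ g, ∀ x ∈ D, g ∈ normalizer (D : Set G) → g ∈ normalizer (Q : Set G) →
      g * F x * g⁻¹ = F (g * x * g⁻¹) := by
    intro g x hx hgD hgQ
    have hmap : ∀ l : List G, (l.map (MulAut.conj g)).prod = g * l.prod * g⁻¹ := fun l =>
      ((MulAut.conj g).toMonoidHom.map_list_prod l).symm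
    have e : g * F x * g⁻¹ = ((L x).map (MulAut.conj g)).prod * ((L x).map (MulAut.conj g)).reverse.prod := by
      rw [← List.map_reverse, hmap, hmap]
      show g * (_ * _) * g⁻¹ = _
      group
    rw [e]
    let σ : Q ≃ Q :=
      { toFun := fun r => ⟨g * r * g⁻¹, (mem_normalizer_iff.mp hgQ r).mp r.2⟩
        invFun := fun r => ⟨g⁻¹ * r * g, (mem_normalizer_iff''.mp hgQ r).mp r.2⟩
        left_inv := fun r => Subtype.ext (by simp [mul_assoc])
        right_inv := fun r => Subtype.ext (by simp [mul_assoc]) }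
    refine prod_mul_reverse_perm hclass ?_ ?_
    · have h1 : ((Finset.univ.toList (α := Q)).map σ).Perm (Finset.univ.toList (α := Q)) :=
        (List.perm_ext_iff_of_nodup ((Finset.nodup_toList _).map σ.injective) (Finset.nodup_toList _)).mpr
          fun r => ⟨fun _ => by simp, fun _ => List.mem_map.mpr ⟨σ.symm r, by simp, by simp⟩⟩
      have h2 : (L x).map (MulAut.conj g) =
          ((Finset.univ.toList (α := Q)).map σ).map fun r : Q => (r : G) * (g * x * g⁻¹) * (r : G)⁻¹ := by
        simp only [L, List.map_map]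
        refine List.map_congr_left fun r _ => ?_
        simp only [Function.comp_apply, MulAut.conj_apply]
        show _ = (g * r * g⁻¹) * (g * x * g⁻¹) * (g * r * g⁻¹)⁻¹
        group
      rw [h2]
      exact h1.map _
    · intro y hy
      obtain ⟨w, hw, rfl⟩ := List.mem_map.mp hy
      exact (mem_normalizer_iff.mp hgD w).mp (hLD x hx w hw)
  have hFz : ∀ x ∈ D, F x ∈ Z := fun x hx => by
    refine ⟨D.mul_mem (list_prod_mem (hLD x hx)) (list_prod_mem fun y hy => hLD x hx y (List.mem_reverse.mp hy)),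
      mem_centralizer_iff.mpr fun r hr => ?_⟩
    have h := hFconj r x hx (hQD hr) (le_normalizer hr)
    have h2 : F (r * x * r⁻¹) = F x := by
      refine prod_mul_reverse_perm hclass ?_ (hLD _ ((mem_normalizer_iff.mp (hQD hr) x).mp hx))
      let σ : Q ≃ Q := Equiv.mulRight ⟨r, hr⟩
      have h1 : ((Finset.univ.toList (α := Q)).map σ).Perm (Finset.univ.toList (α := Q)) :=
        (List.perm_ext_iff_of_nodup ((Finset.nodup_toList _).map σ.injective) (Finset.nodup_toList _)).mpr
          fun r => ⟨fun _ => by simp, fun _ => List.mem_map.mpr ⟨σ.symm r, by simp, by simp⟩⟩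
      have h2 : L (r * x * r⁻¹) =
          ((Finset.univ.toList (α := Q)).map σ).map fun s : Q => (s : G) * x * (s : G)⁻¹ := by
        simp only [L, List.map_map]
        refine List.map_congr_left fun s _ => ?_
        show _ = ((s : G) * r) * x * ((s : G) * r)⁻¹
        group
      rw [h2]
      exact h1.map _
    rw [h2, mul_inv_eq_iff_eq_mul] at h
    exact h
  have hFmul : ∀ x ∈ D, ∀ z ∈ Z, F (x * z) = F x * z ^ (2 * Nat.card Q) := by
    intro x hx z hz
    have hL : L (x * z) = (L x).map (· * z) := by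
      simp only [L, List.map_map]
      refine List.map_congr_left fun r _ => ?_
      simp only [Function.comp_apply]
      rw [mul_assoc (r : G) (x * z), mul_assoc x z, ← mem_centralizer_iff.mp hz.2 _ (Q.inv_mem r.2)]
      group
    have hlen : (L x).length = Nat.card Q := by simp [L, Nat.card_eq_fintype_card]
    show (L (x * z)).prod * (L (x * z)).reverse.prod = _
    rw [hL, ← List.map_reverse, prod_map_mul_central (hZD hz) _ (hLD x hx),
      prod_map_mul_central (hZD hz) _ fun y hy => hLD x hx y (List.mem_reverse.mp hy), List.length_reverse,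
      hlen]
    have hr : (L x).reverse.prod ∈ D := list_prod_mem fun y hy => hLD x hx y (List.mem_reverse.mp hy)
    have hc : Commute ((L x).reverse.prod) (z ^ Nat.card Q) :=
      Commute.pow_right (show Commute _ z from mem_centralizer_iff.mp (hZD hz) _ hr) _
    show _ = (L x).prod * (L x).reverse.prod * z ^ (2 * Nat.card Q)
    calc (L x).prod * z ^ Nat.card Q * ((L x).reverse.prod * z ^ Nat.card Q)
        = (L x).prod * (z ^ Nat.card Q * (L x).reverse.prod) * z ^ Nat.card Q := by group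
      _ = (L x).prod * (L x).reverse.prod * (z ^ Nat.card Q * z ^ Nat.card Q) := by rw [← hc.eq]; group
      _ = _ := by rw [← pow_add, two_mul]
  have hZp : IsPGroup p Z := hD.to_le inf_le_left
  have hcop : (Nat.card Z).Coprime (2 * Nat.card Q) := by
    obtain ⟨k, hk⟩ := IsPGroup.iff_card.mp hZp
    rw [hk]
    exact (((Nat.coprime_primes hp.out Nat.prime_two).mpr hp2).mul_right
      (hp.out.coprime_iff_not_dvd.mpr hQ)).pow_left k
  let U := {x : G // x ∈ D ∧ F x = 1}
  have hbij : Function.Bijective (fun uz : U × Z => (⟨uz.1.1 * uz.2.1, D.mul_mem uz.1.2.1 uz.2.2.1⟩ : D)) := by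
    constructor
    · rintro ⟨⟨x, hx, hx1⟩, z⟩ ⟨⟨y, hy, hy1⟩, w⟩ h
      have h' : x * z = y * w := congrArg Subtype.val h
      have hF := congrArg F h'
      rw [hFmul x hx z z.2, hFmul y hy w w.2, hx1, hy1, one_mul, one_mul] at hF
      have hzw : z = w := (powCoprime hcop).injective (Subtype.ext (by simpa using hF))
      subst hzw
      have hxy : x = y := mul_right_cancel h'
      subst hxy
      rfl
    · intro d
      let z := (powCoprime hcop).symm ⟨(F d)⁻¹, Z.inv_mem (hFz d d.2)⟩
      have hz : (z : G) ^ (2 * Nat.card Q) = (F d)⁻¹ := by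
        have h := (powCoprime hcop).apply_symm_apply ⟨(F d)⁻¹, Z.inv_mem (hFz d d.2)⟩
        exact congrArg Subtype.val h
      refine ⟨(⟨d * z, D.mul_mem d.2 z.2.1, by rw [hFmul d d.2 z z.2, hz, mul_inv_cancel]⟩, z⁻¹), ?_⟩
      exact Subtype.ext (by simp)
  have hUcard : p ∣ Nat.card U := by
    have h := Nat.card_congr (Equiv.ofBijective _ hbij)
    rw [Nat.card_prod] at h
    obtain ⟨k, hk⟩ := IsPGroup.iff_card.mp hD
    rw [hk] at h
    obtain ⟨j, -, hj⟩ := (Nat.dvd_prime_pow hp.out).mp (Dvd.intro _ h : Nat.card U ∣ p ^ k)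
    rcases j with _ | j
    · rw [hj, pow_zero, one_mul, ← hk] at h
      exact absurd (eq_of_le_of_card_ge inf_le_left h.ge) hZne
    · exact hj ▸ dvd_pow_self p j.succ_ne_zero
  let _ : MulAction A U :=
    { smul := fun a u => ⟨(a : G) * u.1 * (a : G)⁻¹, (mem_normalizer_iff.mp (hAD a.2) _).mp u.2.1, by
        rw [← hFconj a u.1 u.2.1 (hAD a.2) (hAQ a.2), u.2.2, mul_one, mul_inv_cancel]⟩
      one_smul := fun u => Subtype.ext (by show (1 : G) * u.1 * (1 : G)⁻¹ = u.1; simp)
      mul_smul := fun a b u => Subtype.ext (by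
        show ((a : G) * b) * u.1 * ((a : G) * b)⁻¹ = (a : G) * ((b : G) * u.1 * (b : G)⁻¹) * (a : G)⁻¹
        group) }
  have h1U : F 1 = 1 := by simp [F, L]
  obtain ⟨⟨x, hx, hx1⟩, hfix, hne1⟩ := hA.exists_fixed_point_of_prime_dvd_card_of_fixed_point U hUcard
    (a := ⟨1, D.one_mem, h1U⟩) (fun a => Subtype.ext (by show (a : G) * 1 * (a : G)⁻¹ = 1; simp))
  have hxA : x ∈ centralizer (A : Set G) := mem_centralizer_iff.mpr fun a ha => by
    have h := congrArg Subtype.val (hfix ⟨a, ha⟩)
    exact mul_inv_eq_iff_eq_mul.mp h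
  have hx0 : x ≠ 1 := fun h => hne1 (Subtype.ext h.symm)
  have hxZ : x ∈ Z := ⟨hx, hΩ x ⟨hx, hxA⟩ (orderOf_eq_prime (hexp x hx) hx0)⟩
  have h := hFmul 1 D.one_mem x hxZ
  rw [one_mul, hx1, h1U, one_mul] at h
  exact hx0 (congrArg Subtype.val ((powCoprime hcop).injective
    (show (powCoprime hcop) ⟨x, hxZ⟩ = powCoprime hcop 1 from Subtype.ext (by simpa using h.symm))))

/-- A `p'`-group centralizing the elements of order `p` of `C_P(A)` centralizes `P`. -/
theorem le_centralizer (hp2 : p ≠ 2) {P A Q : Subgroup G} (hP : IsPGroup p P) (hA : IsPGroup p A)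
    (hQ : ¬ p ∣ Nat.card Q) (hAP : A ≤ normalizer (P : Set G)) (hAQ : A ≤ normalizer (Q : Set G))
    (hQP : Q ≤ normalizer (P : Set G))
    (hΩ : ∀ x ∈ P ⊓ centralizer (A : Set G), orderOf x = p → x ∈ centralizer (Q : Set G)) :
    Q ≤ centralizer (P : Set G) := by
  by_contra hcon
  obtain ⟨D, hD⟩ := exists_minimal_of_wellFoundedLT (fun D : Subgroup G => D ≤ P ∧
    A ≤ normalizer (D : Set G) ∧ Q ≤ normalizer (D : Set G) ∧ ¬ Q ≤ centralizer (D : Set G))
    ⟨P, le_rfl, hAP, hQP, hcon⟩
  obtain ⟨hDP, hAD, hQD, hne⟩ := hD.1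
  refine false_of_minimal hp2 (hP.to_le hDP) hA hQ hAD hAQ hQD hne (fun E hE hAE hQE hne' => ?_)
    fun x hx => hΩ x ⟨hDP hx.1, hx.2⟩
  by_contra h
  exact hne' (le_antisymm hE (hD.2 ⟨hE.trans hDP, hAE, hQE, h⟩ hE))

end Cfsg.Agent.Components.AbelianSignalizer
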