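import Cfsg.Agent.Lib.Components.QuasisimpleCover
import Cfsg.Agent.Lib.Components.Local
import Cfsg.Agent.S1887
import Cfsg.Prelude.Def_EvenTechniques
import Cfsg.Prelude.Def_KGroupFacts

/-!
Sections `N_X(J)/C_X(J)` attached to a quasisimple subgroup, and the `B_p`-property applied to them.
-/

set_option autoImplicit false
set_option linter.style.haveILetI false

namespace Cfsg.Agent.Components.AlmostSimpleSection

open Subgroup
open scoped commutatorElement
open Cfsg.Agent.Components.Basic Cfsg.Agent.Components.Fitting Cfsg.Agent.Components.PComponents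

universe u

/-- If `u, u'` commute with `v, v'`, then `[u v, u' v'] = [u, u'] [v, v']`. -/
lemma commutator_mul_mul {Q : Type*} [Group Q] {u u' v v' : Q} (h1 : Commute u v)
    (h2 : Commute u v') (h3 : Commute u' v) (h4 : Commute u' v') :
    ⁅u * v, u' * v'⁆ = ⁅u, u'⁆ * ⁅v, v'⁆ := by
  simp only [commutatorElement_def, mul_inv_rev]
  have e1 : v * u' = u' * v := h3.eq.symm
  have e2 : v' * (v⁻¹ * u⁻¹) = u⁻¹ * (v' * v⁻¹) := by
    rw [← mul_assoc, ← (h2.inv_left.mul_right h1.inv_inv.symm.symm).eq]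
  calc u * v * (u' * v') * (v⁻¹ * u⁻¹) * (v'⁻¹ * u'⁻¹)
      = u * (v * u') * (v' * (v⁻¹ * u⁻¹)) * (v'⁻¹ * u'⁻¹) := by group
    _ = u * (u' * v) * (u⁻¹ * (v' * v⁻¹)) * (v'⁻¹ * u'⁻¹) := by rw [e1, e2]
    _ = u * u' * (v * u⁻¹) * (v' * v⁻¹ * v'⁻¹) * u'⁻¹ := by group
    _ = u * u' * u⁻¹ * ((v * (v' * v⁻¹ * v'⁻¹)) * u'⁻¹) := by
        rw [← (h1.inv_left).eq]; group
    _ = _ := by
        rw [← ((h3.mul_right ((h4.mul_right h3.inv_right).mul_right h4.inv_right)).inv_left).eq]
        group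

lemma isPerfect_of_commutator {G : Type*} [Group G] {K : Subgroup G} (h : ⁅K, K⁆ = K) :
    Group.IsPerfect K := Subgroup.isPerfect_iff.mpr h

/-- A perfect central extension of a quasisimple group is quasisimple. -/
lemma isQuasisimple_of_central {G Q : Type*} [Group G] [Group Q] {f : G →* Q}
    (hf : Function.Surjective f) (hp : Group.IsPerfect G) (hk : f.ker ≤ Subgroup.center G)
    (hQ : Cfsg.IsQuasisimple Q) : Cfsg.IsQuasisimple G := by
  haveI := quasisimple_nontrivial hQ
  haveI := hp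
  have htop : ⁅(⊤ : Subgroup G), ⊤⁆ = ⊤ := hp.commutator_eq_top
  refine isQuasisimple_of_normal hp hf.nontrivial fun N hN => ?_
  rcases @quasisimple_eq_top_or_le_center_of_normal _ _ hQ (N.map f) (hN.map f hf) with h | h
  · left
    have hsup : N ⊔ f.ker = ⊤ := by rw [← comap_map_eq, h, comap_top]
    rw [eq_top_iff, ← hp.commutator_eq_top]
    haveI : IsMulCommutative f.ker :=
      ⟨⟨fun a b => Subtype.ext (Subgroup.mem_center_iff.mp (hk b.2) a)⟩⟩
    exact Subgroup.Normal.commutator_le_of_self_sup_commutative_eq_top hsup inferInstance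
  · right
    have h1 : ⁅(⊤ : Subgroup G), N⁆ ≤ Subgroup.center G := by
      refine le_trans ?_ hk
      rw [← MonoidHom.comap_bot, ← map_le_iff_le_comap, map_commutator, le_bot_iff,
        Subgroup.map_top_of_surjective f hf]
      exact commutator_top_left_eq_bot_iff_le_center.mpr h
    apply commutator_top_left_eq_bot_iff_le_center.mp
    apply commutator_eq_bot_of_perfect htop
    rw [commutator_comm]
    refine le_bot_iff.mp ((commutator_mono le_rfl h1).trans ?_)
    rw [le_bot_iff]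
    exact commutator_top_left_eq_bot_iff_le_center.mpr le_rfl

/-- The generalized Fitting subgroup of a quasisimple group. -/
lemma genFitting_eq_top {G : Type*} [Group G] [Finite G] (h : Cfsg.IsQuasisimple G) :
    Cfsg.generalizedFittingSubgroup G = ⊤ :=
  top_le_iff.mp (component_le_genFitting
    ⟨IsSubnormal.top, quasisimple_of_mulEquiv Subgroup.topEquiv.symm h⟩)

/-- Solvability of the outer automorphism group is invariant under isomorphism. -/
lemma isSolvable_out_congr {A B : Type u} [Group A] [Group B] (e : A ≃* B)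
    (h : Group.IsSolvable (Cfsg.Out A)) : Group.IsSolvable (Cfsg.Out B) := by
  haveI := h
  have hinn : Cfsg.Inn A ≤ (Cfsg.Inn B).comap (MulAut.congr e).toMonoidHom := by
    rintro _ ⟨a, rfl⟩
    refine ⟨e a, ?_⟩
    ext b
    simp
  let F : Cfsg.Out A →* Cfsg.Out B := QuotientGroup.map _ _ (MulAut.congr e).toMonoidHom hinn
  refine Group.isSolvable_of_surjective (f := F) fun y => ?_
  induction y using QuotientGroup.induction_on with
  | H β => exact ⟨QuotientGroup.mk ((MulAut.congr e).symm β),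
      congrArg QuotientGroup.mk ((MulAut.congr e).apply_symm_apply β)⟩

/-- A subgroup normalizing a perfect subgroup `J` and acting trivially on `J/Z(J)` centralizes `J`. -/
lemma mem_centralizer_of_commutator_mem {G : Type*} [Group G] {J : Subgroup G} (hJ : ⁅J, J⁆ = J)
    {s : G} (hs : ∀ j ∈ J, j⁻¹ * (s * j * s⁻¹) ∈ centralizer (J : Set G)) (hsn : s ∈ normalizer (J : Set G)) :
    s ∈ centralizer (J : Set G) := by
  have hle : ⁅J, J⁆ ≤ centralizer ({s} : Set G) := by
    refine commutator_le.mpr fun a ha b hb => ?_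
    rw [mem_centralizer_singleton_iff]
    have e : s * ⁅a, b⁆ * s⁻¹ = ⁅a, b⁆ := by
      have h1 : ∀ j ∈ J, Commute (j⁻¹ * (s * j * s⁻¹)) a ∧ Commute (j⁻¹ * (s * j * s⁻¹)) b :=
        fun j hj => ⟨(mem_centralizer_iff.mp (hs j hj) a ha).symm,
          (mem_centralizer_iff.mp (hs j hj) b hb).symm⟩
      have hza : a⁻¹ * (s * a * s⁻¹) ∈ J :=
        J.mul_mem (J.inv_mem ha) ((mem_normalizer_iff.mp hsn a).mp ha)
      calc s * ⁅a, b⁆ * s⁻¹ =
            ⁅a * (a⁻¹ * (s * a * s⁻¹)), b * (b⁻¹ * (s * b * s⁻¹))⁆ := by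
            simp only [commutatorElement_def]; group
        _ = ⁅a, b⁆ * ⁅a⁻¹ * (s * a * s⁻¹), b⁻¹ * (s * b * s⁻¹)⁆ :=
          commutator_mul_mul (h1 a ha).1.symm (h1 b hb).1.symm (h1 a ha).2.symm (h1 b hb).2.symm
        _ = ⁅a, b⁆ := by
          rw [commutatorElement_eq_one_iff_commute.mpr
            (mem_centralizer_iff.mp (hs b hb) _ hza), mul_one]
    rw [mul_inv_eq_iff_eq_mul] at e
    exact e.symm
  rw [hJ] at hle
  exact mem_centralizer_iff.mpr fun j hj => mem_centralizer_singleton_iff.mp (hle hj)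

variable {X : Type u} [Group X] [Finite X] {p : ℕ} [hp : Fact p.Prime]

omit [Finite X] hp in
/-- A nontrivial perfect subgroup is not central in a group containing it. -/
lemma not_le_centralizer {K J : Subgroup X} (hperf : ⁅K, K⁆ = K) (hne : K ≠ ⊥) (hKJ : K ≤ J) :
    ¬ K ≤ centralizer (J : Set X) := fun h => hne <| le_bot_iff.mp <| by
  rw [← hperf]
  exact (commutator_eq_bot_iff_le_centralizer.mpr
    (h.trans (centralizer_le hKJ))).le

/-- The `B_p`-property of `N(J)/C(J)` makes perfect `p`-generated subgroups of `C_J(x)` quasisimple. -/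
theorem isQuasisimple_of_le_fix
    (hB : ∀ (H : Subgroup X) (N : Subgroup ↥H) [N.Normal],
      Cfsg.HasQuasisimpleGeneralizedFitting (↥H ⧸ N) → Cfsg.pPrimeCore p (↥H ⧸ N) = ⊥ →
        Cfsg.HasBpProperty p (↥H ⧸ N))
    {J : Subgroup X} (hJ : Cfsg.IsQuasisimple J) (hdvd : p ∣ Nat.card (↥J ⧸ Subgroup.center ↥J))
    {x : X} (hxJ : x ∈ normalizer (J : Set X)) (hxp : x ^ p ∈ centralizer (J : Set X))
    {K : Subgroup X} (hKE : K ≤ J ⊓ centralizer ({x} : Set X))
    (hKsub : (K.subgroupOf (J ⊓ centralizer ({x} : Set X))).IsSubnormal) (hperf : ⁅K, K⁆ = K)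
    (hgen : pGen p K = K) (hKq : Cfsg.IsQuasisimple (↥K ⧸ Cfsg.pPrimeCore p ↥K)) :
    Cfsg.IsQuasisimple K := by
  set E := J ⊓ centralizer ({x} : Set X) with hE
  have hKne : K ≠ ⊥ := by
    rintro rfl
    haveI := quasisimple_nontrivial hKq
    have : Nontrivial (⊥ : Subgroup X) := (QuotientGroup.mk'_surjective (Cfsg.pPrimeCore p (⊥ : Subgroup X))).nontrivial
    exact (Subgroup.nontrivial_iff_ne_bot _).mp this rfl
  have hKJ : K ≤ J := hKE.trans inf_le_left
  by_cases hxc : x ∈ centralizer (J : Set X)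
  · have hEJ : E = J := inf_eq_left.mpr fun j hj =>
      mem_centralizer_singleton_iff.mpr ((mem_centralizer_iff.mp hxc j hj))
    rw [hEJ] at hKsub
    rcases quasisimple_eq_top_or_le_center_of_isSubnormal hJ _ hKsub with h | h
    · rw [subgroupOf_eq_top] at h
      rw [le_antisymm hKJ h]
      exact hJ
    · refine absurd (fun k hk => mem_centralizer_iff.mpr fun j hj => ?_) (not_le_centralizer hperf hKne hKJ)
      exact congrArg Subtype.val (Subgroup.mem_center_iff.mp
        (h (show (⟨k, hKJ hk⟩ : J) ∈ K.subgroupOf J from hk)) ⟨j, hj⟩)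
  set N := normalizer (J : Set X) with hN
  haveI hCn : ((centralizer (J : Set X)).subgroupOf N).Normal := inferInstance
  set S := ↥N ⧸ (centralizer (J : Set X)).subgroupOf N
  set π : N →* S := QuotientGroup.mk' _ with hπ
  have hπ1 : ∀ a : N, π a = 1 ↔ (a : X) ∈ centralizer (J : Set X) := fun a => QuotientGroup.eq_one_iff a
  haveI : (J.subgroupOf N).Normal := normal_in_normalizer
  set Jb := (J.subgroupOf N).map π with hJb
  haveI hJbn : Jb.Normal := Subgroup.Normal.map inferInstance π (QuotientGroup.mk'_surjective _)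
  set fJ : J →* Jb := (π.comp (inclusion (le_normalizer : J ≤ N))).codRestrict Jb
    (fun j => ⟨_, j.2, rfl⟩) with hfJ
  have hfJs : Function.Surjective fJ := by
    rintro ⟨_, n, hn, rfl⟩
    exact ⟨⟨n, hn⟩, rfl⟩
  have hker : fJ.ker = Subgroup.center J := by
    ext j
    rw [MonoidHom.mem_ker, Subgroup.mem_center_iff, Subtype.ext_iff]
    refine (hπ1 _).trans (mem_centralizer_iff.trans ?_)
    exact ⟨fun h g => Subtype.ext (h g g.2), fun h g hg => congrArg Subtype.val (h ⟨g, hg⟩)⟩
  let eJ : ↥J ⧸ Subgroup.center ↥J ≃* Jb :=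
    (QuotientGroup.quotientMulEquivOfEq hker.symm).trans (QuotientGroup.quotientKerEquivOfSurjective fJ hfJs)
  haveI : Nontrivial Jb := by
    haveI := hJ.2
    exact eJ.symm.toEquiv.nontrivial
  have hJbq : Cfsg.IsQuasisimple Jb := Local.isQuasisimple_of_surjective hfJs hJ
  have hJbc : Cfsg.IsComponent Jb := ⟨hJbn.isSubnormal, hJbq⟩
  have hCb : centralizer (Jb : Set S) = ⊥ := by
    refine le_bot_iff.mp fun s hs => ?_
    obtain ⟨a, rfl⟩ : ∃ a, π a = s := QuotientGroup.mk'_surjective _ s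
    refine (hπ1 a).mpr (mem_centralizer_of_commutator_mem (Subgroup.isPerfect_iff.mp hJ.1)
      (fun j hj => ?_) a.2)
    have h := mem_centralizer_iff.mp hs (π ⟨j, le_normalizer hj⟩) ⟨_, hj, rfl⟩
    have h2 : π (⟨j, le_normalizer hj⟩⁻¹ * (a * ⟨j, le_normalizer hj⟩ * a⁻¹)) = 1 := by
      simp only [map_mul, map_inv]
      rw [← h]
      group
    exact (hπ1 _).mp h2
  have hnorm : ∀ T : Subgroup S, T.Normal → ¬ Jb ≤ T → T = ⊥ := by
    intro T hT hle
    rw [← le_bot_iff, ← hCb]
    apply commutator_eq_bot_iff_le_centralizer.mp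
    rw [commutator_comm]
    exact (component_le_or_commutator_eq_bot hJbc hT.isSubnormal).resolve_left hle
  have hO : Cfsg.pPrimeCore p S = ⊥ := by
    refine hnorm _ (Cores.pPrimeCore_normal p) fun h => ?_
    rw [Nat.card_congr eJ.toEquiv] at hdvd
    exact hp.out.coprime_iff_not_dvd.mp (Cores.pPrimeCore_card_coprime p).symm
      (hdvd.trans (card_dvd_of_le h))
  have hlay : Cfsg.layer S = Jb := by
    refine le_antisymm (layer_le fun L hL => ?_) (le_layer hJbc)
    by_contra hne
    refine component_ne_bot hL (le_bot_iff.mp ?_)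
    rw [← hCb]
    exact commutator_eq_bot_iff_le_centralizer.mp
      (component_commutator_eq_bot_of_ne hL hJbc fun h => hne h.le)
  have hfit : Cfsg.fittingSubgroup S = ⊥ := by
    rw [← le_bot_iff, ← hCb]
    exact (fitting_le_centralizer_layer).trans (by rw [hlay])
  have hFs : Cfsg.generalizedFittingSubgroup S = Jb := by
    rw [Cfsg.generalizedFittingSubgroup, hlay, hfit, sup_bot_eq]
  have hQF : Cfsg.HasQuasisimpleGeneralizedFitting S := by
    show Cfsg.IsQuasisimple ↥(Cfsg.generalizedFittingSubgroup S)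
    rw [hFs]
    exact hJbq
  obtain ⟨-, hBp⟩ := hB N ((centralizer (J : Set X)).subgroupOf N) hQF hO
  set xb := π ⟨x, hxJ⟩ with hxb
  have hord : orderOf xb = p := by
    refine orderOf_eq_prime ?_ fun h => hxc ((hπ1 _).mp h)
    rw [hxb, ← map_pow]
    exact (hπ1 _).mpr hxp
  set C := centralizer ({xb} : Set S) with hC
  set g : E →* C := (π.comp (inclusion (inf_le_left.trans le_normalizer : E ≤ N))).codRestrict C
    (fun e => mem_centralizer_singleton_iff.mpr (by
      rw [hxb]
      exact (map_mul π _ _).symm.trans ((congrArg π (Subtype.ext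
        (mem_centralizer_singleton_iff.mp e.2.2))).trans (map_mul π _ _)))) with hg
  have hgv : ∀ e : E, ((g e : C) : S) = π ⟨e, le_normalizer e.2.1⟩ := fun e => rfl
  have hgJ : g.range ≤ Jb.subgroupOf C := by
    rintro _ ⟨e, rfl⟩
    exact ⟨⟨e, le_normalizer e.2.1⟩, e.2.1, rfl⟩
  have hgn : (g.range.subgroupOf (Jb.subgroupOf C)).Normal := by
    refine ⟨?_⟩
    rintro ⟨_, _⟩ ⟨e, he⟩ ⟨⟨c, hc⟩, hcJ⟩
    obtain ⟨j, hj, (hjc : π j = c)⟩ := hcJ
    have hz : (j : X)⁻¹ * (x * (j : X) * x⁻¹) ∈ centralizer (J : Set X) := by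
      have h : π (j⁻¹ * (⟨x, hxJ⟩ * j * (⟨x, hxJ⟩ : N)⁻¹)) = 1 := by
        simp only [map_mul, map_inv]
        rw [hjc, ← hxb, show xb * c = c * xb from (mem_centralizer_singleton_iff.mp hc).symm]
        group
      exact (hπ1 _).mp h
    have hje : (j : X) * e * (j : X)⁻¹ ∈ centralizer ({x} : Set X) := by
      rw [mem_centralizer_singleton_iff]
      have he' : x * (e : X) * x⁻¹ = e := by
        rw [mul_inv_eq_iff_eq_mul]; exact (mem_centralizer_singleton_iff.mp e.2.2).symm
      have hz' : (e : X) * ((j : X)⁻¹ * (x * (j : X) * x⁻¹)) = ((j : X)⁻¹ * (x * (j : X) * x⁻¹)) * e :=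
        mem_centralizer_iff.mp hz e e.2.1
      have e1 : x * ((j : X) * e * (j : X)⁻¹) * x⁻¹ = (j : X) * e * (j : X)⁻¹ := by
        calc x * ((j : X) * e * (j : X)⁻¹) * x⁻¹ =
              x * (j : X) * x⁻¹ * (x * (e : X) * x⁻¹) * (x * (j : X) * x⁻¹)⁻¹ := by group
          _ = (j : X) * (((j : X)⁻¹ * (x * (j : X) * x⁻¹)) * e) * (x * (j : X) * x⁻¹)⁻¹ := by
              rw [he']; group
          _ = (j : X) * ((e : X) * ((j : X)⁻¹ * (x * (j : X) * x⁻¹))) * (x * (j : X) * x⁻¹)⁻¹ := by
              rw [hz']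
          _ = _ := by group
      rw [mul_inv_eq_iff_eq_mul] at e1
      exact e1.symm
    refine ⟨⟨(j : X) * e * (j : X)⁻¹, J.mul_mem (J.mul_mem hj e.2.1) (J.inv_mem hj), hje⟩, Subtype.ext ?_⟩
    have he'' : ((g e : C) : S) = _ := congrArg Subtype.val he
    rw [hgv] at he''
    show π (j * ⟨e, le_normalizer e.2.1⟩ * j⁻¹) = _
    simp only [map_mul, map_inv]
    exact congrArg₂ (fun a b : S => a * b * a⁻¹) hjc he''
  have hgsub : g.range.IsSubnormal :=
    IsSubnormal.trans hgJ hgn.isSubnormal (inferInstance : (Jb.subgroupOf C).Normal).isSubnormal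
  set Kc := (K.subgroupOf E).map g with hKc
  have hKcsub : Kc.IsSubnormal := by
    have := (isSubnormal_map_subtype_iff hgsub _).mpr (hKsub.map g.rangeRestrict_surjective)
    rwa [Subgroup.map_map] at this
  set ι : K →* Kc := (g.comp (inclusion hKE)).codRestrict Kc (fun k => ⟨⟨k, hKE k.2⟩, k.2, rfl⟩) with hι
  have hιs : Function.Surjective ι := by
    rintro ⟨_, e, he, rfl⟩
    exact ⟨⟨e, he⟩, rfl⟩
  have hιk : ι.ker ≤ Subgroup.center K := by
    intro k hk
    have h1 : ((g (inclusion hKE k) : C) : S) = 1 :=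
      congrArg Subtype.val (congrArg Subtype.val (MonoidHom.mem_ker.mp hk))
    rw [Subgroup.mem_center_iff]
    intro l
    exact Subtype.ext (mem_centralizer_iff.mp ((hπ1 _).mp h1) l (hKJ l.2))
  haveI hperf' := isPerfect_of_commutator hperf
  -- `K` has no proper normal subgroup of index prime to `p`
  have hnoidx : ∀ M : Subgroup Kc, M.Normal → (M.index).Coprime p → M = ⊤ := by
    intro M hM hidx
    rw [eq_top_iff, ← map_top_of_surjective ι hιs, map_le_iff_le_comap]
    have : K ≤ (M.comap ι).map K.subtype := by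
      conv_lhs => rw [← hgen]
      refine (closure_le _).mpr ?_
      rintro y ⟨hy, n, hn⟩
      refine ⟨⟨y, hy⟩, mem_of_isSubnormal_of_coprime_index hM.isSubnormal hidx (k := n) ?_, rfl⟩
      rw [← map_pow, show (⟨y, hy⟩ : K) ^ p ^ n = 1 from Subtype.ext hn, map_one]
    intro k _
    obtain ⟨l, hl, hlk⟩ := this k.2
    rwa [Subtype.ext hlk] at hl
  set qC := QuotientGroup.mk' (Cfsg.pPrimeCore p C) with hqC
  set φ : K →* Kc.map qC := (qC.subgroupMap Kc).comp ι with hφ
  have hφs : Function.Surjective φ := (qC.subgroupMap_surjective Kc).comp hιs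
  have hφO : Cfsg.pPrimeCore p K ≤ φ.ker := by
    intro k hk
    set M := ((Cfsg.pPrimeCore p K).map ι).map Kc.subtype
    have hMn : ((Cfsg.pPrimeCore p K).map ι).Normal :=
      (Cores.pPrimeCore_normal (G := K) p).map ι hιs
    have hMle : M ≤ Cfsg.pPrimeCore p C := by
      refine le_pPrimeCore_of_isSubnormal ((isSubnormal_map_subtype_iff hKcsub _).mpr hMn.isSubnormal) ?_
      rw [card_subtype]
      exact (Cores.pPrimeCore_card_coprime p).coprime_dvd_left (Subgroup.card_map_dvd _ _)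
    exact Subtype.ext ((QuotientGroup.eq_one_iff _).mpr (hMle ⟨_, ⟨k, hk, rfl⟩, rfl⟩))
  haveI : Nontrivial (Kc.map qC) := by
    rw [Subgroup.nontrivial_iff_ne_bot]
    intro hbot
    rw [Subgroup.map_eq_bot_iff, QuotientGroup.ker_mk'] at hbot
    refine not_le_centralizer hperf hKne hKJ ?_
    rw [← hgen]
    refine (closure_le _).mpr ?_
    rintro y ⟨hy, n, hn⟩
    have h1 : g ⟨y, hKE hy⟩ = 1 := by
      rw [← orderOf_eq_one_iff]
      refine Nat.eq_one_of_dvd_coprimes ((Cores.pPrimeCore_card_coprime (G := C) p).pow_right n)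
        (Subgroup.orderOf_dvd_natCard _ (hbot ⟨_, hy, rfl⟩)) (orderOf_dvd_of_pow_eq_one ?_)
      rw [← map_pow, show (⟨y, hKE hy⟩ : E) ^ p ^ n = 1 from Subtype.ext hn, map_one]
    exact (hπ1 _).mp (congrArg Subtype.val h1)
  have hKcq : Cfsg.IsQuasisimple (Kc.map qC) := by
    refine Local.isQuasisimple_of_surjective
      (f := QuotientGroup.lift (Cfsg.pPrimeCore p K) φ hφO) (fun y => ?_) hKq
    obtain ⟨k, rfl⟩ := hφs y
    exact ⟨QuotientGroup.mk k, rfl⟩
  exact isQuasisimple_of_central hιs hperf' hιk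
    (hBp xb hord Kc ((Cfsg.Agent.S1887.result.2) Kc hKcsub ⟨hKcsub.quotient, hKcq⟩ hnoidx))

end Cfsg.Agent.Components.AlmostSimpleSection
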