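import Cfsg.Agent.Lib.Components.PComponents

/-!
An intrinsic criterion for `p`-components: subnormal, generated by `p`-elements and quasisimple modulo
the `p'`-core.
-/

set_option autoImplicit false
set_option linter.style.haveILetI false

namespace Cfsg.Agent.Components.PComponentCriterion

open Subgroup Cfsg.Agent.Components.Basic Cfsg.Agent.Components.PComponents

universe u v

variable {G : Type u} [Group G] {G' : Type v} [Group G'] {p : ℕ}

/-- The intrinsic part of being a `p`-component. -/
def IsCore (p : ℕ) (K : Subgroup G) : Prop :=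
  pGen p K = K ∧ Cfsg.IsQuasisimple (↥K ⧸ Cfsg.pPrimeCore p ↥K)

lemma pGen_map {f : G →* G'} (hf : Function.Injective f) (K : Subgroup G) :
    pGen p (K.map f) = (pGen p K).map f := by
  refine le_antisymm ((closure_le _).mpr ?_) (map_pGen_le f K)
  rintro _ ⟨⟨x, hx, rfl⟩, k, hk⟩
  exact ⟨x, subset_closure ⟨hx, k, hf (by rw [map_pow, hk, map_one])⟩, rfl⟩

lemma isCore_map_iff {f : G →* G'} (hf : Function.Injective f) {K : Subgroup G} :
    IsCore p (K.map f) ↔ IsCore p K := by
  unfold IsCore
  rw [pGen_map hf, (Subgroup.map_injective hf).eq_iff]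
  exact and_congr Iff.rfl (isQuasisimple_congr
    (QuotientGroup.congr _ _ (K.equivMapOfInjective f hf) (Cores.map_pPrimeCore_eq _ p))).symm

lemma isCore_subgroupOf_iff {K H : Subgroup G} (h : K ≤ H) : IsCore p (K.subgroupOf H) ↔ IsCore p K := by
  rw [← isCore_map_iff H.subtype_injective, map_subgroupOf_eq_of_le h]

variable [Finite G] [hp : Fact p.Prime]

omit hp in
/-- The image of a subnormal subgroup modulo `O_{p'}(G)`. -/
noncomputable def mapEquiv {H : Subgroup G} (hH : H.IsSubnormal) :
    ↥H ⧸ Cfsg.pPrimeCore p ↥H ≃* H.map (QuotientGroup.mk' (Cfsg.pPrimeCore p G)) :=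
  (QuotientGroup.quotientMulEquivOfEq (M := Cfsg.pPrimeCore p ↥H)
    (N := ((QuotientGroup.mk' (Cfsg.pPrimeCore p G)).subgroupMap H).ker) (by
      apply Subgroup.map_injective H.subtype_injective
      rw [map_pPrimeCore_subtype hH, ← subgroupOf_map_subtype]
      congr 1
      ext h
      exact ((Subtype.ext_iff).trans (QuotientGroup.eq_one_iff (h : G))).symm)).trans
    (QuotientGroup.quotientKerEquivOfSurjective _ (MonoidHom.subgroupMap_surjective _ _))

lemma pcomp_isCore {K : Subgroup G} (hK : Cfsg.IsPComponent p K) : IsCore p K := by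
  refine ⟨le_antisymm (pGen_le K) ?_, (isQuasisimple_congr (mapEquiv hK.1)).mpr hK.2.1.2⟩
  conv_lhs => rw [pcomp_eq_liftComp hK]
  refine (closure_le _).mpr fun x hx => subset_closure ⟨?_, hx.2⟩
  rw [pcomp_eq_liftComp hK]
  exact subset_closure hx

/-- The criterion. -/
lemma isPComponent_of_isCore {H : Subgroup G} (hH : H.IsSubnormal) (h : IsCore p H) :
    Cfsg.IsPComponent p H := by
  set q := QuotientGroup.mk' (Cfsg.pPrimeCore p G)
  have hc : Cfsg.IsComponent (H.map q) := ⟨hH.quotient, (isQuasisimple_congr (mapEquiv hH)).mp h.2⟩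
  have hle : liftComp p (H.map q) ≤ H := pGen_le_of_map_eq _ (Cores.pPrimeCore_card_coprime p)
    (le_comap_map _ _) hH (by rw [map_comap_eq_self_of_surjective (QuotientGroup.mk'_surjective _)])
  have heq : H = liftComp p (H.map q) := by
    refine le_antisymm ?_ hle
    calc H = pGen p H := h.1.symm
      _ ≤ liftComp p (H.map q) := closure_mono fun x hx => ⟨le_comap_map _ _ hx.1, hx.2⟩
  rw [heq]
  exact isPComponent_liftComp hc

lemma isPComponent_iff_isCore {K : Subgroup G} :
    Cfsg.IsPComponent p K ↔ K.IsSubnormal ∧ IsCore p K :=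
  ⟨fun h => ⟨h.1, pcomp_isCore h⟩, fun h => isPComponent_of_isCore h.1 h.2⟩

/-- A `p`-component inside a subgroup `H` is a `p`-component of `H`. -/
lemma isPComponent_subgroupOf {K H : Subgroup G} (hK : Cfsg.IsPComponent p K) (h : K ≤ H) :
    Cfsg.IsPComponent p (K.subgroupOf H) :=
  isPComponent_of_isCore hK.1.subgroupOf ((isCore_subgroupOf_iff h).mpr (pcomp_isCore hK))

/-- Injective maps with subnormal range preserve `p`-components. -/
lemma isPComponent_map_of_range {A : Type v} [Group A] [Finite A] {f : A →* G}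
    (hf : Function.Injective f) (hr : f.range.IsSubnormal) {K : Subgroup A}
    (hK : Cfsg.IsPComponent p K) : Cfsg.IsPComponent p (K.map f) := by
  refine isPComponent_of_isCore ?_ ((isCore_map_iff hf).mpr (pcomp_isCore hK))
  have := (isSubnormal_map_subtype_iff hr _).mpr (hK.1.map f.rangeRestrict_surjective)
  rwa [Subgroup.map_map] at this

lemma isPComponent_map_subtype {H : Subgroup G} (hH : H.IsSubnormal) {K : Subgroup H}
    (hK : Cfsg.IsPComponent p K) : Cfsg.IsPComponent p (K.map H.subtype) :=
  isPComponent_map_of_range H.subtype_injective (by rwa [range_subtype]) hK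

omit hp in
lemma isCore_eq_top_of_coprime_index {K : Subgroup G} (hK : IsCore p K) (N : Subgroup K) [N.Normal]
    (hN : N.index.Coprime p) : N = ⊤ := by
  have h : K ≤ N.map K.subtype := by
    conv_lhs => rw [← hK.1]
    refine (closure_le _).mpr ?_
    rintro y ⟨hy, n, hn⟩
    exact ⟨⟨y, hy⟩, mem_of_isSubnormal_of_coprime_index (inferInstance : N.Normal).isSubnormal hN
      (k := n) (Subtype.ext hn), rfl⟩
  refine eq_top_iff.mpr fun k _ => ?_
  obtain ⟨l, hl, hlk⟩ := h k.2
  rwa [Subtype.ext hlk] at hl

end Cfsg.Agent.Components.PComponentCriterion
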