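import Cfsg.Agent.Lib.Components.PComponents
import Cfsg.Agent.Lib.Cores.Subnormal
import Cfsg.Prelude.Def_Balance

/-!
`M = L_{p'}(G) O_{p',p}(G)`, its Sylow `p`-subgroups `T`, and `L_{p'}(G) O_{p'}(G) O_{p'}(C(T))`
(for `p = 2` the extended 2-layer).
-/

set_option autoImplicit false

namespace Cfsg.Agent.Components.ExtendedLayer

open Subgroup
open Cfsg.Agent.Components.Basic Cfsg.Agent.Components.PComponents

universe u

variable {G : Type u} [Group G] {p : ℕ}

/-- `O_{p'}(C_G(P))` inside `G`. -/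
def coreCent (p : ℕ) (P : Subgroup G) : Subgroup G :=
  (Cfsg.pPrimeCore p ↥(centralizer (P : Set G))).map (centralizer (P : Set G)).subtype

lemma coreCent_le (P : Subgroup G) : coreCent p P ≤ centralizer (P : Set G) := map_subtype_le _

lemma coprime_card_coreCent [Finite G] (P : Subgroup G) : (Nat.card (coreCent p P)).Coprime p := by
  rw [coreCent, Subgroup.card_map_of_injective (centralizer (P : Set G)).subtype_injective]
  exact Cores.pPrimeCore_card_coprime p

lemma le_normalizer_coreCent (P : Subgroup G) :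
    centralizer (P : Set G) ≤ normalizer (coreCent p P : Set G) := by
  haveI : (Cfsg.pPrimeCore p ↥(centralizer (P : Set G))).Normal := inferInstance
  refine le_trans ?_ (le_normalizer_map (centralizer (P : Set G)).subtype)
  rw [normalizer_eq_top, ← MonoidHom.range_eq_map, range_subtype]

lemma coreCent_map_equiv (e : G ≃* G) (P : Subgroup G) :
    (coreCent p P).map e.toMonoidHom = coreCent p (P.map e.toMonoidHom) := by
  have key : ∀ H K : Subgroup G, H.map e.toMonoidHom = K →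
      ((Cfsg.pPrimeCore p H).map H.subtype).map e.toMonoidHom =
        (Cfsg.pPrimeCore p K).map K.subtype := by
    rintro H _ rfl
    refine Eq.trans ?_ (congrArg (Subgroup.map (H.map e.toMonoidHom).subtype)
      (Cores.map_pPrimeCore_eq (e.subgroupMap H) p))
    erw [Subgroup.map_map, Subgroup.map_map]
    rfl
  refine key _ _ (Subgroup.ext fun x => ?_)
  simp only [mem_map, mem_centralizer_iff, SetLike.mem_coe, MulEquiv.coe_toMonoidHom]
  constructor
  · rintro ⟨c, hc, rfl⟩ _ ⟨y, hy, rfl⟩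
    rw [← map_mul, ← map_mul, hc y hy]
  · intro h
    refine ⟨e.symm x, fun y hy => e.injective ?_, e.apply_symm_apply x⟩
    rw [map_mul, map_mul, e.apply_symm_apply]
    exact h _ ⟨y, hy, rfl⟩

lemma pGen_map_equiv {G' : Type*} [Group G'] (e : G ≃* G') (H : Subgroup G) :
    (pGen p H).map e.toMonoidHom = pGen p (H.map e.toMonoidHom) := by
  refine le_antisymm (map_pGen_le _ _) ((closure_le _).mpr ?_)
  rintro _ ⟨⟨y, hy, rfl⟩, k, hk⟩
  refine ⟨y, subset_closure ⟨hy, k, e.injective ?_⟩, rfl⟩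
  rw [map_pow, map_one]
  exact hk

lemma map_conj_normal (N : Subgroup G) [N.Normal] (g : G) :
    N.map (MulAut.conj g).toMonoidHom = N :=
  mem_normalizer_iff_map_conj_eq.mp (by rw [normalizer_eq_top]; exact mem_top g)

variable [Finite G] [hp : Fact p.Prime]

lemma isPComponent_conj {K : Subgroup G} (hK : Cfsg.IsPComponent p K) (g : G) :
    Cfsg.IsPComponent p (K.map (MulAut.conj g).toMonoidHom) := by
  set q := QuotientGroup.mk' (Cfsg.pPrimeCore p G) with hq
  refine isPComponent_iff.mpr ⟨_, component_conj hK.2.1 (q g), ?_⟩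
  conv_rhs => rw [pcomp_eq_liftComp hK]
  rw [liftComp, liftComp, pGen_map_equiv]
  congr 1
  ext x
  simp only [mem_comap, mem_map, MulEquiv.coe_toMonoidHom, MulAut.conj_apply]
  constructor
  · rintro ⟨y, hy, hyx⟩
    refine ⟨g⁻¹ * x * g, ?_, by group⟩
    have : q (g⁻¹ * x * g) = y := by rw [map_mul, map_mul, ← hyx, map_inv]; group
    exact this ▸ hy
  · rintro ⟨y, hy, rfl⟩
    exact ⟨q y, hy, by rw [map_mul, map_mul, map_inv]⟩

lemma pLayer_normal : (Cfsg.pLayer p G).Normal := by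
  refine ⟨fun n hn g => ?_⟩
  have : (Cfsg.pLayer p G).map (MulAut.conj g).toMonoidHom ≤ Cfsg.pLayer p G := by
    rw [map_le_iff_le_comap]
    exact sSup_le fun K hK => map_le_iff_le_comap.mp (le_sSup (isPComponent_conj hK g))
  exact this ⟨n, hn, rfl⟩

lemma pPrimePCore_normal : (Cfsg.pPrimePCore p G).Normal :=
  (inferInstance : (Cfsg.pCore p (G ⧸ Cfsg.pPrimeCore p G)).Normal).comap _

lemma sup_pLayer_pPrimePCore_normal : (Cfsg.pLayer p G ⊔ Cfsg.pPrimePCore p G).Normal := by
  haveI := pLayer_normal (G := G) (p := p)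
  haveI := pPrimePCore_normal (G := G) (p := p)
  infer_instance

/-- An element normalizing the image of a `p`-component normalizes it. -/
lemma pcomp_mem_normalizer_of_map {K : Subgroup G} (hK : Cfsg.IsPComponent p K) {g : G}
    (h : QuotientGroup.mk' (Cfsg.pPrimeCore p G) g ∈
      normalizer (K.map (QuotientGroup.mk' (Cfsg.pPrimeCore p G)) : Set _)) :
    g ∈ normalizer (K : Set G) := by
  set q := QuotientGroup.mk' (Cfsg.pPrimeCore p G)
  have h2 : g ∈ normalizer (((K.map q).comap q : Subgroup G) : Set G) := le_normalizer_comap q h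
  rw [pcomp_eq_liftComp hK]
  exact normalizer_le_normalizer_pGen _ h2

lemma pPrimeCore_le_normalizer {K : Subgroup G} (hK : Cfsg.IsPComponent p K) :
    Cfsg.pPrimeCore p G ≤ normalizer (K : Set G) := fun g hg =>
  pcomp_mem_normalizer_of_map hK (by
    rw [show QuotientGroup.mk' (Cfsg.pPrimeCore p G) g = 1 from (QuotientGroup.eq_one_iff g).mpr hg]
    exact one_mem _)

/-- The ambient image of a Sylow `p`-subgroup of `L_{p'}(G) O_{p',p}(G)`. -/
abbrev amb (T : Sylow p ↥(Cfsg.pLayer p G ⊔ Cfsg.pPrimePCore p G)) : Subgroup G :=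
  (T : Subgroup ↥(Cfsg.pLayer p G ⊔ Cfsg.pPrimePCore p G)).map
    (Cfsg.pLayer p G ⊔ Cfsg.pPrimePCore p G).subtype

lemma not_dvd_relIndex_amb (T : Sylow p ↥(Cfsg.pLayer p G ⊔ Cfsg.pPrimePCore p G)) {A : Subgroup G}
    (hA : A.IsSubnormal) (hle : A ≤ Cfsg.pLayer p G ⊔ Cfsg.pPrimePCore p G) :
    ¬ p ∣ (amb T).relIndex A := by
  have h := Cores.sylow_subgroupOf_isSubnormal T
    (hA.subgroupOf (K := Cfsg.pLayer p G ⊔ Cfsg.pPrimePCore p G))
  rwa [← relIndex, show (T : Subgroup ↥(Cfsg.pLayer p G ⊔ Cfsg.pPrimePCore p G)) =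
    (amb T).subgroupOf _ from (comap_map_eq_self_of_injective (subtype_injective _) _).symm,
    relIndex_subgroupOf hle] at h

lemma sup_amb_eq (T : Sylow p ↥(Cfsg.pLayer p G ⊔ Cfsg.pPrimePCore p G)) :
    Cfsg.pLayer p G ⊔ Cfsg.pPrimeCore p G ⊔ amb T = Cfsg.pLayer p G ⊔ Cfsg.pPrimePCore p G := by
  have hR : Cfsg.pPrimeCore p G ≤ Cfsg.pPrimePCore p G := fun x hx => by
    show QuotientGroup.mk' (Cfsg.pPrimeCore p G) x ∈ Cfsg.pCore p _
    rw [show QuotientGroup.mk' (Cfsg.pPrimeCore p G) x = 1 from (QuotientGroup.eq_one_iff x).mpr hx]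
    exact one_mem _
  refine le_antisymm (sup_le (sup_le le_sup_left (hR.trans le_sup_right)) (map_subtype_le _))
    (sup_le (le_sup_left.trans le_sup_left) (relIndex_eq_one.mp ?_))
  set q := QuotientGroup.mk' (Cfsg.pPrimeCore p G) with hq
  have e1 : (Cfsg.pPrimeCore p G).relIndex (Cfsg.pPrimePCore p G) =
      Nat.card ↥(Cfsg.pCore p (G ⧸ Cfsg.pPrimeCore p G)) := by
    conv_lhs => arg 1; rw [← QuotientGroup.ker_mk' (Cfsg.pPrimeCore p G), ← MonoidHom.comap_bot (QuotientGroup.mk' (Cfsg.pPrimeCore p G))]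
    rw [relIndex_comap, Cfsg.pPrimePCore,
      map_comap_eq_self_of_surjective (QuotientGroup.mk'_surjective _), relIndex_bot_left]
  obtain ⟨k, hk⟩ := IsPGroup.iff_card.1 (Cores.pCore_isPGroup (G := G ⧸ Cfsg.pPrimeCore p G) p)
  exact Nat.eq_one_of_dvd_coprimes
    ((hp.out.coprime_iff_not_dvd.mpr (not_dvd_relIndex_amb T
      (pPrimePCore_normal (G := G) (p := p)).isSubnormal le_sup_right)).pow_left k)
    (hk ▸ e1 ▸ relIndex_dvd_of_le_left _ (le_sup_right.trans le_sup_left))
    (relIndex_dvd_of_le_left _ le_sup_right)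

/-- `L_{p'}(G) O_{p'}(G) O_{p'}(C(T))`. -/
def extAt (T : Sylow p ↥(Cfsg.pLayer p G ⊔ Cfsg.pPrimePCore p G)) : Subgroup G :=
  Cfsg.pLayer p G ⊔ Cfsg.pPrimeCore p G ⊔ coreCent p (amb T)

lemma le_normalizer_extAt (T : Sylow p ↥(Cfsg.pLayer p G ⊔ Cfsg.pPrimePCore p G)) :
    Cfsg.pLayer p G ⊔ Cfsg.pPrimePCore p G ≤ normalizer (extAt T : Set G) := by
  rw [← sup_amb_eq T]
  refine sup_le (le_trans le_sup_left (le_normalizer (H := extAt T))) ?_
  intro t ht
  haveI := pLayer_normal (G := G) (p := p)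
  rw [mem_normalizer_iff_map_conj_eq, extAt, Subgroup.map_sup, Subgroup.map_sup]
  erw [map_conj_normal, map_conj_normal, coreCent_map_equiv]
  congr 2
  exact mem_normalizer_iff_map_conj_eq.mp (le_normalizer ht)

lemma coreCent_amb_le (T S : Sylow p ↥(Cfsg.pLayer p G ⊔ Cfsg.pPrimePCore p G)) :
    coreCent p (amb S) ≤ extAt T := by
  obtain ⟨m, rfl⟩ := MulAction.exists_smul_eq (↥(Cfsg.pLayer p G ⊔ Cfsg.pPrimePCore p G)) T S
  have h : amb (m • T) = (amb T).map (MulAut.conj (m : G)).toMonoidHom := by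
    rw [amb, Sylow.coe_subgroup_smul, Subgroup.pointwise_smul_def]
    erw [Subgroup.map_map, Subgroup.map_map]
    rfl
  rw [h, ← coreCent_map_equiv]
  refine (Subgroup.map_mono (le_sup_right : _ ≤ extAt T)).trans (le_of_eq ?_)
  exact mem_normalizer_iff_map_conj_eq.mp (le_normalizer_extAt T m.2)

lemma exists_amb_conj (T : Sylow p ↥(Cfsg.pLayer p G ⊔ Cfsg.pPrimePCore p G)) (g : G) :
    ∃ S : Sylow p ↥(Cfsg.pLayer p G ⊔ Cfsg.pPrimePCore p G),
      amb S = (amb T).map (MulAut.conj g).toMonoidHom := by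
  haveI := sup_pLayer_pPrimePCore_normal (G := G) (p := p)
  refine ⟨(MulAut.conjNormal g : MulAut ↥(Cfsg.pLayer p G ⊔ Cfsg.pPrimePCore p G)) • T, ?_⟩
  rw [amb, Sylow.pointwise_smul_def, Subgroup.pointwise_smul_def]
  erw [Subgroup.map_map, Subgroup.map_map]
  congr 1

lemma extAt_normal (T : Sylow p ↥(Cfsg.pLayer p G ⊔ Cfsg.pPrimePCore p G)) :
    (extAt T).Normal := by
  refine ⟨fun n hn g => ?_⟩
  haveI := pLayer_normal (G := G) (p := p)
  have : (extAt T).map (MulAut.conj g).toMonoidHom ≤ extAt T := by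
    obtain ⟨S, hS⟩ := exists_amb_conj T g
    rw [extAt, Subgroup.map_sup, Subgroup.map_sup, map_conj_normal, map_conj_normal,
      coreCent_map_equiv, ← hS]
    exact sup_le le_sup_left (coreCent_amb_le T S)
  exact this ⟨n, hn, rfl⟩

/-- `O_{p'}(C(T))` normalizes every `p`-component. -/
lemma coreCent_le_normalizer {K : Subgroup G} (hK : Cfsg.IsPComponent p K)
    (T : Sylow p ↥(Cfsg.pLayer p G ⊔ Cfsg.pPrimePCore p G)) :
    coreCent p (amb T) ≤ normalizer (K : Set G) := by
  intro g hg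
  refine pcomp_mem_normalizer_of_map hK ?_
  set q := QuotientGroup.mk' (Cfsg.pPrimeCore p G) with hq
  rw [mem_normalizer_iff_map_conj_eq]
  by_contra hne
  have h0 := component_commutator_eq_bot_of_ne (component_conj hK.2.1 (q g)) hK.2.1 hne
  set P := (amb T ⊓ K).map q with hP
  have hPK : P ≤ K.map q := Subgroup.map_mono inf_le_right
  have hPc : P.subgroupOf (K.map q) ≤ Subgroup.center ↥(K.map q) := by
    rintro ⟨x, hxK⟩ hx
    obtain ⟨y, hy, rfl⟩ := mem_subgroupOf.mp hx
    have hfix : MulAut.conj (q g) (q y) = q y := by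
      rw [MulAut.conj_apply, ← map_inv, ← map_mul, ← map_mul,
        ← mem_centralizer_iff.mp (coreCent_le _ hg) y hy.1, mul_inv_cancel_right]
    rw [Subgroup.mem_center_iff]
    rintro ⟨z, hz⟩
    exact Subtype.ext (mem_centralizer_iff.mp (commutator_eq_bot_iff_le_centralizer.mp h0
      (⟨q y, hxK, hfix⟩ : q y ∈ (K.map q).map (MulAut.conj (q g)).toMonoidHom)) z hz)
  have hidx : (Subgroup.center ↥(K.map q)).index.Coprime p := by
    refine Nat.Coprime.coprime_dvd_left (index_dvd_of_le hPc) ?_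
    rw [← relIndex, hP, ← relIndex_comap]
    refine Nat.Coprime.coprime_dvd_left ?_ ((hp.out.coprime_iff_not_dvd.mpr
      (not_dvd_relIndex_amb T hK.1 ((le_sSup hK : K ≤ Cfsg.pLayer p G).trans le_sup_left))).symm)
    exact (inf_relIndex_right (amb T) K) ▸ relIndex_dvd_of_le_left K (le_comap_map q (amb T ⊓ K))
  exact quasisimple_center_ne_top hK.2.1.2
    (component_eq_top_of_coprime_index (Cores.pPrimeCore_quotient_self p) hK.2.1 _ hidx)

end Cfsg.Agent.Components.ExtendedLayer
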