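import Cfsg.Agent.Lib.Components.LocalBalance
import Cfsg.Agent.Lib.Components.ExtendedLayer
import Cfsg.Prelude.Def_KGroupFacts

/-!
`L_{p'}`-balance from solvability of the outer automorphism groups of the components.
-/

set_option autoImplicit false

namespace Cfsg.Agent.Components.SchreierBalance

open Subgroup
open Cfsg.Agent.Components.Basic Cfsg.Agent.Components.Fitting Cfsg.Agent.Components.PComponents
open Cfsg.Agent.Components.LocalBalance

universe u

variable {G : Type u} [Group G] {p : ℕ}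

/-- The elements of `N(L)` inducing inner automorphisms of `L/Z(L)`. -/
def innerFix (L : Subgroup G) : Subgroup G :=
  ((Cfsg.Inn (↥L ⧸ Subgroup.center ↥L)).comap (actQuot L)).map (normalizer (L : Set G)).subtype

lemma conj_mem_inn (A : Type u) [Group A] (a : A) : MulAut.conj a ∈ Cfsg.Inn A := ⟨a, rfl⟩

lemma self_le_innerFix (L : Subgroup G) : L ≤ innerFix L := by
  intro l hl
  refine ⟨⟨l, le_normalizer hl⟩, ?_, rfl⟩
  have e : actQuot L ⟨l, le_normalizer hl⟩ = MulAut.conj (QuotientGroup.mk ⟨l, hl⟩) := by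
    ext x
    induction x using QuotientGroup.induction_on with
    | H z => rfl
  show actQuot L ⟨l, le_normalizer hl⟩ ∈ Cfsg.Inn (↥L ⧸ Subgroup.center ↥L)
  rw [e]
  exact conj_mem_inn _ _

lemma centralizer_le_innerFix {L : Subgroup G} (hL : Cfsg.IsComponent L) :
    centralizer (L : Set G) ≤ innerFix L := by
  intro c hc
  refine ⟨⟨c, centralizer_le_normalizer _ hc⟩, ?_, rfl⟩
  show actQuot L ⟨c, centralizer_le_normalizer _ hc⟩ ∈ Cfsg.Inn (↥L ⧸ Subgroup.center ↥L)
  rw [(actQuot_eq_one_iff hL _).mpr hc]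
  exact one_mem _

variable [Finite G]

lemma layer_le_innerFix {L : Subgroup G} (hL : Cfsg.IsComponent L) : Cfsg.layer G ≤ innerFix L :=
  layer_le fun K hK => by
    by_cases h : K = L
    · exact h ▸ self_le_innerFix L
    · exact (commutator_eq_bot_iff_le_centralizer.mp
        (component_commutator_eq_bot_of_ne hK hL h)).trans (centralizer_le_innerFix hL)

/-- A perfect subgroup normalizing `L` acts innerly when `Out(L/Z(L))` is solvable. -/
lemma le_innerFix_of_perfect {W L : Subgroup G} (hW : ⁅W, W⁆ = W) (hWL : W ≤ normalizer (L : Set G))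
    (hS : Group.IsSolvable (Cfsg.Out (↥L ⧸ Subgroup.center ↥L))) : W ≤ innerFix L := by
  haveI := hS
  set f : W →* Cfsg.Out (↥L ⧸ Subgroup.center ↥L) :=
    (QuotientGroup.mk' (Cfsg.Inn (↥L ⧸ Subgroup.center ↥L))).comp ((actQuot L).comp (inclusion hWL))
    with hf
  haveI : Group.IsPerfect W := Subgroup.isPerfect_iff.mpr hW
  haveI : Group.IsPerfect f.range := Group.IsPerfect.ofSurjective f.rangeRestrict_surjective
  haveI : Group.IsSolvable f.range := inferInstance
  have htriv : Subsingleton f.range := by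
    by_contra hne
    rw [not_subsingleton_iff_nontrivial] at hne
    have h1 := Group.IsPerfect.commutator_eq_top (G := f.range)
    exact (IsSolvable.commutator_lt_top_of_nontrivial f.range).ne h1
  intro w hw
  refine ⟨⟨w, hWL hw⟩, ?_, rfl⟩
  have h1 : f ⟨w, hw⟩ = 1 := congrArg Subtype.val (Subsingleton.elim (⟨_, ⟨w, hw⟩, rfl⟩ : f.range) 1)
  exact (QuotientGroup.eq_one_iff (actQuot L ⟨w, hWL hw⟩)).mp h1

variable [hp : Fact p.Prime]

/-- A perfect subgroup fixing all components and centralizing `O_p(G)` lies in the layer when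
`O_{p'}(G) = 1` and the outer automorphism groups of the components are solvable. -/
lemma le_layer_of_perfect (hO : Cfsg.pPrimeCore p G = ⊥) {W : Subgroup G} (hW : ⁅W, W⁆ = W)
    (hWf : W ≤ LocalFix.fixer G) (hWO : W ≤ centralizer (Cfsg.pCore p G : Set G))
    (hS : ∀ L : Subgroup G, Cfsg.IsComponent L → Group.IsSolvable (Cfsg.Out (↥L ⧸ Subgroup.center ↥L))) :
    W ≤ Cfsg.layer G := by
  classical
  have hin : ∀ L : Subgroup G, Cfsg.IsComponent L → W ⊔ Cfsg.layer G ≤ innerFix L := fun L hL =>
    sup_le (le_innerFix_of_perfect hW (hWf.trans (iInf_le_of_le ⟨L, hL⟩ le_rfl)) (hS L hL))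
      (layer_le_innerFix hL)
  have key : ∀ w ∈ W, ∀ s : Finset {L : Subgroup G // Cfsg.IsComponent L},
      ∃ e ∈ Cfsg.layer G, ∀ L ∈ s, e⁻¹ * w ∈ centralizer (L.1 : Set G) := by
    intro w hw s
    induction s using Finset.induction_on with
    | empty => exact ⟨1, one_mem _, by simp⟩
    | insert L s hLs ih =>
      obtain ⟨e, he, hes⟩ := ih
      obtain ⟨u, hu, hue⟩ := hin L.1 L.2 (mul_mem (mem_sup_right (inv_mem he)) (mem_sup_left hw))
      obtain ⟨x, hx⟩ := hu
      induction x using QuotientGroup.induction_on with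
      | H l =>
        set l' : normalizer (L.1 : Set G) := ⟨(l : G), le_normalizer l.2⟩
        have hl : actQuot L.1 l' = MulAut.conj (QuotientGroup.mk l) := by
          ext x
          induction x using QuotientGroup.induction_on with
          | H z => rfl
        have h1 : ((l'⁻¹ * u : normalizer (L.1 : Set G)) : G) ∈ centralizer (L.1 : Set G) := by
          rw [← actQuot_eq_one_iff L.2, map_mul, map_inv, hl, ← hx, inv_mul_cancel]
        refine ⟨e * l, mul_mem he (le_layer L.2 l.2), fun M hM => ?_⟩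
        rcases Finset.mem_insert.mp hM with rfl | hM'
        · have : (e * (l : G))⁻¹ * w = (l : G)⁻¹ * (e⁻¹ * w) := by group
          rw [this, ← hue]
          exact h1
        · have hne : L.1 ≠ M.1 := fun h => hLs (Subtype.ext h ▸ hM')
          have : (e * (l : G))⁻¹ * w = (l : G)⁻¹ * (e⁻¹ * w) := by group
          rw [this]
          exact mul_mem (inv_mem (commutator_eq_bot_iff_le_centralizer.mp
            (component_commutator_eq_bot_of_ne L.2 M.2 hne) l.2)) (hes M hM')
  haveI : Fintype {L : Subgroup G // Cfsg.IsComponent L} := Fintype.ofFinite _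
  have hWF : W ≤ Cfsg.layer G ⊔ Cfsg.pCore p G := by
    intro w hw
    obtain ⟨e, he, hec⟩ := key w hw Finset.univ
    have hcE : e⁻¹ * w ∈ centralizer (Cfsg.layer G : Set G) := le_centralizer_iff.mp
      (layer_le fun L hL => le_centralizer_iff.mp (zpowers_le.mpr (hec ⟨L, hL⟩ (Finset.mem_univ _))))
      (mem_zpowers _)
    have hcO : e⁻¹ * w ∈ centralizer (Cfsg.pCore p G : Set G) :=
      mul_mem (inv_mem (Local.layer_le_centralizer_pCore he)) (hWO hw)
    have hcF : e⁻¹ * w ∈ centralizer (Cfsg.generalizedFittingSubgroup G : Set G) := by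
      refine le_centralizer_iff.mp ?_ (mem_zpowers _)
      rw [Cfsg.generalizedFittingSubgroup, fitting_eq_pCore hO]
      exact sup_le (le_centralizer_iff.mp (zpowers_le.mpr hcE)) (le_centralizer_iff.mp (zpowers_le.mpr hcO))
    have hmem := centralizer_genFitting_le hcF
    rw [Cfsg.generalizedFittingSubgroup, fitting_eq_pCore hO] at hmem
    rw [show w = e * (e⁻¹ * w) by group]
    exact mul_mem (mem_sup_left he) hmem
  set q := QuotientGroup.mk' (Cfsg.layer G) with hq
  have h1 : W.map q ≤ (Cfsg.pCore p G).map q := by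
    refine (Subgroup.map_mono hWF).trans ?_
    rw [Subgroup.map_sup, show (Cfsg.layer G).map q = ⊥ from QuotientGroup.map_mk'_self _, bot_sup_eq]
  have h2 : W.map q = ⊥ := by
    have hp' : IsPGroup p (W.map q) := ((Cores.pCore_isPGroup p).map q).to_le h1
    haveI := hp'.isNilpotent
    by_contra hne
    haveI : Nontrivial (W.map q) := (Subgroup.nontrivial_iff_ne_bot _).mpr hne
    haveI : Group.IsSolvable (W.map q) := IsNilpotent.to_isSolvable
    have hperf : Group.IsPerfect (W.map q) := Subgroup.isPerfect_iff.mpr (by rw [← map_commutator, hW])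
    exact (IsSolvable.commutator_lt_top_of_nontrivial (W.map q)).ne hperf.commutator_eq_top
  rwa [Subgroup.map_eq_bot_iff, QuotientGroup.ker_mk'] at h2

lemma map_layer_le_of_surjective {G' : Type*} [Group G'] {f : G →* G'} (hf : Function.Surjective f) :
    (Cfsg.layer G).map f ≤ Cfsg.layer G' := by
  rw [map_le_iff_le_comap]
  refine layer_le fun L hL => map_le_iff_le_comap.mp ?_
  by_cases h : L.map f = ⊥
  · rw [h]; exact bot_le
  · haveI : Nontrivial (L.map f) := (Subgroup.nontrivial_iff_ne_bot _).mpr h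
    exact le_layer ⟨hL.1.map hf, Local.isQuasisimple_of_surjective (f.subgroupMap_surjective L) hL.2⟩

/-- `L_{p'}`-balance under the Schreier property. -/
theorem pLayer_normalizer_le
    (hS : ∀ K : Subgroup (G ⧸ Cfsg.pPrimeCore p G), Cfsg.IsComponent K →
      Group.IsSolvable (Cfsg.Out (↥K ⧸ Subgroup.center ↥K)))
    {P : Subgroup G} (hP : IsPGroup p P) :
    (Cfsg.pLayer p ↥(normalizer (P : Set G))).map (normalizer (P : Set G)).subtype ≤ Cfsg.pLayer p G := by
  set R := Cfsg.pPrimeCore p G with hR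
  set q := QuotientGroup.mk' R with hq
  have hO := Cores.pPrimeCore_quotient_self (G := G) p
  have hRc : (Nat.card R).Coprime p := Cores.pPrimeCore_card_coprime p
  set N := normalizer (P : Set G) with hN
  set Nb := normalizer ((P.map q : Subgroup (G ⧸ R)) : Set (G ⧸ R)) with hNb
  have hNe : N.map q = Nb := Local.map_normalizer_eq hP hRc
  set f : N →* Nb := (q.comp N.subtype).codRestrict Nb (fun n => hNe.le ⟨n, n.2, rfl⟩) with hf
  have hfs : Function.Surjective f := by
    rintro ⟨y, hy⟩
    obtain ⟨n, hn, rfl⟩ := hNe.ge hy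
    exact ⟨⟨n, hn⟩, rfl⟩
  set Mb := (Cfsg.layer (↥Nb ⧸ Cfsg.pPrimeCore p ↥Nb)).comap (QuotientGroup.mk' (Cfsg.pPrimeCore p ↥Nb))
    with hMb
  refine map_le_iff_le_comap.mpr (sSup_le fun K hK => map_le_iff_le_comap.mp ?_)
  -- the image of `K` lies in the preimage of the layer
  set g : ↥N ⧸ Cfsg.pPrimeCore p ↥N →* ↥Nb ⧸ Cfsg.pPrimeCore p ↥Nb :=
    QuotientGroup.map _ _ f (map_le_iff_le_comap.mp (Cores.map_pPrimeCore_le hfs p)) with hg
  have hgs : Function.Surjective g := by
    intro y
    obtain ⟨y, rfl⟩ := QuotientGroup.mk'_surjective _ y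
    obtain ⟨x, rfl⟩ := hfs y
    exact ⟨QuotientGroup.mk x, rfl⟩
  have hKM : K.map f ≤ Mb := by
    rw [map_le_iff_le_comap]
    intro k hk
    exact map_layer_le_of_surjective hgs ⟨_, le_layer hK.2.1 ⟨k, hk, rfl⟩, rfl⟩
  set W := (K.map f).map Nb.subtype with hW
  have hWe : W = (K.map N.subtype).map q := by
    rw [hW, Subgroup.map_map, Subgroup.map_map]; rfl
  have hWperf : ⁅W, W⁆ = W := by
    rw [hW, ← map_commutator, ← map_commutator, pcomp_perfect hK]
  have hPb : IsPGroup p (P.map q) := hP.map q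
  have hWf : W ≤ LocalFix.fixer (G ⧸ R) :=
    (Subgroup.map_mono hKM).trans (LocalFix.preimage_layer_le_fixer hO hPb)
  have hWO : W ≤ centralizer (Cfsg.pCore p (G ⧸ R) : Set (G ⧸ R)) := by
    refine Local.le_of_pPrime_mem_of_perfect (p := p) hWperf ?_
    rintro _ ⟨z, hz, rfl⟩ hord
    refine Local.mem_centralizer_pCore hPb hord ?_
    rw [mem_centralizer_iff]
    rintro _ ⟨v, hv, rfl⟩
    exact congrArg Subtype.val
      (mem_centralizer_iff.mp (Local.comap_layer_le_centralizer_pCore (hKM hz)) v hv)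
  have hlay := le_layer_of_perfect hO hWperf hWf hWO hS
  rw [hWe, ← map_pLayer, map_le_iff_le_comap, comap_map_eq, QuotientGroup.ker_mk'] at hlay
  -- `K` is generated by `p`-elements
  haveI hLn : (Cfsg.pLayer p G).Normal := by
    refine ⟨fun n hn a => ?_⟩
    have : (Cfsg.pLayer p G).map (MulAut.conj a).toMonoidHom ≤ Cfsg.pLayer p G := by
      rw [map_le_iff_le_comap]
      exact sSup_le fun M hM => map_le_iff_le_comap.mp (le_sSup (ExtendedLayer.isPComponent_conj hM a))
    exact this ⟨n, hn, rfl⟩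
  rw [pcomp_eq_liftComp hK, liftComp, pGen, MonoidHom.map_closure, closure_le]
  rintro _ ⟨x, ⟨hx, k, hk⟩, rfl⟩
  have hxK : x ∈ K := by
    rw [pcomp_eq_liftComp hK]; exact subset_closure ⟨hx, k, hk⟩
  have hxR : (x : G) ∈ Cfsg.pLayer p G ⊔ R := hlay ⟨x, hxK, rfl⟩
  set r := QuotientGroup.mk' (Cfsg.pLayer p G)
  have hmem : r (x : G) ∈ R.map r := by
    have := Subgroup.mem_map_of_mem r hxR
    rwa [Subgroup.map_sup, show (Cfsg.pLayer p G).map r = ⊥ from QuotientGroup.map_mk'_self _, bot_sup_eq] at this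
  have h1 : r (x : G) = 1 := by
    rw [← orderOf_eq_one_iff]
    refine Nat.eq_one_of_dvd_coprimes ((hRc.coprime_dvd_left (R.card_map_dvd r)).pow_right k)
      (orderOf_dvd_natCard _ hmem) (orderOf_dvd_of_pow_eq_one ?_)
    rw [← map_pow, show (x : G) ^ p ^ k = 1 from congrArg Subtype.val hk, map_one]
  exact (QuotientGroup.eq_one_iff (x : G)).mp h1

end Cfsg.Agent.Components.SchreierBalance
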