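import Mathlib
import Cfsg.Agent.Lib.Classical.Linear
import Cfsg.Agent.Lib.Components.Local

/-!
The block subgroup `SL κ` inside `SL ι` and `GL ι` for `ι ≃ κ ⊕ Unit`, and the centralizer of
`t = diag(-1, ..., -1, 1)`.
-/

set_option autoImplicit false

namespace Cfsg.Agent.Components.BlockSL

open Matrix
open Cfsg.Agent.Components.Basic

variable {F : Type*} [Field F] {κ : Type*} [Fintype κ] [DecidableEq κ]
  {ι : Type*} [Fintype ι] [DecidableEq ι] (σ : κ ⊕ Unit ≃ ι)

/-- The embedding `A ↦ diag(A, 1)` of `Matrix κ κ` into `Matrix ι ι`. -/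
def emb : Matrix κ κ F →* Matrix ι ι F where
  toFun A := reindexAlgEquiv F F σ (fromBlocks A 0 0 1)
  map_one' := by rw [fromBlocks_one, map_one]
  map_mul' A B := by rw [← map_mul, fromBlocks_multiply]; simp

lemma det_emb (A : Matrix κ κ F) : (emb σ A).det = A.det := by
  show (reindexAlgEquiv F F σ _).det = _
  rw [det_reindexAlgEquiv, det_fromBlocks_zero₂₁, det_one, mul_one]

lemma emb_injective : Function.Injective (emb (F := F) σ) := fun _ _ h =>
  (fromBlocks_inj.mp ((reindexAlgEquiv F F σ).injective h)).1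

/-- `diag(-1, ..., -1, 1)`. -/
def tMat : Matrix ι ι F := reindexAlgEquiv F F σ (fromBlocks (-1) 0 0 1)

lemma tMat_sq : tMat (F := F) σ * tMat σ = 1 := by
  rw [tMat, ← map_mul, fromBlocks_multiply]
  simp

lemma tMat_ne_one [Nonempty κ] (h2 : (2 : F) ≠ 0) : tMat (F := F) σ ≠ 1 := by
  intro h
  rw [tMat, ← map_one (reindexAlgEquiv F F σ), ← fromBlocks_one] at h
  obtain ⟨k⟩ := (inferInstance : Nonempty κ)
  have := congrFun (congrFun (fromBlocks_inj.mp ((reindexAlgEquiv F F σ).injective h)).1 k) k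
  rw [show (-1 : Matrix κ κ F) k k = -1 by simp, one_apply_eq] at this
  exact h2 (by linear_combination -this)

lemma comm_tMat_emb (A : Matrix κ κ F) : tMat σ * emb σ A = emb σ A * tMat σ := by
  show _ * reindexAlgEquiv F F σ _ = reindexAlgEquiv F F σ _ * _
  rw [tMat, ← map_mul, ← map_mul, fromBlocks_multiply, fromBlocks_multiply]
  simp

lemma exists_blocks_of_comm (h2 : (2 : F) ≠ 0) {M : Matrix ι ι F} (h : M * tMat σ = tMat σ * M) :
    ∃ (P : Matrix κ κ F) (d : Matrix Unit Unit F), M = reindexAlgEquiv F F σ (fromBlocks P 0 0 d) := by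
  set N := (reindexAlgEquiv F F σ).symm M with hN
  have hM : M = reindexAlgEquiv F F σ N := ((reindexAlgEquiv F F σ).apply_symm_apply M).symm
  rw [hM, tMat, ← map_mul, ← map_mul] at h
  have h' := (reindexAlgEquiv F F σ).injective h
  rw [← fromBlocks_toBlocks N, fromBlocks_multiply, fromBlocks_multiply] at h'
  obtain ⟨-, e12, e21, -⟩ := fromBlocks_inj.mp h'
  simp only [Matrix.mul_zero, Matrix.zero_mul, Matrix.mul_one, Matrix.one_mul, Matrix.mul_neg,
    Matrix.neg_mul, zero_add, add_zero] at e12 e21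
  refine ⟨N.toBlocks₁₁, N.toBlocks₂₂, ?_⟩
  have z : ∀ x : F, x = -x → x = 0 := fun x hx => by
    have : (2 : F) * x = 0 := by linear_combination hx
    exact (mul_eq_zero.mp this).resolve_left h2
  have h12 : N.toBlocks₁₂ = 0 := by
    ext a b; exact z _ (congrFun (congrFun e12 a) b)
  have h21 : N.toBlocks₂₁ = 0 := by
    ext a b; exact z _ (congrFun (congrFun e21 a) b).symm
  rw [hM]
  conv_lhs => rw [← fromBlocks_toBlocks N, h12, h21]

/-- Conjugation by an invertible block diagonal matrix preserves the block copy of `SL κ`. -/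
lemma exists_conj_emb (h2 : (2 : F) ≠ 0) {M M' : Matrix ι ι F} (h : M * tMat σ = tMat σ * M)
    (h' : M' * tMat σ = tMat σ * M') (hinv : M * M' = 1) (A : SpecialLinearGroup κ F) :
    ∃ B : SpecialLinearGroup κ F, emb σ B.1 = M * emb σ A.1 * M' := by
  obtain ⟨P, d, rfl⟩ := exists_blocks_of_comm σ h2 h
  obtain ⟨P', d', rfl⟩ := exists_blocks_of_comm σ h2 h'
  rw [← map_mul, fromBlocks_multiply, ← map_one (reindexAlgEquiv F F σ), ← fromBlocks_one] at hinv
  obtain ⟨hP, -, -, hd⟩ := fromBlocks_inj.mp ((reindexAlgEquiv F F σ).injective hinv)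
  simp only [Matrix.mul_zero, Matrix.zero_mul, zero_add, add_zero] at hP hd
  refine ⟨⟨P * A.1 * P', ?_⟩, ?_⟩
  · rw [det_mul, det_mul, A.2, mul_one, ← det_mul, hP, det_one]
  · show reindexAlgEquiv F F σ _ = _ * reindexAlgEquiv F F σ _ * _
    rw [← map_mul, ← map_mul, fromBlocks_multiply, fromBlocks_multiply]
    simp [hd]

/-- A matrix commuting with the block copy of `SL κ` is `diag(x, ..., x, y)`. -/
lemma exists_scalar_of_comm [Nontrivial κ] {M : Matrix ι ι F}
    (h : ∀ A : SpecialLinearGroup κ F, M * emb σ A.1 = emb σ A.1 * M) :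
    ∃ x y : F, M = reindexAlgEquiv F F σ (fromBlocks (x • 1) 0 0 (y • 1)) := by
  set N := (reindexAlgEquiv F F σ).symm M with hN
  have hM : M = reindexAlgEquiv F F σ N := ((reindexAlgEquiv F F σ).apply_symm_apply M).symm
  have key : ∀ a b : κ, a ≠ b → Commute (transvection a b (1 : F)) N.toBlocks₁₁ ∧
      transvection a b (1 : F) * N.toBlocks₁₂ = N.toBlocks₁₂ ∧
      N.toBlocks₂₁ * transvection a b (1 : F) = N.toBlocks₂₁ := by
    intro a b hab
    have h1 : reindexAlgEquiv F F σ N * reindexAlgEquiv F F σ (fromBlocks (transvection a b (1 : F)) 0 0 1)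
        = reindexAlgEquiv F F σ (fromBlocks (transvection a b (1 : F)) 0 0 1) * reindexAlgEquiv F F σ N :=
      hM ▸ h ⟨transvection a b 1, det_transvection_of_ne _ _ hab _⟩
    rw [← map_mul, ← map_mul] at h1
    have h' := (reindexAlgEquiv F F σ).injective h1
    rw [← fromBlocks_toBlocks N, fromBlocks_multiply, fromBlocks_multiply] at h'
    obtain ⟨e11, e12, e21, -⟩ := fromBlocks_inj.mp h'
    simp only [Matrix.mul_zero, Matrix.zero_mul, Matrix.mul_one, Matrix.one_mul, zero_add,
      add_zero] at e11 e12 e21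
    exact ⟨e11.symm, e12.symm, e21⟩
  have h12 : N.toBlocks₁₂ = 0 := by
    ext b u
    obtain ⟨a, ha⟩ := exists_ne b
    have := congrFun (congrFun (key a b ha).2.1 a) u
    rw [transvection, Matrix.add_mul, Matrix.one_mul, Matrix.add_apply, single_mul_apply_same, one_mul] at this
    simpa using this
  have h21 : N.toBlocks₂₁ = 0 := by
    ext u a
    obtain ⟨b, hb⟩ := exists_ne a
    have := congrFun (congrFun (key a b hb.symm).2.2 u) b
    rw [transvection, Matrix.mul_add, Matrix.mul_one, Matrix.add_apply, mul_single_apply_same, mul_one] at this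
    simpa using this
  obtain ⟨x, hx⟩ : N.toBlocks₁₁ ∈ Set.range (Matrix.scalar κ) := by
    refine mem_range_scalar_iff_commute_single.mpr fun a b hab => ?_
    have := (key a b hab).1
    rw [transvection] at this
    simpa using (this.sub_left (Commute.one_left _))
  refine ⟨x, N.toBlocks₂₂ () (), ?_⟩
  rw [hM]
  congr 1
  conv_lhs => rw [← fromBlocks_toBlocks N, h12, h21, ← hx]
  have h22 : N.toBlocks₂₂ = N.toBlocks₂₂ () () • (1 : Matrix Unit Unit F) := by
    ext a b
    simp
  rw [h22]
  congr 1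
  · rw [scalar_apply, smul_one_eq_diagonal]
  · simp

/-- The block copy of `SL κ` in `SL ι`. -/
def phiSL : SpecialLinearGroup κ F →* SpecialLinearGroup ι F where
  toFun A := ⟨emb σ A.1, (det_emb σ A.1).trans A.2⟩
  map_one' := Subtype.ext (map_one (emb σ))
  map_mul' A B := Subtype.ext (map_mul (emb σ) A.1 B.1)

lemma phiSL_injective : Function.Injective (phiSL (F := F) σ) := fun _ _ h =>
  Subtype.ext (emb_injective σ (congrArg Subtype.val h))

/-- The block copy of `SL κ` in `GL ι`. -/
def phiGL : SpecialLinearGroup κ F →* GL ι F :=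
  SpecialLinearGroup.toGL.comp (phiSL σ)

lemma phiGL_injective : Function.Injective (phiGL (F := F) σ) :=
  SpecialLinearGroup.toGL_injective.comp (phiSL_injective σ)

lemma phiGL_coe (A : SpecialLinearGroup κ F) : ((phiGL σ A : GL ι F) : Matrix ι ι F) = emb σ A.1 := rfl

/-- `SL κ` is quasisimple for `|κ| ≥ 3`, and for `|κ| = 2` over a field with at least 4 elements. -/
lemma isQuasisimple_SL [Fintype F] (m : ℕ) (hm : 2 ≤ m) (h : m = 2 → 4 ≤ Fintype.card F) :
    Cfsg.IsQuasisimple (SpecialLinearGroup (Fin m) F) := by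
  refine ⟨⟨?_⟩, Classical.Linear.isSimpleGroup_PSL_fin hm h⟩
  rcases eq_or_ne m 2 with rfl | hne
  · classical
    obtain ⟨a, ha⟩ : ∃ a : F, a ∉ ({0, 1, -1} : Finset F) := by
      by_contra hcon
      push Not at hcon
      have h3 : Fintype.card F ≤ 3 := le_trans (le_of_eq Finset.card_univ.symm)
        ((Finset.card_le_card fun x _ => hcon x).trans Finset.card_le_three)
      have := h rfl
      omega
    simp only [Finset.mem_insert, Finset.mem_singleton, not_or] at ha
    exact SL2.commutator_eq_top ha.1 fun h1 => (sq_eq_one_iff.mp h1).elim ha.2.1 ha.2.2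
  · exact Classical.Linear.commutator_SL_eq_top (by rw [Fintype.card_fin]; omega)

variable [Fintype F] [Nontrivial κ]

/-- The centralizer of `t` normalizes the block `SL κ` (in `GL ι`). -/
lemma centralizer_le_normalizer_GL (h2 : (2 : F) ≠ 0) (t : GL ι F)
    (ht : (t : Matrix ι ι F) = tMat σ) :
    Subgroup.centralizer ({t} : Set (GL ι F)) ≤ Subgroup.normalizer ((phiGL (F := F) σ).range : Set (GL ι F)) := by
  refine Subgroup.le_normalizer_iff.mpr ?_
  rintro g hg _ ⟨A, rfl⟩
  have hc : ∀ u ∈ Subgroup.centralizer ({t} : Set (GL ι F)),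
      (u : Matrix ι ι F) * tMat σ = tMat σ * (u : Matrix ι ι F) := fun u hu => by
    have := congrArg (fun w : GL ι F => (w : Matrix ι ι F)) (Subgroup.mem_centralizer_singleton_iff.mp hu)
    simpa [ht] using this
  obtain ⟨B, hB⟩ := exists_conj_emb σ h2 (hc g hg) (hc g⁻¹ (inv_mem hg))
    (by rw [← Units.val_mul, mul_inv_cancel, Units.val_one]) A
  refine ⟨B, Units.ext ?_⟩
  rw [phiGL_coe, hB]
  simp [phiGL_coe]

lemma phiGL_le_centralizer (t : GL ι F) (ht : (t : Matrix ι ι F) = tMat σ) :
    (phiGL σ).range ≤ Subgroup.centralizer ({t} : Set (GL ι F)) := by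
  rintro _ ⟨A, rfl⟩
  exact Subgroup.mem_centralizer_singleton_iff.mpr (Units.ext (by
    rw [Units.val_mul, Units.val_mul, phiGL_coe, ht]; exact (comm_tMat_emb σ A.1).symm))

lemma phiSL_le_centralizer (t : SpecialLinearGroup ι F) (ht : (t : Matrix ι ι F) = tMat σ) :
    (phiSL σ).range ≤ Subgroup.centralizer ({t} : Set (SpecialLinearGroup ι F)) := by
  rintro _ ⟨A, rfl⟩
  exact Subgroup.mem_centralizer_singleton_iff.mpr (Subtype.ext (by
    show emb σ A.1 * (t : Matrix ι ι F) = (t : Matrix ι ι F) * emb σ A.1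
    rw [ht]; exact (comm_tMat_emb σ A.1).symm))

/-- The centralizer of `t` normalizes the block `SL κ` (in `SL ι`). -/
lemma centralizer_le_normalizer_SL (h2 : (2 : F) ≠ 0) (t : SpecialLinearGroup ι F)
    (ht : (t : Matrix ι ι F) = tMat σ) :
    Subgroup.centralizer ({t} : Set (SpecialLinearGroup ι F)) ≤
      Subgroup.normalizer ((phiSL (F := F) σ).range : Set (SpecialLinearGroup ι F)) := by
  refine Subgroup.le_normalizer_iff.mpr ?_
  rintro g hg _ ⟨A, rfl⟩
  have hc : ∀ u ∈ Subgroup.centralizer ({t} : Set (SpecialLinearGroup ι F)),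
      (u : Matrix ι ι F) * tMat σ = tMat σ * (u : Matrix ι ι F) := fun u hu => by
    have := congrArg (fun w : SpecialLinearGroup ι F => (w : Matrix ι ι F))
      (Subgroup.mem_centralizer_singleton_iff.mp hu)
    simpa [ht] using this
  obtain ⟨B, hB⟩ := exists_conj_emb σ h2 (hc g hg) (hc g⁻¹ (inv_mem hg))
    (congrArg Subtype.val (mul_inv_cancel g)) A
  refine ⟨B, Subtype.ext ?_⟩
  show emb σ B.1 = _
  rw [hB]
  rfl

end Cfsg.Agent.Components.BlockSL
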