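/-
Constrained systems: passage to subnormal subgroups of a group and to central quotients.
-/
import Mathlib
import Cfsg.Agent.Lib.Fusion.Constrained
import Cfsg.Agent.Lib.Fusion.Group
import Cfsg.Agent.Lib.Fusion.Solvable

set_option autoImplicit false
set_option linter.all false

namespace Cfsg.Agent.Components.ConstrainedGroup

open Cfsg Cfsg.FusionSystem Cfsg.Agent.Fusion.Basic Cfsg.Agent.Fusion.Saturation
  Cfsg.Agent.Fusion.Normal Cfsg.Agent.Fusion.Factor Cfsg.Agent.Fusion.Solvable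
  Cfsg.Agent.Fusion.SylIn Cfsg.Agent.Fusion.Group Cfsg.Agent.Fusion.Constrained

universe u v

section Quot

variable {Ω : Type u} [Group Ω] {S : Subgroup Ω} {F : FusionSystem S} {Ω' : Type v} [Group Ω']
  {S' : Subgroup Ω'} {E : FusionSystem S'} {θ : S →* Ω'} {Z : Subgroup Ω} {p : ℕ}

variable [Finite S] [Fact p.Prime]

/-- A normal subgroup maps to a normal subgroup. -/
theorem image_normal (hq : IsQuot F Z θ E) {D : Subgroup Ω} (hD : F.IsNormal D) (hZD : Z ≤ D) :
    E.IsNormal (imageAlong θ D) := by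
  have hDS : D ≤ S := hD.1
  have hle : imageAlong θ D ≤ S' := fun y hy => by
    obtain ⟨x, -, hx, rfl⟩ := mem_imageAlong.1 hy
    exact along_mem hq.range_eq hx
  refine isNormal_iff.2 ⟨hle, fun P' f' hf' => ?_⟩
  obtain ⟨f, hf, hrel⟩ := hq.lift P' f' hf'
  obtain ⟨g, hg, hge, hgD⟩ := (isNormal_iff.1 hD).2 _ f hf
  have hpre : preimageAlong θ (P' ⊔ imageAlong θ D) ≤ preimageAlong θ P' ⊔ D := by
    intro x hx
    obtain ⟨hxS, hx'⟩ := mem_preimageAlong.1 hx
    have hXS : preimageAlong θ P' ⊔ D ≤ S := sup_le (preimageAlong_le _) hDS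
    have hmem : along θ x ∈ imageAlong θ (preimageAlong θ P' ⊔ D) := by
      refine (sup_le ?_ ?_ : P' ⊔ imageAlong θ D ≤ _) hx'
      · intro y hy
        obtain ⟨w, hw, rfl⟩ := exists_along_eq hq.range_eq (hf'.le hy)
        exact mem_imageAlong.2 ⟨w, Subgroup.mem_sup_left (mem_preimageAlong.2 ⟨hw, hy⟩), hw, rfl⟩
      · intro y hy
        obtain ⟨w, hw, hwS, rfl⟩ := mem_imageAlong.1 hy
        exact mem_imageAlong.2 ⟨w, Subgroup.mem_sup_right hw, hwS, rfl⟩
    obtain ⟨w, hw, hwS, he⟩ := mem_imageAlong.1 hmem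
    rw [show x = w * (w⁻¹ * x) by group]
    exact Subgroup.mul_mem _ hw
      (Subgroup.mem_sup_right (hZD ((along_eq_iff hq.ker_iff hwS hxS).1 he)))
  obtain ⟨g', hg', hrel'⟩ := hq.descend _ g (sup_le hf'.le hle) (hg.restrict hpre)
  refine ⟨g', hg', fun y hy => ?_, ?_⟩
  · obtain ⟨w, hw, rfl⟩ := exists_along_eq hq.range_eq (hf'.le hy)
    have hwP := (mem_preimageAlong (θ := θ)).2 ⟨hw, hy⟩
    rw [hrel' w (mem_preimageAlong.2 ⟨hw, Subgroup.mem_sup_left hy⟩), hge w hwP, hrel w hwP]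
  · have key : ∀ w ∈ D, g' (along θ w) = along θ (g w) := fun w hw => hrel' w
      (mem_preimageAlong.2 ⟨hDS hw, Subgroup.mem_sup_right (mem_imageAlong.2 ⟨w, hw, hDS hw, rfl⟩)⟩)
    refine le_antisymm (img_le fun y hy => ?_) fun y hy => ?_
    · obtain ⟨w, hw, -, rfl⟩ := mem_imageAlong.1 hy
      rw [key w hw]
      have hgw : g w ∈ D := hgD ▸ mem_img_self g hw
      exact mem_imageAlong.2 ⟨g w, hgw, hDS hgw, rfl⟩
    · obtain ⟨w, hw, -, rfl⟩ := mem_imageAlong.1 hy
      rw [← hgD] at hw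
      obtain ⟨v, hv, rfl⟩ := (hg.restrict le_sup_right).mem_img.1 hw
      rw [← key v hv]
      exact mem_img_self g' (mem_imageAlong.2 ⟨v, hv, hDS hv, rfl⟩)

/-- A constrained system stays constrained modulo a central subgroup. -/
theorem constrained_quot (hS : IsPGroup p S) (hq : IsQuot F Z θ E) (hF : F.IsConstrained p)
    (hZc : ∀ z ∈ Z, ∀ x ∈ S, x * z = z * x) : E.IsConstrained p := by
  obtain ⟨hsat, Q, hQn, hQc⟩ := hF
  set D := F.core
  have hD : F.IsNormal D := core_isNormal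
  have hDS : D ≤ S := hD.1
  have hQD : Q ≤ D := le_core hQn
  have hcent : ∀ x ∈ S, (∀ d ∈ D, x * d = d * x) → x ∈ D := fun x hx h =>
    hQD (hQc.2 Q (isConj_refl hQn.1) ⟨hx, fun q hq' => (h q (hQD hq')).symm⟩)
  have hZD : Z ≤ D := fun z hz => hcent z (hq.closed.1 hz) fun d hd => (hZc z hz d (hDS hd)).symm
  refine ⟨hq.saturated hS hsat, imageAlong θ D, image_normal hq hD hZD,
    (image_normal hq hD hZD).1, fun R hR => ?_⟩
  obtain ⟨f', hf', rfl⟩ := isConj_iff_map.1 hR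
  rw [normal_img_eq (image_normal hq hD hZD) hf' le_rfl]
  -- the elements acting trivially on `D / Z`
  have hzconj : ∀ z ∈ Z, ∀ x ∈ S, x * z * x⁻¹ = z := fun z hz x hx => by
    rw [hZc z hz x hx, mul_inv_cancel_right]
  let A : Subgroup Ω :=
    { carrier := {x | x ∈ S ∧ ∀ d ∈ D, x * d * x⁻¹ * d⁻¹ ∈ Z}
      one_mem' := ⟨S.one_mem, fun d _ => by simpa using Z.one_mem⟩
      mul_mem' := fun {a b} ha hb => ⟨S.mul_mem ha.1 hb.1, fun d hd => by
        have h1 := hb.2 d hd
        have e : a * b * d * (a * b)⁻¹ * d⁻¹ =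
            a * (b * d * b⁻¹ * d⁻¹) * a⁻¹ * (a * d * a⁻¹ * d⁻¹) := by group
        rw [e, hzconj _ h1 a ha.1]
        exact Z.mul_mem h1 (ha.2 d hd)⟩
      inv_mem' := fun {a} ha => ⟨S.inv_mem ha.1, fun d hd => by
        have h1 := Z.inv_mem (ha.2 d hd)
        have e : a⁻¹ * d * a⁻¹⁻¹ * d⁻¹ = a⁻¹ * (a * d * a⁻¹ * d⁻¹)⁻¹ * a⁻¹⁻¹ := by group
        rw [e, hzconj _ h1 _ (S.inv_mem ha.1)]
        exact h1⟩ }
  have hAS : A ≤ S := fun x hx => hx.1
  have hAsc : F.StronglyClosed A := by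
    refine ⟨hAS, fun R hR φ hφ x => ?_⟩
    obtain ⟨g, hg, hge, hgD⟩ := (isNormal_iff.1 hD).2 R (ext φ) (IsMap.of_hom hφ)
    rw [← ext_apply φ x, ← hge x x.2]
    refine ⟨hg.mem (Subgroup.mem_sup_left x.2), fun d hd => ?_⟩
    rw [← hgD] at hd
    obtain ⟨e, he, rfl⟩ := (hg.restrict le_sup_right).mem_img.1 hd
    have hxm : (x : Ω) ∈ R ⊔ D := Subgroup.mem_sup_left x.2
    have hem : e ∈ R ⊔ D := Subgroup.mem_sup_right he
    have hz := (hR x.2).2 e he
    have := stronglyClosed_mem hq.closed hg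
      (Subgroup.mul_mem _ (Subgroup.mul_mem _ (Subgroup.mul_mem _ hxm hem) (Subgroup.inv_mem _ hxm))
        (Subgroup.inv_mem _ hem)) hz
    rwa [hg.map_mul (Subgroup.mul_mem _ (Subgroup.mul_mem _ hxm hem) (Subgroup.inv_mem _ hxm))
        (Subgroup.inv_mem _ hem), hg.map_mul (Subgroup.mul_mem _ hxm hem) (Subgroup.inv_mem _ hxm),
      hg.map_mul hxm hem, hg.map_inv hxm, hg.map_inv hem] at this
  -- the centre of `D`
  let W : Subgroup Ω := D ⊓ Subgroup.centralizer (D : Set Ω)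
  have hWsc : F.StronglyClosed W := by
    refine ⟨fun x hx => hDS hx.1, fun R hR φ hφ x => ?_⟩
    obtain ⟨g, hg, hge, hgD⟩ := (isNormal_iff.1 hD).2 R (ext φ) (IsMap.of_hom hφ)
    rw [← ext_apply φ x, ← hge x x.2]
    refine ⟨hgD ▸ mem_img_self g (hR x.2).1, fun d hd => ?_⟩
    rw [SetLike.mem_coe, ← hgD] at hd
    obtain ⟨e, he, rfl⟩ := (hg.restrict le_sup_right).mem_img.1 hd
    rw [← hg.map_mul (Subgroup.mem_sup_right he) (Subgroup.mem_sup_left x.2),
      ← hg.map_mul (Subgroup.mem_sup_left x.2) (Subgroup.mem_sup_right he), (hR x.2).2 e he]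
  have hWA : W ≤ A := fun w hw => ⟨hDS hw.1, fun d hd => by
    rw [← hw.2 d hd]; simpa [mul_assoc] using Z.one_mem⟩
  have hZW : Z ≤ W := fun z hz =>
    ⟨hZD hz, fun d hd => hZc z hz d (hDS hd)⟩
  have hAn : F.IsNormal A := by
    refine normal_of_series hS hsat 3
      (fun i => if i = 0 then ⊥ else if i = 1 then Z else if i = 2 then W else A)
      (by simp) (by simp) ?_ ?_ ?_
    · intro i hi
      interval_cases i <;> simp [hZW, hWA]
    · intro i hi
      interval_cases i <;> simp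
      exacts [normal_stronglyClosed isNormal_bot, hq.closed, hWsc, hAsc]
    · intro i hi x hx y hy
      interval_cases i <;> simp at hy ⊢
      · rw [hzconj y hy x (hAS hx), mul_inv_cancel]
      · exact hx.2 y hy.1
      · have key : ∀ a ∈ A, ∀ b ∈ A, ∀ d ∈ D,
            a⁻¹ * b⁻¹ * a * b * d = d * (a⁻¹ * b⁻¹ * a * b) := by
          intro a ha b hb d hd
          have hu := ha.2 d hd
          have hv := hb.2 d hd
          have huv : a * d * a⁻¹ * d⁻¹ * (b * d * b⁻¹ * d⁻¹) =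
              b * d * b⁻¹ * d⁻¹ * (a * d * a⁻¹ * d⁻¹) := hZc _ hv _ (hq.closed.1 hu)
          have h1 : a * b * d * (a * b)⁻¹ * d⁻¹ = b * a * d * (b * a)⁻¹ * d⁻¹ := by
            calc a * b * d * (a * b)⁻¹ * d⁻¹
                = a * (b * d * b⁻¹ * d⁻¹) * a⁻¹ * (a * d * a⁻¹ * d⁻¹) := by group
              _ = b * (a * d * a⁻¹ * d⁻¹) * b⁻¹ * (b * d * b⁻¹ * d⁻¹) := by
                  rw [hzconj _ hv a (hAS ha), hzconj _ hu b (hAS hb), huv]
              _ = _ := by group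
          have h2 : a * b * d * (a * b)⁻¹ = b * a * d * (b * a)⁻¹ := mul_right_cancel h1
          calc a⁻¹ * b⁻¹ * a * b * d = (b * a)⁻¹ * (a * b * d * (a * b)⁻¹) * (a * b) := by group
            _ = d * (a⁻¹ * b⁻¹ * a * b) := by rw [h2]; group
        have hcd : ∀ d ∈ D, x * y * x⁻¹ * y⁻¹ * d = d * (x * y * x⁻¹ * y⁻¹) := fun d hd => by
          simpa using key x⁻¹ (A.inv_mem hx) y⁻¹ (A.inv_mem hy) d hd
        exact ⟨hcent _ (S.mul_mem (S.mul_mem (S.mul_mem (hAS hx) (hAS hy)) (S.inv_mem (hAS hx)))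
          (S.inv_mem (hAS hy))) hcd, fun d hd => (hcd d hd).symm⟩
  intro y hy
  obtain ⟨x, hxS, rfl⟩ := exists_along_eq hq.range_eq hy.1
  have hxA : x ∈ A := ⟨hxS, fun d hd => by
    have h := hy.2 (along θ d) (mem_imageAlong.2 ⟨d, hd, hDS hd, rfl⟩)
    rw [← hq.ker_iff ⟨_, S.mul_mem (S.mul_mem (S.mul_mem hxS (hDS hd)) (S.inv_mem hxS))
      (S.inv_mem (hDS hd))⟩, ← along_of_mem θ, along_mul θ (S.mul_mem (S.mul_mem hxS (hDS hd))
      (S.inv_mem hxS)) (S.inv_mem (hDS hd)), along_mul θ (S.mul_mem hxS (hDS hd)) (S.inv_mem hxS),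
      along_mul θ hxS (hDS hd), along_inv θ hxS, along_inv θ (hDS hd), ← h]
    group⟩
  exact mem_imageAlong.2 ⟨x, le_core hAn hxA, hxS, rfl⟩

end Quot

section Group

variable {G : Type u} [Group G] [Finite G] {p : ℕ} [Fact p.Prime] {H T : Subgroup G}

/-- The fusion system of `H` modulo a central kernel is that of the image. -/
theorem isQuot_hom (hT : SylIn p T H) {M : Type v} [Group M] (π : ↥H →* M)
    (hπ : Function.Surjective π) (hker : π.ker ≤ Subgroup.center ↥H) {S' : Subgroup M}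
    (hr : (π.comp (Subgroup.inclusion hT.1)).range = S') :
    IsQuot (fusionSystemOfSubgroup H T hT.1) (T ⊓ π.ker.map H.subtype)
      (π.comp (Subgroup.inclusion hT.1)) (groupFusionSystem S') := by
  set θ := π.comp (Subgroup.inclusion hT.1) with hθ
  have hal : ∀ (x : G) (hx : x ∈ T), along θ x = π ⟨x, hT.1 hx⟩ := fun x hx => along_of_mem θ hx
  refine ⟨⟨inf_le_left, fun R hR φ hφ x => ?_⟩, fun s => ?_, hr, fun P' f' hf' => ?_,
    fun P' f hP' hf => ?_⟩
  · obtain ⟨hRT, hφT, g, hg, he⟩ := hφ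
    refine ⟨hφT x, ?_⟩
    obtain ⟨k, hk, hkx⟩ := (hR x.2).2
    have hc := Subgroup.mem_center_iff.1 (hker hk) ⟨g, hg⟩
    have : φ x = x := by
      rw [he x, ← hkx]
      have := congrArg Subtype.val hc
      simp only [Subgroup.coe_mul] at this
      simp [this]
    rw [this]
    exact ⟨k, hk, hkx⟩
  · show π (Subgroup.inclusion hT.1 s) = 1 ↔ _
    refine ⟨fun h => ⟨s.2, _, h, rfl⟩, ?_⟩
    rintro ⟨-, k, hk, hks⟩
    rwa [show Subgroup.inclusion hT.1 s = k from Subtype.ext hks.symm]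
  · obtain ⟨hP', hS', γ, hγ⟩ := isMap_group_iff.1 hf'
    obtain ⟨g, rfl⟩ := hπ γ
    have hgx : ∀ x ∈ preimageAlong θ P', (g : G) * x * (g : G)⁻¹ ∈ T := by
      intro x hx
      obtain ⟨hxT, hx'⟩ := mem_preimageAlong.1 hx
      rw [hal x hxT] at hx'
      have h1 := hS' _ hx'
      rw [hγ _ hx', cj_apply, ← map_inv, ← map_mul, ← map_mul, ← hr] at h1
      obtain ⟨t, ht⟩ := h1
      set n : ↥H := (Subgroup.inclusion hT.1 t)⁻¹ * (g * ⟨x, hT.1 hxT⟩ * g⁻¹) with hn
      have hnc : n ∈ Subgroup.center ↥H := hker (by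
        rw [MonoidHom.mem_ker, hn, map_mul, map_inv]
        exact inv_mul_eq_one.2 ht)
      have he : g * ⟨x, hT.1 hxT⟩ * g⁻¹ = Subgroup.inclusion hT.1 t * n := by rw [hn]; group
      have hnp : ∃ k : ℕ, n ^ p ^ k = 1 := by
        obtain ⟨a, ha⟩ := hT.2.1 ⟨x, hxT⟩
        obtain ⟨b, hb⟩ := hT.2.1 t
        refine ⟨a + b, ?_⟩
        have h1 : (g * ⟨x, hT.1 hxT⟩ * g⁻¹) ^ p ^ (a + b) = 1 := by
          rw [conj_pow, show (⟨x, hT.1 hxT⟩ : ↥H) = Subgroup.inclusion hT.1 ⟨x, hxT⟩ from rfl,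
            ← map_pow, pow_add, pow_mul, ha, one_pow, map_one, mul_one, mul_inv_cancel]
        have h2 : (Subgroup.inclusion hT.1 t) ^ p ^ (a + b) = 1 := by
          rw [← map_pow, pow_add, mul_comm, pow_mul, hb, one_pow, map_one]
        have hcm : Commute (Subgroup.inclusion hT.1 t) n := Subgroup.mem_center_iff.1 hnc _
        rw [he, hcm.mul_pow, h2, one_mul] at h1
        exact h1
      have hnT : (n : G) ∈ T := by
        have hle : T ≤ T ⊔ Subgroup.zpowers (n : G) := le_sup_left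
        have hleH : T ⊔ Subgroup.zpowers (n : G) ≤ H := sup_le hT.1 (Subgroup.zpowers_le.2 n.2)
        have hpz : IsPGroup p (Subgroup.zpowers (n : G)) := by
          obtain ⟨k, hk⟩ := hnp
          rintro ⟨z, j, rfl⟩
          exact ⟨k, Subtype.ext (by
            show ((n : G) ^ j) ^ p ^ k = 1
            rw [← zpow_natCast, ← zpow_mul, mul_comm, zpow_mul, zpow_natCast,
              ← Subgroup.coe_pow, hk, OneMemClass.coe_one, one_zpow])⟩
        have hnorm : Subgroup.zpowers (n : G) ≤ Subgroup.normalizer (T : Set G) := by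
          rw [Subgroup.zpowers_le]
          refine mem_normalizer_of_forall fun y hy => ?_
          have := congrArg Subtype.val (Subgroup.mem_center_iff.1 hnc ⟨y, hT.1 hy⟩)
          simp only [Subgroup.coe_mul] at this
          rw [← this, mul_inv_cancel_right]
          exact hy
        have hp2 : IsPGroup p ↥(T ⊔ Subgroup.zpowers (n : G)) :=
          hT.2.1.to_sup_of_normal_left' hpz hnorm
        rw [hT.eq_of_le hle hleH hp2]
        exact Subgroup.mem_sup_right (Subgroup.mem_zpowers _)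
      have := congrArg Subtype.val he
      simp only [Subgroup.coe_mul, InvMemClass.coe_inv] at this
      rw [this]
      exact T.mul_mem t.2 hnT
    refine ⟨cj (g : G), isMap_sub_iff.2 ⟨preimageAlong_le _, hgx, g, g.2, fun _ _ => rfl⟩,
      fun x hx => ?_⟩
    obtain ⟨hxT, hx'⟩ := mem_preimageAlong.1 hx
    rw [hγ _ hx', hal x hxT]
    refine Eq.trans ?_ (hal _ (hgx x hx)).symm
    rw [cj_apply, ← map_inv, ← map_mul, ← map_mul]
    rfl
  · obtain ⟨-, hfT, g, hg, he⟩ := isMap_sub_iff.1 hf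
    have key : ∀ x (hx : x ∈ preimageAlong θ P'),
        π ⟨g, hg⟩ * along θ x * (π ⟨g, hg⟩)⁻¹ = along θ (f x) := by
      intro x hx
      have hxT := (mem_preimageAlong.1 hx).1
      rw [hal x hxT, hal _ (hfT x hx), ← map_inv, ← map_mul, ← map_mul]
      congr 1
      exact Subtype.ext (he x hx).symm
    refine ⟨cj (π ⟨g, hg⟩), isMap_group_iff.2 ⟨hP', fun y hy => ?_, _, fun _ _ => rfl⟩,
      fun x hx => key x hx⟩
    obtain ⟨x, hx, rfl⟩ := exists_along_eq hr (hP' hy)
    have hxP := mem_preimageAlong.2 ⟨hx, hy⟩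
    rw [cj_apply, key x hxP]
    exact along_mem hr (hfT x hxP)

/-- Constrained systems pass to subnormal subgroups. -/
theorem constrained_subnormal (S : Sylow p G)
    (hF : (groupFusionSystem (S : Subgroup G)).IsConstrained p) {H : Subgroup G}
    (hH : H.IsSubnormal) : ∃ hT : SylIn p ((S : Subgroup G) ⊓ H) H,
      (fusionSystemOfSubgroup H ((S : Subgroup G) ⊓ H) hT.1).IsConstrained p := by
  induction hH with
  | top =>
    rw [inf_top_eq]
    refine ⟨of_sylow S, ?_⟩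
    rwa [← group_eq_sub_top]
  | step H K hle _ hN ih =>
    obtain ⟨hK, hKc⟩ := ih
    have hnorm : K ≤ Subgroup.normalizer (H : Set G) := (Subgroup.normal_subgroupOf_iff_le_normalizer hle).1 hN
    have h1 := hK.inf_normal hle hnorm
    rw [inf_assoc, inf_eq_right.2 hle] at h1
    refine ⟨h1, constrained_sub hK.2.1 hKc (fun P => subset_of_isMap fun f hf => ?_) ?_
      (sub_saturated h1)⟩
    · obtain ⟨hP, hfT, g, hg, he⟩ := isMap_sub_iff.1 hf
      exact isMap_sub_iff.2 ⟨hP.trans (inf_le_inf_left _ hle),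
        fun x hx => inf_le_inf_left _ hle (hfT x hx), g, hle hg, he⟩
    · intro s hs
      refine mem_normalizer_of_forall fun x hx => ?_
      exact ⟨(S : Subgroup G).mul_mem ((S : Subgroup G).mul_mem hs.1 hx.1)
        ((S : Subgroup G).inv_mem hs.1), (Subgroup.mem_normalizer_iff.1 (hnorm hs.2) x).1 hx.2⟩

/-- The image of a constrained system under a surjection with central kernel. -/
theorem constrained_hom (S : Sylow p G)
    (hF : (groupFusionSystem (S : Subgroup G)).IsConstrained p) {H : Subgroup G}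
    (hH : H.IsSubnormal) {M : Type v} [Group M] (π : ↥H →* M)
    (hπ : Function.Surjective π) (hker : π.ker ≤ Subgroup.center ↥H) :
    (groupFusionSystem (((S : Subgroup G).subgroupOf H).map π)).IsConstrained p := by
  obtain ⟨hT, hc⟩ := constrained_subnormal S hF hH
  have hr : (π.comp (Subgroup.inclusion hT.1)).range = ((S : Subgroup G).subgroupOf H).map π := by
    ext y
    constructor
    · rintro ⟨x, rfl⟩
      exact ⟨_, x.2.1, rfl⟩
    · rintro ⟨x, hx, rfl⟩
      exact ⟨⟨x, hx, x.2⟩, rfl⟩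
  refine constrained_quot hT.2.1 (isQuot_hom hT π hπ hker hr) hc ?_
  rintro z ⟨-, k, hk, rfl⟩ x hx
  exact congrArg Subtype.val (Subgroup.mem_center_iff.1 (hker hk) ⟨x, hT.1 hx⟩)

end Group

end Cfsg.Agent.Components.ConstrainedGroup
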