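import Cfsg.Agent.Lib.Components.PComponents
import Cfsg.Agent.Lib.Transfer.CenterInf
import Mathlib.RingTheory.ZMod.UnitsCyclic
import Mathlib.GroupTheory.Transfer

/-!
Groups with trivial `p'`-core and a cyclic Sylow `p`-subgroup.
-/

set_option autoImplicit false
set_option linter.style.haveILetI false

namespace Cfsg.Agent.Components.CyclicSylow

open Subgroup Cfsg.Agent.Components.Basic Cfsg.Agent.Components.Fitting Cfsg.Agent.Components.PComponents

variable {G : Type*} [Group G] {p : ℕ} [hp : Fact p.Prime]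

/-- A power map congruent to `1` modulo `p` of order prime to `p` on a cyclic `p`-group is trivial. -/
lemma commute_of_zpow {a g : G} {m e : ℕ} (ha : a ^ p ^ m = 1) {r : ℤ} (hg : g * a * g⁻¹ = a ^ r)
    (hr : (p : ℤ) ∣ r - 1) (he : e.Coprime p) (hge : Commute (g ^ e) a) : Commute g a := by
  have hk : ∀ k : ℕ, g ^ k * a * (g ^ k)⁻¹ = a ^ (r ^ k) := by
    intro k
    induction k with
    | zero => simp
    | succ k ih =>
      calc g ^ (k + 1) * a * (g ^ (k + 1))⁻¹ = g * (g ^ k * a * (g ^ k)⁻¹) * g⁻¹ := by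
            rw [pow_succ']; group
        _ = MulAut.conj g (a ^ (r ^ k)) := by rw [ih]; rfl
        _ = (MulAut.conj g a) ^ (r ^ k) := map_zpow _ _ _
        _ = a ^ (r * r ^ k) := by rw [MulAut.conj_apply, hg, ← zpow_mul]
        _ = a ^ (r ^ (k + 1)) := by rw [pow_succ']
  have hpm : Commute (g ^ p ^ m) a := by
    have hd : ((p ^ m : ℕ) : ℤ) ∣ r ^ p ^ m - 1 := by
      have h := dvd_sub_pow_of_dvd_sub (R := ℤ) (p := p) (a := r) (b := 1) hr m
      rw [one_pow, pow_succ] at h
      push_cast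
      exact (Dvd.intro _ rfl).trans h
    obtain ⟨t, ht⟩ := hd
    have h2 : a ^ (r ^ p ^ m) = a := by
      rw [show r ^ p ^ m = ((p ^ m : ℕ) : ℤ) * t + 1 by rw [← ht]; ring, zpow_add, zpow_mul,
        zpow_natCast, ha, one_zpow, one_mul, zpow_one]
    have h3 := hk (p ^ m)
    rw [h2, mul_inv_eq_iff_eq_mul] at h3
    exact h3
  have hmem : g ∈ centralizer ({a} : Set G) := by
    have h1 : g ^ e ∈ centralizer ({a} : Set G) := mem_centralizer_singleton_iff.mpr hge
    have h2 : g ^ p ^ m ∈ centralizer ({a} : Set G) := mem_centralizer_singleton_iff.mpr hpm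
    have hb : (1 : ℤ) = (e : ℤ) * Nat.gcdA e (p ^ m) + ((p ^ m : ℕ) : ℤ) * Nat.gcdB e (p ^ m) := by
      rw [← Nat.gcd_eq_gcd_ab, he.pow_right m]; rfl
    have h : g = (g ^ e) ^ Nat.gcdA e (p ^ m) * (g ^ p ^ m) ^ Nat.gcdB e (p ^ m) := by
      rw [← zpow_natCast g e, ← zpow_natCast g (p ^ m), ← zpow_mul, ← zpow_mul, ← zpow_add, ← hb,
        zpow_one]
    rw [h]
    exact mul_mem (zpow_mem h1 _) (zpow_mem h2 _)
  exact mem_centralizer_singleton_iff.mp hmem

variable [Finite G]

/-- In a group with cyclic Sylow `p`-subgroups, commuting elements of order `p` generate the same subgroup. -/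
lemma mem_zpowers_of_commute (P : Sylow p G) [IsCyclic ↥(P : Subgroup G)] {x y : G}
    (hx : orderOf x = p) (hy : orderOf y = p) (hc : Commute x y) : y ∈ zpowers x := by
  set A := zpowers x ⊔ zpowers y with hA
  have hAc : A = closure {x, y} := by
    rw [hA, zpowers_eq_closure, zpowers_eq_closure, ← Subgroup.closure_union, Set.union_singleton, Set.pair_comm]
  have hpow : ∀ a ∈ A, a ^ p = 1 := by
    intro a ha
    have hle : A ≤ centralizer (({x, y} : Set G)) := by
      rw [hAc]
      refine (closure_le _).mpr ?_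
      rintro z (rfl | rfl) <;> refine mem_centralizer_iff.mpr ?_ <;> rintro w (rfl | rfl)
      · rfl
      · exact hc.eq.symm
      · exact hc.eq
      · rfl
    induction (hAc ▸ ha) using closure_induction with
    | mem z hz =>
      rcases hz with rfl | rfl
      · rw [← hx]; exact pow_orderOf_eq_one _
      · rw [← hy]; exact pow_orderOf_eq_one _
    | one => exact one_pow p
    | mul u v hu hv h1 h2 =>
      have hcomm : Commute u v := by
        have hvA : v ∈ centralizer ({x, y} : Set G) := hle (hAc ▸ hv)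
        have : closure ({x, y} : Set G) ≤ centralizer ({v} : Set G) := (closure_le _).mpr fun z hz =>
          mem_centralizer_singleton_iff.mpr (mem_centralizer_iff.mp hvA z hz)
        exact mem_centralizer_singleton_iff.mp (this hu)
      rw [hcomm.mul_pow, h1 (hAc ▸ hu), h2 (hAc ▸ hv), one_mul]
    | inv u hu h1 => rw [inv_pow, h1 (hAc ▸ hu), inv_one]
  have hAp : IsPGroup p A := fun a => ⟨1, by
    rw [pow_one]; exact Subtype.ext (hpow a a.2)⟩
  obtain ⟨Q, hQ⟩ := hAp.exists_le_sylow
  haveI : IsCyclic ↥(Q : Subgroup G) := (P.equiv Q).isCyclic.mp inferInstance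
  haveI : IsCyclic A :=
    isCyclic_of_injective (inclusion hQ) (inclusion_injective hQ)
  have hcard : Nat.card A ≤ p := Nat.le_of_dvd hp.out.pos (by
    rw [← IsCyclic.exponent_eq_card]
    exact Monoid.exponent_dvd_of_forall_pow_eq_one fun a => Subtype.ext (hpow a a.2))
  have heq : zpowers x = A := Subgroup.eq_of_le_of_card_ge le_sup_left (by rwa [Nat.card_zpowers, hx])
  exact heq ▸ mem_sup_right (mem_zpowers y)

lemma exists_orderOf_eq {H : Subgroup G} (hd : p ∣ Nat.card H) : ∃ x ∈ H, orderOf x = p := by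
  obtain ⟨x, hx⟩ := exists_prime_orderOf_dvd_card' (G := H) p hd
  exact ⟨x, x.2, by rwa [orderOf_coe]⟩

/-- Two subgroups of order divisible by `p` with trivial intersection do not commute. -/
lemma false_of_commute (P : Sylow p G) [IsCyclic ↥(P : Subgroup G)] {H L : Subgroup G}
    (hH : p ∣ Nat.card H) (hL : p ∣ Nat.card L) (hd : H ⊓ L = ⊥) (hc : ⁅H, L⁆ = ⊥) : False := by
  obtain ⟨x, hx, hxo⟩ := exists_orderOf_eq hH
  obtain ⟨y, hy, hyo⟩ := exists_orderOf_eq hL
  have hm : y ∈ H ⊓ L := ⟨zpowers_le.mpr hx (mem_zpowers_of_commute P hxo hyo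
    (mem_centralizer_iff.mp (commutator_eq_bot_iff_le_centralizer.mp hc hx) y hy).symm), hy⟩
  rw [hd, Subgroup.mem_bot] at hm
  exact hp.out.ne_one (hyo ▸ orderOf_eq_one_iff.mpr hm)

/-- A component has trivial centre when `O_{p'}(G) = 1` and the Sylow `p`-subgroups are cyclic. -/
lemma center_component_eq_bot (hO : Cfsg.pPrimeCore p G = ⊥) (P : Sylow p G)
    [IsCyclic ↥(P : Subgroup G)] {L : Subgroup G} (hL : Cfsg.IsComponent L) :
    Subgroup.center L = ⊥ := by
  obtain ⟨Q⟩ := (inferInstance : Nonempty (Sylow p L))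
  obtain ⟨R, hR⟩ := (Q.isPGroup'.map L.subtype).exists_le_sylow
  haveI : IsCyclic ↥(R : Subgroup G) := (P.equiv R).isCyclic.mp inferInstance
  haveI : IsCyclic ↥(Q : Subgroup L) := isCyclic_of_injective
    ((inclusion hR).comp ((Q : Subgroup L).equivMapOfInjective L.subtype L.subtype_injective).toMonoidHom)
    ((inclusion_injective hR).comp (MulEquiv.injective _))
  obtain ⟨k, hk⟩ := IsPGroup.iff_card.1 Q.isPGroup'
  have hHall : (Nat.card (Q : Subgroup L)).Coprime (Q : Subgroup L).index := by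
    rw [hk]; exact (hp.out.coprime_iff_not_dvd.mpr Q.not_dvd_index).pow_left k
  have h := Transfer.CenterInf.inf_commutator_inf_center (Q : Subgroup L) hHall
  haveI := hL.2.1
  rw [Group.IsPerfect.commutator_eq_top, inf_top_eq] at h
  have hle : Subgroup.center L ≤ (Q : Subgroup L) :=
    (Cores.le_pCore (isPGroup_center_component hO hL)).trans (Cores.pCore_le_sylow Q)
  rwa [inf_eq_right.mpr hle] at h

/-- With cyclic Sylow `p`-subgroups and a component, `F*(G)` is simple. -/
lemma layer_eq (hO : Cfsg.pPrimeCore p G = ⊥) (P : Sylow p G) [IsCyclic ↥(P : Subgroup G)]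
    {L : Subgroup G} (hL : Cfsg.IsComponent L) :
    Cfsg.generalizedFittingSubgroup G = L ∧ IsSimpleGroup L ∧ ¬ IsMulCommutative L := by
  have hLZ := center_component_eq_bot hO P hL
  have hsimp : IsSimpleGroup L := by
    haveI := hL.2.2
    let e : L ≃* ↥L ⧸ Subgroup.center ↥L :=
      ((QuotientGroup.quotientMulEquivOfEq hLZ).trans QuotientGroup.quotientBot).symm
    haveI : Nontrivial L := quasisimple_nontrivial hL.2
    exact IsSimpleGroup.isSimpleGroup_of_surjective e.symm.toMonoidHom e.symm.surjective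
  have hna : ¬ IsMulCommutative L := fun h =>
    quasisimple_center_ne_top hL.2 (eq_top_iff.mpr fun a _ => Subgroup.mem_center_iff.mpr fun b =>
      h.is_comm.comm b a)
  have hLd := component_dvd_card hO hL
  have huniq : Cfsg.layer G ≤ L := layer_le fun M hM => by
    by_contra hne
    have hML : ⁅M, L⁆ = ⊥ := component_commutator_eq_bot_of_ne hM hL fun h => hne h.le
    refine false_of_commute P (component_dvd_card hO hM) hLd ?_ hML
    refine le_bot_iff.mp fun z hz => ?_
    have : (⟨z, hz.2⟩ : L) ∈ Subgroup.center L := Subgroup.mem_center_iff.mpr fun b => Subtype.ext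
      (mem_centralizer_iff.mp (commutator_eq_bot_iff_le_centralizer.mp hML hz.1) b b.2)
    rw [hLZ, Subgroup.mem_bot] at this
    exact congrArg Subtype.val this
  have hF : Cfsg.fittingSubgroup G = ⊥ := by
    rw [fitting_eq_pCore hO]
    by_contra hne
    obtain ⟨n, hn⟩ := IsPGroup.iff_card.1 (Cores.pCore_isPGroup (G := G) p)
    have hd : p ∣ Nat.card (Cfsg.pCore p G) := by
      rcases n with _ | n
      · exact absurd (Subgroup.eq_bot_of_card_eq _ (by simpa using hn)) hne
      · rw [hn]; exact dvd_pow_self p (Nat.succ_ne_zero n)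
    refine false_of_commute P hd hLd (le_bot_iff.mp fun z hz => ?_) (le_bot_iff.mp
      ((commutator_mono le_rfl (le_layer hL)).trans ?_))
    · have h1 : z ∈ Cfsg.fittingSubgroup G := by rw [fitting_eq_pCore hO]; exact hz.1
      have : (⟨z, hz.2⟩ : L) ∈ Subgroup.center L := Subgroup.mem_center_iff.mpr fun b => Subtype.ext
        (mem_centralizer_iff.mp (fitting_le_centralizer_layer h1) b (le_layer hL b.2))
      rw [hLZ, Subgroup.mem_bot] at this
      exact congrArg Subtype.val this
    · rw [← fitting_eq_pCore hO, commutator_comm]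
      exact layer_commutator_fitting.le
  refine ⟨?_, hsimp, hna⟩
  rw [Cfsg.generalizedFittingSubgroup, hF, sup_bot_eq]
  exact le_antisymm huniq (le_layer hL)

/-- A normal simple subgroup of order divisible by `p` has index prime to `p`. -/
lemma not_dvd_index (P : Sylow p G) [IsCyclic ↥(P : Subgroup G)] (L : Subgroup G) [L.Normal]
    [IsSimpleGroup L] (hna : ¬ IsMulCommutative L) (hd : p ∣ Nat.card L) : ¬ p ∣ L.index := by
  set Q := (P : Subgroup G) ⊓ L with hQ
  obtain ⟨⟨a, haP⟩, hgen⟩ := IsCyclic.exists_generator (α := ↥(P : Subgroup G))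
  obtain ⟨n, hn⟩ := IsPGroup.iff_card.1 P.isPGroup'
  have ha : a ^ p ^ n = 1 := by
    rw [← hn]; exact congrArg Subtype.val (pow_card_eq_one' (x := (⟨a, haP⟩ : (P : Subgroup G))))
  have hPa : (P : Subgroup G) = zpowers a := le_antisymm (fun z hz => by
    obtain ⟨i, hi⟩ := mem_zpowers_iff.mp (hgen ⟨z, hz⟩)
    exact ⟨i, congrArg Subtype.val hi⟩) (zpowers_le.mpr haP)
  haveI : IsCyclic ↥Q := isCyclic_of_injective (inclusion inf_le_left) (inclusion_injective inf_le_left)
  obtain ⟨⟨b, hb⟩, hbgen⟩ := IsCyclic.exists_generator (α := ↥Q)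
  have hQb : Q = zpowers b := le_antisymm (fun z hz => by
    obtain ⟨i, hi⟩ := mem_zpowers_iff.mp (hbgen ⟨z, hz⟩)
    exact ⟨i, congrArg Subtype.val hi⟩) (zpowers_le.mpr hb)
  -- `Q` is Sylow in `L`
  set QS : Sylow p L := (IsPGroup.toSylow (P := Q.subgroupOf L) (P.isPGroup'.to_le inf_le_left).comap_subtype (by
    intro h
    refine P.not_dvd_index (h.trans ?_)
    rw [hQ, inf_subgroupOf_right]
    exact Cores.relIndex_dvd_index_right_normal _ L)) with hQS
  have hQS' : (QS : Subgroup L) = Q.subgroupOf L := rfl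
  have hb1 : b ≠ 1 := by
    intro h
    have : Nat.card (QS : Subgroup L) = 1 := by
      rw [hQS', Nat.card_congr (subgroupOfEquivOfLe (inf_le_right : Q ≤ L)).toEquiv]
      change Nat.card ↥Q = 1
      rw [hQb, h, zpowers_one_eq_bot, Subgroup.card_bot]
    exact QS.not_dvd_index (by
      rwa [← (QS : Subgroup L).card_mul_index, this, one_mul] at hd)
  -- Burnside: some element of `L` normalizing `Q` moves `b`
  obtain ⟨nl, hnl, hnlb⟩ : ∃ x : L, x ∈ normalizer ((QS : Subgroup L) : Set L) ∧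
      ¬ Commute (x : G) b := by
    by_contra hall
    simp only [not_exists, not_and, not_not] at hall
    have hle : normalizer ((QS : Subgroup L) : Set L) ≤ centralizer ((QS : Subgroup L) : Set L) := by
      intro x hx
      rw [mem_centralizer_iff]
      intro z hz
      refine Subtype.ext ?_
      have hzQ : (z : G) ∈ zpowers b := hQb ▸ (mem_subgroupOf.mp hz)
      obtain ⟨i, hi⟩ := mem_zpowers_iff.mp hzQ
      rw [Subgroup.coe_mul, Subgroup.coe_mul, ← hi]
      exact ((hall x hx).zpow_right i).eq.symm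
    rcases (MonoidHom.normal_ker (MonoidHom.transferSylow QS hle)).eq_bot_or_eq_top with h | h
    · have hc := MonoidHom.ker_transferSylow_isComplement' QS hle
      rw [h] at hc
      have htop : (QS : Subgroup L) = ⊤ := isComplement'_bot_left.mp hc
      refine hna ⟨⟨fun u v => Subtype.ext ?_⟩⟩
      obtain ⟨i, hi⟩ := mem_zpowers_iff.mp (hQb ▸ mem_subgroupOf.mp (htop.ge (mem_top u) : u ∈ Q.subgroupOf L))
      obtain ⟨j, hj⟩ := mem_zpowers_iff.mp (hQb ▸ mem_subgroupOf.mp (htop.ge (mem_top v) : v ∈ Q.subgroupOf L))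
      rw [Subgroup.coe_mul, Subgroup.coe_mul, ← hi, ← hj]
      exact (Commute.zpow_zpow_self b i j).eq
    · have := MonoidHom.not_dvd_card_ker_transferSylow QS hle
      rw [h, Subgroup.card_top] at this
      exact this hd
  -- the normalizer and centralizer of `Q` in `G`
  set C := centralizer (Q : Set G) with hC
  have hPC : (P : Subgroup G) ≤ C := fun z hz => mem_centralizer_iff.mpr fun w hw => by
    obtain ⟨i, rfl⟩ := mem_zpowers_iff.mp (hPa ▸ hz)
    obtain ⟨j, rfl⟩ := mem_zpowers_iff.mp (hPa ▸ (inf_le_left : Q ≤ _) hw)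
    exact (Commute.zpow_zpow_self a j i).eq
  set nx : G := (nl : G) with hnx
  have hnxQ : nx ∈ normalizer (Q : Set G) := by
    rw [mem_normalizer_iff]
    intro z
    constructor
    · intro hz
      exact mem_subgroupOf.mp ((mem_normalizer_iff.mp hnl ⟨z, inf_le_right (a := (P : Subgroup G)) hz⟩).mp hz)
    · intro hz
      have hzL : z ∈ L := by
        have := L.mul_mem (L.mul_mem (L.inv_mem nl.2) (inf_le_right (a := (P : Subgroup G)) hz)) nl.2
        simpa [hnx, mul_assoc] using this
      exact mem_subgroupOf.mp ((mem_normalizer_iff.mp hnl ⟨z, hzL⟩).mpr hz)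
  haveI hCn : (C.subgroupOf (normalizer (Q : Set G))).Normal := inferInstance
  have hCN : C ≤ normalizer (Q : Set G) := centralizer_le_normalizer _
  -- a Frattini decomposition `nx = c * n₀` with `n₀` normalizing `P`
  obtain ⟨c, hc, n0, hn0, hcn⟩ : ∃ c ∈ C, ∃ n0 ∈ normalizer ((P : Subgroup G) : Set G), nx = c * n0 := by
    set N := normalizer (Q : Set G)
    set PN : Sylow p N := P.subtype (hPC.trans hCN)
    have hle : (PN : Subgroup N) ≤ C.subgroupOf N := fun z hz => hPC hz
    have htop := Sylow.normalizer_sup_eq_top' PN hle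
    have hmem : (⟨nx, hnxQ⟩ : N) ∈ (↑(normalizer ((PN : Subgroup N) : Set N) ⊔ C.subgroupOf N) : Set N) := by
      rw [show normalizer ((PN : Subgroup N) : Set N) ⊔ C.subgroupOf N = ⊤ from htop]; trivial
    rw [sup_comm, coe_mul_of_right_le_normalizer_left _ _ le_normalizer_of_normal] at hmem
    obtain ⟨c, hc, w, hw, hcw⟩ := hmem
    refine ⟨(c : G), hc, (w : G), ?_, (congrArg Subtype.val hcw).symm⟩
    rw [mem_normalizer_iff]
    intro z
    constructor
    · intro hz
      exact (mem_normalizer_iff.mp hw ⟨z, hCN (hPC hz)⟩).mp hz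
    · intro hz
      have hzN : z ∈ N := by
        have := N.mul_mem (N.mul_mem (N.inv_mem w.2) (hCN (hPC hz))) w.2
        simpa [mul_assoc] using this
      exact (mem_normalizer_iff.mp hw ⟨z, hzN⟩).mpr hz
  obtain ⟨r, hr⟩ := mem_zpowers_iff.mp (hPa ▸ (mem_normalizer_iff.mp hn0 a).mp haP)
  have hbP : b ∈ (P : Subgroup G) := (inf_le_left : Q ≤ _) hb
  obtain ⟨s, hs⟩ := mem_zpowers_iff.mp (hPa ▸ hbP)
  have hn0b : n0 * b * n0⁻¹ = b ^ r := by
    rw [← hs]
    calc n0 * a ^ s * n0⁻¹ = MulAut.conj n0 (a ^ s) := rfl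
      _ = (MulAut.conj n0 a) ^ s := map_zpow _ _ _
      _ = (a ^ r) ^ s := by rw [MulAut.conj_apply, hr]
      _ = (a ^ s) ^ r := by rw [← zpow_mul, ← zpow_mul, mul_comm]
  have hnxb : nx * b * nx⁻¹ = b ^ r := by
    rw [hcn, show c * n0 * b * (c * n0)⁻¹ = c * (n0 * b * n0⁻¹) * c⁻¹ by group, hn0b,
      ← mem_centralizer_iff.mp hc _ (Q.zpow_mem hb r), mul_inv_cancel_right]
  have hbn : b ^ p ^ n = 1 := by
    rw [← hs, ← zpow_natCast, ← zpow_mul, mul_comm, zpow_mul, zpow_natCast, ha, one_zpow]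
  -- `r ≢ 1` modulo `p`
  have hr1 : ¬ (p : ℤ) ∣ r - 1 := by
    intro hdiv
    set NL := normalizer ((QS : Subgroup L) : Set L)
    set e := ((QS : Subgroup L).subgroupOf NL).index with he
    haveI : ((QS : Subgroup L).subgroupOf NL).Normal := normal_in_normalizer
    have hecop : e.Coprime p := Nat.coprime_comm.mp (hp.out.coprime_iff_not_dvd.mpr fun h =>
      QS.not_dvd_index (h.trans (Dvd.intro _ (relIndex_mul_index le_normalizer))))
    have hmem : ((⟨nl, hnl⟩ : NL) ^ e) ∈ (QS : Subgroup L).subgroupOf NL := pow_index_mem _ _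
    have hnxe : nx ^ e ∈ Q := mem_subgroupOf.mp hmem
    exact hnlb (commute_of_zpow hbn hnxb hdiv hecop
      (mem_centralizer_iff.mp (hPC ((inf_le_left : Q ≤ _) hnxe)) b hb).symm)
  -- a normal `p`-complement of `C`
  set PC : Sylow p C := P.subtype hPC with hPCdef
  have hle : normalizer ((PC : Subgroup C) : Set C) ≤ centralizer ((PC : Subgroup C) : Set C) := by
    intro d hd
    obtain ⟨t, ht⟩ := mem_zpowers_iff.mp (hPa ▸ (show (d : G) * a * (d : G)⁻¹ ∈ (P : Subgroup G) from
      (mem_normalizer_iff.mp hd ⟨a, hPC haP⟩).mp haP))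
    have hdb : (d : G) * b * (d : G)⁻¹ = b := by
      rw [← mem_centralizer_iff.mp d.2 b hb, mul_inv_cancel_right]
    have htb : b ^ t = b := by
      conv_rhs => rw [← hdb]
      rw [← hs]
      calc (a ^ s) ^ t = (a ^ t) ^ s := by rw [← zpow_mul, ← zpow_mul, mul_comm]
        _ = (MulAut.conj (d : G) a) ^ s := by rw [MulAut.conj_apply, ht]
        _ = MulAut.conj (d : G) (a ^ s) := (map_zpow _ _ _).symm
        _ = _ := rfl
    have ht1 : (p : ℤ) ∣ t - 1 := by
      have h1 : (orderOf b : ℤ) ∣ t - 1 := orderOf_dvd_iff_zpow_eq_one.mpr (by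
        rw [zpow_sub_one, htb, mul_inv_cancel])
      obtain ⟨i, -, hi⟩ := (Nat.dvd_prime_pow hp.out).mp (orderOf_dvd_of_pow_eq_one hbn)
      rcases i with _ | i
      · exact absurd (orderOf_eq_one_iff.mp (by simpa using hi)) hb1
      · exact dvd_trans (by exact_mod_cast (hi ▸ dvd_pow_self p (Nat.succ_ne_zero i))) h1
    set NC := normalizer ((PC : Subgroup C) : Set C)
    set e := ((PC : Subgroup C).subgroupOf NC).index
    haveI : ((PC : Subgroup C).subgroupOf NC).Normal := normal_in_normalizer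
    have hecop : e.Coprime p := Nat.coprime_comm.mp (hp.out.coprime_iff_not_dvd.mpr fun h =>
      PC.not_dvd_index (h.trans (Dvd.intro _ (relIndex_mul_index le_normalizer))))
    have hmem : ((⟨d, hd⟩ : NC) ^ e) ∈ (PC : Subgroup C).subgroupOf NC := pow_index_mem _ _
    obtain ⟨i, hi⟩ := mem_zpowers_iff.mp (hPa ▸ (show (d : G) ^ e ∈ (P : Subgroup G) from
      mem_subgroupOf.mp hmem))
    have hcom : Commute (d : G) a := commute_of_zpow ha ht.symm ht1 hecop
      (hi ▸ (Commute.refl a).zpow_left i)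
    rw [mem_centralizer_iff]
    intro z hz
    obtain ⟨j, hj⟩ := mem_zpowers_iff.mp (hPa ▸ (show (z : G) ∈ (P : Subgroup G) from hz))
    refine Subtype.ext ?_
    rw [Subgroup.coe_mul, Subgroup.coe_mul, ← hj]
    exact (hcom.zpow_right j).eq.symm
  set τ := MonoidHom.transferSylow PC hle
  -- the image of `a` modulo `L`
  set q := QuotientGroup.mk' L
  intro hdi
  have hqa : q a = 1 := by
    have hcK : (⟨c, hc⟩ : C)⁻¹ * ⟨a, hPC haP⟩ * (⟨c, hc⟩ : C) * (⟨a, hPC haP⟩ : C)⁻¹ ∈ τ.ker := by
      rw [MonoidHom.mem_ker, map_mul, map_mul, map_mul, map_inv, map_inv]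
      haveI : IsMulCommutative (PC : Subgroup C) := ⟨⟨fun u v => Subtype.ext (hle (le_normalizer v.2) u u.2)⟩⟩
      open scoped IsMulCommutative in
      rw [mul_comm (τ _)⁻¹, inv_mul_cancel_right, mul_inv_cancel]
    have hz : orderOf (q (c⁻¹ * a * c * a⁻¹)) ∣ Nat.card τ.ker := by
      refine (orderOf_map_dvd q _).trans ?_
      rw [show c⁻¹ * a * c * a⁻¹ = ((⟨c, hc⟩ : C)⁻¹ * ⟨a, hPC haP⟩ * (⟨c, hc⟩ : C) * (⟨a, hPC haP⟩ : C)⁻¹ : C)
        from rfl, orderOf_coe]
      exact Subgroup.orderOf_dvd_natCard _ hcK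
    have hnq : q nx = 1 := (QuotientGroup.eq_one_iff _).mpr nl.2
    have hqn0 : q n0 = (q c)⁻¹ := by
      rw [hcn, map_mul] at hnq
      exact eq_inv_of_mul_eq_one_right hnq
    have hqa' : q (c⁻¹ * a * c * a⁻¹) = q a ^ (r - 1) := by
      rw [map_mul, map_mul, map_mul, map_inv, map_inv, zpow_sub_one, ← map_zpow, hr, map_mul, map_mul,
        map_inv, hqn0, inv_inv]
    obtain ⟨i, -, hi⟩ := (Nat.dvd_prime_pow hp.out).mp
      (orderOf_dvd_of_pow_eq_one (show q a ^ p ^ n = 1 by rw [← map_pow, ha, map_one]))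
    have hkc : (p ^ n).Coprime (Nat.card τ.ker) :=
      ((hp.out.coprime_iff_not_dvd.mpr (MonoidHom.not_dvd_card_ker_transferSylow PC hle))).pow_left n
    have h1 : q a ^ (r - 1) = 1 := by
      rw [← orderOf_eq_one_iff]
      refine Nat.eq_one_of_dvd_coprimes hkc ?_ (hqa' ▸ hz)
      refine orderOf_dvd_of_pow_eq_one ?_
      rw [← zpow_natCast, ← zpow_mul, mul_comm, zpow_mul, zpow_natCast, ← map_pow, ha, map_one, one_zpow]
    have h2 : (orderOf (q a) : ℤ) ∣ r - 1 := orderOf_dvd_iff_zpow_eq_one.mpr h1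
    rcases i with _ | i
    · exact orderOf_eq_one_iff.mp (by simpa using hi)
    · exact absurd (dvd_trans (by exact_mod_cast (hi ▸ dvd_pow_self p (Nat.succ_ne_zero i))) h2) hr1
  have hPL : (P : Subgroup G) ≤ L := hPa.le.trans (zpowers_le.mpr ((QuotientGroup.eq_one_iff a).mp hqa))
  exact P.not_dvd_index (hdi.trans (index_dvd_of_le hPL))

/-- The case without components. -/
lemma sylow_normal (hO : Cfsg.pPrimeCore p G = ⊥) (P : Sylow p G) [IsCyclic ↥(P : Subgroup G)]
    (hE : Cfsg.layer G = ⊥) :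
    (P : Subgroup G).Normal ∧ centralizer ((P : Subgroup G) : Set G) = (P : Subgroup G) ∧
      (∀ (_ : (P : Subgroup G).Normal), IsCyclic (G ⧸ (P : Subgroup G))) ∧
        (P : Subgroup G).index ∣ p - 1 := by
  have hFs : Cfsg.generalizedFittingSubgroup G = Cfsg.pCore p G := by
    rw [Cfsg.generalizedFittingSubgroup, hE, bot_sup_eq, fitting_eq_pCore hO]
  have hcen := centralizer_genFitting_le (G := G)
  rw [hFs] at hcen
  have hQP : Cfsg.pCore p G ≤ (P : Subgroup G) := Cores.pCore_le_sylow P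
  haveI : IsMulCommutative ↥(P : Subgroup G) := inferInstance
  have hPcen : (P : Subgroup G) ≤ centralizer ((P : Subgroup G) : Set G) := fun u hu =>
    mem_centralizer_iff.mpr fun v hv =>
      congrArg Subtype.val (IsMulCommutative.is_comm.comm (⟨v, hv⟩ : (P : Subgroup G)) ⟨u, hu⟩)
  have hPQ : (P : Subgroup G) = Cfsg.pCore p G :=
    le_antisymm ((hPcen.trans (centralizer_le hQP)).trans hcen) hQP
  haveI hn : (P : Subgroup G).Normal := by rw [hPQ]; infer_instance
  have hC : centralizer ((P : Subgroup G) : Set G) = (P : Subgroup G) :=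
    le_antisymm (by conv_lhs => rw [hPQ]
                    rw [hPQ]; exact hcen) hPcen
  set φ : G →* MulAut (P : Subgroup G) := MulAut.conjNormal with hφ
  have hker : φ.ker = (P : Subgroup G) := by
    refine Eq.trans ?_ hC
    ext g
    rw [MonoidHom.mem_ker, mem_centralizer_iff, MulEquiv.ext_iff]
    refine ⟨fun h u hu => ?_, fun h u => Subtype.ext ?_⟩
    · have : g * u * g⁻¹ = u := congrArg Subtype.val (h ⟨u, hu⟩)
      exact (mul_inv_eq_iff_eq_mul.mp this).symm
    · rw [hφ, MulAut.conjNormal_apply, ← h u u.2, mul_inv_cancel_right, MulAut.one_apply]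
  obtain ⟨n, hn'⟩ := IsPGroup.iff_card.1 P.isPGroup'
  set ψ := (IsCyclic.mulAutMulEquiv ↥(P : Subgroup G)).toMonoidHom.comp φ with hψ
  have hψk : ψ.ker = (P : Subgroup G) := by
    refine Eq.trans ?_ hker
    ext g
    simp [hψ, MonoidHom.mem_ker]
  have hidx : (P : Subgroup G).index ∣ p - 1 := by
    have h1 : (P : Subgroup G).index ∣ Nat.card (MulAut (P : Subgroup G)) := by
      have e : (P : Subgroup G).index = φ.ker.index := by rw [hker]
      rw [e, index_ker]; exact Subgroup.card_subgroup_dvd_card _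
    rw [IsCyclic.card_mulAut, hn'] at h1
    rcases n with _ | n
    · rw [pow_zero, Nat.totient_one] at h1
      exact h1.trans (one_dvd _)
    · rw [Nat.totient_prime_pow_succ hp.out] at h1
      exact (Nat.Coprime.pow_right n (Nat.coprime_comm.mp
        (hp.out.coprime_iff_not_dvd.mpr P.not_dvd_index))).dvd_of_dvd_mul_left h1
  refine ⟨hn, hC, fun h => ?_, hidx⟩
  by_cases hp2 : p = 2
  · subst hp2
    haveI : Subsingleton (G ⧸ (P : Subgroup G)) := by
      rw [← Finite.card_le_one_iff_subsingleton, ← index_eq_card]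
      exact Nat.le_of_dvd (by norm_num) hidx
    exact isCyclic_of_subsingleton
  · haveI : IsCyclic (ZMod (Nat.card (P : Subgroup G)))ˣ := by
      rw [hn']; exact ZMod.isCyclic_units_of_prime_pow p hp.out hp2 n
    exact isCyclic_of_injective
      ((QuotientGroup.kerLift ψ).comp (QuotientGroup.quotientMulEquivOfEq hψk.symm).toMonoidHom)
      ((QuotientGroup.kerLift_injective ψ).comp (MulEquiv.injective _))

end Cfsg.Agent.Components.CyclicSylow
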