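import Mathlib
import Cfsg.Prelude.Def_HallClasses
import Cfsg.Agent.GStructB.PiHomogeneous

/-!
`D_π`-groups inducing only π-automorphisms on their π-subgroups: the Hall π-subgroup
controls strong fusion of its p-subgroups and fusion of its elements.
-/

set_option autoImplicit false
set_option linter.all false

namespace Cfsg.Agent.Components.DPiHom

open Subgroup

variable {G : Type*} [Group G]

abbrev cmap (g : G) (U : Subgroup G) : Subgroup G := U.map (MulAut.conj g).toMonoidHom

theorem mem_cmap {g x : G} {U : Subgroup G} : x ∈ cmap g U ↔ g⁻¹ * x * g ∈ U := by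
  constructor
  · rintro ⟨u, hu, rfl⟩
    simpa [mul_assoc] using hu
  · intro h
    exact ⟨g⁻¹ * x * g, h, by simp [mul_assoc]⟩

theorem conj_mem_cmap {g x : G} {U : Subgroup G} (h : x ∈ U) : g * x * g⁻¹ ∈ cmap g U :=
  ⟨x, h, rfl⟩

theorem cmap_le {g : G} {U V : Subgroup G} : cmap g U ≤ V ↔ ∀ u ∈ U, g * u * g⁻¹ ∈ V :=
  ⟨fun h u hu => h (conj_mem_cmap hu), fun h => by rintro _ ⟨u, hu, rfl⟩; exact h u hu⟩

theorem card_cmap (g : G) (U : Subgroup G) : Nat.card (cmap g U) = Nat.card U :=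
  Nat.card_congr (U.equivMapOfInjective _ (MulAut.conj g).injective).toEquiv.symm

theorem cmap_cmap (a b : G) (U : Subgroup G) : cmap a (cmap b U) = cmap (a * b) U := by
  ext x; simp only [mem_cmap]; rw [show b⁻¹ * (a⁻¹ * x * a) * b = (a * b)⁻¹ * x * (a * b) by group]

theorem cmap_eq_of_le [Finite G] {g : G} {U V : Subgroup G} (h : cmap g U ≤ V)
    (hc : Nat.card V ≤ Nat.card U) : cmap g U = V :=
  Subgroup.eq_of_le_of_card_ge h (by rwa [card_cmap])

theorem mem_normalizer_of_cmap {g : G} {U : Subgroup G} (h : cmap g U = U) :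
    g ∈ Subgroup.normalizer (U : Set G) := by
  refine Subgroup.mem_normalizer_iff.mpr fun x => ?_
  constructor
  · intro hx; rw [← h]; exact conj_mem_cmap hx
  · intro hx
    rw [← h] at hx
    simpa [mul_assoc] using mem_cmap.mp hx

theorem cmap_eq_of_mem_normalizer [Finite G] {g : G} {U : Subgroup G}
    (h : g ∈ Subgroup.normalizer (U : Set G)) : cmap g U = U :=
  cmap_eq_of_le (cmap_le.mpr fun u hu => (Subgroup.mem_normalizer_iff.mp h u).mp hu) le_rfl

/-- A supplement of a normal subgroup with π-index that is itself a π-group. -/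
theorem exists_pi_supplement [Finite G] (π : Set ℕ) (C : Subgroup G) [C.Normal]
    (hC : ∀ r : ℕ, r.Prime → r ∣ C.index → r ∈ π) :
    ∃ L : Subgroup G, L ⊔ C = ⊤ ∧ IsPiSubgroup π L := by
  obtain ⟨L, hL, hmin⟩ := (wellFounded_lt (α := Subgroup G)).has_min {L | L ⊔ C = ⊤} ⟨⊤, top_sup_eq C⟩
  change L ⊔ C = ⊤ at hL
  refine ⟨L, hL, fun r hr hrd => ?_⟩
  by_contra hrπ
  have := Fact.mk hr
  have hkerle : C.subgroupOf L ≤ frattini L := by
    rw [frattini]
    refine le_iInf₂ fun M hM => ?_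
    by_contra hnot
    have h1 : M ⊔ C.subgroupOf L = ⊤ := hM.2 _ (left_lt_sup.mpr hnot)
    have h2 : M.map L.subtype ⊔ C = ⊤ := by
      rw [eq_top_iff, ← hL]
      refine sup_le ?_ le_sup_right
      calc L = (⊤ : Subgroup L).map L.subtype := by rw [← MonoidHom.range_eq_map, L.range_subtype]
        _ = M.map L.subtype ⊔ (C.subgroupOf L).map L.subtype := by rw [← h1, Subgroup.map_sup]
        _ ≤ M.map L.subtype ⊔ C := by
          refine sup_le le_sup_left (le_trans ?_ le_sup_right)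
          rintro _ ⟨y, hy, rfl⟩; exact hy
    refine hmin _ h2 (lt_of_le_of_ne (Subgroup.map_subtype_le M) fun he => hM.1 ?_)
    rw [← Subgroup.map_subtype_inj (H := L), he, ← MonoidHom.range_eq_map, L.range_subtype]
  have hidx : (C.subgroupOf L).index ∣ C.index := Subgroup.relIndex_dvd_index_of_normal C L
  have hne : ¬ r ∣ (frattini L).index := fun h =>
    hrπ (hC r hr ((h.trans (Subgroup.index_dvd_of_le hkerle)).trans hidx))
  set S : Sylow r (frattini L) := default
  set S' : Subgroup L := (S : Subgroup (frattini L)).map (frattini L).subtype with hS'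
  have hS'n : S'.Normal := by
    have := Sylow.normalizer_sup_eq_top S
    exact Subgroup.normalizer_eq_top_iff.mp (frattini_nongenerating this)
  have hp : IsPGroup r S' := S.isPGroup'.map _
  have hS'i : ¬ r ∣ S'.index := by
    rw [hS', Subgroup.index_map_subtype]
    intro h
    rcases (Nat.Prime.dvd_mul hr).mp h with h | h
    · exact S.not_dvd_index h
    · exact hne h
  have hco : Nat.Coprime (Nat.card S') S'.index := by
    obtain ⟨k, hk⟩ := IsPGroup.iff_card.mp hp
    rw [hk]
    exact Nat.Coprime.pow_left k (hr.coprime_iff_not_dvd.mpr hS'i)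
  obtain ⟨Y, hY⟩ := Subgroup.exists_right_complement'_of_coprime hco
  have hS'le : S' ≤ frattini L := Subgroup.map_subtype_le _
  have hYtop : Y = ⊤ := frattini_nongenerating (le_antisymm le_top
    (hY.sup_eq_top ▸ sup_le (hS'le.trans le_sup_right) le_sup_left))
  have hS'1 : S' = ⊥ := by
    have := hY.disjoint
    rw [hYtop, disjoint_top] at this
    exact this
  refine hS'i ?_
  rw [hS'1, Subgroup.index_bot]
  exact hrd

/-- The hypotheses: `H` is a π-subgroup containing a conjugate of every π-subgroup, and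
`N(U)/C(U)` is a π-group for every nontrivial π-subgroup `U`. -/
structure Hyp (π : Set ℕ) (H : Subgroup G) : Prop where
  piH : IsPiSubgroup π H
  emb : ∀ U : Subgroup G, IsPiSubgroup π U → ∃ g : G, cmap g U ≤ H
  hom : GStructB.PiHomogeneous.Homog πᶜ G

variable [Finite G] {π : Set ℕ} {H : Subgroup G}

theorem pi_of_pGroup {p : ℕ} [hp : Fact p.Prime] (hpπ : p ∈ π) {U : Subgroup G} (h : IsPGroup p U) :
    IsPiSubgroup π U := by
  intro r hr hd
  obtain ⟨k, hk⟩ := IsPGroup.iff_card.mp h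
  rw [hk] at hd
  rwa [(Nat.prime_dvd_prime_iff_eq hr hp.out).mp (hr.dvd_of_dvd_pow hd)]

theorem pi_mono {U V : Subgroup G} (h : V ≤ U) (hU : IsPiSubgroup π U) : IsPiSubgroup π V :=
  fun r hr hd => hU r hr (hd.trans (Subgroup.card_dvd_of_le h))

theorem pi_cmap {U : Subgroup G} (g : G) (hU : IsPiSubgroup π U) : IsPiSubgroup π (cmap g U) :=
  fun r hr hd => hU r hr (by rwa [card_cmap] at hd)

theorem pi_sup {U V : Subgroup G} (hUV : U ≤ Subgroup.normalizer (V : Set G))
    (hU : IsPiSubgroup π U) (hV : IsPiSubgroup π V) : IsPiSubgroup π (U ⊔ V) := by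
  intro r hr hd
  set N := Subgroup.normalizer (V : Set G) with hN
  have hVN : V ≤ N := Subgroup.le_normalizer
  have hle : U ⊔ V ≤ N := sup_le hUV hVN
  have e : Nat.card ↥(U ⊔ V) = Nat.card V * V.relIndex (U ⊔ V) := by
    rw [← Subgroup.relIndex_bot_left (U ⊔ V), ← Subgroup.relIndex_bot_left V,
      Subgroup.relIndex_mul_relIndex ⊥ V (U ⊔ V) bot_le le_sup_right]
  have e2 : V.relIndex (U ⊔ V) = V.relIndex U := by
    rw [← Subgroup.relIndex_subgroupOf hle, Subgroup.subgroupOf_sup hUV hVN,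
      Subgroup.relIndex_sup_right, Subgroup.relIndex_subgroupOf hUV]
  rw [e, e2] at hd
  rcases (Nat.Prime.dvd_mul hr).mp hd with h | h
  · exact hV r hr h
  · exact hU r hr (h.trans (Dvd.intro_left _ (by
      rw [← Subgroup.relIndex_bot_left U, ← Subgroup.inf_relIndex_right V U]
      exact Subgroup.relIndex_mul_relIndex ⊥ (V ⊓ U) U bot_le inf_le_right)))

/-- `Q` satisfies strong fusion control in `H`. -/
abbrev Ctrl (H Q : Subgroup G) : Prop :=
  ∀ g : G, cmap g Q ≤ H → ∃ h ∈ H, ∃ c ∈ Subgroup.centralizer (Q : Set G), g = h * c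

/-- A Sylow subgroup of `N_H(Q)`, containing `Q`. -/
theorem exists_normal_sylow {p : ℕ} [hp : Fact p.Prime] {Q : Subgroup G} (hQH : Q ≤ H)
    (hQ : IsPGroup p Q) :
    ∃ R : Subgroup G, IsPGroup p R ∧ Q ≤ R ∧ R ≤ H ∧ R ≤ Subgroup.normalizer (Q : Set G) ∧
      (∀ U : Subgroup G, IsPGroup p U → U ≤ H → U ≤ Subgroup.normalizer (Q : Set G) →
        Nat.card U ≤ Nat.card R) ∧
      (R = Q → ∀ U : Subgroup G, IsPGroup p U → U ≤ H → Nat.card U ≤ Nat.card Q) := by
  set K := H ⊓ Subgroup.normalizer (Q : Set G) with hK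
  have hQK : Q ≤ K := le_inf hQH Subgroup.le_normalizer
  obtain ⟨S, hS⟩ := (hQ.comap_subtype (K := K)).exists_le_sylow
  set R := (S : Subgroup K).map K.subtype with hR
  have hRK : R ≤ K := Subgroup.map_subtype_le _
  have hQR : Q ≤ R := by
    rw [← inf_eq_left.mpr hQK, ← Subgroup.subgroupOf_map_subtype]
    exact Subgroup.map_mono hS
  have hmax : ∀ U : Subgroup G, IsPGroup p U → U ≤ H → U ≤ Subgroup.normalizer (Q : Set G) →
      Nat.card U ≤ Nat.card R := by
    intro U hU hUH hUN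
    obtain ⟨T, hT⟩ := (hU.comap_subtype (K := K)).exists_le_sylow
    calc Nat.card U = Nat.card (U.subgroupOf K) :=
          (Nat.card_congr (Subgroup.subgroupOfEquivOfLe (le_inf hUH hUN)).toEquiv).symm
      _ ≤ Nat.card T := Subgroup.card_le_of_le hT
      _ = Nat.card S := by rw [S.card_eq_multiplicity, T.card_eq_multiplicity]
      _ = Nat.card R := by rw [hR, Subgroup.card_subtype]
  refine ⟨R, S.isPGroup'.map _, hQR, hRK.trans inf_le_left, hRK.trans inf_le_right, hmax, ?_⟩
  intro hRQ U hU hUH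
  obtain ⟨T, hT⟩ := (hU.comap_subtype (K := H)).exists_le_sylow
  obtain ⟨P, hP⟩ := (hQ.comap_subtype (K := H)).exists_le_sylow
  set P' := (P : Subgroup H).map H.subtype with hP'
  have hQP : Q ≤ P' := by
    rw [← inf_eq_left.mpr hQH, ← Subgroup.subgroupOf_map_subtype]
    exact Subgroup.map_mono hP
  have hQP' : Q = P' := by
    by_contra hne
    have hP'p : IsPGroup p P' := P.isPGroup'.map _
    have : Group.IsNilpotent P' := hP'p.isNilpotent
    have hlt : Q.subgroupOf P' < ⊤ :=
      lt_top_iff_ne_top.mpr fun h => hne (le_antisymm hQP (Subgroup.subgroupOf_eq_top.mp h))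
    have hn := normalizerCondition_of_isNilpotent _ hlt
    obtain ⟨y, hy, hyQ⟩ := SetLike.exists_of_lt hn
    have hyN : (y : G) ∈ Subgroup.normalizer (Q : Set G) := by
      refine Subgroup.mem_normalizer_iff.mpr fun x => ?_
      have h0 := Subgroup.mem_normalizer_iff.mp hy
      constructor
      · intro hx
        simpa [Subgroup.mem_subgroupOf] using (h0 ⟨x, hQP hx⟩).mp (by simpa [Subgroup.mem_subgroupOf] using hx)
      · intro hx
        have hxP : x ∈ P' := by
          have := mul_mem (mul_mem (inv_mem y.2) (hQP hx)) y.2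
          simpa [mul_assoc] using this
        simpa [Subgroup.mem_subgroupOf] using (h0 ⟨x, hxP⟩).mpr (by simpa [Subgroup.mem_subgroupOf] using hx)
    set U' := P' ⊓ Subgroup.normalizer (Q : Set G) with hU'
    have hlt' : Nat.card Q < Nat.card U' := by
      by_contra hge
      have := Subgroup.eq_of_le_of_card_ge (le_inf hQP Subgroup.le_normalizer) (le_of_not_gt hge)
      exact hyQ (Subgroup.mem_subgroupOf.mpr (this ▸ ⟨y.2, hyN⟩))
    have := hmax U' (hP'p.to_le inf_le_left) (inf_le_left.trans (Subgroup.map_subtype_le _)) inf_le_right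
    rw [hRQ] at this
    omega
  calc Nat.card U = Nat.card (U.subgroupOf H) :=
        (Nat.card_congr (Subgroup.subgroupOfEquivOfLe hUH).toEquiv).symm
    _ ≤ Nat.card T := Subgroup.card_le_of_le hT
    _ = Nat.card P := by rw [P.card_eq_multiplicity, T.card_eq_multiplicity]
    _ = Nat.card Q := by rw [hQP', hP', Subgroup.card_subtype]

/-- Strong fusion of the p-subgroups of `H` is controlled by `H`. -/
theorem ctrl (hy : Hyp π H) {p : ℕ} [hp : Fact p.Prime] (hpπ : p ∈ π) :
    ∀ Q : Subgroup G, Q ≤ H → IsPGroup p Q → Ctrl H Q := by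
  suffices h : ∀ (n : ℕ) (Q : Subgroup G), Nat.card G - Nat.card Q = n → Q ≤ H → IsPGroup p Q → Ctrl H Q from
    fun Q => h _ Q rfl
  intro n
  induction n using Nat.strong_induction_on with
  | _ n IH => ?_
  intro Q hn hQH hQp
  have ih : ∀ R : Subgroup G, Nat.card Q < Nat.card R → R ≤ H → IsPGroup p R → Ctrl H R := by
    intro R hlt
    have := Subgroup.card_le_card_group R
    exact IH _ (by omega) R rfl
  -- facts for an arbitrary conjugate of `Q` in `H`
  have key : ∀ Q' : Subgroup G, Q' ≤ H → IsPGroup p Q' → Nat.card Q' = Nat.card Q →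
      ∃ R : Subgroup G, IsPGroup p R ∧ Q' ≤ R ∧ R ≤ H ∧ R ≤ Subgroup.normalizer (Q' : Set G) ∧
        (∀ U : Subgroup G, IsPGroup p U → U ≤ Subgroup.normalizer (Q' : Set G) → Nat.card U ≤ Nat.card R) ∧
        (R = Q' → ∀ U : Subgroup G, IsPGroup p U → Nat.card U ≤ Nat.card Q) ∧
        (∀ U : Subgroup G, IsPiSubgroup π U → R ≤ U → U ≤ Subgroup.normalizer (Q' : Set G) →
          ∃ x ∈ Subgroup.normalizer (Q' : Set G), cmap x U ≤ H) := by
    intro Q' hQ'H hQ'p hcard
    obtain ⟨R, hRp, hQR, hRH, hRN, hmax, heq⟩ := exists_normal_sylow hQ'H hQ'p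
    have hsyl : R = Q' → ∀ U : Subgroup G, IsPGroup p U → Nat.card U ≤ Nat.card Q := by
      intro hRQ U hU
      obtain ⟨g, hg⟩ := hy.emb U (pi_of_pGroup hpπ hU)
      rw [← card_cmap g U, ← hcard]
      exact heq hRQ _ (hU.map _) hg
    have pull : ∀ U : Subgroup G, IsPiSubgroup π U → R ≤ U → U ≤ Subgroup.normalizer (Q' : Set G) →
        ∃ x ∈ Subgroup.normalizer (Q' : Set G), cmap x U ≤ H := by
      intro U hU hRU hUN
      obtain ⟨g, hg⟩ := hy.emb U hU
      by_cases hRQ : R = Q'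
      · -- `Q'` is a Sylow subgroup
        have hgQ : cmap g Q' ≤ H := (Subgroup.map_mono (hQR.trans hRU)).trans hg
        have hc1 : IsPGroup p (cmap g Q') := hQ'p.map _
        obtain ⟨T, hT⟩ := (hc1.comap_subtype (K := H)).exists_le_sylow
        obtain ⟨P, hP⟩ := (hQ'p.comap_subtype (K := H)).exists_le_sylow
        have hT' : cmap g Q' = (T : Subgroup H).map H.subtype := by
          refine Subgroup.eq_of_le_of_card_ge ?_ ?_
          · rw [← inf_eq_left.mpr hgQ, ← Subgroup.subgroupOf_map_subtype]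
            exact Subgroup.map_mono hT
          · rw [card_cmap, hcard]
            exact hsyl hRQ _ (T.isPGroup'.map _)
        have hP' : Q' = (P : Subgroup H).map H.subtype := by
          refine Subgroup.eq_of_le_of_card_ge ?_ ?_
          · rw [← inf_eq_left.mpr hQ'H, ← Subgroup.subgroupOf_map_subtype]
            exact Subgroup.map_mono hP
          · rw [hcard]; exact hsyl hRQ _ (P.isPGroup'.map _)
        obtain ⟨h, hh⟩ := MulAction.exists_smul_eq H P T
        have hconj : cmap (h : G) Q' = cmap g Q' := by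
          rw [hT', hP', ← hh]
          ext x
          simp only [Subgroup.mem_map]
          constructor
          · rintro ⟨_, ⟨y, hy, rfl⟩, rfl⟩
            exact ⟨h * y * h⁻¹, ⟨y, hy, rfl⟩, rfl⟩
          · rintro ⟨_, ⟨y, hy, rfl⟩, rfl⟩
            exact ⟨(y : G), ⟨y, hy, rfl⟩, rfl⟩
        refine ⟨(h : G)⁻¹ * g, ?_, ?_⟩
        · refine mem_normalizer_of_cmap ?_
          rw [← cmap_cmap, ← hconj, cmap_cmap, inv_mul_cancel]
          ext x; simp [mem_cmap]
        · refine cmap_le.mpr fun u hu => ?_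
          have := mul_mem (mul_mem (inv_mem h.2) (cmap_le.mp hg u hu)) h.2
          simpa [mul_assoc] using this
      · have hlt : Nat.card Q < Nat.card R := by
          rw [← hcard]
          refine lt_of_not_ge fun hge => hRQ (Subgroup.eq_of_le_of_card_ge hQR hge).symm
        obtain ⟨h, hh, c, hc, rfl⟩ := ih R hlt hRH hRp g ((Subgroup.map_mono hRU).trans hg)
        refine ⟨c, ?_, ?_⟩
        · exact Subgroup.centralizer_le_normalizer _ (Subgroup.centralizer_le hQR hc)
        · refine cmap_le.mpr fun u hu => ?_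
          have := mul_mem (mul_mem (inv_mem hh) (cmap_le.mp hg u hu)) hh
          simpa [mul_assoc] using this
    refine ⟨R, hRp, hQR, hRH, hRN, ?_, hsyl, pull⟩
    -- `R` is Sylow in the whole normalizer
    intro U hU hUN
    set N := Subgroup.normalizer (Q' : Set G) with hN
    obtain ⟨T, hT⟩ := (hRp.comap_subtype (K := N)).exists_le_sylow
    obtain ⟨T2, hT2⟩ := (hU.comap_subtype (K := N)).exists_le_sylow
    set T' := (T : Subgroup N).map N.subtype with hT'
    have hRT : R ≤ T' := by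
      rw [← inf_eq_left.mpr hRN, ← Subgroup.subgroupOf_map_subtype]
      exact Subgroup.map_mono hT
    obtain ⟨x, hx, hxT⟩ := pull T' (pi_of_pGroup hpπ (T.isPGroup'.map _)) hRT (Subgroup.map_subtype_le _)
    have h1 : Nat.card T' ≤ Nat.card R := by
      rw [← card_cmap x T']
      refine hmax _ ((T.isPGroup'.map _).map _) hxT (cmap_le.mpr fun u hu => ?_)
      exact mul_mem (mul_mem hx (Subgroup.map_subtype_le _ hu)) (inv_mem hx)
    calc Nat.card U = Nat.card (U.subgroupOf N) :=
          (Nat.card_congr (Subgroup.subgroupOfEquivOfLe hUN).toEquiv).symm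
      _ ≤ Nat.card T2 := Subgroup.card_le_of_le hT2
      _ = Nat.card T' := by rw [hT', Subgroup.card_subtype, T.card_eq_multiplicity, T2.card_eq_multiplicity]
      _ ≤ Nat.card R := h1
  obtain ⟨R, hRp, hQR, hRH, hRN, hRmax, hRsyl, pull⟩ := key Q hQH hQp rfl
  set N := Subgroup.normalizer (Q : Set G) with hNdef
  set C := Subgroup.centralizer (Q : Set G) with hCdef
  -- automisers
  have aut : ∀ x ∈ N, ∃ h ∈ H, ∃ c ∈ C, x = h * c := by
    intro x hx
    by_cases hQ1 : Q = ⊥
    · exact ⟨1, one_mem _, x, by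
        rw [hCdef, hQ1]; exact Subgroup.mem_centralizer_iff.mpr fun z hz => by
          rw [Subgroup.mem_bot.mp hz, one_mul, mul_one], (one_mul x).symm⟩
    set C₀ := C.subgroupOf N with hC₀
    have hC₀n : C₀.Normal := GStructB.PiHomogeneous.centralizer_subgroupOf_normal Q
    have hC₀π : ∀ r : ℕ, r.Prime → r ∣ C₀.index → r ∈ π := by
      intro r hr hd
      have := hy.hom Q hQ1 (fun q hq hqd => not_not.mpr (pi_of_pGroup hpπ hQp q hq hqd)) r hr hd
      exact not_not.mp this
    obtain ⟨D⟩ := (inferInstance : Nonempty (Sylow p C₀))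
    set D₁ := (D : Subgroup C₀).map C₀.subtype with hD₁
    have hfr : Subgroup.normalizer (D₁ : Set N) ⊔ C₀ = ⊤ := Sylow.normalizer_sup_eq_top D
    set N₁ := Subgroup.normalizer (D₁ : Set N) with hN₁
    obtain ⟨L, hL, hLπ⟩ := exists_pi_supplement π (C₀.subgroupOf N₁)
      (fun r hr hd => hC₀π r hr (hd.trans (Subgroup.relIndex_dvd_index_of_normal C₀ N₁)))
    set L₁ := L.map N₁.subtype with hL₁
    have hL₁C : L₁ ⊔ C₀ = ⊤ := by
      rw [eq_top_iff, ← hfr]
      refine sup_le ?_ le_sup_right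
      calc N₁ = (⊤ : Subgroup N₁).map N₁.subtype := by rw [← MonoidHom.range_eq_map, N₁.range_subtype]
        _ = L.map N₁.subtype ⊔ (C₀.subgroupOf N₁).map N₁.subtype := by rw [← hL, Subgroup.map_sup]
        _ ≤ L₁ ⊔ C₀ := by
          refine sup_le le_sup_left (le_trans ?_ le_sup_right)
          rintro _ ⟨y, hy', rfl⟩; exact hy'
    set M := L₁ ⊔ D₁ with hM
    have hMπ : IsPiSubgroup π M := pi_sup (Subgroup.map_subtype_le _)
      (fun r hr hd => hLπ r hr (by rwa [hL₁, Subgroup.card_subtype] at hd))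
      (pi_of_pGroup hpπ (D.isPGroup'.map _))
    have hMC : M ⊔ C₀ = ⊤ := top_le_iff.mp (hL₁C.ge.trans (sup_le_sup_right le_sup_left _))
    -- `M` contains a Sylow subgroup of `N`
    obtain ⟨S, hS⟩ := (IsPGroup.of_bot (G := N) (p := p)).exists_le_sylow
    obtain ⟨T⟩ := (inferInstance : Nonempty (Sylow p M))
    obtain ⟨RN, hRN'⟩ := (hRp.comap_subtype (K := N)).exists_le_sylow
    have hMi : ¬ p ∣ M.index := by
      have h1 : M.index = M.relIndex C₀ := by
        have e1 : C₀.index = C₀.relIndex M := by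
          rw [← Subgroup.relIndex_top_right, ← hMC, Subgroup.relIndex_sup_right]
        have e2 : Nat.card M = Nat.card ↥(M ⊓ C₀) * C₀.relIndex M := by
          rw [← Subgroup.inf_relIndex_right C₀ M, inf_comm C₀ M, ← Subgroup.relIndex_bot_left M,
            ← Subgroup.relIndex_bot_left (M ⊓ C₀), Subgroup.relIndex_mul_relIndex ⊥ _ M bot_le inf_le_left]
        have e3 : Nat.card C₀ = Nat.card ↥(M ⊓ C₀) * M.relIndex C₀ := by
          rw [← Subgroup.inf_relIndex_right M C₀, ← Subgroup.relIndex_bot_left C₀,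
            ← Subgroup.relIndex_bot_left (M ⊓ C₀), Subgroup.relIndex_mul_relIndex ⊥ _ C₀ bot_le inf_le_right]
        have e4 := Subgroup.card_mul_index M
        rw [← Subgroup.card_mul_index C₀, e1, e3, e2] at e4
        have h0 : Nat.card ↥(M ⊓ C₀) * C₀.relIndex M ≠ 0 := by rw [← e2]; exact Nat.card_pos.ne'
        exact mul_left_cancel₀ h0 (e4.trans (by ring))
      rw [h1]
      intro h
      refine D.not_dvd_index (h.trans ?_)
      have h2 : D₁.subgroupOf C₀ = (D : Subgroup C₀) := by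
        rw [hD₁, Subgroup.subgroupOf, Subgroup.comap_map_eq_self_of_injective C₀.subtype_injective]
      rw [← h2]
      exact Subgroup.index_dvd_of_le (Subgroup.comap_mono le_sup_right)
    set T₁ := (T : Subgroup M).map M.subtype with hT₁
    have hT₁i : ¬ p ∣ T₁.index := by
      rw [hT₁, Subgroup.index_map_subtype]
      intro h
      rcases (Nat.Prime.dvd_mul hp.out).mp h with h | h
      · exact T.not_dvd_index h
      · exact hMi h
    set T₂ := (T.isPGroup'.map M.subtype).toSylow hT₁i with hT₂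
    obtain ⟨k, hk⟩ := MulAction.exists_smul_eq N T₂ RN
    set M' := cmap k M with hM'
    have hRM' : R.subgroupOf N ≤ M' := by
      refine hRN'.trans ?_
      rw [← hk]
      intro y hy'
      rw [Sylow.coe_subgroup_smul, Subgroup.mem_pointwise_smul_iff_inv_smul_mem] at hy'
      rw [hM', mem_cmap]
      have : k⁻¹ * y * k ∈ T₁ := by
        have h' : k⁻¹ * y * k ∈ (T₂ : Subgroup N) := by simpa [MulAut.smul_def] using hy'
        exact h'
      exact Subgroup.map_subtype_le _ this
    have hM'C : M' ⊔ C₀ = ⊤ := by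
      have e : cmap k C₀ = C₀ := by
        refine cmap_eq_of_le (cmap_le.mpr fun u hu => hC₀n.conj_mem u hu k) le_rfl
      rw [hM', ← e, ← Subgroup.map_sup, hMC]
      exact Subgroup.map_top_of_surjective _ (MulAut.conj k).surjective
    set U := M'.map N.subtype with hU
    have hUπ : IsPiSubgroup π U := fun r hr hd =>
      pi_cmap k hMπ r hr (by rwa [hU, Subgroup.card_subtype] at hd)
    have hRU : R ≤ U := by
      rw [← inf_eq_left.mpr hRN, ← Subgroup.subgroupOf_map_subtype]
      exact Subgroup.map_mono hRM'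
    obtain ⟨v, hv, hvU⟩ := pull U hUπ hRU (Subgroup.map_subtype_le _)
    -- apply to a conjugate of `x`
    have hx' : v⁻¹ * x * v ∈ N := mul_mem (mul_mem (inv_mem hv) hx) hv
    obtain ⟨m, hm, c, hc, hmc⟩ := Subgroup.mem_sup_of_normal_right.mp (hM'C ▸ Subgroup.mem_top (⟨_, hx'⟩ : N))
    have hmc' : (m : G) * (c : G) = v⁻¹ * x * v := congrArg Subtype.val hmc
    refine ⟨v * m * v⁻¹, cmap_le.mp hvU _ ⟨m, hm, rfl⟩, v * c * v⁻¹, ?_, ?_⟩
    · have := hC₀n.conj_mem c hc ⟨v, hv⟩
      exact this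
    · rw [show v * (m : G) * v⁻¹ * (v * c * v⁻¹) = v * ((m : G) * c) * v⁻¹ by group, hmc']
      group
  intro g hg
  set Q' := cmap g Q with hQ'def
  obtain ⟨R'', hR''p, hQR'', hR''H, hR''N, hR''max, hR''syl, pull''⟩ :=
    key Q' hg (hQp.map _) (card_cmap g Q)
  suffices h : ∃ h ∈ H, cmap h Q = Q' by
    obtain ⟨h, hh, hhQ⟩ := h
    have hn' : h⁻¹ * g ∈ N := mem_normalizer_of_cmap (by
      rw [← cmap_cmap, ← hQ'def, ← hhQ, cmap_cmap, inv_mul_cancel]
      ext z; simp [mem_cmap])
    obtain ⟨h', hh', c, hc, he⟩ := aut _ hn'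
    exact ⟨h * h', mul_mem hh hh', c, hc, by rw [mul_assoc, ← he]; group⟩
  by_cases hRQ : R = Q
  · obtain ⟨T, hT⟩ := ((hQp.map _ : IsPGroup p Q').comap_subtype (K := H)).exists_le_sylow
    obtain ⟨P, hP⟩ := (hQp.comap_subtype (K := H)).exists_le_sylow
    have hP' : Q = (P : Subgroup H).map H.subtype := by
      refine Subgroup.eq_of_le_of_card_ge ?_ (hRsyl hRQ _ (P.isPGroup'.map _))
      rw [← inf_eq_left.mpr hQH, ← Subgroup.subgroupOf_map_subtype]
      exact Subgroup.map_mono hP
    have hT' : Q' = (T : Subgroup H).map H.subtype := by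
      refine Subgroup.eq_of_le_of_card_ge ?_ ?_
      · rw [← inf_eq_left.mpr hg, ← Subgroup.subgroupOf_map_subtype]
        exact Subgroup.map_mono hT
      · rw [card_cmap]; exact hRsyl hRQ _ (T.isPGroup'.map _)
    obtain ⟨h, hh⟩ := MulAction.exists_smul_eq H P T
    refine ⟨h, h.2, ?_⟩
    rw [hT', hP', ← hh]
    ext x
    simp only [Subgroup.mem_map]
    constructor
    · rintro ⟨_, ⟨y, hy', rfl⟩, rfl⟩
      exact ⟨h * y * h⁻¹, ⟨y, hy', rfl⟩, rfl⟩
    · rintro ⟨_, ⟨y, hy', rfl⟩, rfl⟩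
      exact ⟨(y : G), ⟨y, hy', rfl⟩, rfl⟩
  · -- move a Sylow subgroup of `N(Q')` into `H`
    have hlt : Nat.card Q < Nat.card R :=
      lt_of_not_ge fun hge => hRQ (Subgroup.eq_of_le_of_card_ge hQR hge).symm
    set N' := Subgroup.normalizer (Q' : Set G) with hN'
    have hgR : cmap g R ≤ N' := by
      refine cmap_le.mpr fun u hu => mem_normalizer_of_cmap ?_
      rw [hQ'def, cmap_cmap, show g * u * g⁻¹ * g = g * u by group, ← cmap_cmap,
        cmap_eq_of_mem_normalizer (hRN hu)]
    obtain ⟨T, hT⟩ := ((hRp.map _ : IsPGroup p (cmap g R)).comap_subtype (K := N')).exists_le_sylow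
    obtain ⟨T2, hT2⟩ := (hR''p.comap_subtype (K := N')).exists_le_sylow
    obtain ⟨k, hk⟩ := MulAction.exists_smul_eq N' T T2
    have hT2' : R'' = (T2 : Subgroup N').map N'.subtype := by
      refine Subgroup.eq_of_le_of_card_ge ?_ (hR''max _ (T2.isPGroup'.map _) (Subgroup.map_subtype_le _))
      rw [← inf_eq_left.mpr hR''N, ← Subgroup.subgroupOf_map_subtype]
      exact Subgroup.map_mono hT2
    have hkg : cmap ((k : G) * g) R ≤ H := by
      refine cmap_le.mpr fun u hu => hR''H ?_
      rw [hT2', ← hk]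
      refine ⟨k * ⟨g * u * g⁻¹, hgR (conj_mem_cmap hu)⟩ * k⁻¹, ⟨_, hT ?_, rfl⟩, ?_⟩
      · exact Subgroup.mem_subgroupOf.mpr (conj_mem_cmap hu)
      · simp [mul_assoc]
    obtain ⟨h, hh, c, hc, he⟩ := ih R hlt hRH hRp _ hkg
    refine ⟨h, hh, ?_⟩
    have hcQ : cmap c Q = Q := cmap_eq_of_mem_normalizer
      (Subgroup.centralizer_le_normalizer _ (Subgroup.centralizer_le hQR hc))
    conv_lhs => rw [← hcQ]
    rw [cmap_cmap, ← he, ← cmap_cmap, ← hQ'def]
    exact cmap_eq_of_mem_normalizer k.2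

/-- The hypotheses pass to centralizers of prime-power elements of `H`. -/
theorem Hyp.centralizer (hy : Hyp π H) {p : ℕ} [hp : Fact p.Prime] (hpπ : p ∈ π) {a : G}
    (ha : a ∈ H) (hap : IsPGroup p (Subgroup.zpowers a)) :
    Hyp π (H.subgroupOf (Subgroup.centralizer ({a} : Set G))) := by
  set C := Subgroup.centralizer ({a} : Set G) with hC
  refine ⟨?_, ?_, hy.hom.subgroup C⟩
  · intro r hr hd
    refine hy.piH r hr (hd.trans ?_)
    rw [← Subgroup.card_subtype C, Subgroup.subgroupOf_map_subtype]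
    exact Subgroup.card_dvd_of_le inf_le_left
  · intro U hU
    set U₁ := U.map C.subtype with hU₁
    have hcent : U₁ ≤ Subgroup.normalizer ((Subgroup.zpowers a : Subgroup G) : Set G) := by
      refine le_trans (fun u hu => ?_) (Subgroup.centralizer_le_normalizer _)
      have huC : u ∈ C := Subgroup.map_subtype_le _ hu
      refine Subgroup.mem_centralizer_iff.mpr fun z hz => ?_
      obtain ⟨i, rfl⟩ := Subgroup.mem_zpowers_iff.mp hz
      exact ((Commute.zpow_right (Subgroup.mem_centralizer_singleton_iff.mp huC : Commute u a) i).symm).eq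
    have hπU : IsPiSubgroup π (U₁ ⊔ Subgroup.zpowers a) :=
      pi_sup hcent (fun r hr hd => hU r hr (by rwa [hU₁, Subgroup.card_subtype] at hd))
        (pi_of_pGroup hpπ hap)
    obtain ⟨g, hg⟩ := hy.emb _ hπU
    obtain ⟨h, hh, c, hc, rfl⟩ := ctrl hy hpπ (Subgroup.zpowers a)
      (Subgroup.zpowers_le.mpr ha) hap g ((Subgroup.map_mono le_sup_right).trans hg)
    have hcC : c ∈ C := by
      rw [hC]
      exact Subgroup.centralizer_le (Set.singleton_subset_iff.mpr (Subgroup.mem_zpowers a)) hc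
    refine ⟨⟨c, hcC⟩, cmap_le.mpr fun u hu => Subgroup.mem_subgroupOf.mpr ?_⟩
    have h1 := cmap_le.mp hg (u : G) (le_sup_left (b := Subgroup.zpowers a) ⟨u, hu, rfl⟩)
    have h2 := mul_mem (mul_mem (inv_mem hh) h1) hh
    simpa [mul_assoc] using h2

/-- Fusion of elements. -/
theorem fusion : ∀ (n : ℕ) {G : Type*} [Group G] [Finite G] {H : Subgroup G}, Hyp π H →
    ∀ x ∈ H, (orderOf x).primeFactors.card ≤ n → ∀ g : G, g * x * g⁻¹ ∈ H →
      ∃ h ∈ H, h * x * h⁻¹ = g * x * g⁻¹ := by
  intro n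
  induction n with
  | zero =>
    intro G _ _ H hy x hx hn g hg
    refine ⟨1, one_mem _, ?_⟩
    have h1 : orderOf x = 1 := by
      rcases Nat.primeFactors_eq_empty.mp (Finset.card_eq_zero.mp (Nat.le_zero.mp hn)) with h | h
      · exact absurd h (orderOf_pos x).ne'
      · exact h
    rw [orderOf_eq_one_iff.mp h1]; group
  | succ n IH =>
    intro G _ _ H hy x hx hn g hg
    by_cases h1 : orderOf x = 1
    · exact ⟨1, one_mem _, by rw [orderOf_eq_one_iff.mp h1]; group⟩
    obtain ⟨p, hp, hpd⟩ := Nat.exists_prime_and_dvd h1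
    have := Fact.mk hp
    have hpπ : p ∈ π := by
      refine hy.piH p hp (hpd.trans ?_)
      have := orderOf_dvd_natCard (⟨x, hx⟩ : H)
      rwa [Subgroup.orderOf_mk] at this
    obtain ⟨a, s, has, hsd⟩ : ∃ a s : ℕ, orderOf x = p ^ a * s ∧ ¬ p ∣ s := by
      obtain ⟨a, s, hs, h⟩ := Nat.exists_eq_pow_mul_and_not_dvd (orderOf_pos x).ne' p hp.ne_one
      exact ⟨a, s, h, hs⟩
    have hco : Nat.Coprime s (p ^ a) := (Nat.Coprime.pow_left a (hp.coprime_iff_not_dvd.mpr hsd)).symm
    have hbez : (s : ℤ) * s.gcdA (p ^ a) + ((p ^ a : ℕ) : ℤ) * s.gcdB (p ^ a) = 1 := by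
      rw [← Nat.gcd_eq_gcd_ab, hco.gcd_eq_one, Nat.cast_one]
    set u := x ^ ((s : ℤ) * s.gcdA (p ^ a)) with hu
    set v := x ^ (((p ^ a : ℕ) : ℤ) * s.gcdB (p ^ a)) with hv
    have huv : u * v = x := by rw [hu, hv, ← zpow_add, hbez, zpow_one]
    have hxN : x ^ (p ^ a * s) = 1 := by rw [← has]; exact pow_orderOf_eq_one x
    have hu' : u ^ (p ^ a) = 1 := by
      rw [hu, ← zpow_natCast, ← zpow_mul,
        show (s : ℤ) * s.gcdA (p ^ a) * ((p ^ a : ℕ) : ℤ) = ((p ^ a * s : ℕ) : ℤ) * s.gcdA (p ^ a) by push_cast; ring,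
        zpow_mul, zpow_natCast, hxN, one_zpow]
    have hv' : v ^ s = 1 := by
      rw [hv, ← zpow_natCast, ← zpow_mul,
        show ((p ^ a : ℕ) : ℤ) * s.gcdB (p ^ a) * (s : ℤ) = ((p ^ a * s : ℕ) : ℤ) * s.gcdB (p ^ a) by push_cast; ring,
        zpow_mul, zpow_natCast, hxN, one_zpow]
    have huH : u ∈ H := H.zpow_mem hx _
    have hvH : v ∈ H := H.zpow_mem hx _
    have hup : IsPGroup p (Subgroup.zpowers u) := by
      obtain ⟨k, -, hk⟩ := (Nat.dvd_prime_pow hp).mp (orderOf_dvd_of_pow_eq_one hu')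
      exact IsPGroup.of_card (n := k) (by rw [Nat.card_zpowers, hk])
    have hgu : g * u * g⁻¹ ∈ H := by
      rw [hu, ← conj_zpow]
      exact H.zpow_mem hg _
    have hgv : g * v * g⁻¹ ∈ H := by
      rw [hv, ← conj_zpow]
      exact H.zpow_mem hg _
    obtain ⟨h, hh, c, hc, rfl⟩ := ctrl hy hpπ (Subgroup.zpowers u) (Subgroup.zpowers_le.mpr huH) hup g
      (cmap_le.mpr fun z hz => by
        obtain ⟨i, rfl⟩ := Subgroup.mem_zpowers_iff.mp hz
        rw [← conj_zpow]; exact H.zpow_mem hgu i)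
    set C := Subgroup.centralizer ({u} : Set G) with hC
    have hcC : c ∈ C := Subgroup.centralizer_le (Set.singleton_subset_iff.mpr (Subgroup.mem_zpowers u)) hc
    have hvC : v ∈ C := Subgroup.mem_centralizer_singleton_iff.mpr (Commute.zpow_zpow_self x _ _).eq
    have hcv : c * v * c⁻¹ ∈ H := by
      have := mul_mem (mul_mem (inv_mem hh) hgv) hh
      simpa [mul_assoc] using this
    have hprimes : (orderOf (⟨v, hvC⟩ : C)).primeFactors.card ≤ n := by
      rw [Subgroup.orderOf_mk]
      have hs0 : s ≠ 0 := fun h0 => hsd (h0 ▸ dvd_zero p)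
      have hsub : (orderOf v).primeFactors ⊆ ((orderOf x).primeFactors).erase p := by
        intro r hr
        obtain ⟨hr, hrd, -⟩ := Nat.mem_primeFactors.mp hr
        have hrs : r ∣ s := hrd.trans (orderOf_dvd_of_pow_eq_one hv')
        refine Finset.mem_erase.mpr ⟨fun he => hsd (he ▸ hrs), Nat.mem_primeFactors.mpr ⟨hr, ?_, (orderOf_pos x).ne'⟩⟩
        rw [has]; exact hrs.mul_left _
      have hmem : p ∈ (orderOf x).primeFactors := Nat.mem_primeFactors.mpr ⟨hp, hpd, (orderOf_pos x).ne'⟩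
      have := (Finset.card_le_card hsub).trans_eq (Finset.card_erase_of_mem hmem)
      omega
    obtain ⟨h2, hh2, he⟩ := IH (hy.centralizer hpπ huH hup) ⟨v, hvC⟩ hvH hprimes ⟨c, hcC⟩ hcv
    have he' : (h2 : G) * v * (h2 : G)⁻¹ = c * v * c⁻¹ := congrArg Subtype.val he
    have hh2u : (h2 : G) * u * (h2 : G)⁻¹ = u := by
      rw [Subgroup.mem_centralizer_singleton_iff.mp h2.2, mul_inv_cancel_right]
    have hcu : c * u * c⁻¹ = u := by
      rw [Subgroup.mem_centralizer_singleton_iff.mp hcC, mul_inv_cancel_right]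
    refine ⟨h * h2, mul_mem hh (Subgroup.mem_subgroupOf.mp hh2), ?_⟩
    rw [← huv,
      show h * ↑h2 * (u * v) * (h * ↑h2)⁻¹ = h * ((↑h2 * u * (↑h2)⁻¹) * (↑h2 * v * (↑h2)⁻¹)) * h⁻¹ by group,
      show h * c * (u * v) * (h * c)⁻¹ = h * ((c * u * c⁻¹) * (c * v * c⁻¹)) * h⁻¹ by group,
      hh2u, hcu, he']

end Cfsg.Agent.Components.DPiHom
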