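/-
Saturated systems on `Q ∘ C` with `Q` extraspecial and `C` central of order `p²` (`p` odd)
have a nontrivial normal subgroup.
-/
import Mathlib
import Cfsg.Agent.Lib.Fusion.Normal
import Cfsg.Agent.Lib.Fusion.EssentialShape

set_option autoImplicit false
set_option linter.all false

namespace Cfsg.Agent.Components.ExtraspecialIndexP

open Cfsg Cfsg.FusionSystem Cfsg.Agent.Fusion.Basic Cfsg.Agent.Fusion.Saturation
  Cfsg.Agent.Fusion.Normal Cfsg.Agent.Fusion.Alperin

variable {Ω : Type*} [Group Ω] {S : Subgroup Ω} {p : ℕ} [hp : Fact p.Prime] {z c : Ω}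

/-- Commutator. -/
def dl (s x : Ω) : Ω := s * x * s⁻¹ * x⁻¹

theorem conj_eq (s x : Ω) : s * x * s⁻¹ = dl s x * x := by simp [dl]

theorem dl_eq_one {s x : Ω} : dl s x = 1 ↔ s * x = x * s := by
  unfold dl
  rw [mul_inv_eq_one, mul_inv_eq_iff_eq_mul]

/-- Central in `S`. -/
def Cen (S : Subgroup Ω) (x : Ω) : Prop := x ∈ S ∧ ∀ s ∈ S, s * x = x * s

theorem Cen.mul {x y : Ω} (hx : Cen S x) (hy : Cen S y) : Cen S (x * y) :=
  ⟨S.mul_mem hx.1 hy.1, fun s hs => by rw [← mul_assoc, hx.2 s hs, mul_assoc, hy.2 s hs, mul_assoc]⟩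

theorem Cen.zpow {x : Ω} (hx : Cen S x) (n : ℤ) : Cen S (x ^ n) :=
  ⟨S.zpow_mem hx.1 n, fun s hs => (Commute.zpow_right (hx.2 s hs) n).eq⟩

theorem Cen.inv {x : Ω} (hx : Cen S x) : Cen S x⁻¹ := by simpa using hx.zpow (-1)

/-- The setting. -/
structure Hyp (S : Subgroup Ω) (p : ℕ) (z c : Ω) : Prop where
  zord : orderOf z = p
  zcen : Cen S z
  ccen : Cen S c
  cZ : c ∉ Subgroup.zpowers z
  comm : ∀ s ∈ S, ∀ t ∈ S, dl s t ∈ Subgroup.zpowers z
  pw : ∀ s ∈ S, s ^ p ∈ Subgroup.zpowers z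
  gen : ∀ x, Cen S x → ∃ i j : ℤ, x = z ^ i * c ^ j

namespace Hyp

variable (H : Hyp S p z c)
include H

theorem cenZ {w : Ω} (h : w ∈ Subgroup.zpowers z) : Cen S w := by
  obtain ⟨k, rfl⟩ := h
  exact H.zcen.zpow k

theorem z_ne : z ≠ 1 := by
  intro h
  have := H.zord
  rw [h, orderOf_one] at this
  exact hp.out.ne_one this.symm

theorem gen_z {w : Ω} (h : w ∈ Subgroup.zpowers z) (h1 : w ≠ 1) : ∃ k : ℤ, w ^ k = z := by
  obtain ⟨k, rfl⟩ := h
  simp only at h1 ⊢
  have hk : ¬ (p : ℤ) ∣ k := fun hd => h1 (orderOf_dvd_iff_zpow_eq_one.1 (H.zord ▸ hd))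
  obtain ⟨a, b, hab⟩ := ((Nat.prime_iff_prime_int.1 hp.out).coprime_iff_not_dvd).2 hk
  refine ⟨b, ?_⟩
  rw [← zpow_mul]
  have : k * b = 1 - (p : ℤ) * a := by linarith
  rw [this, zpow_sub, zpow_one, zpow_mul, zpow_natCast, ← H.zord, pow_orderOf_eq_one, one_zpow,
    inv_one, mul_one]

theorem pow_p {w : Ω} (h : w ∈ Subgroup.zpowers z) : w ^ p = 1 := by
  obtain ⟨k, rfl⟩ := h
  show (z ^ k) ^ p = 1
  rw [← zpow_natCast, ← zpow_mul, mul_comm, zpow_mul, zpow_natCast, ← H.zord, pow_orderOf_eq_one,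
    one_zpow]

theorem dl_mul_right {s x y : Ω} (hs : s ∈ S) (hx : x ∈ S) (hy : y ∈ S) :
    dl s (x * y) = dl s x * dl s y := by
  have hc := (H.cenZ (H.comm s hs y hy)).2 x hx
  have h1 : s * (x * y) * s⁻¹ = dl s x * dl s y * (x * y) := by
    rw [show s * (x * y) * s⁻¹ = (s * x * s⁻¹) * (s * y * s⁻¹) by group, conj_eq, conj_eq,
      mul_assoc (dl s x), ← mul_assoc x, hc]
    group
  show s * (x * y) * s⁻¹ * (x * y)⁻¹ = _
  rw [h1, mul_inv_cancel_right]

theorem dl_mul_left {s t x : Ω} (hs : s ∈ S) (ht : t ∈ S) (hx : x ∈ S) :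
    dl (s * t) x = dl s x * dl t x := by
  have h1 : (s * t) * x * (s * t)⁻¹ = dl s x * dl t x * x := by
    rw [show (s * t) * x * (s * t)⁻¹ = s * (t * x * t⁻¹) * s⁻¹ by group, conj_eq t x,
      show s * (dl t x * x) * s⁻¹ = (s * dl t x * s⁻¹) * (s * x * s⁻¹) by group, conj_eq s x,
      (H.cenZ (H.comm t ht x hx)).2 s hs, mul_inv_cancel_right, ← mul_assoc,
      (H.cenZ (H.comm s hs x hx)).2 _ (H.cenZ (H.comm t ht x hx)).1]
  show (s * t) * x * (s * t)⁻¹ * x⁻¹ = _
  rw [h1, mul_inv_cancel_right]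

theorem dl_zpow_right {s x : Ω} (hs : s ∈ S) (hx : x ∈ S) (n : ℤ) : dl s (x ^ n) = dl s x ^ n := by
  let φ : S →* Ω := MonoidHom.mk' (fun w : S => dl s w) fun a b => H.dl_mul_right hs a.2 b.2
  have := map_zpow φ ⟨x, hx⟩ n
  simpa [φ] using this

theorem dl_zpow_left {s x : Ω} (hs : s ∈ S) (hx : x ∈ S) (n : ℤ) : dl (s ^ n) x = dl s x ^ n := by
  let φ : S →* Ω := MonoidHom.mk' (fun w : S => dl w x) fun a b => H.dl_mul_left a.2 b.2 hx
  have := map_zpow φ ⟨s, hs⟩ n
  simpa [φ] using this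

theorem dl_cen {s x : Ω} (hs : s ∈ S) (hx : Cen S x) : dl s x = 1 := dl_eq_one.2 (hx.2 s hs)

end Hyp

/-- A central element together with a map of the system on `S` fixing it and inverting `z`. -/
def Good (F : FusionSystem S) (z r : Ω) (θ : Ω → Ω) : Prop :=
  Cen S r ∧ r ∉ Subgroup.zpowers z ∧ IsMap F S θ ∧ θ z = z⁻¹ ∧ θ r = r

section Map

variable {F : FusionSystem S} {P : Subgroup Ω}

theorem map_zpow' {f : Ω → Ω} (hf : IsHomOn P f) {x : Ω} (hx : x ∈ P) (n : ℤ) :
    f (x ^ n) = f x ^ n := by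
  let φ : P →* Ω := MonoidHom.mk' (fun w : P => f w) fun a b => hf a a.2 b b.2
  have := map_zpow φ ⟨x, hx⟩ n
  simpa [φ] using this

theorem img_S [Finite S] {θ : Ω → Ω} (h : IsMap F S θ) : img θ S = S :=
  eq_of_le_card h.img_le_S h.card_img.ge

theorem map_cen [Finite S] {θ : Ω → Ω} (h : IsMap F S θ) {x : Ω} (hx : Cen S x) :
    Cen S (θ x) := by
  refine ⟨h.mem hx.1, fun s hs => ?_⟩
  rw [← img_S h] at hs
  obtain ⟨u, hu, rfl⟩ := h.mem_img.1 hs
  rw [← h.map_mul hu hx.1, hx.2 u hu, h.map_mul hx.1 hu]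

theorem uniq [Finite S] (hS : IsPGroup p S) (hodd : p ≠ 2) (hF : F.IsSaturated p)
    (H : Hyp S p z c) {r r' : Ω} {θ θ' : Ω → Ω} (h : Good F z r θ) (h' : Good F z r' θ') :
    r ∈ Subgroup.zpowers r' := by
  obtain ⟨hr, hrZ, hθ, hθz, hθr⟩ := h
  obtain ⟨hr', hrZ', hθ', hθz', hθr'⟩ := h'
  obtain ⟨a, b, hab⟩ := H.gen r' hr'
  obtain ⟨i₀, j₀, hij⟩ := H.gen r hr
  have hcp : c ^ (p : ℤ) ∈ Subgroup.zpowers z := by rw [zpow_natCast]; exact H.pw c H.ccen.1
  have hb : ¬ (p : ℤ) ∣ b := by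
    rintro ⟨k, rfl⟩
    apply hrZ'
    rw [hab, zpow_mul]
    exact Subgroup.mul_mem _ ⟨a, rfl⟩ (Subgroup.zpow_mem _ hcp k)
  obtain ⟨u, v, huv⟩ := ((Nat.prime_iff_prime_int.1 hp.out).coprime_iff_not_dvd).2 hb
  have hzc : Commute z c := H.ccen.2 z H.zcen.1
  have hzr : Commute z r' := hr'.2 z H.zcen.1
  have hrep : ∃ i j : ℤ, r = z ^ i * r' ^ j := by
    obtain ⟨k, hk⟩ := hcp
    have hk' : z ^ k = c ^ (p : ℤ) := hk
    have hc1 : c = z ^ (k * u - a * v) * r' ^ v := by
      rw [hab, (hzc.zpow_zpow a b).mul_zpow, ← zpow_mul, ← zpow_mul, ← mul_assoc, ← zpow_add,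
        show k * u - a * v + a * v = k * u by ring, zpow_mul, hk', ← zpow_mul, ← zpow_add,
        show (p : ℤ) * u + b * v = 1 by linarith, zpow_one]
    refine ⟨i₀ + (k * u - a * v) * j₀, v * j₀, ?_⟩
    rw [hij]
    conv_lhs => rw [hc1]
    rw [(hzr.zpow_zpow _ _).mul_zpow, ← zpow_mul, ← zpow_mul, ← mul_assoc, ← zpow_add]
  obtain ⟨i, j, hrep⟩ := hrep
  have hzS := H.zcen.1
  have hθ'r : θ' r = z ^ (-i) * r' ^ j := by
    rw [hrep, hθ'.map_mul (S.zpow_mem hzS i) (S.zpow_mem hr'.1 j), map_zpow' hθ'.isHom hzS,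
      map_zpow' hθ'.isHom hr'.1, hθz', hθr', inv_zpow']
  have hθ'r2 : θ' r = z ^ (-2 * i) * r := by
    rw [hθ'r, hrep, ← mul_assoc, ← zpow_add]; ring_nf
  let f : Ω → Ω := fun x => θ (θ' x)
  have hf : IsMap F S f := hθ.comp hθ' fun x hx => hθ'.mem hx
  have hfz : f z = z := by
    show θ (θ' z) = z
    rw [hθz', hθ.map_inv hzS, hθz, inv_inv]
  have hfr : f r = z ^ (2 * i) * r := by
    show θ (θ' r) = _
    rw [hθ'r2, hθ.map_mul (S.zpow_mem hzS _) hr.1, map_zpow' hθ.isHom hzS, hθz, hθr, inv_zpow']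
    ring_nf
  obtain ⟨α, hα, hαe⟩ := hf.exists_aut (img_S hf)
  have hn : F.IsFullyNormalized S :=
    ⟨le_rfl, fun R hR => le_of_eq (by rw [eq_top_of_card le_rfl hR rfl])⟩
  obtain ⟨R, hR⟩ := (fullyNormalized_fullyAutomized hS hF hn).2
  have hnR : (R : Subgroup (F.autGroup S)) = (Inn S).subgroupOf (F.autGroup S) := by
    rw [hR]
    congr 1
    refine le_antisymm (fun β hβ => ?_) (inn_le_autInducedBy le_rfl)
    obtain ⟨g, hg, he⟩ := mem_autInducedBy_iff'.1 hβ
    exact mem_inn_iff.2 ⟨g, hg.1, he⟩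
  have := inn_normal F S
  have hRn : (R : Subgroup (F.autGroup S)).Normal := hnR ▸ this
  set m := (R : Subgroup (F.autGroup S)).index with hm
  have hmR : (⟨α, hα⟩ : F.autGroup S) ^ m ∈ (R : Subgroup (F.autGroup S)) :=
    Subgroup.pow_index_mem _ _
  rw [hnR] at hmR
  obtain ⟨g, hg, he⟩ := mem_inn_iff.1 (Subgroup.mem_subgroupOf.1 hmR)
  have hpow : ∀ n : ℕ, autFun (α ^ n) r = z ^ (2 * i * n) * r := by
    intro n
    induction n with
    | zero => simp [autFun_one]
    | succ n ih =>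
      rw [pow_succ', autFun_mul, ih, hαe _ (S.mul_mem (S.zpow_mem hzS _) hr.1),
        hf.map_mul (S.zpow_mem hzS _) hr.1, map_zpow' hf.isHom hzS, hfz, hfr, ← mul_assoc,
        ← zpow_add]
      push_cast
      ring_nf
  have h1 := he r hr.1
  simp only [SubmonoidClass.mk_pow] at h1
  rw [hpow, cj_apply, hr.2 g hg, mul_inv_cancel_right, mul_eq_right,
    ← orderOf_dvd_iff_zpow_eq_one, H.zord] at h1
  have hpm : ¬ (p : ℤ) ∣ (m : ℤ) := fun h => R.not_dvd_index (Int.natCast_dvd_natCast.1 h)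
  have hP := Nat.prime_iff_prime_int.1 hp.out
  have hi : (p : ℤ) ∣ i := by
    rcases hP.dvd_or_dvd h1 with h | h
    · rcases hP.dvd_or_dvd h with h2 | h2
      · have h3 : p ∣ 2 := Int.natCast_dvd_natCast.1 (by exact_mod_cast h2)
        exact absurd ((Nat.prime_dvd_prime_iff_eq hp.out Nat.prime_two).1 h3) hodd
      · exact h2
    · exact absurd h hpm
  rw [hrep, orderOf_dvd_iff_zpow_eq_one.1 (H.zord ▸ hi), one_mul]
  exact ⟨j, rfl⟩

end Map

section Essential

variable [Finite S] {F : FusionSystem S} {E : Subgroup Ω}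
  (hS : IsPGroup p S) (hF : F.IsSaturated p) (H : Hyp S p z c) (hE : F.IsEssential p E)

/-- `z` is moved outside `⟨z⟩`. -/
def Moves (z : Ω) {E : Subgroup Ω} (h : MulAut E) : Prop := autFun h z ∉ Subgroup.zpowers z

include H hE

theorem cen_mem {x : Ω} (hx : Cen S x) : x ∈ E :=
  centric_centralizerIn_le hE.1 ⟨hx.1, fun e he => hx.2 e (hE.1.1 he)⟩

theorem zpowers_le : Subgroup.zpowers z ≤ E := fun _ hw => cen_mem H hE (H.cenZ hw)

theorem normalizes {s : Ω} (hs : s ∈ S) : s ∈ normalizerIn S E := by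
  have : Finite E := finite_of_le hE.1.1
  refine ⟨hs, mem_normalizer_of_forall fun x hx => ?_⟩
  rw [conj_eq]
  exact E.mul_mem (zpowers_le H hE (H.comm s hs x (hE.1.1 hx))) hx

theorem mem_of_centralizes {s : Ω} (hs : s ∈ S) (h : ∀ x ∈ E, s * x = x * s) : s ∈ E :=
  centric_centralizerIn_le hE.1 ⟨hs, fun x hx => (h x hx).symm⟩

omit H in
theorem aut_zpowers {g : MulAut E} (hz : z ∈ E) (hg : autFun g z ∈ Subgroup.zpowers z) {w : Ω}
    (hw : w ∈ Subgroup.zpowers z) : autFun g w ∈ Subgroup.zpowers z := by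
  obtain ⟨k, rfl⟩ := hw
  rw [map_zpow' (autFun_isHom g) hz k]
  exact Subgroup.zpow_mem _ hg k

theorem not_moves_inv {g : MulAut E} (hg : autFun g z ∈ Subgroup.zpowers z) :
    autFun g⁻¹ z ∈ Subgroup.zpowers z := by
  have hz := cen_mem H hE H.zcen
  have h1 : autFun g z ≠ 1 := fun h => H.z_ne (by
    have := autFun_inv_apply g z
    rw [h, (autFun_isHom g⁻¹).map_one] at this
    exact this.symm)
  obtain ⟨k, hk⟩ := H.gen_z hg h1
  have h2 := map_zpow' (autFun_isHom g⁻¹) (autFun_mem g hz) k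
  rw [hk, autFun_inv_apply] at h2
  rw [h2]
  exact ⟨k, rfl⟩

theorem moves_inv {g : MulAut E} (hg : Moves z g) : Moves z g⁻¹ := fun h =>
  hg (by simpa using not_moves_inv H hE h)

include hS hF

theorem exists_moves : ∃ g ∈ F.autGroup E, Moves z g := by
  by_contra hcon
  unfold Moves at hcon
  push Not at hcon
  have : Finite E := finite_of_le hE.1.1
  have hz := cen_mem H hE H.zcen
  obtain ⟨s, hs, hsE⟩ := SetLike.exists_of_lt (essential_lt hS hF hE)
  have hsN := normalizes H hE hs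
  let a : F.autGroup E := ⟨conjAut S E ⟨s, hsN⟩, autInducedBy_le hE.1.1 (conjAut_range S E ▸ ⟨_, rfl⟩)⟩
  let C : ℕ → Subgroup E := fun i =>
    if i = 0 then ⊥ else if i = 1 then (Subgroup.zpowers z).subgroupOf E else ⊤
  have key : a ∈ pCore p (F.autGroup E) := by
    refine Fusion.EssentialShape.mem_pCore_of_stabilizes (hS.to_le hE.1.1) _ C 2 rfl rfl
      (fun i hi => ?_) (fun i _ g hg x hx => ?_) fun i hi x hx => ?_
    · interval_cases i <;> simp [C]
    · rcases i with - | - | i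
      · simp only [C, if_true, Subgroup.mem_bot] at hx ⊢; simp [hx]
      · simp only [C, Nat.one_ne_zero, if_false, zero_add, if_true, Subgroup.mem_subgroupOf] at hx ⊢
        rw [← autFun_apply]
        exact aut_zpowers hE hz (hcon g hg) hx
      · simp [C]
    · interval_cases i
      · simp only [C, zero_add, Nat.one_ne_zero, if_false, if_true, Subgroup.mem_subgroupOf] at hx
        simp only [C, if_true, Subgroup.mem_bot, inv_mul_eq_one]
        apply Subtype.ext
        rw [← autFun_apply]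
        show _ = autFun (conjAut S E ⟨s, hsN⟩) (x : Ω)
        rw [conjAut_apply ⟨s, hsN⟩ x.2]
        show (x : Ω) = cj s (x : Ω)
        rw [cj_apply, (H.cenZ hx).2 s hs, mul_inv_cancel_right]
      · simp only [C, Nat.one_ne_zero, if_false, if_true, Subgroup.mem_subgroupOf, Subgroup.coe_mul,
          Subgroup.coe_inv]
        rw [← autFun_apply]
        show _⁻¹ * autFun (conjAut S E ⟨s, hsN⟩) (x : Ω) ∈ _
        rw [conjAut_apply ⟨s, hsN⟩ x.2]
        show _⁻¹ * cj s (x : Ω) ∈ _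
        have hd := H.comm s hs x (hE.1.1 x.2)
        rw [cj_apply, conj_eq, ← (H.cenZ hd).2 x (hE.1.1 x.2), inv_mul_cancel_left]
        exact hd
  obtain ⟨t, ht, he⟩ := mem_inn_iff.1 (Fusion.EssentialShape.mem_inn_of_mem_pCore hE hS key)
  apply hsE
  have hts : t⁻¹ * s ∈ E := by
    refine mem_of_centralizes H hE (S.mul_mem (S.inv_mem (hE.1.1 ht)) hs) fun x hx => ?_
    have h1 : s * x * s⁻¹ = t * x * t⁻¹ := by
      have h0 := he x hx
      rw [show autFun (a : MulAut E) x = cj s x from conjAut_apply ⟨s, hsN⟩ hx] at h0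
      exact h0
    calc t⁻¹ * s * x = t⁻¹ * (s * x * s⁻¹) * s := by group
      _ = t⁻¹ * (t * x * t⁻¹) * s := by rw [h1]
      _ = x * (t⁻¹ * s) := by group
  simpa using E.mul_mem ht hts

theorem comm_E {x y : Ω} (hx : x ∈ E) (hy : y ∈ E) : x * y = y * x := by
  rw [← dl_eq_one]
  by_contra h1
  obtain ⟨g, hg, hmv⟩ := exists_moves hS hF H hE
  apply hmv
  obtain ⟨k, hk⟩ := H.gen_z (H.comm x (hE.1.1 hx) y (hE.1.1 hy)) h1
  have hd : autFun g (dl x y) = dl (autFun g x) (autFun g y) := by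
    have hi := autFun_isHom g
    unfold dl
    rw [hi _ (E.mul_mem (E.mul_mem hx hy) (E.inv_mem hx)) _ (E.inv_mem hy), hi.map_inv hy,
      hi.map_conj hx hy]
  have h2 := map_zpow' (autFun_isHom g) (zpowers_le H hE (H.comm x (hE.1.1 hx) y (hE.1.1 hy))) k
  rw [hk, hd] at h2
  rw [h2]
  exact Subgroup.zpow_mem _ (H.comm _ (hE.1.1 (autFun_mem g hx)) _ (hE.1.1 (autFun_mem g hy))) k

theorem exists_tau {s : Ω} (hs : s ∈ S) :
    ∃ a ∈ F.autGroup E, a ^ p = 1 ∧ ∀ x ∈ E, autFun a x = dl s x * x := by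
  have hsN := normalizes H hE hs
  refine ⟨conjAut S E ⟨s, hsN⟩, autInducedBy_le hE.1.1 (conjAut_range S E ▸ ⟨_, rfl⟩), ?_,
    fun x hx => ?_⟩
  · rw [← map_pow]
    refine autFun_ext fun x hx => ?_
    rw [conjAut_apply _ hx, autFun_one]
    show cj (s ^ p) x = x
    rw [cj_apply, ← (H.cenZ (H.pw s hs)).2 x (hE.1.1 hx), mul_inv_cancel_right]
  · rw [conjAut_apply _ hx]
    exact conj_eq s x

theorem fix_induced {σ : MulAut E} (hσ : σ ∈ F.autGroup E) (hσp : σ ^ p = 1)
    (hσz : autFun σ z = z) : ∃ t ∈ S, ∀ x ∈ E, autFun σ x = dl t x * x := by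
  have : Finite E := finite_of_le hE.1.1
  have hz := cen_mem H hE H.zcen
  have fixZ : ∀ {g : MulAut E}, autFun g z = z → ∀ {w}, w ∈ Subgroup.zpowers z → autFun g w = w := by
    intro g hg w hw
    obtain ⟨k, rfl⟩ := hw
    rw [map_zpow' (autFun_isHom g) hz, hg]
  let K : Subgroup (F.autGroup E) :=
    { carrier := {g | autFun (g : MulAut E) z = z ∧
        ∀ x ∈ E, autFun (g : MulAut E) x * x⁻¹ ∈ Subgroup.zpowers z}
      one_mem' := ⟨by simp [autFun_one], fun x _ => by simp [autFun_one]⟩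
      mul_mem' := by
        intro g g' hg hg'
        refine ⟨by rw [Subgroup.coe_mul, autFun_mul, hg'.1, hg.1], fun x hx => ?_⟩
        rw [Subgroup.coe_mul, autFun_mul]
        have := Subgroup.mul_mem _ (hg.2 _ (autFun_mem (g' : MulAut E) hx)) (hg'.2 x hx)
        simpa [mul_assoc] using this
      inv_mem' := by
        intro g hg
        refine ⟨?_, fun x hx => ?_⟩
        · conv_lhs => rw [Subgroup.coe_inv, ← hg.1]
          exact autFun_inv_apply _ _
        · have := Subgroup.inv_mem _ (hg.2 _ (autFun_mem (g : MulAut E)⁻¹ hx))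
          rw [autFun_apply_inv, mul_inv_rev, inv_inv] at this
          simpa using this }
  have hKp : IsPGroup p K := by
    intro g
    refine ⟨1, Subtype.ext (Subtype.ext ?_)⟩
    simp only [pow_one, SubmonoidClass.coe_pow, OneMemClass.coe_one]
    refine autFun_ext fun x hx => ?_
    obtain ⟨hgz, hgx⟩ := g.2
    set γ : MulAut E := ((g : F.autGroup E) : MulAut E)
    set w := autFun γ x * x⁻¹ with hw
    have hwZ : w ∈ Subgroup.zpowers z := hgx x hx
    have key : ∀ n : ℕ, autFun (γ ^ n) x = w ^ n * x := by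
      intro n
      induction n with
      | zero => simp [autFun_one]
      | succ n ih =>
        rw [pow_succ', autFun_mul, ih,
          autFun_isHom γ _ (E.pow_mem (zpowers_le H hE hwZ) n) _ hx,
          fixZ hgz (Subgroup.pow_mem _ hwZ n), show autFun γ x = w * x from (inv_mul_cancel_right _ _).symm,
          ← mul_assoc (w ^ n), ← pow_succ]
    rw [key, H.pow_p hwZ, autFun_one, one_mul]
    rfl
  obtain ⟨R, hR⟩ := (fullyNormalized_fullyAutomized hS hF hE.2.1).2
  have hRK : (R : Subgroup (F.autGroup E)) ≤ K := by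
    intro g hg
    rw [hR] at hg
    obtain ⟨t, ht, he⟩ := mem_autInducedBy_iff'.1 (Subgroup.mem_subgroupOf.1 hg)
    refine ⟨?_, fun x hx => ?_⟩
    · rw [he z hz, cj_apply, H.zcen.2 t ht.1, mul_inv_cancel_right]
    · rw [he x hx, cj_apply, conj_eq, mul_inv_cancel_right]
      exact H.comm t ht.1 x (hE.1.1 hx)
  have hnorm : Subgroup.zpowers (⟨σ, hσ⟩ : F.autGroup E) ≤ Subgroup.normalizer (K : Set _) := by
    rw [Subgroup.zpowers_le, Subgroup.mem_normalizer_iff]
    have key : ∀ (τ : F.autGroup E), autFun (τ : MulAut E) z = z → ∀ g ∈ K, τ * g * τ⁻¹ ∈ K := by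
      intro τ hτ g hg
      have hτi : autFun (τ : MulAut E)⁻¹ z = z := by
        conv_lhs => rw [← hτ]
        exact autFun_inv_apply _ _
      refine ⟨?_, fun x hx => ?_⟩
      · simp only [Subgroup.coe_mul, Subgroup.coe_inv, autFun_mul, hτi, hg.1, hτ]
      · simp only [Subgroup.coe_mul, Subgroup.coe_inv, autFun_mul]
        have hu := autFun_mem (τ : MulAut E)⁻¹ hx
        set u := autFun (τ : MulAut E)⁻¹ x
        rw [show autFun (g : MulAut E) u = (autFun (g : MulAut E) u * u⁻¹) * u by simp,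
          autFun_isHom _ _ (zpowers_le H hE (hg.2 u hu)) _ hu, fixZ hτ (hg.2 u hu),
          autFun_apply_inv, mul_inv_cancel_right]
        exact hg.2 u hu
    intro g
    refine ⟨key _ hσz g, fun hg => ?_⟩
    have := key (⟨σ, hσ⟩ : F.autGroup E)⁻¹ (by
      rw [Subgroup.coe_inv]
      conv_lhs => rw [← hσz]
      exact autFun_inv_apply _ _) _ hg
    simpa [mul_assoc] using this
  have hzp : IsPGroup p (Subgroup.zpowers (⟨σ, hσ⟩ : F.autGroup E)) :=
    IsPGroup.of_card_dvd_pow (n := 1) (by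
      rw [Nat.card_zpowers, pow_one]
      exact orderOf_dvd_of_pow_eq_one (Subtype.ext hσp))
  have hJ := IsPGroup.to_sup_of_normal_right' hzp hKp hnorm
  have heq := R.3 hJ (hRK.trans le_sup_right)
  have hmem : (⟨σ, hσ⟩ : F.autGroup E) ∈ (R : Subgroup (F.autGroup E)) := by
    rw [← heq]; exact Subgroup.mem_sup_left (Subgroup.mem_zpowers _)
  rw [hR] at hmem
  obtain ⟨t, ht, he⟩ := mem_autInducedBy_iff'.1 (Subgroup.mem_subgroupOf.1 hmem)
  exact ⟨t, ht.1, fun x hx => (he x hx).trans (conj_eq t x)⟩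

theorem cen_of_fix {g : MulAut E} (hg : g ∈ F.autGroup E)
    (hz' : autFun g z ∈ Subgroup.zpowers z) {x : Ω} (hx : Cen S x) : Cen S (autFun g x) := by
  have hxE := cen_mem H hE hx
  have hy := autFun_mem g hxE
  have hz := cen_mem H hE H.zcen
  refine ⟨hE.1.1 hy, fun s hs => dl_eq_one.1 ?_⟩
  obtain ⟨a, ha, hap, hae⟩ := exists_tau hS hF H hE hs
  have hσp : (g⁻¹ * a * g) ^ p = 1 := by
    have := (SemiconjBy.conj_mk g⁻¹ a).pow_right p
    rw [hap, inv_inv] at this
    simpa [SemiconjBy] using this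
  obtain ⟨t, ht, hte⟩ := fix_induced hS hF H hE
    (Subgroup.mul_mem _ (Subgroup.mul_mem _ (Subgroup.inv_mem _ hg) ha) hg) hσp (by
      rw [autFun_mul, autFun_mul, hae _ (autFun_mem g hz), H.dl_cen hs (H.cenZ hz'), one_mul,
        autFun_inv_apply])
  have h2 := hte x hxE
  rw [H.dl_cen ht hx, one_mul, autFun_mul, autFun_mul, hae _ hy] at h2
  have h3 := congrArg (autFun g) h2
  rw [autFun_apply_inv] at h3
  exact mul_eq_right.1 h3

theorem moved {h : MulAut E} (hh : h ∈ F.autGroup E) (hmv : Moves z h) :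
    ∀ s ∈ S, dl s (autFun h z) = 1 → s ∈ E := by
  intro s hs hd
  have hz := cen_mem H hE H.zcen
  obtain ⟨a, ha, hap, hae⟩ := exists_tau hS hF H hE hs
  have hσp : (h⁻¹ * a * h) ^ p = 1 := by
    have := (SemiconjBy.conj_mk h⁻¹ a).pow_right p
    rw [hap, inv_inv] at this
    simpa [SemiconjBy] using this
  obtain ⟨t, ht, hte⟩ := fix_induced hS hF H hE
    (Subgroup.mul_mem _ (Subgroup.mul_mem _ (Subgroup.inv_mem _ hh) ha) hh) hσp (by
      rw [autFun_mul, autFun_mul, hae _ (autFun_mem h hz), hd, one_mul, autFun_inv_apply])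
  refine mem_of_centralizes H hE hs fun x hx => dl_eq_one.1 ?_
  by_contra h1
  set u := autFun h⁻¹ x with hu'
  have hu : u ∈ E := autFun_mem _ hx
  have hux : autFun h u = x := autFun_apply_inv h x
  have hdl := H.comm s hs x (hE.1.1 hx)
  have h2 := hte u hu
  rw [autFun_mul, autFun_mul, hux, hae x hx, autFun_isHom h⁻¹ _ (zpowers_le H hE hdl) _ hx,
    mul_left_inj] at h2
  obtain ⟨k, hk⟩ := H.gen_z hdl h1
  apply moves_inv H hE hmv
  have h3 := map_zpow' (autFun_isHom h⁻¹) (zpowers_le H hE hdl) k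
  rw [hk, h2] at h3
  rw [h3]
  exact Subgroup.zpow_mem _ (H.comm t ht u (hE.1.1 hu)) k

theorem moved_not_cen {h : MulAut E} (hh : h ∈ F.autGroup E) (hmv : Moves z h) :
    ¬ Cen S (autFun h z) := by
  intro hc
  obtain ⟨s, hs, hsE⟩ := SetLike.exists_of_lt (essential_lt hS hF hE)
  exact hsE (moved hS hF H hE hh hmv s hs (H.dl_cen hs hc))

theorem exists_good {h : MulAut E} (hh : h ∈ F.autGroup E) (hmv : Moves z h) :
    ∃ r θ, Good F z r θ ∧ Cen S (autFun h⁻¹ r) := by
  have : Finite E := finite_of_le hE.1.1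
  have hz := cen_mem H hE H.zcen
  have hES := hE.1.1
  set y := autFun h z with hy'
  have hy : y ∈ E := autFun_mem h hz
  obtain ⟨s₀, hs₀, hs₀E⟩ := SetLike.exists_of_lt (essential_lt hS hF hE)
  have hne : dl s₀ y ≠ 1 := fun e => hs₀E (moved hS hF H hE hh hmv s₀ hs₀ e)
  obtain ⟨k₀, hk₀⟩ := H.gen_z (H.comm s₀ hs₀ y (hES hy)) hne
  set s := s₀ ^ k₀ with hs'
  have hs : s ∈ S := S.zpow_mem hs₀ k₀
  have hsy : dl s y = z := by rw [hs', H.dl_zpow_left hs₀ (hES hy), hk₀]
  have hmul : ∀ {x w}, x ∈ E → w ∈ E → ∀ g : MulAut E, autFun g (x * w) = autFun g x * autFun g w :=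
    fun hx hw g => autFun_isHom g _ hx _ hw
  have hgenS : ∀ t ∈ S, ∃ i : ℤ, t * (s ^ i)⁻¹ ∈ E := by
    intro t ht
    obtain ⟨i, hi⟩ := H.comm t ht y (hES hy)
    refine ⟨i, moved hS hF H hE hh hmv _ (S.mul_mem ht (S.inv_mem (S.zpow_mem hs i))) ?_⟩
    rw [← zpow_neg, H.dl_mul_left ht (S.zpow_mem hs _) (hES hy), H.dl_zpow_left hs (hES hy), hsy,
      show dl t y = z ^ i from hi.symm, ← zpow_add, add_neg_cancel, zpow_zero]
  have hgenE : ∀ x ∈ E, ∃ k : ℤ, Cen S (x * (y ^ k)⁻¹) := by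
    intro x hx
    obtain ⟨i, hi⟩ := H.comm s hs x (hES hx)
    refine ⟨i, S.mul_mem (hES hx) (S.inv_mem (S.zpow_mem (hES hy) i)), fun t ht => ?_⟩
    obtain ⟨j, hj⟩ := hgenS t ht
    have hw : x * (y ^ i)⁻¹ ∈ E := E.mul_mem hx (E.inv_mem (E.zpow_mem hy i))
    have hsw : dl s (x * (y ^ i)⁻¹) = 1 := by
      rw [← zpow_neg, H.dl_mul_right hs (hES hx) (S.zpow_mem (hES hy) _),
        H.dl_zpow_right hs (hES hy), hsy, show dl s x = z ^ i from hi.symm, ← zpow_add,
        add_neg_cancel, zpow_zero]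
    apply dl_eq_one.1
    rw [show t = t * (s ^ j)⁻¹ * s ^ j by group,
      H.dl_mul_left (hES hj) (S.zpow_mem hs j) (hES hw), H.dl_zpow_left hs (hES hw), hsw,
      one_zpow, dl_eq_one.2 (comm_E hS hF H hE hj hw), mul_one]
  obtain ⟨a, ha, -, hae⟩ := exists_tau hS hF H hE hs
  have haC : ∀ {x}, Cen S x → autFun a x = x := fun {x} hx => by
    rw [hae x (cen_mem H hE hx), H.dl_cen hs hx, one_mul]
  have hay : autFun a y = z * y := by rw [hae y hy, hsy]
  have hzi := moves_inv H hE hmv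
  set v := autFun h⁻¹ z with hv'
  have hv : v ∈ E := autFun_mem _ hz
  have hvne : dl s v ≠ 1 := by
    intro e
    apply moved_not_cen hS hF H hE (Subgroup.inv_mem _ hh) hzi
    refine ⟨hES hv, fun t ht => ?_⟩
    obtain ⟨j, hj⟩ := hgenS t ht
    apply dl_eq_one.1
    rw [show t = t * (s ^ j)⁻¹ * s ^ j by group,
      H.dl_mul_left (hES hj) (S.zpow_mem hs j) (hES hv), H.dl_zpow_left hs (hES hv), e,
      one_zpow, dl_eq_one.2 (comm_E hS hF H hE hj hv), mul_one]
  have hvZ := H.comm s hs v (hES hv)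
  obtain ⟨k, hk⟩ := H.gen_z hvZ hvne
  set b := h * a * h⁻¹ with hb'
  have hb : b ∈ F.autGroup E := Subgroup.mul_mem _ (Subgroup.mul_mem _ hh ha) (Subgroup.inv_mem _ hh)
  set l := b ^ (-k) with hl'
  have hl : l ∈ F.autGroup E := Subgroup.zpow_mem _ hb _
  have hbapp : ∀ x ∈ E, autFun b x = autFun h (dl s (autFun h⁻¹ x)) * x := by
    intro x hx
    have hu := autFun_mem h⁻¹ hx
    rw [hb', autFun_mul, autFun_mul, hae _ hu,
      hmul (zpowers_le H hE (H.comm s hs _ (hES hu))) hu, autFun_apply_inv]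
  have hby : autFun b y = y := by
    rw [hbapp y hy, show autFun h⁻¹ y = z from autFun_inv_apply h z, H.dl_cen hs H.zcen,
      (autFun_isHom h).map_one, one_mul]
  have hzpow_fix : ∀ {g : MulAut E} {x : Ω}, autFun g x = x → ∀ n : ℤ, autFun (g ^ n) x = x := by
    intro g x hgx n
    induction n using Int.induction_on with
    | zero => simp [autFun_one]
    | succ n ih => rw [zpow_add_one, autFun_mul, hgx, ih]
    | pred n ih =>
      rw [zpow_sub_one, autFun_mul]
      conv_lhs => rw [← hgx]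
      rw [autFun_inv_apply, ih]
  have hly : autFun l y = y := hzpow_fix hby _
  obtain ⟨e, he⟩ := hvZ
  have he' : z ^ e = dl s v := he
  have hbz : autFun b z = y ^ e * z := by
    rw [hbapp z hz, ← hv', ← he', map_zpow' (autFun_isHom h) hz]
  have hbn : ∀ n : ℤ, autFun (b ^ n) z = y ^ (e * n) * z := by
    intro n
    induction n using Int.induction_on with
    | zero => simp [autFun_one]
    | succ n ih =>
      rw [zpow_add_one, autFun_mul, hbz, hmul (E.zpow_mem hy e) hz,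
        map_zpow' (autFun_isHom _) hy, hzpow_fix hby, ih, ← mul_assoc, ← zpow_add]
      ring_nf
    | pred n ih =>
      have hbiz : autFun b⁻¹ z = y ^ (-e) * z := by
        have hbiy : autFun b⁻¹ y = y := by
          conv_lhs => rw [← hby]
          exact autFun_inv_apply b y
        have h1 := autFun_inv_apply b z
        rw [hbz, hmul (E.zpow_mem hy e) hz, map_zpow' (autFun_isHom _) hy, hbiy] at h1
        rw [zpow_neg, eq_inv_mul_iff_mul_eq]
        exact h1
      rw [zpow_sub_one, autFun_mul, hbiz, hmul (E.zpow_mem hy _) hz,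
        map_zpow' (autFun_isHom _) hy, hzpow_fix hby, ih, ← mul_assoc, ← zpow_add]
      ring_nf
  have hek : z ^ (e * k) = z := by rw [zpow_mul, he', hk]
  have hyek : y ^ (e * k) = y := by
    have := congrArg (autFun h) hek
    rwa [map_zpow' (autFun_isHom h) hz] at this
  have hlz : autFun l z = y⁻¹ * z := by rw [hl', hbn, mul_neg, zpow_neg, hyek]
  -- the element r
  have hu := autFun_mem h⁻¹ (cen_mem H hE H.ccen)
  obtain ⟨q, hq⟩ := H.comm s hs (autFun h⁻¹ c) (hES hu)
  set r := c * z ^ (-(k * q)) with hr'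
  have hr : Cen S r := H.ccen.mul (H.zcen.zpow _)
  have hrE := cen_mem H hE hr
  have hrh : Cen S (autFun h⁻¹ r) := by
    have hwE := autFun_mem h⁻¹ hrE
    refine ⟨hES hwE, fun t ht => ?_⟩
    obtain ⟨j, hj⟩ := hgenS t ht
    have hsw : dl s (autFun h⁻¹ r) = 1 := by
      rw [hr', hmul (cen_mem H hE H.ccen) (E.zpow_mem hz _), map_zpow' (autFun_isHom _) hz, ← hv',
        H.dl_mul_right hs (hES hu) (S.zpow_mem (hES hv) _), H.dl_zpow_right hs (hES hv),
        show dl s (autFun h⁻¹ c) = z ^ q from hq.symm, zpow_neg, zpow_mul, hk, mul_inv_cancel]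
    apply dl_eq_one.1
    rw [show t = t * (s ^ j)⁻¹ * s ^ j by group,
      H.dl_mul_left (hES hj) (S.zpow_mem hs j) (hES hwE), H.dl_zpow_left hs (hES hwE), hsw,
      one_zpow, dl_eq_one.2 (comm_E hS hF H hE hj hwE), mul_one]
  have hrZ : r ∉ Subgroup.zpowers z := fun hmem => H.cZ (by
    have := Subgroup.mul_mem _ hmem (Subgroup.zpow_mem _ (Subgroup.mem_zpowers z) (k * q))
    rw [hr', mul_assoc, ← zpow_add, neg_add_cancel, zpow_zero, mul_one] at this
    exact this)
  have hbr : autFun b r = r := by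
    rw [hbapp r hrE, H.dl_cen hs hrh, (autFun_isHom h).map_one, one_mul]
  have hlr : autFun l r = r := hzpow_fix hbr _
  have har := haC hr
  have haz := haC H.zcen
  set w := a * l * a with hw'
  have hyi := E.inv_mem hy
  have hai : autFun a y⁻¹ = (z * y)⁻¹ := by rw [(autFun_isHom a).map_inv hy, hay]
  have hwz : autFun w z = y⁻¹ := by
    rw [hw', autFun_mul, autFun_mul, haz, hlz, hmul hyi hz, hai, haz]
    group
  have hwy : autFun w y = z := by
    rw [hw', autFun_mul, autFun_mul, hay, hmul hz hy, hlz, hly, mul_assoc,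
      comm_E hS hF H hE hz hy, inv_mul_cancel_left, haz]
  have hwr : autFun w r = r := by rw [hw', autFun_mul, autFun_mul, har, hlr, har]
  set T := w * w with hT'
  have hT : T ∈ F.autGroup E := by
    have : w ∈ F.autGroup E := Subgroup.mul_mem _ (Subgroup.mul_mem _ ha hl) ha
    exact Subgroup.mul_mem _ this this
  have hTz : autFun T z = z⁻¹ := by
    rw [hT', autFun_mul, hwz, (autFun_isHom w).map_inv hy, hwy]
  have hTy : autFun T y = y⁻¹ := by rw [hT', autFun_mul, hwy, hwz]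
  have hTr : autFun T r = r := by rw [hT', autFun_mul, hwr, hwr]
  have hTc : Cen S (autFun T c) := by
    have hc : c = r * z ^ (k * q) := by
      rw [hr', mul_assoc, ← zpow_add, neg_add_cancel, zpow_zero, mul_one]
    rw [hc, hmul hrE (E.zpow_mem hz _), hTr, map_zpow' (autFun_isHom T) hz, hTz]
    exact hr.mul (H.zcen.inv.zpow _)
  have hTC : ∀ {x}, Cen S x → Cen S (autFun T x) := by
    intro x hx
    obtain ⟨i, j, rfl⟩ := H.gen x hx
    rw [hmul (E.zpow_mem hz _) (E.zpow_mem (cen_mem H hE H.ccen) _),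
      map_zpow' (autFun_isHom T) hz, map_zpow' (autFun_isHom T) (cen_mem H hE H.ccen), hTz]
    exact (H.zcen.inv.zpow _).mul (hTc.zpow _)
  have hTm := isMap_of_mem_autGroup hES hT
  obtain ⟨θ, hθ, hθe⟩ := exists_extension hS hF hTm
    (by rw [autFun_img]; exact centric_fullyCentralized hE.1)
  have hle : S ≤ nSub S E (autFun T) := by
    intro g hg
    refine mem_nSub.2 ⟨hg, (normalizes H hE hg).2, g, hg, fun x hx => ?_⟩
    obtain ⟨n, hn⟩ := hgenE x hx
    have hxd : x = x * (y ^ n)⁻¹ * y ^ n := by group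
    have hcE := cen_mem H hE hn
    have hTx : autFun T x = autFun T (x * (y ^ n)⁻¹) * y ^ (-n) := by
      conv_lhs => rw [hxd]
      rw [hmul hcE (E.zpow_mem hy n), map_zpow' (autFun_isHom T) hy, hTy, inv_zpow']
    have hdg : ∀ {u : Ω}, Cen S u → ∀ m : ℤ, dl g (u * y ^ m) = dl g y ^ m := fun hu m => by
      rw [H.dl_mul_right hg hu.1 (S.zpow_mem (hES hy) m), H.dl_cen hg hu, one_mul,
        H.dl_zpow_right hg (hES hy)]
    obtain ⟨i, hi⟩ := H.comm g hg y (hES hy)
    have hi' : z ^ i = dl g y := hi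
    rw [conj_eq, conj_eq, hmul (zpowers_le H hE (H.comm g hg x (hES hx))) hx, hTx, hdg (hTC hn)]
    congr 1
    conv_lhs => rw [hxd]
    rw [hdg hn, ← hi', ← zpow_mul, ← zpow_mul, map_zpow' (autFun_isHom T) hz, hTz, inv_zpow',
      mul_neg]
  refine ⟨r, θ, ⟨hr, hrZ, hθ.restrict hle, ?_, ?_⟩, hrh⟩
  · rw [hθe z hz, hTz]
  · rw [hθe r hrE, hTr]

end Essential

theorem core_ne_bot [Finite S] {F : FusionSystem S} (hS : IsPGroup p S) (hodd : p ≠ 2)
    (hF : F.IsSaturated p) (H : Hyp S p z c) : F.core ≠ ⊥ := by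
  intro hcore
  by_cases hex : ∃ E, F.IsEssential p E
  swap
  · have hSn : F.IsNormal S := normal_of_invariant hS hF fun P hP => by
      rcases hP with rfl | hP
      · exact ⟨le_rfl, fun α _ => autFun_img α⟩
      · exact absurd ⟨P, hP⟩ hex
    have := le_core hSn H.zcen.1
    rw [hcore, Subgroup.mem_bot] at this
    exact H.z_ne this
  obtain ⟨E₀, hE₀⟩ := hex
  obtain ⟨h₀, hh₀, hm₀⟩ := exists_moves hS hF H hE₀
  obtain ⟨r, θ, hgood, -⟩ := exists_good hS hF H hE₀ hh₀ hm₀
  obtain ⟨hr, hrZ, hθ, hθz, hθr⟩ := id hgood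
  have hRn : F.IsNormal (Subgroup.zpowers r) := by
    refine normal_of_invariant hS hF fun P hP => ?_
    have main : Subgroup.zpowers r ≤ P ∧ ∀ α ∈ F.autGroup P, autFun α r ∈ Subgroup.zpowers r := by
      rcases hP with rfl | hP
      · refine ⟨Subgroup.zpowers_le.2 hr.1, fun α hα => ?_⟩
        have hm := isMap_of_mem_autGroup le_rfl hα
        have hmi := isMap_of_mem_autGroup le_rfl (Subgroup.inv_mem _ hα)
        have hzmem : ∀ {f : Ω → Ω}, IsMap F P f → f z ∈ Subgroup.zpowers z := by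
          intro f hf
          obtain ⟨g, hg, hgE⟩ := SetLike.exists_of_lt (essential_lt hS hF hE₀)
          have hnc := moved_not_cen hS hF H hE₀ hh₀ hm₀
          have hyS : autFun h₀ z ∈ P := hE₀.1.1 (autFun_mem _ (cen_mem H hE₀ H.zcen))
          have hne : dl g (autFun h₀ z) ≠ 1 := fun e => hgE (moved hS hF H hE₀ hh₀ hm₀ g hg e)
          obtain ⟨k, hk⟩ := H.gen_z (H.comm g hg _ hyS) hne
          have h2 := map_zpow' hf.isHom (H.cenZ (H.comm g hg _ hyS)).1 k
          rw [hk] at h2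
          rw [h2]
          refine Subgroup.zpow_mem _ ?_ k
          have hd : f (dl g (autFun h₀ z)) = dl (f g) (f (autFun h₀ z)) := by
            unfold dl
            rw [hf.map_mul (P.mul_mem (P.mul_mem hg hyS) (P.inv_mem hg)) (P.inv_mem hyS),
              hf.map_inv hyS, hf.map_conj hg hyS]
          rw [hd]
          exact H.comm _ (hf.mem hg) _ (hf.mem hyS)
        have hrα : autFun α r ∉ Subgroup.zpowers z := fun hmem => hrZ (by
          obtain ⟨k, hk⟩ := hmem
          have h1 := autFun_inv_apply α r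
          rw [show autFun α r = z ^ k from hk.symm, map_zpow' (autFun_isHom _) H.zcen.1] at h1
          rw [← h1]
          exact Subgroup.zpow_mem _ (hzmem hmi) k)
        have hθ' : Good F z (autFun α r) (fun x => autFun α (θ (autFun α⁻¹ x))) := by
          refine ⟨map_cen hm hr, hrα,
            hm.comp (hθ.comp hmi fun x hx => autFun_mem _ hx)
              fun x hx => hθ.mem (autFun_mem _ hx), ?_, ?_⟩
          · obtain ⟨k, hk⟩ := hzmem hmi
            have hk' : z ^ k = autFun α⁻¹ z := hk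
            show autFun α (θ (autFun α⁻¹ z)) = _
            rw [← hk', map_zpow' hθ.isHom H.zcen.1, hθz, inv_zpow,
              (autFun_isHom α).map_inv (P.zpow_mem H.zcen.1 k), hk', autFun_apply_inv]
          · show autFun α (θ (autFun α⁻¹ (autFun α r))) = _
            rw [autFun_inv_apply, hθr]
        exact uniq hS hodd hF H hθ' hgood
      · have hrP := cen_mem H hP hr
        refine ⟨Subgroup.zpowers_le.2 hrP, fun α hα => ?_⟩
        have hall : ∀ g ∈ F.autGroup P, Cen S (autFun g r) := by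
          intro g hg
          by_cases hgm : autFun g z ∈ Subgroup.zpowers z
          · exact cen_of_fix hS hF H hP hg hgm hr
          · have hmi : Moves z g⁻¹ := moves_inv H hP hgm
            obtain ⟨r', θ', hg', hc'⟩ := exists_good hS hF H hP (Subgroup.inv_mem _ hg) hmi
            rw [inv_inv] at hc'
            obtain ⟨n, hn⟩ := uniq hS hodd hF H hgood hg'
            rw [show r = r' ^ n from hn.symm, map_zpow' (autFun_isHom g) (cen_mem H hP hg'.1)]
            exact hc'.zpow n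
        obtain ⟨h₁, hh₁, hm₁⟩ := exists_moves hS hF H hP
        obtain ⟨i, j, hij⟩ := H.gen _ (hall α hα)
        obtain ⟨a, b, hab⟩ := H.gen r hr
        have hzP := cen_mem H hP H.zcen
        have hcp : c ^ (p : ℤ) ∈ Subgroup.zpowers z := by rw [zpow_natCast]; exact H.pw c H.ccen.1
        have hb : ¬ (p : ℤ) ∣ b := by
          rintro ⟨k, rfl⟩
          apply hrZ
          rw [hab, zpow_mul]
          exact Subgroup.mul_mem _ ⟨a, rfl⟩ (Subgroup.zpow_mem _ hcp k)
        obtain ⟨u, v, huv⟩ := ((Nat.prime_iff_prime_int.1 hp.out).coprime_iff_not_dvd).2 hb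
        have hzc : Commute z c := H.ccen.2 z H.zcen.1
        have hzr : Commute z r := hr.2 z H.zcen.1
        obtain ⟨k, hk⟩ := hcp
        have hk' : z ^ k = c ^ (p : ℤ) := hk
        have hc1 : c = z ^ (k * u - a * v) * r ^ v := by
          rw [hab, (hzc.zpow_zpow a b).mul_zpow, ← zpow_mul, ← zpow_mul, ← mul_assoc, ← zpow_add,
            show k * u - a * v + a * v = k * u by ring, zpow_mul, hk', ← zpow_mul, ← zpow_add,
            show (p : ℤ) * u + b * v = 1 by linarith, zpow_one]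
        obtain ⟨m, n, hmn⟩ : ∃ m n : ℤ, autFun α r = z ^ m * r ^ n := by
          refine ⟨i + (k * u - a * v) * j, v * j, ?_⟩
          rw [hij]
          conv_lhs => rw [hc1]
          rw [(hzr.zpow_zpow _ _).mul_zpow, ← zpow_mul, ← zpow_mul, ← mul_assoc, ← zpow_add]
        rw [hmn]
        by_cases hm1 : z ^ m = 1
        · rw [hm1, one_mul]; exact ⟨n, rfl⟩
        exfalso
        have h2 := hall (h₁ * α) (Subgroup.mul_mem _ hh₁ hα)
        rw [autFun_mul, hmn, autFun_isHom h₁ _ (P.zpow_mem hzP _) _ (P.zpow_mem hrP _),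
          map_zpow' (autFun_isHom h₁) hrP] at h2
        have h3 := h2.mul ((hall h₁ hh₁).zpow n).inv
        rw [mul_inv_cancel_right, map_zpow' (autFun_isHom h₁) hzP] at h3
        obtain ⟨e, he⟩ := H.gen_z ⟨m, rfl⟩ hm1
        have he' : (z ^ m) ^ e = z := he
        have h4 := h3.zpow e
        rw [← map_zpow' (autFun_isHom h₁) hzP, ← map_zpow' (autFun_isHom h₁) (P.zpow_mem hzP m),
          he'] at h4
        exact moved_not_cen hS hF H hP hh₁ hm₁ h4
    obtain ⟨hle, hinv⟩ := main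
    refine ⟨hle, fun α hα => ?_⟩
    have hPS : P ≤ S := by
      rcases hP with rfl | hP
      exacts [le_rfl, hP.1.1]
    have : Finite P := finite_of_le hPS
    have : Finite (Subgroup.zpowers r) := finite_of_le hle
    refine eq_of_le_card (img_le fun x hx => ?_)
      ((isMap_of_mem_autGroup hPS hα).restrict hle).card_img.ge
    obtain ⟨k, rfl⟩ := hx
    rw [map_zpow' (autFun_isHom α) (hle (Subgroup.mem_zpowers r))]
    exact Subgroup.zpow_mem _ (hinv α hα) k
  have := le_core hRn (Subgroup.mem_zpowers r)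
  rw [hcore, Subgroup.mem_bot] at this
  exact hrZ (this ▸ Subgroup.one_mem _)

end Cfsg.Agent.Components.ExtraspecialIndexP
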