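import Cfsg.Agent.Lib.Components.Hyperplane
import Cfsg.Agent.Lib.Coprime.Sylow
import Cfsg.Agent.Lib.Hall.Product
import Mathlib.Data.Nat.Factorization.Basic

/-!
Invariant Sylow subgroups of fixed point groups, and factorizations `K = XY` detected on the fixed points
of a noncyclic elementary abelian group acting coprimely.
-/

set_option autoImplicit false

namespace Cfsg.Agent.Components.Factorization

open Subgroup
open scoped Pointwise commutatorElement

universe u

variable {G : Type u} [Group G] {p q : ℕ}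

/-- `P` is a Sylow `q`-subgroup of `K`. -/
def IsSylOf (q : ℕ) (P K : Subgroup G) : Prop :=
  P ≤ K ∧ Nat.card P = q ^ (Nat.card K).factorization q

lemma isSylOf_isPGroup {P K : Subgroup G} (h : IsSylOf q P K) : IsPGroup q P := IsPGroup.of_card h.2

lemma card_le_of_isPGroup [Finite G] [hq : Fact q.Prime] {S K : Subgroup G} (hS : IsPGroup q S)
    (h : S ≤ K) : Nat.card S ≤ q ^ (Nat.card K).factorization q := by
  obtain ⟨n, hn⟩ := IsPGroup.iff_card.mp hS
  rw [hn]
  exact Nat.pow_le_pow_right hq.out.pos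
    ((hq.out.pow_dvd_iff_le_factorization Nat.card_pos.ne').mp (hn ▸ card_dvd_of_le h))

lemma isSylOf_of_card_ge [Finite G] [hq : Fact q.Prime] {P S K : Subgroup G} (hP : IsSylOf q P K)
    (hS : IsPGroup q S) (h : S ≤ K) (hle : Nat.card P ≤ Nat.card S) : IsSylOf q S K :=
  ⟨h, le_antisymm (card_le_of_isPGroup hS h) (hP.2 ▸ hle)⟩

variable [Finite G] [hq : Fact q.Prime]

lemma exists_isSylOf_ge {A K U : Subgroup G} [IsMulCommutative A]
    (hAK : A ≤ normalizer (K : Set G)) (hcop : (Nat.card A).Coprime (Nat.card K)) (hUK : U ≤ K)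
    (hU : IsPGroup q U) (hUA : A ≤ normalizer (U : Set G)) :
    ∃ P, IsSylOf q P K ∧ U ≤ P ∧ A ≤ normalizer (P : Set G) := by
  obtain ⟨P, h1, h2⟩ := Coprime.exists_invariant_sylow_ge hAK hcop
    (Or.inl (Coprime.isSolvable_of_isMulCommutative A)) hUK hU hUA
  exact ⟨_, ⟨map_subtype_le _, by rw [card_subtype, P.card_eq_multiplicity]⟩, h1, h2⟩

lemma exists_isSylOf {A K : Subgroup G} [IsMulCommutative A]
    (hAK : A ≤ normalizer (K : Set G)) (hcop : (Nat.card A).Coprime (Nat.card K)) :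
    ∃ P, IsSylOf q P K ∧ A ≤ normalizer (P : Set G) := by
  obtain ⟨P, h1, -, h2⟩ := exists_isSylOf_ge (q := q) hAK hcop bot_le IsPGroup.of_bot
    (by rw [normalizer_eq_top]; exact le_top)
  exact ⟨P, h1, h2⟩

lemma isSylOf_conj {A K P Q : Subgroup G} [IsMulCommutative A]
    (hAK : A ≤ normalizer (K : Set G)) (hcop : (Nat.card A).Coprime (Nat.card K))
    (hP : IsSylOf q P K) (hPA : A ≤ normalizer (P : Set G))
    (hQ : IsSylOf q Q K) (hQA : A ≤ normalizer (Q : Set G)) :
    ∃ c ∈ K ⊓ centralizer (A : Set G), MulAut.conj c • P = Q := by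
  obtain ⟨S⟩ := (inferInstance : Nonempty (Sylow q K))
  obtain ⟨j, hj, hjeq⟩ := Coprime.exists_conj_sylow_map hP.1 S
    (by rw [hP.2, S.card_eq_multiplicity])
  obtain ⟨k, hk, hkeq⟩ := Coprime.exists_conj_sylow_map hQ.1 S
    (by rw [hQ.2, S.card_eq_multiplicity])
  refine Coprime.exists_centralizer_conj_eq hAK hcop
    (Or.inl (Coprime.isSolvable_of_isMulCommutative A)) hPA hQA (K.mul_mem hk (K.inv_mem hj)) ?_
  rw [hjeq, hkeq, ← Coprime.conj_smul_mul, inv_mul_cancel_right]

lemma le_normalizer_fixed {A S : Subgroup G} [IsMulCommutative A] (hS : A ≤ normalizer (S : Set G))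
    {a : G} (ha : a ∈ A) :
    A ≤ normalizer ((S ⊓ centralizer ({a} : Set G) : Subgroup G) : Set G) := by
  refine le_trans (le_inf hS ?_) inf_normalizer_le_normalizer_inf
  intro b hb
  exact le_normalizer (mem_centralizer_singleton_iff.mpr
    (congrArg Subtype.val (mul_comm' (⟨b, hb⟩ : A) ⟨a, ha⟩)))
  where mul_comm' {A : Subgroup G} [IsMulCommutative A] (x y : A) : x * y = y * x :=
    IsMulCommutative.is_comm.comm x y

/-- The fixed points of an invariant Sylow subgroup form a Sylow subgroup of the fixed points. -/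
lemma isSylOf_fixed {A X P : Subgroup G} [IsMulCommutative A]
    (hAX : A ≤ normalizer (X : Set G)) (hcop : (Nat.card A).Coprime (Nat.card X))
    (hP : IsSylOf q P X) (hPA : A ≤ normalizer (P : Set G)) {a : G} (ha : a ∈ A) :
    IsSylOf q (P ⊓ centralizer {a}) (X ⊓ centralizer {a}) := by
  have hAC := le_normalizer_fixed hAX ha
  obtain ⟨S, hS, hSA⟩ := exists_isSylOf (q := q) hAC (hcop.coprime_dvd_right (card_dvd_of_le inf_le_left))
  obtain ⟨P2, hP2, hSP2, hP2A⟩ := exists_isSylOf_ge hAX hcop (hS.1.trans inf_le_left)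
    (isSylOf_isPGroup hS) hSA
  obtain ⟨c, ⟨-, hcA⟩, hconj⟩ := isSylOf_conj hAX hcop hP2 hP2A hP hPA
  have hca : MulAut.conj c • centralizer ({a} : Set G) = centralizer {a} :=
    Coprime.conj_smul_eq_self_iff.mpr (le_normalizer
      (mem_centralizer_singleton_iff.mpr (mem_centralizer_iff.mp hcA a ha).symm))
  refine isSylOf_of_card_ge hS ((isSylOf_isPGroup hP).to_le inf_le_left) (inf_le_inf_right _ hP.1) ?_
  refine (card_le_of_le (le_inf hSP2 (hS.1.trans inf_le_right))).trans (le_of_eq ?_)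
  rw [← hconj, ← hca, ← Subgroup.smul_inf, Coprime.card_conj_smul, hca]

/-- In a `q`-group `Q`, two subgroups with `C_Q(a) ⊆ XY` for all `a` cover `Q`. -/
lemma mul_eq_of_fixed_pgroup [hp : Fact p.Prime] {A Q X Y : Subgroup G}
    (hA : Cfsg.IsElementaryAbelian p A) (hA2 : p ^ 2 ≤ Nat.card A) (hQ : IsPGroup q Q)
    (hcop : (Nat.card A).Coprime (Nat.card Q)) (hAQ : A ≤ normalizer (Q : Set G))
    (hX : X ≤ Q) (hY : Y ≤ Q)
    (hfac : ∀ a ∈ A, a ≠ 1 → ∀ z ∈ Q ⊓ centralizer {a}, ∃ x ∈ X, ∃ y ∈ Y, z = x * y) :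
    ∀ z ∈ Q, ∃ x ∈ X, ∃ y ∈ Y, z = x * y := by
  have := hA.1
  have hnil : Group.IsNilpotent Q := hQ.isNilpotent
  obtain ⟨n, hn⟩ := hnil.nilpotent
  set S : Set G := (X : Set G) * (Y : Set G) with hS
  have main : ∀ i, ∀ z ∈ (Subgroup.upperCentralSeries Q i).map Q.subtype, ∀ s ∈ S, s * z ∈ S := by
    intro i
    induction i with
    | zero =>
      intro z hz s hs
      rw [Subgroup.upperCentralSeries_zero, Subgroup.map_bot, mem_bot] at hz
      rwa [hz, mul_one]
    | succ i ih =>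
      set W := (Subgroup.upperCentralSeries Q (i + 1)).map Q.subtype with hW
      have hAW : A ≤ normalizer (W : Set G) := by
        intro b hb
        rw [mem_normalizer_iff_map_conj_eq]
        have hbQ := mem_normalizer_iff_map_conj_eq.mp (hAQ hb)
        let e : ↥Q ≃* ↥Q := ((MulAut.conj b).subgroupMap Q).trans (MulEquiv.subgroupCongr hbQ)
        have he : (Subgroup.upperCentralSeries Q (i + 1)).map e.toMonoidHom = Subgroup.upperCentralSeries Q (i + 1) :=
          characteristic_iff_map_eq.mp inferInstance e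
        rw [hW, Subgroup.map_map]
        conv_rhs => rw [← he, Subgroup.map_map]
        rfl
      have hcopW : (Nat.card A).Coprime (Nat.card W) :=
        hcop.coprime_dvd_right (card_dvd_of_le (map_subtype_le _))
      let T : Submonoid G :=
        { carrier := {z | z ∈ W ∧ ∀ s ∈ S, s * z ∈ S}
          one_mem' := ⟨one_mem W, fun s hs => by rwa [mul_one]⟩
          mul_mem' := fun {u v} hu hv => ⟨mul_mem hu.1 hv.1, fun s hs => by
            rw [← mul_assoc]; exact hv.2 _ (hu.2 s hs)⟩ }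
      have hTinv : ∀ z ∈ T, z⁻¹ ∈ T := by
        intro z hz
        rw [← mul_one z⁻¹, ← pow_orderOf_eq_one z]
        obtain ⟨m, hm⟩ := Nat.exists_eq_succ_of_ne_zero (orderOf_pos z).ne'
        rw [hm, pow_succ', inv_mul_cancel_left]
        exact pow_mem hz m
      let T' : Subgroup G := { T with inv_mem' := fun {z} hz => hTinv z hz }
      suffices h : W ≤ T' from fun z hz s hs => (h hz).2 s hs
      conv_lhs => rw [← Coprime.fixedGen_eq (Hyperplane.not_isCyclic hA hA2) hAW hcopW]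
      refine iSup₂_le fun a ha => ?_
      rintro c ⟨hcW, hca⟩
      refine ⟨hcW, ?_⟩
      rintro _ ⟨x', hx', y', hy', rfl⟩
      obtain ⟨x, hx, y, hy, rfl⟩ := hfac a ha.1 ha.2 c ⟨map_subtype_le _ hcW, hca⟩
      -- `y' c = c y' w` with `w` one step lower
      obtain ⟨c', hc', hcc⟩ := hcW
      have hcc' : (c' : G) = x * y := hcc
      have hw : ((c' : G) * y')⁻¹ * (y' * (c' : G)) ∈ (Subgroup.upperCentralSeries Q i).map Q.subtype := by
        refine ⟨(c' * ⟨y', hY hy'⟩)⁻¹ * (⟨y', hY hy'⟩ * c'), ?_, rfl⟩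
        have h1 := Subgroup.mem_upperCentralSeries_succ_iff.mp hc' (⟨y', hY hy'⟩ : ↥Q)⁻¹
        have h2 := (inferInstance : (Subgroup.upperCentralSeries Q i).Normal).conj_mem _ h1
          c'⁻¹
        have e : (c' * ⟨y', hY hy'⟩)⁻¹ * (⟨y', hY hy'⟩ * c') =
            c'⁻¹ * ⁅c', (⟨y', hY hy'⟩ : ↥Q)⁻¹⁆ * c'⁻¹⁻¹ := by
          rw [commutatorElement_def]; group
        exact e ▸ h2
      have hs : x' * x * (y * y') ∈ S := ⟨x' * x, X.mul_mem hx' hx, y * y', Y.mul_mem hy hy', rfl⟩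
      have := ih _ hw _ hs
      show x' * y' * (x * y) ∈ S
      convert this using 1
      rw [hcc']
      group
  intro z hz
  have hz' : z ∈ (Subgroup.upperCentralSeries Q n).map Q.subtype := by
    rw [hn, ← MonoidHom.range_eq_map, range_subtype]
    exact hz
  obtain ⟨x, hx, y, hy, hxy⟩ := main n z hz' 1 ⟨1, one_mem X, 1, one_mem Y, mul_one 1⟩
  exact ⟨x, hx, y, hy, by rw [← one_mul z]; exact hxy.symm⟩

/-- `K = XY` when `C_K(a) = C_X(a) C_Y(a)` for all nontrivial `a` of a noncyclic elementary abelian `A`. -/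
theorem mul_eq_of_fixed [hp : Fact p.Prime] {A K X Y : Subgroup G}
    (hA : Cfsg.IsElementaryAbelian p A) (hA2 : p ^ 2 ≤ Nat.card A) (hK : ¬ p ∣ Nat.card K)
    (hAK : A ≤ normalizer (K : Set G)) (hX : X ≤ K) (hY : Y ≤ K)
    (hAX : A ≤ normalizer (X : Set G)) (hAY : A ≤ normalizer (Y : Set G))
    (hfac : ∀ a ∈ A, a ≠ 1 → ((K ⊓ centralizer {a} : Subgroup G) : Set G) =
      ((X ⊓ centralizer {a} : Subgroup G) : Set G) * ((Y ⊓ centralizer {a} : Subgroup G) : Set G)) :
    (K : Set G) = (X : Set G) * (Y : Set G) := by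
  have := hA.1
  have hcop : (Nat.card A).Coprime (Nat.card K) := by
    obtain ⟨k, hk⟩ := (Hyperplane.isPGroup hA).exists_card_eq
    rw [hk]
    exact (hp.out.coprime_iff_not_dvd.mpr hK).pow_left k
  have hsub : (X : Set G) * (Y : Set G) ⊆ (K : Set G) := by
    rintro _ ⟨x, hx, y, hy, rfl⟩
    exact K.mul_mem (hX hx) (hY hy)
  have hcards := Hall.card_mul_inf X Y
  -- for each prime the exponents agree
  have key : ∀ r : ℕ, r.Prime → (Nat.card K).factorization r + (Nat.card ↥(X ⊓ Y)).factorization r ≤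
      (Nat.card X).factorization r + (Nat.card Y).factorization r := by
    intro r hr
    have : Fact r.Prime := ⟨hr⟩
    have hcX := hcop.coprime_dvd_right (card_dvd_of_le hX)
    have hcY := hcop.coprime_dvd_right (card_dvd_of_le hY)
    obtain ⟨X0, hX0, hX0A⟩ := exists_isSylOf (q := r) hAX hcX
    obtain ⟨Yq, hYq, hYqA⟩ := exists_isSylOf (q := r) hAY hcY
    obtain ⟨Q0, hQ0, hXQ, hQ0A⟩ := exists_isSylOf_ge hAK hcop (hX0.1.trans hX) (isSylOf_isPGroup hX0) hX0A
    obtain ⟨Q, hQ, hYQ, hQA⟩ := exists_isSylOf_ge hAK hcop (hYq.1.trans hY) (isSylOf_isPGroup hYq) hYqA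
    obtain ⟨c, hc, hconj⟩ := isSylOf_conj hAK hcop hQ0 hQ0A hQ hQA
    -- `c` is a product of fixed elements of `X` and `Y`
    have hne : ∃ a ∈ A, a ≠ 1 := by
      have : Nontrivial A := Finite.one_lt_card_iff_nontrivial.mp
        (lt_of_lt_of_le (Nat.one_lt_pow two_ne_zero hp.out.one_lt) hA2)
      obtain ⟨⟨a, ha⟩, ha1⟩ := exists_ne (1 : A)
      exact ⟨a, ha, fun h => ha1 (Subtype.ext h)⟩
    obtain ⟨a0, ha0, ha01⟩ := hne
    have hcx : ∃ x ∈ X ⊓ centralizer (A : Set G), ∃ y ∈ Y ⊓ centralizer (A : Set G), c⁻¹ = x * y := by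
      obtain ⟨x, hx, y, hy, hxy⟩ : c⁻¹ ∈ ((X ⊓ centralizer {a0} : Subgroup G) : Set G) *
          ((Y ⊓ centralizer {a0} : Subgroup G) : Set G) := by
        rw [← hfac a0 ha0 ha01]
        exact ⟨K.inv_mem hc.1, mem_centralizer_singleton_iff.mpr
          (mem_centralizer_iff.mp (inv_mem hc.2) a0 ha0).symm⟩
      obtain ⟨n, hn, hxn⟩ := Coprime.exists_fixed_in_coset (A := A) (N := X ⊓ Y)
        (le_trans (le_inf hAX hAY) inf_normalizer_le_normalizer_inf)
        (hcY.coprime_dvd_right (card_dvd_of_le inf_le_right))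
        (Or.inl (Coprime.isSolvable_of_isMulCommutative A)) (k := x) (fun b hb => by
          have hfix : b * (x * y) * b⁻¹ = x * y := by
            have hxy' : x * y = c⁻¹ := hxy
            rw [hxy', mem_centralizer_iff.mp (inv_mem hc.2) b hb, mul_inv_cancel_right]
          have h1 : x⁻¹ * (b * x * b⁻¹) = y * (b * y * b⁻¹)⁻¹ := by
            calc x⁻¹ * (b * x * b⁻¹) = x⁻¹ * (b * (x * y) * b⁻¹) * (b * y * b⁻¹)⁻¹ := by group
              _ = x⁻¹ * (x * y) * (b * y * b⁻¹)⁻¹ := by rw [hfix]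
              _ = y * (b * y * b⁻¹)⁻¹ := by group
          refine ⟨X.mul_mem (X.inv_mem hx.1) ((mem_normalizer_iff.mp (hAX hb) x).mp hx.1), ?_⟩
          rw [h1]
          exact Y.mul_mem hy.1 (Y.inv_mem ((mem_normalizer_iff.mp (hAY hb) y).mp hy.1)))
      refine ⟨x * n, ⟨X.mul_mem hx.1 hn.1, hxn⟩, n⁻¹ * y, ⟨Y.mul_mem (Y.inv_mem hn.2) hy.1, ?_⟩, ?_⟩
      · have h := mul_mem (inv_mem hxn) (inv_mem hc.2)
        have hxy' : x * y = c⁻¹ := hxy
        rw [← hxy'] at h
        simpa [mul_assoc] using h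
      · have hxy' : x * y = c⁻¹ := hxy
        rw [← hxy']; group
    obtain ⟨x, ⟨hxX, hxA⟩, y, ⟨hyY, hyA⟩, hcxy⟩ := hcx
    set Q2 := MulAut.conj y • Q with hQ2
    set Xq := MulAut.conj x⁻¹ • X0 with hXq
    set Y2 := MulAut.conj y • Yq with hY2
    have hAinv : ∀ {S : Subgroup G} {g : G}, A ≤ normalizer (S : Set G) → g ∈ centralizer (A : Set G) →
        A ≤ normalizer ((MulAut.conj g • S : Subgroup G) : Set G) := by
      intro S g hS hg b hb
      rw [← Coprime.conj_smul_eq_self_iff, ← Coprime.conj_smul_mul, mem_centralizer_iff.mp hg b hb,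
        Coprime.conj_smul_mul, Coprime.conj_smul_eq_self_iff.mpr (hS hb)]
    have hXqA := hAinv hX0A (inv_mem hxA)
    have hY2A := hAinv hYqA hyA
    have hQ2A := hAinv hQA hyA
    have hXqs : IsSylOf r Xq X := ⟨by
      rw [hXq, ← Coprime.conj_smul_eq_self_iff.mpr (le_normalizer (X.inv_mem hxX))]
      exact pointwise_smul_le_pointwise_smul_iff.mpr hX0.1, by rw [hXq, Coprime.card_conj_smul, hX0.2]⟩
    have hY2s : IsSylOf r Y2 Y := ⟨by
      rw [hY2, ← Coprime.conj_smul_eq_self_iff.mpr (le_normalizer hyY)]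
      exact pointwise_smul_le_pointwise_smul_iff.mpr hYq.1, by rw [hY2, Coprime.card_conj_smul, hYq.2]⟩
    have hQ2s : IsSylOf r Q2 K := ⟨by
      rw [hQ2, ← Coprime.conj_smul_eq_self_iff.mpr (le_normalizer (hY hyY))]
      exact pointwise_smul_le_pointwise_smul_iff.mpr hQ.1, by rw [hQ2, Coprime.card_conj_smul, hQ.2]⟩
    have hY2Q : Y2 ≤ Q2 := pointwise_smul_le_pointwise_smul_iff.mpr hYQ
    have hXqQ : Xq ≤ Q2 := by
      have hyc : y * c = x⁻¹ := by
        rw [← inv_inv c, hcxy]; group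
      rw [hQ2, ← hconj, ← Coprime.conj_smul_mul, hyc]
      exact pointwise_smul_le_pointwise_smul_iff.mpr hXQ
    have hcI : (Nat.card A).Coprime (Nat.card ↥(X ⊓ Y)) := hcY.coprime_dvd_right (card_dvd_of_le inf_le_right)
    have hAI : A ≤ normalizer ((X ⊓ Y : Subgroup G) : Set G) :=
      le_trans (le_inf hAX hAY) inf_normalizer_le_normalizer_inf
    obtain ⟨D, hD, hD0, hDA⟩ := exists_isSylOf_ge hAI hcI (inf_le_inf hXqs.1 hY2s.1 : Xq ⊓ Y2 ≤ X ⊓ Y)
      ((isSylOf_isPGroup hXqs).to_le inf_le_left)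
      (le_trans (le_inf hXqA hY2A) inf_normalizer_le_normalizer_inf)
    have hfixed : ∀ a ∈ A, a ≠ 1 → D ⊓ centralizer {a} ≤ Xq ⊓ Y2 ∧
        ∀ z ∈ Q2 ⊓ centralizer {a}, ∃ u ∈ Xq, ∃ v ∈ Y2, z = u * v := by
      intro a ha ha1
      have sX := isSylOf_fixed hAX hcX hXqs hXqA ha
      have sY := isSylOf_fixed hAY hcY hY2s hY2A ha
      have sQ := isSylOf_fixed hAK hcop hQ2s hQ2A ha
      have sD := isSylOf_fixed hAI hcI hD hDA ha
      -- orders in the fixed points
      have hc1 : Nat.card ↥(K ⊓ centralizer {a}) * Nat.card ↥(X ⊓ Y ⊓ centralizer {a}) =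
          Nat.card ↥(X ⊓ centralizer {a}) * Nat.card ↥(Y ⊓ centralizer {a}) := by
        have h := Hall.card_mul_inf (X ⊓ centralizer {a}) (Y ⊓ centralizer {a})
        rw [← hfac a ha ha1, ← inf_inf_distrib_right] at h
        exact h
      have hc2 : Nat.card ↥(Q2 ⊓ centralizer {a}) * Nat.card ↥(D ⊓ centralizer {a}) =
          Nat.card ↥(Xq ⊓ centralizer {a}) * Nat.card ↥(Y2 ⊓ centralizer {a}) := by
        have e := congrArg (fun t => r ^ t.factorization r) hc1
        simp only [Nat.factorization_mul Nat.card_pos.ne' Nat.card_pos.ne', Finsupp.add_apply, pow_add] at e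
        rw [sX.2, sY.2, sQ.2, sD.2]
        exact e
      set T : Set G := ((Xq ⊓ centralizer {a} : Subgroup G) : Set G) *
        ((Y2 ⊓ centralizer {a} : Subgroup G) : Set G) with hT
      have hTsub : T ⊆ ((Q2 ⊓ centralizer {a} : Subgroup G) : Set G) := by
        rintro _ ⟨u, hu, v, hv, rfl⟩
        exact mul_mem (show u ∈ Q2 ⊓ centralizer {a} from ⟨hXqQ hu.1, hu.2⟩) ⟨hY2Q hv.1, hv.2⟩
      have hTle : Nat.card T ≤ Nat.card ↥(Q2 ⊓ centralizer {a}) :=
        Nat.card_mono (Set.toFinite _) hTsub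
      have h0le : (Xq ⊓ centralizer {a}) ⊓ (Y2 ⊓ centralizer {a}) ≤ D ⊓ centralizer {a} :=
        le_inf (le_trans (le_inf (inf_le_left.trans inf_le_left) (inf_le_right.trans inf_le_left)) hD0)
          (inf_le_left.trans inf_le_right)
      have h0card := card_le_of_le h0le
      have hc3 := Hall.card_mul_inf (Xq ⊓ centralizer {a}) (Y2 ⊓ centralizer {a})
      rw [← hc2] at hc3
      have hTeq : Nat.card T = Nat.card ↥(Q2 ⊓ centralizer {a}) := by
        refine le_antisymm hTle ?_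
        refine Nat.le_of_mul_le_mul_right (hc3.symm.le.trans ?_) (Nat.card_pos (α := ↥(D ⊓ centralizer {a})))
        exact Nat.mul_le_mul_left _ h0card
      have h0eq : Nat.card ↥((Xq ⊓ centralizer {a}) ⊓ (Y2 ⊓ centralizer {a})) =
          Nat.card ↥(D ⊓ centralizer {a}) := by
        have h : Nat.card T * _ = _ := hc3
        rw [hTeq] at h
        exact Nat.eq_of_mul_eq_mul_left Nat.card_pos h
      refine ⟨fun z hz => ?_, fun z hz => ?_⟩
      · have := (eq_of_le_of_card_ge h0le h0eq.ge).ge hz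
        exact ⟨this.1.1, this.2.1⟩
      · have heq : T = ((Q2 ⊓ centralizer {a} : Subgroup G) : Set G) :=
          Set.eq_of_subset_of_ncard_le hTsub
            (by rw [← Nat.card_coe_set_eq, ← Nat.card_coe_set_eq]; exact hTeq.ge)
        obtain ⟨u, hu, v, hv, huv⟩ : z ∈ T := heq.symm ▸ hz
        exact ⟨u, hu.1, v, hv.1, huv.symm⟩
    have hDeq : D = Xq ⊓ Y2 := by
      refine le_antisymm ?_ hD0
      conv_lhs => rw [← Coprime.fixedGen_eq (Hyperplane.not_isCyclic hA hA2) hDA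
        (hcI.coprime_dvd_right (card_dvd_of_le hD.1))]
      exact iSup₂_le fun a ha => (hfixed a ha.1 ha.2).1
    have hprod := mul_eq_of_fixed_pgroup hA hA2 (isSylOf_isPGroup hQ2s)
      (hcop.coprime_dvd_right (card_dvd_of_le hQ2s.1)) hQ2A hXqQ hY2Q (fun a ha ha1 => (hfixed a ha ha1).2)
    have hset : (Q2 : Set G) = (Xq : Set G) * (Y2 : Set G) := by
      ext z
      constructor
      · intro hz
        obtain ⟨u, hu, v, hv, rfl⟩ := hprod z hz
        exact ⟨u, hu, v, hv, rfl⟩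
      · rintro ⟨u, hu, v, hv, rfl⟩
        exact Q2.mul_mem (hXqQ hu) (hY2Q hv)
    have hcard : Nat.card Q2 * Nat.card D = Nat.card Xq * Nat.card Y2 := by
      rw [← Hall.card_mul_inf Xq Y2, ← hset, hDeq]
      rfl
    rw [hQ2s.2, hD.2, hXqs.2, hY2s.2, ← pow_add, ← pow_add] at hcard
    exact (Nat.pow_right_injective hr.two_le hcard).le
  have hne : ∀ H : Subgroup G, Nat.card H ≠ 0 := fun H => Nat.card_pos.ne'
  have hdvd : Nat.card K * Nat.card ↥(X ⊓ Y) ∣ Nat.card X * Nat.card Y := by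
    rw [← Nat.factorization_le_iff_dvd (Nat.mul_ne_zero (hne _) (hne _)) (Nat.mul_ne_zero (hne _) (hne _)),
      Nat.factorization_mul (hne _) (hne _), Nat.factorization_mul (hne _) (hne _)]
    intro r
    by_cases hr : r.Prime
    · exact key r hr
    · simp [Nat.factorization_eq_zero_of_not_prime _ hr]
  rw [← hcards] at hdvd
  have h2 := Nat.le_of_mul_le_mul_right
    (Nat.le_of_dvd (hcards ▸ Nat.mul_pos Nat.card_pos Nat.card_pos) hdvd) Nat.card_pos
  exact (Set.eq_of_subset_of_ncard_le hsub (by rw [← Nat.card_coe_set_eq, ← Nat.card_coe_set_eq]; exact h2)).symm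

end Cfsg.Agent.Components.Factorization
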