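import Cfsg.Agent.Lib.Components.FourActionStructure
import Cfsg.Agent.Lib.Transfer.Fusion

/-!
A perfect normal subgroup `A` and a four-group `U` such that the centraliser in `A` of each
involution of `U` has at most one involution in an abelian subgroup: `A` has `2`-rank at most one.
-/

set_option autoImplicit false
set_option linter.all false

namespace Cfsg.Agent.Components.FourAction

open Subgroup
open scoped commutatorElement

variable {H : Type*} [Group H]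

theorem comm_of_sq_eq_one {U : Subgroup H} (hU2 : ∀ u ∈ U, u * u = 1) {a b : H} (ha : a ∈ U) (hb : b ∈ U) :
    a * b = b * a := by
  calc a * b = (a * b)⁻¹ := (inv_eq_of_mul_eq_one_right (hU2 _ (mul_mem ha hb))).symm
    _ = b * a := by
      rw [mul_inv_rev, inv_eq_of_mul_eq_one_right (hU2 _ hb), inv_eq_of_mul_eq_one_right (hU2 _ ha)]

theorem pair_isPGroup {a b : H} (hab : a * b = b * a) (ha : a * a = 1) (hb : b * b = 1) :
    IsPGroup 2 (closure ({a, b} : Set H)) := by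
  haveI : IsMulCommutative (closure ({a, b} : Set H)) := isMulCommutative_closure (by
    rintro x (rfl | rfl) y (rfl | rfl) <;> simp [hab])
  intro v
  refine ⟨1, Subtype.ext ?_⟩
  obtain ⟨v, hv⟩ := v
  rw [pow_one, pow_two]
  show v * v = 1
  induction hv using closure_induction with
  | mem x hx => rcases hx with rfl | rfl <;> assumption
  | one => exact one_mul 1
  | mul x y hx hy ihx ihy =>
    rw [show x * y * (x * y) = x * (y * x) * y by group, setLike_mul_comm hy hx,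
      show x * (x * y) * y = (x * x) * (y * y) by group, ihx, ihy, one_mul]
  | inv x hx ih => rw [← mul_inv_rev, ih, inv_one]

theorem exists_sylow_eq {A S : Subgroup H} (hSA : S ≤ A) (hS : IsPGroup 2 S) (hidx : ¬ 2 ∣ S.relIndex A) :
    ∃ P : Sylow 2 ↥A, (P : Subgroup ↥A).map A.subtype = S :=
  ⟨(hS.of_equiv (subgroupOfEquivOfLe hSA).symm).toSylow hidx, map_subgroupOf_eq_of_le hSA⟩

theorem exists_conj_le_of_not_dvd [Finite H] {P L K : Subgroup H} (hPL : P ≤ L) (hP : IsPGroup 2 P)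
    (hidx : ¬ 2 ∣ P.relIndex L) (hKL : K ≤ L) (hK : IsPGroup 2 K) :
    ∃ g : H, g ∈ L ∧ ∀ k ∈ K, g * k * g⁻¹ ∈ P := by
  haveI : Fact (Nat.Prime 2) := ⟨Nat.prime_two⟩
  obtain ⟨Q, hQ⟩ := exists_sylow_eq hPL hP hidx
  obtain ⟨R, hR⟩ := (hK.of_equiv (subgroupOfEquivOfLe hKL).symm).exists_le_sylow
  obtain ⟨g, hg⟩ := MulAction.exists_smul_eq ↥L R Q
  refine ⟨g, g.2, fun k hk => ?_⟩
  rw [← hQ, ← hg]
  refine ⟨g * ⟨k, hKL hk⟩ * g⁻¹, ?_, rfl⟩
  rw [Sylow.coe_subgroup_smul]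
  exact ⟨⟨k, hKL hk⟩, hR hk, rfl⟩

theorem relIndex_dvd_index' [Finite H] (T N : Subgroup H) [N.Normal] : T.relIndex N ∣ T.index := by
  obtain ⟨c, hc⟩ := relIndex_dvd_index_of_normal N T
  refine ⟨c, ?_⟩
  have h1 : (T ⊓ N).relIndex N * N.index = (T ⊓ N).relIndex T * T.index := by
    rw [relIndex_mul_index inf_le_right, relIndex_mul_index inf_le_left]
  rw [inf_relIndex_right, inf_relIndex_left, hc] at h1
  have hne : N.relIndex T ≠ 0 := fun h => index_ne_zero_of_finite (H := N) (by rw [hc, h, zero_mul])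
  exact (Nat.eq_of_mul_eq_mul_left (Nat.pos_of_ne_zero hne) (by linarith))

theorem normal_sup_zpowers_of_top {A U : Subgroup H} [A.Normal] (htop : A ⊔ U = ⊤)
    (hU2 : ∀ u ∈ U, u * u = 1) {u : H} (hu : u ∈ U) : (A ⊔ zpowers u).Normal := by
  refine normalizer_eq_top_iff.mp (top_le_iff.mp (htop ▸ sup_le (le_sup_left.trans le_normalizer) ?_))
  intro v hv
  rw [mem_normalizer_iff_map_conj_eq, Subgroup.map_sup, MonoidHom.map_zpowers]
  refine congrArg₂ (· ⊔ ·) (mem_normalizer_iff_map_conj_eq.mp (by rw [normalizer_eq_top]; exact mem_top v))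
    (congrArg zpowers ?_)
  show v * u * v⁻¹ = u
  rw [comm_of_sq_eq_one hU2 hv hu, mul_inv_cancel_right]

theorem eq_one_or_of_sq {r : H} {n : ℕ} (hn : 1 ≤ n) (hr : orderOf r = 2 ^ n) {k : ℤ}
    (hk : r ^ k * r ^ k = 1) : r ^ k = 1 ∨ r ^ k = r ^ ((2 : ℤ) ^ (n - 1)) := by
  have h2n : (2 : ℤ) ^ n = 2 * 2 ^ (n - 1) := by rw [← pow_succ']; congr 1; omega
  have hone : ∀ a : ℤ, r ^ a = 1 ↔ (2 : ℤ) ^ n ∣ a := fun a => by
    rw [zpow_eq_one_iff hr]; push_cast; rfl
  rw [← zpow_add, hone, h2n, ← two_mul] at hk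
  obtain ⟨q, rfl⟩ := (mul_dvd_mul_iff_left (two_ne_zero (α := ℤ))).mp hk
  rcases Int.even_or_odd q with ⟨t, rfl⟩ | ⟨t, rfl⟩
  · exact Or.inl ((hone _).mpr ⟨t, by rw [h2n]; ring⟩)
  · right
    rw [show (2 : ℤ) ^ (n - 1) * (2 * t + 1) = 2 ^ n * t + 2 ^ (n - 1) by rw [h2n]; ring,
      zpow_add, (hone _).mpr (dvd_mul_right _ _), one_mul]

section maxClass

variable {S : Subgroup H} {r s : H} {n : ℕ} {ε : ℤ}

/-- The elements of `⟨r⟩ ∪ ⟨r⟩ s` outside the subgroup of even weight are fusion invariant. -/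
theorem not_perfect [Finite H] (A : Subgroup H) (P : Sylow 2 ↥A) (hperf : commutator ↥A = ⊤)
    (hS : (P : Subgroup ↥A).map A.subtype = S) (hn : 2 ≤ n) (hr : orderOf r = 2 ^ n)
    (hrS : r ∈ S) (hsS : s ∈ S) (hs2 : s * s = 1) (hsR : s ∉ zpowers r)
    (hidx : ∀ g ∈ S, g ∈ zpowers r ∨ g * s ∈ zpowers r) (hc : s * r * s⁻¹ = r ^ ε)
    (h4 : (4 : ℤ) ∣ ε + 1) (hnear : (2 : ℤ) ^ (n - 1) ∣ ε + 1)
    (hz : ∀ x ∈ A, x * r ^ ((2 : ℤ) ^ (n - 1)) * x⁻¹ ∈ S →
      x * r ^ ((2 : ℤ) ^ (n - 1)) * x⁻¹ = r ^ ((2 : ℤ) ^ (n - 1))) : False := by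
  classical
  haveI : Fact (Nat.Prime 2) := ⟨Nat.prime_two⟩
  set z := r ^ ((2 : ℤ) ^ (n - 1)) with hzdef
  have h2n : (2 : ℤ) ^ n = 2 * 2 ^ (n - 1) := by rw [← pow_succ']; congr 1; omega
  have h2n1 : (2 : ℤ) ∣ 2 ^ (n - 1) := dvd_pow_self _ (by omega)
  have hone : ∀ a : ℤ, r ^ a = 1 ↔ (2 : ℤ) ^ n ∣ a := fun a => by
    rw [zpow_eq_one_iff hr]; push_cast; rfl
  have hs_inv : s⁻¹ = s := inv_eq_of_mul_eq_one_right hs2
  have hsc : ∀ a : ℤ, s * r ^ a = r ^ (ε * a) * s := fun a => by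
    rw [← conj_zpow_eq hc a, inv_mul_cancel_right]
  -- the parity weight
  let c : ℤ := if (2 : ℤ) ^ n ∣ ε + 1 then 0 else 1
  have hεodd : Odd ε := by
    obtain ⟨q, hq⟩ := h4
    exact ⟨2 * q - 1, by omega⟩
  let F : Subgroup H :=
    { carrier := {g | ∃ a : ℤ, (g = r ^ a ∧ 2 ∣ c * a) ∨ (g = r ^ a * s ∧ 2 ∣ c * a + 1)}
      one_mem' := ⟨0, Or.inl ⟨(zpow_zero r).symm, by simp⟩⟩
      mul_mem' := by
        rintro _ _ ⟨a, ⟨rfl, ha⟩ | ⟨rfl, ha⟩⟩ ⟨b, ⟨rfl, hb⟩ | ⟨rfl, hb⟩⟩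
        · exact ⟨a + b, Or.inl ⟨(zpow_add r a b).symm, by
            rw [mul_add]; exact dvd_add ha hb⟩⟩
        · exact ⟨a + b, Or.inr ⟨by rw [zpow_add, mul_assoc], by
            rw [mul_add, add_assoc]; exact dvd_add ha hb⟩⟩
        · refine ⟨a + ε * b, Or.inr ⟨by rw [mul_assoc, hsc, zpow_add, mul_assoc], ?_⟩⟩
          rw [show c * (a + ε * b) + 1 = (c * a + 1) + ε * (c * b) by ring]
          exact dvd_add ha (dvd_mul_of_dvd_right hb _)
        · refine ⟨a + ε * b, Or.inl ⟨by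
            rw [mul_assoc, ← mul_assoc s, hsc, mul_assoc (r ^ (ε * b)), hs2, mul_one, zpow_add], ?_⟩⟩
          obtain ⟨q, hq⟩ := hεodd
          rw [show c * (a + ε * b) = (c * a + 1) + (c * b + 1) + 2 * (q * (c * b) - 1) by rw [hq]; ring]
          exact dvd_add (dvd_add ha hb) (dvd_mul_right _ _)
      inv_mem' := by
        rintro _ ⟨a, ⟨rfl, ha⟩ | ⟨rfl, ha⟩⟩
        · exact ⟨-a, Or.inl ⟨(zpow_neg r a).symm, by rw [mul_neg, dvd_neg]; exact ha⟩⟩
        · refine ⟨-(ε * a), Or.inr ⟨?_, ?_⟩⟩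
          · rw [mul_inv_rev, hs_inv, ← zpow_neg, hsc, mul_neg]
          · obtain ⟨q, hq⟩ := hεodd
            rw [show c * -(ε * a) + 1 = (c * a + 1) + 2 * (-(q * (c * a)) - c * a) by rw [hq]; ring]
            exact dvd_add ha (dvd_mul_right _ _) }
  have hform : ∀ g ∈ S, ∃ a : ℤ, g = r ^ a ∨ g = r ^ a * s := by
    intro g hg
    rcases hidx g hg with ⟨a, ha⟩ | ⟨a, ha⟩
    · exact ⟨a, Or.inl ha.symm⟩
    · simp only at ha
      exact ⟨a, Or.inr (by rw [ha, mul_assoc, hs2, mul_one])⟩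
  have hout : ∀ a b : ℤ, r ^ a * s ≠ r ^ b := fun a b h => hsR ⟨-a + b, by
    simp only; rw [zpow_add, zpow_neg, ← h, inv_mul_cancel_left]⟩
  have hsF : ∀ a : ℤ, (r ^ a * s ∈ F ↔ 2 ∣ c * a + 1) ∧ (r ^ a ∈ F ↔ 2 ∣ c * a) := by
    intro a
    have hc2 : ∀ b : ℤ, r ^ a = r ^ b → 2 ∣ c * a - c * b := by
      intro b h
      rw [← mul_sub]
      refine dvd_mul_of_dvd_right (dvd_trans (h2n ▸ dvd_mul_right 2 _) ((hone _).mp ?_)) _
      rw [zpow_sub, h, mul_inv_cancel]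
    refine ⟨⟨?_, fun h => ⟨a, Or.inr ⟨rfl, h⟩⟩⟩, ⟨?_, fun h => ⟨a, Or.inl ⟨rfl, h⟩⟩⟩⟩
    · rintro ⟨b, ⟨hb, -⟩ | ⟨hb, h2⟩⟩
      · exact absurd hb (hout a b)
      · have := hc2 b (mul_right_cancel hb)
        omega
    · rintro ⟨b, ⟨hb, h2⟩ | ⟨hb, -⟩⟩
      · have := hc2 b hb
        omega
      · exact absurd hb.symm (hout b a)
  -- the fusion invariant
  let Out : H → Prop := fun g =>
    (g * g = 1 ∧ g ≠ 1 ∧ g ≠ z) ∨ (c = 1 ∧ g ^ ((2 : ℤ) ^ (n - 1)) ≠ 1)
  have hOut : ∀ g ∈ S, g ∉ F ↔ Out g := by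
    intro g hg
    by_cases hcase : (2 : ℤ) ^ n ∣ ε + 1
    · have hc0 : c = 0 := if_pos hcase
      obtain ⟨a, rfl | rfl⟩ := hform g hg
      · refine iff_of_false (not_not_intro ((hsF a).2.mpr (by simp [hc0]))) ?_
        rintro (⟨h2, h1, hne⟩ | ⟨h, -⟩)
        · exact (eq_one_or_of_sq (by omega) hr h2).elim h1 hne
        · simp [hc0] at h
      · refine iff_of_true (fun h => ?_) (Or.inl ⟨?_, fun h => hout a 0 (by rw [h, zpow_zero]),
          fun h => hout a _ h⟩)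
        · have := (hsF a).1.mp h
          simp [hc0] at this
        · rw [mul_assoc, ← mul_assoc s, hsc, mul_assoc (r ^ (ε * a)), hs2, mul_one, ← zpow_add, hone]
          exact dvd_trans hcase ⟨a, by ring⟩
    · have hc1 : c = 1 := if_neg hcase
      obtain ⟨m, hm⟩ := hnear
      have hmodd : Odd m := by
        rcases Int.even_or_odd m with ⟨t, rfl⟩ | h
        · exact absurd ⟨t, by rw [hm, h2n]; ring⟩ hcase
        · exact h
      have hn3 : 3 ≤ n := by
        by_contra h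
        have : n = 2 := by omega
        subst this
        exact hcase (by norm_num; exact h4)
      obtain ⟨p, hp⟩ : (4 : ℤ) ∣ 2 ^ (n - 1) :=
        ⟨2 ^ (n - 3), by rw [show (4 : ℤ) = 2 ^ 2 by norm_num, ← pow_add]; congr 1; omega⟩
      have hsq : ∀ a : ℤ, (r ^ a * s) * (r ^ a * s) = r ^ (2 ^ (n - 1) * (m * a)) := fun a => by
        rw [mul_assoc, ← mul_assoc s, hsc, mul_assoc (r ^ (ε * a)), hs2, mul_one, ← zpow_add]
        congr 1
        linear_combination a * hm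
      obtain ⟨a, rfl | rfl⟩ := hform g hg
      · rw [(hsF a).2, hc1, one_mul]
        constructor
        · intro ha
          refine Or.inr ⟨hc1, ?_⟩
          rw [← zpow_mul, Ne, hone, h2n, mul_comm (2 : ℤ)]
          intro h
          rw [mul_comm a] at h
          exact ha ((mul_dvd_mul_iff_left (pow_ne_zero _ two_ne_zero)).mp h)
        · rintro (⟨h2, h1, hne⟩ | ⟨-, h⟩) ⟨q, rfl⟩
          · exact (eq_one_or_of_sq (by omega) hr h2).elim h1 hne
          · exact h (by rw [← zpow_mul, hone, h2n]; exact ⟨q, by ring⟩)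
      · rw [(hsF a).1, hc1, one_mul]
        constructor
        · intro ha
          refine Or.inl ⟨?_, fun h => hout a 0 (by rw [h, zpow_zero]), fun h => hout a _ h⟩
          obtain ⟨q, rfl⟩ : (2 : ℤ) ∣ a := by omega
          rw [hsq, hone, h2n]
          exact ⟨m * q, by ring⟩
        · rintro (⟨h2, -, -⟩ | ⟨-, h⟩) ha
          · rw [hsq, hone, h2n, mul_comm (2 : ℤ)] at h2
            have := (mul_dvd_mul_iff_left (pow_ne_zero _ two_ne_zero)).mp h2
            obtain ⟨t, rfl⟩ := hmodd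
            obtain ⟨q, hq⟩ : Odd a := Int.odd_iff.mpr (by omega)
            rw [hq, show (2 * t + 1) * (2 * q + 1) = 2 * (2 * t * q + t + q) + 1 by ring] at this
            omega
          · refine h ?_
            rw [hp, show (4 : ℤ) * p = 2 * (2 * p) by ring, zpow_mul, zpow_two, hsq, ← zpow_mul, hone, h2n]
            exact ⟨m * a * p, by ring⟩
  have hzr : z * z = 1 := by rw [hzdef, ← zpow_add, hone, ← two_mul, h2n]
  have hinvar : ∀ g ∈ S, ∀ x ∈ A, x * g * x⁻¹ ∈ S → (g ∈ F ↔ x * g * x⁻¹ ∈ F) := by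
    intro g hg x hx hgx
    rw [← not_iff_not, hOut g hg, hOut _ hgx]
    have key : x * g * x⁻¹ = z ↔ g = z := by
      constructor
      · intro h
        have h' : x⁻¹ * z * x⁻¹⁻¹ = g := by rw [← h]; group
        rw [← h']
        exact hz x⁻¹ (inv_mem hx) (by rw [h']; exact hg)
      · intro h
        rw [h]
        exact hz x hx (by rw [← h]; exact hgx)
    show Out g ↔ Out _
    simp only [Out, Ne, key, conj_zpow, conj_eq_one_iff,
      show x * g * x⁻¹ * (x * g * x⁻¹) = x * (g * g) * x⁻¹ by group]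
  have hall : ∀ g ∈ S, g ∈ F := by
    have hmul : ∀ g ∈ S, ∀ g' ∈ S, (g ∈ F ↔ g' ∈ F) → g * g' ∈ F := by
      intro g hg g' hg' hiff
      by_cases h : g ∈ F
      · exact mul_mem h (hiff.mp h)
      · have h' := mt hiff.mpr h
        obtain ⟨q, hq⟩ := hεodd
        obtain ⟨a, rfl | rfl⟩ := hform g hg <;> obtain ⟨b, rfl | rfl⟩ := hform g' hg'
        · rw [(hsF a).2] at h; rw [(hsF b).2] at h'
          rw [← zpow_add, (hsF _).2, mul_add]; omega
        · rw [(hsF a).2] at h; rw [(hsF b).1] at h'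
          rw [← mul_assoc, ← zpow_add, (hsF _).1, mul_add]; omega
        · rw [(hsF a).1] at h; rw [(hsF b).2] at h'
          rw [mul_assoc, hsc, ← mul_assoc, ← zpow_add, (hsF _).1,
            show c * (a + ε * b) + 1 = (c * a + 1) + c * b + 2 * (q * (c * b)) by rw [hq]; ring]
          omega
        · rw [(hsF a).1] at h; rw [(hsF b).1] at h'
          rw [mul_assoc, ← mul_assoc s, hsc, mul_assoc (r ^ (ε * b)), hs2, mul_one, ← zpow_add, (hsF _).2,
            show c * (a + ε * b) = (c * a + 1) + (c * b + 1) + 2 * (q * (c * b) - 1) by rw [hq]; ring]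
          omega
    have hfoc : commutator ↥A ⊓ (P : Subgroup ↥A) ≤ F.subgroupOf A := by
      refine Cfsg.Agent.Transfer.Fusion.focal_le_of_fusion P fun x hx g hg => ⟨g, rfl, ?_⟩
      rw [mem_subgroupOf]
      have hxS : (x : H) ∈ S := hS ▸ ⟨x, hx, rfl⟩
      have hgS : (g : H) * x * (g : H)⁻¹ ∈ S := hS ▸ ⟨g * x * g⁻¹, hg, rfl⟩
      rw [show ((⁅x, g⁆ : ↥A) : H) = (x : H) * ((g : H) * x * (g : H)⁻¹)⁻¹ by
        simp [commutatorElement_def, mul_assoc]]
      exact hmul _ hxS _ (inv_mem hgS) ((hinvar x hxS g g.2 hgS).trans (inv_mem_iff (H := F)).symm)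
    intro g hg
    rw [← hS] at hg
    obtain ⟨y, hy, rfl⟩ := hg
    exact hfoc ⟨hperf ▸ mem_top y, hy⟩
  -- `s` has weight one
  have := (hsF 0).1.mp (by rw [zpow_zero, one_mul]; exact hall s hsS)
  omega

end maxClass

/-- The rank one conclusion. -/
theorem rank_le_one [Finite H] (A U : Subgroup H) [A.Normal] (hperf : commutator ↥A = ⊤)
    (hU2 : ∀ u ∈ U, u * u = 1) (htwo : ∃ u ∈ U, ∃ v ∈ U, u ≠ 1 ∧ v ≠ 1 ∧ u ≠ v)
    (htop : A ⊔ U = ⊤)
    (huniq : ∀ u ∈ U, u ≠ 1 → ∀ a ∈ A, ∀ b ∈ A, u * a = a * u → u * b = b * u → a * b = b * a →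
      a * a = 1 → b * b = 1 → a ≠ 1 → b ≠ 1 → a = b) :
    ∀ a ∈ A, ∀ b ∈ A, a * b = b * a → a * a = 1 → b * b = 1 → a ≠ 1 → b ≠ 1 → a = b := by
  classical
  haveI : Fact (Nat.Prime 2) := ⟨Nat.prime_two⟩
  have hUp : IsPGroup 2 U := fun u => ⟨1, Subtype.ext (by simpa [pow_two] using hU2 u u.2)⟩
  obtain ⟨T, hUT⟩ := hUp.exists_le_sylow
  set Tg := (T : Subgroup H) with hTg
  let S : Subgroup H := Tg ⊓ A
  haveI hSn : (S.subgroupOf Tg).Normal := by
    rw [inf_subgroupOf_left]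
    infer_instance
  have hodd : ¬ 2 ∣ Tg.relIndex A := fun h =>
    T.not_dvd_index' Nat.card_pos.ne' (h.trans (relIndex_dvd_index' _ _))
  obtain ⟨u₁, hu₁, v₁, hv₁, hu11, hv11, huv1⟩ := htwo
  have hUmul : u₁ * v₁ ∈ U ∧ u₁ * v₁ ≠ 1 := ⟨mul_mem hu₁ hv₁, fun h => huv1 (by
    rw [eq_inv_of_mul_eq_one_left h]; exact inv_eq_of_mul_eq_one_right (hU2 v₁ hv₁))⟩
  have hUcomm : u₁ * v₁ = v₁ * u₁ := by
    calc u₁ * v₁ = (u₁ * v₁)⁻¹ := (inv_eq_of_mul_eq_one_right (hU2 _ hUmul.1)).symm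
      _ = v₁ * u₁ := by rw [mul_inv_rev, inv_eq_of_mul_eq_one_right (hU2 v₁ hv₁),
          inv_eq_of_mul_eq_one_right (hU2 u₁ hu₁)]
  rcases structure_of_no_four (T := ↥Tg) T.2 (S.subgroupOf Tg)
      (fun a b ha hb ha1 hb1 hab ha2 hb2 hcomm hac hbc => by
        -- some element of `U` centralises the four-group
        obtain ⟨w, hwU, hw1, hw⟩ : ∃ w : ↥Tg, (w : H) ∈ U ∧ w ≠ 1 ∧ w * b = b * w := by
          let u' : ↥Tg := ⟨u₁, hUT hu₁⟩
          let v' : ↥Tg := ⟨v₁, hUT hv₁⟩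
          rcases hbc u' with hu | hu
          · exact ⟨u', hu₁, fun h => hu11 (congrArg Subtype.val h), mul_inv_eq_iff_eq_mul.mp hu⟩
          rcases hbc v' with hv | hv
          · exact ⟨v', hv₁, fun h => hv11 (congrArg Subtype.val h), mul_inv_eq_iff_eq_mul.mp hv⟩
          refine ⟨u' * v', hUmul.1, fun h => hUmul.2 (congrArg Subtype.val h), mul_inv_eq_iff_eq_mul.mp ?_⟩
          calc u' * v' * b * (u' * v')⁻¹ = u' * (v' * b * v'⁻¹) * u'⁻¹ := by group
            _ = (u' * a * u'⁻¹) * (u' * b * u'⁻¹) := by rw [hv]; group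
            _ = b := by rw [hac u', mul_inv_cancel_right, hu, ← mul_assoc, ha2, one_mul]
        exact hab (Subtype.ext (huniq w hwU (fun h => hw1 (Subtype.ext h)) a (mem_subgroupOf.mp ha).2 b
          (mem_subgroupOf.mp hb).2 (congrArg Subtype.val (hac w)) (congrArg Subtype.val hw)
          (congrArg Subtype.val hcomm) (congrArg Subtype.val ha2) (congrArg Subtype.val hb2)
          (fun h => ha1 (Subtype.ext h)) (fun h => hb1 (Subtype.ext h))))) with hone | ⟨r', s', n, ε, hM⟩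
  · intro a ha b hb hab ha2 hb2 ha1 hb1
    have hK := pair_isPGroup hab ha2 hb2
    obtain ⟨g, hg⟩ := exists_conj_le_of_not_dvd (P := S) inf_le_right (T.2.to_le inf_le_left)
      (by rw [inf_relIndex_right]; exact hodd)
      ((closure_le A).mpr (Set.insert_subset ha (Set.singleton_subset_iff.mpr hb))) hK
    have hga := hg.2 a (subset_closure (by simp))
    have hgb := hg.2 b (subset_closure (by simp))
    have h := hone ⟨_, hga.1⟩ (mem_subgroupOf.mpr hga) ⟨_, hgb.1⟩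
      (mem_subgroupOf.mpr hgb)
      (Subtype.ext (by simp only [Subgroup.coe_mul, Subgroup.coe_one]
                       rw [show g * a * g⁻¹ * (g * a * g⁻¹) = g * (a * a) * g⁻¹ by group, ha2]; group))
      (Subtype.ext (by simp only [Subgroup.coe_mul, Subgroup.coe_one]
                       rw [show g * b * g⁻¹ * (g * b * g⁻¹) = g * (b * b) * g⁻¹ by group, hb2]; group))
      (fun h => ha1 (conj_eq_one_iff.mp (congrArg Subtype.val h)))
      (fun h => hb1 (conj_eq_one_iff.mp (congrArg Subtype.val h)))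
    exact mul_left_cancel (mul_right_cancel (congrArg Subtype.val h))
  · exfalso
    set r := (r' : H) with hr'
    have hcoe : ∀ (x : ↥Tg) (k : ℤ), ((x ^ k : ↥Tg) : H) = (x : H) ^ k := fun x k => by norm_cast
    have hr : orderOf r = 2 ^ n := by rw [hr', orderOf_coe]; exact hM.order
    have hrT : r ∈ Tg := r'.2
    have hrS : r ∈ S := mem_subgroupOf.mp hM.rS
    have hs0S : (s' : H) ∈ S := mem_subgroupOf.mp hM.sS
    have hn := hM.two_le
    have h2n : (2 : ℤ) ^ n = 2 * 2 ^ (n - 1) := by rw [← pow_succ']; congr 1; omega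
    have hone : ∀ a : ℤ, r ^ a = 1 ↔ (2 : ℤ) ^ n ∣ a := fun a => by
      rw [zpow_eq_one_iff hr]; push_cast; rfl
    have hmemR : ∀ x : ↥Tg, (x : H) ∈ zpowers r ↔ x ∈ zpowers r' := fun x => by
      constructor
      · rintro ⟨k, hk⟩; exact ⟨k, Subtype.ext ((hcoe r' k).trans hk)⟩
      · rintro ⟨k, rfl⟩; exact ⟨k, (hcoe r' k).symm⟩
    have hnorm : ∀ g ∈ Tg, ∃ k : ℤ, g * r * g⁻¹ = r ^ k := fun g hg => by
      obtain ⟨k, hk⟩ := hM.norm ⟨g, hg⟩
      exact ⟨k, (congrArg Subtype.val hk).trans (hcoe r' k)⟩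
    have hidx : ∀ g ∈ S, g ∈ zpowers r ∨ g * (s' : H) ∈ zpowers r := fun g hg => by
      rcases hM.index ⟨g, hg.1⟩ (mem_subgroupOf.mpr hg) with h | h
      · exact Or.inl ((hmemR ⟨g, hg.1⟩).mpr h)
      · exact Or.inr ((hmemR (⟨g, hg.1⟩ * s')).mpr h)
    have hs0c : (s' : H) * r * (s' : H)⁻¹ = r ^ ε := (congrArg Subtype.val hM.conj_s).trans (hcoe r' ε)
    set z := r ^ ((2 : ℤ) ^ (n - 1)) with hz
    have hz2 : z * z = 1 := by rw [hz, ← zpow_add, hone, ← two_mul, h2n]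
    have hz1 : z ≠ 1 := by
      rw [hz, Ne, hone, h2n]
      intro h
      have := Int.le_of_dvd (by positivity) h
      have : (0 : ℤ) < 2 ^ (n - 1) := by positivity
      omega
    have hRinv : ∀ k : ℤ, (r ^ k) * (r ^ k) = 1 → r ^ k = 1 ∨ r ^ k = z := fun k hk =>
      eq_one_or_of_sq (by omega) hr hk
    have hzc : ∀ g ∈ Tg, g * z = z * g := by
      intro g hg
      obtain ⟨k, hk⟩ := hnorm g hg
      refine mul_inv_eq_iff_eq_mul.mp ?_
      rw [hz, conj_zpow_eq hk]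
      rcases hRinv (k * 2 ^ (n - 1)) (by
          rw [← conj_zpow_eq hk, ← hz, show g * z * g⁻¹ * (g * z * g⁻¹) = g * (z * z) * g⁻¹ by group, hz2]
          group) with h | h
      · exact absurd (conj_eq_one_iff.mp ((conj_zpow_eq hk _).trans h)) hz1
      · exact h
    by_cases hfus : ∀ x ∈ A, x * z * x⁻¹ ∈ S → x * z * x⁻¹ = z
    · obtain ⟨P, hP⟩ := exists_sylow_eq (A := A) (S := S) inf_le_right (T.2.to_le inf_le_left) (by
        rwa [inf_relIndex_right])
      exact not_perfect A P hperf hP hn hr hrS hs0S (congrArg Subtype.val hM.s_sq)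
        (fun h => hM.s_out ((hmemR s').mp h)) hidx hs0c hM.four (by
          have := hM.near; push_cast at this; exact this) hfus
    push Not at hfus
    obtain ⟨x, hxA, hsS, hsz⟩ := hfus
    set s := x * z * x⁻¹ with hsdef
    have hs2 : s * s = 1 := by
      rw [hsdef, show x * z * x⁻¹ * (x * z * x⁻¹) = x * (z * z) * x⁻¹ by group, hz2]; group
    have hs1 : s ≠ 1 := fun h => hz1 (conj_eq_one_iff.mp h)
    have hsT : s ∈ Tg := hsS.1
    have hsR : s ∉ zpowers r := by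
      rintro ⟨k, hk⟩
      rcases hRinv k (by simp only at hk; rw [hk, hs2]) with h | h
      · exact hs1 (hk ▸ h)
      · exact hsz (hk ▸ h)
    obtain ⟨k0, hk0⟩ : ∃ k0 : ℤ, s = r ^ k0 * (s' : H) := by
      rcases hidx s hsS with h | ⟨k0, hk0⟩
      · exact absurd h hsR
      · refine ⟨k0, ?_⟩
        simp only at hk0
        rw [hk0, mul_assoc, show (s' : H) * s' = 1 from congrArg Subtype.val hM.s_sq, mul_one]
    have hsc : s * r * s⁻¹ = r ^ ε := by
      rw [hk0, show r ^ k0 * (s' : H) * r * (r ^ k0 * (s' : H))⁻¹ = r ^ k0 * ((s' : H) * r * (s' : H)⁻¹) * (r ^ k0)⁻¹ by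
        group, hs0c, ← zpow_neg, ← zpow_add, ← zpow_add]
      congr 1; ring
    have hidx' : ∀ g ∈ S, g ∈ zpowers r ∨ g * s ∈ zpowers r := by
      intro g hg
      rcases hidx g hg with h | h
      · exact Or.inl h
      · by_cases hgR : g ∈ zpowers r
        · exact Or.inl hgR
        · right
          rw [hk0, ← mul_assoc]
          obtain ⟨k, hk⟩ := hnorm g hg.1
          rw [show g * r ^ k0 * (s' : H) = (g * r ^ k0 * g⁻¹) * (g * (s' : H)) by group, conj_zpow_eq hk]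
          exact mul_mem (zpow_mem (mem_zpowers r) _) h
    have hsinv : ∀ b : ℤ, (r ^ b * s) * (r ^ b * s) = r ^ (b * (1 + ε)) := fun b => by
      rw [show r ^ b * s * (r ^ b * s) = r ^ b * (s * r ^ b * s⁻¹) * (s * s) by group, hs2, mul_one,
        conj_zpow_eq hsc, ← zpow_add]
      congr 1; ring
    obtain ⟨m, hm, hmodd⟩ : ∃ m : ℤ, 1 - ε = 2 * m ∧ Odd m := by
      obtain ⟨q, hq⟩ := hM.four
      exact ⟨1 - 2 * q, by linarith, ⟨-q, by ring⟩⟩
    have hnear : (2 : ℤ) ^ (n - 1) ∣ ε + 1 := by have := hM.near; push_cast at this; exact this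
    -- the action of `U`
    have hact : ∀ u ∈ U, ∃ j i : ℤ, u * r * u⁻¹ = r ^ j ∧ u * s * u⁻¹ = r ^ i * s ∧ Odd j := by
      intro u hu
      obtain ⟨j, hj⟩ := hnorm u (hUT hu)
      have huS : u * s * u⁻¹ ∈ S :=
        mem_inf.mpr ⟨mul_mem (mul_mem (hUT hu) hsT) (inv_mem (hUT hu)), Normal.conj_mem inferInstance s hsS.2 u⟩
      rcases hidx' _ huS with ⟨i, hi⟩ | ⟨i, hi⟩
      · simp only at hi
        refine absurd (⟨j * i, ?_⟩ : s ∈ zpowers r) hsR
        simp only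
        rw [← conj_zpow_eq hj, hi, ← mul_assoc, ← mul_assoc, hU2 u hu, one_mul, mul_assoc, ← mul_inv_rev,
          hU2 u hu, inv_one, mul_one]
      · simp only at hi
        refine ⟨j, i, hj, by rw [hi, mul_assoc _ s s, hs2, mul_one], ?_⟩
        rcases Int.even_or_odd j with ⟨q, rfl⟩ | h
        · refine absurd ((conj_eq_one_iff (a := u)).mp ?_ : z = 1) hz1
          rw [hz, conj_zpow_eq hj, hone, h2n]
          exact ⟨q, by ring⟩
        · exact h
    obtain ⟨M, hM2, hM4, hMdvd, hMsd⟩ : ∃ M : ℤ, 2 ∣ M ∧ M ∣ 4 ∧ (M = 2 ∧ (2 : ℤ) ^ n ∣ ε + 1 ∨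
        M = 4 ∧ ¬ (2 : ℤ) ^ n ∣ ε + 1) ∧ M ∣ 2 ^ n := by
      have h42 : (4 : ℤ) ∣ 2 ^ n := ⟨2 ^ (n - 2), by
        rw [show (4 : ℤ) = 2 ^ 2 by norm_num, ← pow_add]; congr 1; omega⟩
      by_cases h : (2 : ℤ) ^ n ∣ ε + 1
      · exact ⟨2, dvd_rfl, by norm_num, Or.inl ⟨rfl, h⟩, dvd_trans (by norm_num) h42⟩
      · exact ⟨4, by norm_num, dvd_rfl, Or.inr ⟨rfl, h⟩, h42⟩
    have heven : ∀ b : ℤ, (r ^ b * s) * (r ^ b * s) = 1 → ¬ (2 : ℤ) ^ n ∣ ε + 1 → 2 ∣ b := by
      intro b hb hsd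
      rw [hsinv, hone] at hb
      obtain ⟨q, hq⟩ := hnear
      have hqodd : Odd q := by
        rcases Int.even_or_odd q with ⟨t, rfl⟩ | h
        · exact absurd ⟨t, by rw [hq, h2n]; ring⟩ hsd
        · exact h
      rw [show b * (1 + ε) = 2 ^ (n - 1) * (q * b) by linear_combination b * hq, h2n,
        mul_comm (2 : ℤ)] at hb
      have h := (mul_dvd_mul_iff_left (pow_ne_zero _ (two_ne_zero (α := ℤ)))).mp hb
      exact (Int.prime_two.dvd_or_dvd h).resolve_left (by obtain ⟨t, rfl⟩ := hqodd; omega)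
    obtain ⟨u, huU, hu1, j, i, huj, hui, hjodd, hMi⟩ : ∃ u ∈ U, u ≠ 1 ∧ ∃ j i : ℤ,
        u * r * u⁻¹ = r ^ j ∧ u * s * u⁻¹ = r ^ i * s ∧ Odd j ∧ M ∣ i := by
      obtain ⟨j, i, hj, hi, hjo⟩ := hact u₁ hu₁
      by_cases h : M ∣ i
      · exact ⟨u₁, hu₁, hu11, j, i, hj, hi, hjo, h⟩
      obtain ⟨j', i', hj', hi', hjo'⟩ := hact v₁ hv₁
      by_cases h' : M ∣ i'
      · exact ⟨v₁, hv₁, hv11, j', i', hj', hi', hjo', h'⟩
      refine ⟨u₁ * v₁, hUmul.1, hUmul.2, j * j', j * i' + i, ?_, ?_, hjo.mul hjo', ?_⟩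
      · rw [show u₁ * v₁ * r * (u₁ * v₁)⁻¹ = u₁ * (v₁ * r * v₁⁻¹) * u₁⁻¹ by group, hj', conj_zpow_eq hj]
      · rw [show u₁ * v₁ * s * (u₁ * v₁)⁻¹ = u₁ * (v₁ * s * v₁⁻¹) * u₁⁻¹ by group, hi',
          show u₁ * (r ^ i' * s) * u₁⁻¹ = (u₁ * r ^ i' * u₁⁻¹) * (u₁ * s * u₁⁻¹) by group,
          conj_zpow_eq hj, hi, ← mul_assoc, ← zpow_add]
      · obtain ⟨q, rfl⟩ := hjo
        rcases hMdvd with ⟨rfl, -⟩ | ⟨rfl, hsd⟩
        · rw [show (2 * q + 1) * i' + i = 2 * (q * i') + (i' + i) by ring]; omega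
        · have hev : ∀ (u : H) (i : ℤ), u * s * u⁻¹ = r ^ i * s → 2 ∣ i := fun u i h => heven i (by
            rw [← h, show u * s * u⁻¹ * (u * s * u⁻¹) = u * (s * s) * u⁻¹ by group, hs2]; group) hsd
          obtain ⟨a, rfl⟩ := hev _ _ hi
          obtain ⟨b, rfl⟩ := hev _ _ hi'
          rw [show (2 * q + 1) * (2 * b) + 2 * a = 4 * (q * b) + (2 * b + 2 * a) by ring]; omega
    obtain ⟨i2, rfl⟩ : (2 : ℤ) ∣ i := hM2.trans hMi
    obtain ⟨a, ha⟩ := exists_mul_odd_modEq (n := n) hmodd (-i2)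
    set y := r ^ a * u with hy
    have hys : y * s = s * y := by
      refine mul_inv_eq_iff_eq_mul.mp ?_
      rw [hy, show r ^ a * u * s * (r ^ a * u)⁻¹ = r ^ a * (u * s * u⁻¹) * (r ^ a)⁻¹ by group, hui,
        ← mul_assoc, ← zpow_add, ← zpow_neg, mul_assoc, show s * r ^ (-a) = (s * r ^ (-a) * s⁻¹) * s by group,
        conj_zpow_eq hsc, ← mul_assoc, ← zpow_add]
      refine (mul_eq_right.mpr ?_)
      rw [hone]
      obtain ⟨q, hq⟩ := ha
      exact ⟨2 * q, by linear_combination a * hm + 2 * hq⟩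
    have hu_inv : u⁻¹ = u := inv_eq_of_mul_eq_one_right (hU2 u huU)
    have hy2 : y * y = r ^ (a * (1 + j)) := by
      rw [hy, show r ^ a * u * (r ^ a * u) = r ^ a * (u * r ^ a * u⁻¹) * (u * u) by group, hU2 u huU, mul_one,
        conj_zpow_eq huj, ← zpow_add]
      congr 1; ring
    have hyT : y ∈ Tg := mul_mem (zpow_mem hrT a) (hUT huU)
    have hyy : y * y = 1 ∨ y * y = z := by
      rw [hy2]
      refine hRinv _ ?_
      have h1 : s * r ^ (a * (1 + j)) * s⁻¹ = r ^ (a * (1 + j)) := by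
        rw [← hy2, show s * (y * y) = (y * y) * s by rw [← mul_assoc, ← hys, mul_assoc, ← hys, ← mul_assoc],
          mul_inv_cancel_right]
      rw [conj_zpow_eq hsc, zpow_eq_zpow_iff hr] at h1
      push_cast at h1
      rw [← zpow_add, hone]
      refine dvd_of_mul_odd hmodd ?_
      obtain ⟨q, hq⟩ := h1
      exact ⟨-q, by linear_combination -hq - a * (1 + j) * hm⟩
    rcases hyy with hy1 | hyz
    · -- an involution of `⟨r⟩ s` fixed by `u`
      rw [hy2, hone] at hy1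
      suffices ∃ b : ℤ, (2 : ℤ) ^ n ∣ b * (j - 1) + 2 * i2 ∧ (2 : ℤ) ^ n ∣ b * (1 + ε) by
        obtain ⟨b, hb1, hb2⟩ := this
        have hw2 : (r ^ b * s) * (r ^ b * s) = 1 := by rw [hsinv, hone]; exact hb2
        have huw : u * (r ^ b * s) = (r ^ b * s) * u := by
          refine mul_inv_eq_iff_eq_mul.mp ?_
          rw [show u * (r ^ b * s) * u⁻¹ = (u * r ^ b * u⁻¹) * (u * s * u⁻¹) by group, conj_zpow_eq huj, hui,
            ← mul_assoc, ← zpow_add, mul_left_inj, zpow_eq_zpow_iff hr]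
          push_cast
          obtain ⟨q, hq⟩ := hb1
          exact ⟨q, by linear_combination hq⟩
        have hwS : r ^ b * s ∈ S := mul_mem (zpow_mem hrS b) hsS
        have hzS : z ∈ S := zpow_mem hrS _
        have := huniq u huU hu1 z hzS.2 (r ^ b * s) hwS.2 (hzc u (hUT huU)) huw
          (hzc _ hwS.1).symm hz2 hw2 hz1
          (fun h => hsR ⟨-b, by simp only; rw [zpow_neg, inv_eq_of_mul_eq_one_right h]⟩)
        exact hsR ⟨-b + 2 ^ (n - 1), by simp only; rw [zpow_add, ← hz, this, zpow_neg, inv_mul_cancel_left]⟩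
      by_cases hj4 : (4 : ℤ) ∣ j - 1
      · refine ⟨0, ?_, by simp⟩
        obtain ⟨q, hq⟩ := hj4
        obtain ⟨d, hd⟩ := ha
        have : (2 : ℤ) ^ (n - 1) ∣ a := by
          refine dvd_of_mul_odd (q := 2 * q + 1) ⟨q, rfl⟩ ?_
          obtain ⟨c, hc⟩ := hy1
          exact ⟨c, mul_left_cancel₀ (two_ne_zero) (by linear_combination hc + c * h2n - a * hq)⟩
        obtain ⟨c, hc⟩ := this
        exact ⟨-(m * c) + 2 * d, by linear_combination 2 * hd - 2 * m * hc + m * c * h2n⟩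
      · obtain ⟨p, hp, hpodd⟩ : ∃ p : ℤ, j - 1 = 2 * p ∧ Odd p := by
          obtain ⟨q, rfl⟩ := hjodd
          refine ⟨q, by ring, Int.odd_iff.mpr ?_⟩
          omega
        obtain ⟨b, hb⟩ := exists_mul_odd_modEq (n := n) hpodd (m * a)
        refine ⟨b, ?_, ?_⟩
        · obtain ⟨d, hd⟩ := ha
          obtain ⟨c, hc⟩ := hb
          exact ⟨2 * c + 2 * d, by linear_combination b * hp + 2 * hc + 2 * hd⟩
        · rcases hMdvd with ⟨-, hD⟩ | ⟨rfl, -⟩
          · exact dvd_mul_of_dvd_right (by rwa [add_comm]) b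
          · have ha2 : 2 ∣ a := by
              obtain ⟨d, hd⟩ := ha
              obtain ⟨t, rfl⟩ := hmodd
              obtain ⟨w, hw⟩ : (2 : ℤ) ∣ i2 := by omega
              exact ⟨2 ^ (n - 1) * d - w - t * a, by linear_combination hd + d * h2n - hw⟩
            have hb2 : 2 ∣ b := by
              obtain ⟨c, hc⟩ := hb
              obtain ⟨t, rfl⟩ := hpodd
              obtain ⟨w, hw⟩ := ha2
              exact ⟨2 ^ (n - 1) * c + m * w - t * b, by linear_combination hc + c * h2n + m * hw⟩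
            obtain ⟨e, rfl⟩ := hb2
            obtain ⟨q, hq⟩ := hnear
            exact ⟨e * q, by linear_combination 2 * e * hq - e * q * h2n⟩
    -- `y` has square `z` and centralises `s`
    let L : Subgroup H := (A ⊔ zpowers u) ⊓ centralizer {s}
    haveI hAu : (A ⊔ zpowers u).Normal := normal_sup_zpowers_of_top htop hU2 huU
    let T₀ := Tg ⊓ (A ⊔ zpowers u)
    let P₀ := T₀.map (MulAut.conj x).toMonoidHom
    have hxL : x ∈ A ⊔ zpowers u := mem_sup_left hxA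
    have hP₀L : P₀ ≤ L := by
      rintro _ ⟨t, ht, rfl⟩
      refine mem_inf.mpr ⟨mul_mem (mul_mem hxL ht.2) (inv_mem hxL), mem_centralizer_singleton_iff.mpr ?_⟩
      show x * t * x⁻¹ * s = s * (x * t * x⁻¹)
      rw [hsdef, show x * t * x⁻¹ * (x * z * x⁻¹) = x * (t * z) * x⁻¹ by group, hzc t ht.1]
      group
    have hP₀idx : ¬ 2 ∣ P₀.relIndex L := by
      intro h
      have h1 : ¬ 2 ∣ T₀.relIndex (A ⊔ zpowers u) := by
        rw [inf_relIndex_right]
        intro h'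
        exact T.not_dvd_index' Nat.card_pos.ne' (h'.trans (relIndex_dvd_index' _ _))
      refine h1 ?_
      have h2 : P₀.relIndex (A ⊔ zpowers u) = T₀.relIndex (A ⊔ zpowers u) := by
        conv_lhs => rw [← mem_normalizer_iff_map_conj_eq.mp (show x ∈ normalizer ((A ⊔ zpowers u : Subgroup H) : Set H) from le_normalizer hxL)]
        exact relIndex_map_map_of_injective _ _ (MulAut.conj x).injective
      rw [← h2, ← relIndex_mul_relIndex P₀ L _ hP₀L inf_le_left]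
      exact dvd_mul_of_dvd_left h _
    have hyL : y ∈ L := mem_inf.mpr ⟨mul_mem (mem_sup_left (zpow_mem (mem_inf.mp hrS).2 a)) (mem_sup_right (mem_zpowers u)),
      mem_centralizer_singleton_iff.mpr hys⟩
    obtain ⟨g, hg⟩ := exists_conj_le_of_not_dvd hP₀L ((T.2.to_le inf_le_left).map _) hP₀idx
      (zpowers_le.mpr hyL)
      (T.2.to_le (zpowers_le.mpr hyT))
    obtain ⟨t, ht, htg⟩ := hg.2 y (mem_zpowers y)
    have htg' : t = x⁻¹ * g * y * (x⁻¹ * g)⁻¹ := by
      rw [show x⁻¹ * g * y * (x⁻¹ * g)⁻¹ = x⁻¹ * (g * y * g⁻¹) * x by group, ← htg]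
      simp [mul_assoc]
    have hcoset : ∀ w ∈ Tg, w ∈ A ⊔ zpowers u → w * w ∈ zpowers r := by
      intro w hwT hw
      obtain ⟨h, hhA, v, hv, rfl⟩ := mem_sup_of_normal_left.mp hw
      have hvU : v ∈ U := (zpowers_le.mpr huU) hv
      have hhS : h ∈ S := ⟨(mul_mem_cancel_right (hUT hvU)).mp hwT, hhA⟩
      have hv2 := hU2 v hvU
      obtain ⟨k, hk⟩ := hnorm v (hUT hvU)
      rw [show h * v * (h * v) = h * (v * h * v⁻¹) * (v * v) by group, hv2, mul_one]
      have hhv : v * h * v⁻¹ ∈ S :=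
        mem_inf.mpr ⟨mul_mem (mul_mem (hUT hvU) hhS.1) (inv_mem (hUT hvU)), Normal.conj_mem inferInstance h hhA v⟩
      rcases hidx' h hhS with ⟨e, he⟩ | ⟨e, he⟩ <;> simp only at he
      · rw [← he, conj_zpow_eq hk]
        exact mul_mem (zpow_mem (mem_zpowers r) _) (zpow_mem (mem_zpowers r) _)
      · rcases hidx' _ hhv with ⟨f, hf⟩ | ⟨f, hf⟩ <;> simp only at hf
        · refine absurd ((mul_mem_cancel_left (zpow_mem (mem_zpowers r) e)).mp ?_) hsR
          rw [show r ^ e * s = h by rw [he, mul_assoc _ s s, hs2, mul_one], show h = v * (r ^ f) * v⁻¹ by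
            rw [hf, ← mul_assoc, ← mul_assoc, hv2, one_mul, mul_assoc, ← mul_inv_rev, hv2, inv_one, mul_one],
            conj_zpow_eq hk]
          exact zpow_mem (mem_zpowers r) _
        · rw [show h = r ^ e * s by rw [he, mul_assoc _ s s, hs2, mul_one]] at hf ⊢
          rw [show v * (r ^ e * s) * v⁻¹ = r ^ f * s by rw [hf, mul_assoc _ s s, hs2, mul_one],
            show r ^ e * s * (r ^ f * s) = r ^ e * (s * r ^ f * s⁻¹) * (s * s) by group, hs2, mul_one,
            conj_zpow_eq hsc]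
          exact mul_mem (zpow_mem (mem_zpowers r) _) (zpow_mem (mem_zpowers r) _)
    obtain ⟨e, he⟩ := hcoset t ht.1 ht.2
    simp only at he
    have htt : t * t = x⁻¹ * g * z * (x⁻¹ * g)⁻¹ := by rw [htg', ← hyz]; group
    have htz : t * t = z := by
      rcases hRinv e (by
        rw [he, htt, show x⁻¹ * g * z * (x⁻¹ * g)⁻¹ * (x⁻¹ * g * z * (x⁻¹ * g)⁻¹) = x⁻¹ * g * (z * z) * (x⁻¹ * g)⁻¹ by group,
          hz2]
        group) with h | h
      · exact absurd (conj_eq_one_iff.mp (htt.symm.trans (he.symm.trans h))) hz1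
      · exact he.symm.trans h
    have hgs : g * s = s * g := mem_centralizer_singleton_iff.mp hg.1.2
    refine hsz ?_
    have h1 : g * z * g⁻¹ = s := by
      rw [hsdef]
      calc g * z * g⁻¹ = x * (x⁻¹ * g * z * (x⁻¹ * g)⁻¹) * x⁻¹ := by group
        _ = x * z * x⁻¹ := by rw [← htt, htz]
    calc s = g⁻¹ * (g * s) := by group
      _ = g⁻¹ * (s * g) := by rw [hgs]
      _ = g⁻¹ * (g * z * g⁻¹ * g) := by rw [h1]
      _ = z := by group

end Cfsg.Agent.Components.FourAction
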