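/-
Transport of subnormal subsystems, quasisimple systems and components along isomorphisms and
along maps of the system.
-/
import Mathlib
import Cfsg.Prelude.Def_FusionComponents
import Cfsg.Agent.Lib.Fusion.Transport
import Cfsg.Agent.Lib.Fusion.FactorExists

set_option autoImplicit false
set_option linter.all false

namespace Cfsg.Agent.Components.FusionComponent

open Cfsg Cfsg.FusionSystem Cfsg.Agent.Fusion Cfsg.Agent.Fusion.Basic Cfsg.Agent.Fusion.Saturation
  Cfsg.Agent.Fusion.Factor Cfsg.Agent.Fusion.Normal Cfsg.Agent.Fusion.Subsystems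
  Cfsg.Agent.Fusion.Transport

universe u v

variable {Ω : Type u} [Group Ω] {Ω' : Type v} [Group Ω'] {S : Subgroup Ω} {S' : Subgroup Ω'}

theorem bwd_eq {e₁ e₂ : Iso S S'} (h : ∀ x ∈ S, e₁.fwd x = e₂.fwd x) {y : Ω'} (hy : y ∈ S') :
    e₁.bwd y = e₂.bwd y := by
  conv_rhs => rw [← e₁.to_inv y hy, h _ (e₁.inv_mem y hy), e₂.inv_to _ (e₁.inv_mem y hy)]

theorem push_congr {e₁ e₂ : Iso S S'} (h : ∀ x ∈ S, e₁.fwd x = e₂.fwd x) (F : FusionSystem S) :
    push e₁ F = push e₂ F := by
  have key : ∀ e₁ e₂ : Iso S S', (∀ x ∈ S, e₁.fwd x = e₂.fwd x) → push e₁ F ≤ push e₂ F := by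
    intro e₁ e₂ h
    refine le_of_isMap fun P f hf => ?_
    obtain ⟨hP, hS', hm⟩ := (isMap_push_iff e₁).1 hf
    refine (isMap_push_iff e₂).2 ⟨hP, hS', ?_⟩
    have hd : im e₁.bwd P = im e₂.bwd P := by
      refine le_antisymm (im_le fun x hx => ?_) (im_le fun x hx => ?_)
      · rw [bwd_eq h (hP hx)]; exact mem_im_self _ hx
      · rw [← bwd_eq h (hP hx)]; exact mem_im_self _ hx
    refine (isMap_of_eq hd hm).congr fun x hx => ?_
    have hxS := e₂.symm.img_le hP hx
    rw [h x hxS]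
    refine bwd_eq h (hS' _ ?_)
    obtain ⟨y, hy, rfl⟩ := (e₂.symm.mem_img hP).1 hx
    rw [Iso.symm_fwd, e₂.to_inv y (hP hy)]
    exact hy
  exact fs_ext_le (key _ _ h) (key _ _ fun x hx => (h x hx).symm)

/-- Composition of isomorphisms. -/
def trans {Ω'' : Type*} [Group Ω''] {S'' : Subgroup Ω''} (e₁ : Iso S S') (e₂ : Iso S' S'') :
    Iso S S'' :=
  ⟨fun x => e₂.fwd (e₁.fwd x), fun y => e₁.bwd (e₂.bwd y),
    fun x hx => e₂.to_mem _ (e₁.to_mem x hx), fun y hy => e₁.inv_mem _ (e₂.inv_mem y hy),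
    fun x hx y hy => by rw [e₁.to_mul x hx y hy, e₂.to_mul _ (e₁.to_mem x hx) _ (e₁.to_mem y hy)],
    fun x hx => by rw [e₂.inv_to _ (e₁.to_mem x hx), e₁.inv_to x hx],
    fun y hy => by rw [e₁.to_inv _ (e₂.inv_mem y hy), e₂.to_inv y hy]⟩

theorem push_trans {Ω'' : Type*} [Group Ω''] {S'' : Subgroup Ω''} (e₁ : Iso S S')
    (e₂ : Iso S' S'') (F : FusionSystem S) : push e₂ (push e₁ F) = push (trans e₁ e₂) F := by
  have hd : ∀ P : Subgroup Ω'', P ≤ S'' → im e₁.bwd (im e₂.bwd P) = im (trans e₁ e₂).bwd P := by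
    intro P hP
    refine le_antisymm (im_le fun x hx => ?_) (im_le fun x hx => ?_)
    · obtain ⟨y, hy, rfl⟩ := (e₂.symm.mem_img hP).1 hx
      exact mem_im_self (trans e₁ e₂).bwd hy
    · exact mem_im_self _ (mem_im_self _ hx)
  refine fs_ext_le (le_of_isMap fun P f hf => ?_) (le_of_isMap fun P f hf => ?_)
  · obtain ⟨hP, hS'', hm⟩ := (isMap_push_iff e₂).1 hf
    obtain ⟨-, -, hm2⟩ := (isMap_push_iff e₁).1 hm
    exact (isMap_push_iff _).2 ⟨hP, hS'', isMap_of_eq (hd P hP) hm2⟩
  · obtain ⟨hP, hS'', hm⟩ := (isMap_push_iff _).1 hf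
    refine (isMap_push_iff e₂).2 ⟨hP, hS'', (isMap_push_iff e₁).2
      ⟨e₂.symm.img_le hP, fun x hx => ?_, isMap_of_eq (hd P hP).symm hm⟩⟩
    obtain ⟨y, hy, rfl⟩ := (e₂.symm.mem_img hP).1 hx
    rw [Iso.symm_fwd, e₂.to_inv y (hP hy)]
    exact e₂.inv_mem _ (hS'' y hy)

theorem push_mono {E F : FusionSystem S} (e : Iso S S') (h : E ≤ F) : push e E ≤ push e F :=
  le_of_isMap fun P f hf => by
    obtain ⟨hP, hS', hm⟩ := (isMap_push_iff e).1 hf
    exact (isMap_push_iff e).2 ⟨hP, hS', isMap_mono h hm⟩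

theorem target_eq {T : Subgroup Ω} {T' : Subgroup Ω'} (e : Iso S S') (e' : Iso T T')
    (h : ∀ x ∈ T, e'.fwd x = e.fwd x) : T' = im e.fwd T := by
  rw [← e'.img_self]
  exact le_antisymm (im_le fun x hx => h x hx ▸ mem_im_self _ hx)
    (im_le fun x hx => (h x hx).symm ▸ mem_im_self _ hx)

theorem push_subsystem {T : Subgroup Ω} {E : FusionSystem T} {F : FusionSystem S}
    {T' : Subgroup Ω'} (e : Iso S S') (e' : Iso T T') (h : ∀ x ∈ T, e'.fwd x = e.fwd x)
    (hE : E.IsSubsystemOf F) : (push e' E).IsSubsystemOf (push e F) := by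
  have hT := subsystem_le hE
  obtain rfl := target_eq e e' h
  rw [push_congr (e₁ := e') (e₂ := e.restrict hT) h E]
  exact push_isSubsystemOf e hT hE

theorem push_normal [Finite S] {p : ℕ} [Fact p.Prime] (hS : IsPGroup p S) {T : Subgroup Ω}
    {E : FusionSystem T} {F : FusionSystem S} {T' : Subgroup Ω'} (e : Iso S S') (e' : Iso T T')
    (h : ∀ x ∈ T, e'.fwd x = e.fwd x) (hE : E.IsNormalIn F p) :
    (push e' E).IsNormalIn (push e F) p := by
  have hT := subsystem_le hE.1.2.2.1
  obtain rfl := target_eq e e' h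
  rw [push_congr (e₁ := e') (e₂ := e.restrict hT) h E]
  exact push_isNormalIn e hS hE hT

theorem subnormal_le {p : ℕ} {T : Subgroup Ω} {C : FusionSystem T} {F : FusionSystem S}
    (h : C.IsSubnormalIn F p) : C.IsSubsystemOf F := by
  induction h with
  | refl => exact fun _ => subset_rfl
  | step _ h2 ih => exact fun P => (ih P).trans (h2.1.2.2.1 P)

theorem push_subnormal {p : ℕ} {T : Subgroup Ω} {C : FusionSystem T}
    {F : FusionSystem S} (h : C.IsSubnormalIn F p) :
    ∀ [Fact p.Prime] [Finite S], IsPGroup p S → ∀ {S' : Subgroup Ω'} (e : Iso S S') {T' : Subgroup Ω'}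
      (e' : Iso T T'), (∀ x ∈ T, e'.fwd x = e.fwd x) →
        (push e' C).IsSubnormalIn (push e F) p := by
  induction h with
  | @refl F p =>
    intro _ _ hS S' e T' e' he
    obtain rfl : T' = S' := (target_eq e e' he).trans e.img_self
    rw [push_congr he F]
    exact .refl _ _
  | @step U S E D F p h1 h2 ih =>
    intro _ _ hS S' e T' e' he
    have hU : U ≤ S := subsystem_le h2.1.2.2.1
    have hfin : Finite U := finite_of_le hU
    exact .step (ih (hS.to_le hU) (e.restrict hU) e' he)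
      (push_normal hS e (e.restrict hU) (fun _ _ => rfl) h2)

/-- Invariant systems are fixed by transport along automorphisms. -/
theorem push_invariant [Finite S] {T : Subgroup Ω} {E : FusionSystem T} {F : FusionSystem S}
    (hE : E.IsInvariantIn F) {α : MulAut T} (hα : α ∈ F.autGroup T) (e : Iso T T)
    (he : ∀ x ∈ T, e.fwd x = autFun α x) : push e E = E := by
  have key : ∀ (α : MulAut T), α ∈ F.autGroup T → ∀ e : Iso T T,
      (∀ x ∈ T, e.fwd x = autFun α x) → push e E ≤ E := by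
    intro α hα e he
    refine le_of_isMap fun P f hf => ?_
    obtain ⟨hP, hS', hm⟩ := (isMap_push_iff e).1 hf
    obtain ⟨g, hg, hge⟩ := invariant_transport hE hm.le hm hα
    have hd : img (autFun α) (im e.bwd P) = P := by
      refine le_antisymm (img_le fun x hx => ?_) fun y hy => ?_
      · obtain ⟨y, hy, rfl⟩ := (e.symm.mem_img hP).1 hx
        rw [Iso.symm_fwd, ← he _ (e.inv_mem y (hP hy)), e.to_inv y (hP hy)]
        exact hy
      · rw [← e.to_inv y (hP hy), he _ (e.inv_mem y (hP hy))]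
        exact mem_img_self _ (mem_im_self _ hy)
    rw [hd] at hg
    refine hg.congr fun y hy => ?_
    have hyT := hP hy
    have h1 := hge (e.bwd y) (mem_im_self _ hy)
    rw [← he _ (e.inv_mem y hyT), e.to_inv y hyT] at h1
    rw [h1, ← he _ (e.inv_mem _ (hS' y hy)), e.to_inv _ (hS' y hy)]
  refine fs_ext_le (key α hα e he) ?_
  have hinv := key α⁻¹ (Subgroup.inv_mem _ hα) e.symm fun y hy => by
    rw [Iso.symm_fwd]
    conv_rhs => rw [← e.to_inv y hy, he _ (e.inv_mem y hy), autFun_inv_apply]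
  have h2 := push_mono e hinv
  have h3 : push e (push e.symm E) = E := push_push e.symm E
  rwa [h3] at h2

/-- The isomorphism given by an automorphism. -/
noncomputable def autIso {T : Subgroup Ω} (α : MulAut T) : Iso T T :=
  ⟨autFun α, autFun α⁻¹, fun _ hx => autFun_mem α hx, fun _ hx => autFun_mem α⁻¹ hx,
    autFun_isHom α, fun x _ => autFun_inv_apply α x, fun y _ => autFun_apply_inv α y⟩

theorem exists_iso_of_map {T : Subgroup Ω} {F : FusionSystem S} {f : Ω → Ω} (hf : IsMap F T f) :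
    ∃ e : Iso T (img f T), e.fwd = f := by
  obtain ⟨g, hg, hgi, hgf, hfg⟩ := hf.exists_inv
  exact ⟨⟨f, g, fun x hx => mem_img_self f hx, fun y hy => hgi ▸ mem_img_self g hy,
    fun x hx y hy => hf.map_mul hx hy, hgf, hfg⟩, rfl⟩

/-- Conjugates of subnormal subsystems under maps of the system are subnormal. -/
theorem conj_subnormal {p : ℕ} {T : Subgroup Ω} {C : FusionSystem T}
    {F : FusionSystem S} (h : C.IsSubnormalIn F p) :
    ∀ [Fact p.Prime] [Finite S], IsPGroup p S → ∀ {T' : Subgroup Ω} (e : Iso T T'), IsMap F T e.fwd →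
      (push e C).IsSubnormalIn F p := by
  induction h with
  | @refl F p =>
    intro _ _ hS T' e he
    obtain rfl : T' = T := by
      rw [← e.img_self]
      have : img e.fwd T = T := eq_of_le_card he.img_le_S he.card_img.ge
      exact le_antisymm (im_le fun x hx => he.mem hx) fun y hy => by
        rw [← this] at hy
        obtain ⟨x, hx, rfl⟩ := he.mem_img.1 hy
        exact mem_im_self _ hx
    have hle : ∀ e : Iso T' T', IsMap F T' e.fwd → push e F ≤ F := by
      intro e he
      refine le_of_isMap fun P f hf => ?_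
      obtain ⟨hP, hS', hm⟩ := (isMap_push_iff e).1 hf
      obtain ⟨k, hk, -, hke, -⟩ := he.exists_inv
      have himg : img e.fwd T' = T' := eq_of_le_card he.img_le_S he.card_img.ge
      rw [himg] at hk
      have hb : IsMap F P e.bwd := (hk.restrict hP).congr fun y hy => by
        conv_lhs => rw [← e.to_inv y (hP hy), hke _ (e.inv_mem y (hP hy))]
      refine ((he.restrict le_rfl).comp (hm.comp hb fun y hy => mem_im_self _ hy)
        fun y hy => hm.mem (mem_im_self _ hy)).congr fun y hy => ?_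
      rw [e.to_inv y (hP hy), e.to_inv _ (hS' y hy)]
    have hsymm : IsMap F T' e.symm.fwd := by
      obtain ⟨k, hk, -, hke, -⟩ := he.exists_inv
      have himg : img e.fwd T' = T' := eq_of_le_card he.img_le_S he.card_img.ge
      rw [himg] at hk
      exact hk.congr fun y hy => by
        conv_lhs => rw [← e.to_inv y hy, hke _ (e.inv_mem y hy)]
        rfl
    have heq : push e F = F := by
      refine fs_ext_le (hle e he) ?_
      have h2 := push_mono e (hle e.symm hsymm)
      have h3 : push e (push e.symm F) = F := push_push e.symm F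
      rwa [h3] at h2
    rw [heq]
    exact .refl _ _
  | @step U S E D F p h1 h2 ih =>
    intro _ _ hS T' e he
    have hinv := h2.1.2.2
    have hU : U ≤ S := subsystem_le hinv.1
    have hfin : Finite U := finite_of_le hU
    obtain ⟨α, hα, f₀, hf₀, hf⟩ := invariant_frattini hinv (subsystem_le (subnormal_le h1)) he
    obtain ⟨e₀, he₀⟩ := exists_iso_of_map hf₀
    have h3 := ih (hS.to_le hU) e₀ (by rw [he₀]; exact hf₀)
    let eα := autIso α
    have hI : im e₀.fwd T = img f₀ T := e₀.img_self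
    have hT' : im eα.fwd (img f₀ T) = T' := by
      rw [← e.img_self]
      refine le_antisymm (im_le fun y hy => ?_) (im_le fun x hx => ?_)
      · obtain ⟨x, hx, rfl⟩ := hf₀.mem_img.1 hy
        show autFun α (f₀ x) ∈ _
        rw [← hf x hx]
        exact mem_im_self _ hx
      · rw [hf x hx]
        exact mem_im_self eα.fwd (mem_img_self f₀ hx)
    subst hT'
    have hle : img f₀ T ≤ U := hf₀.img_le_S
    have h4 := push_subnormal h3 (hS.to_le hU) eα (eα.restrict hle) (fun _ _ => rfl)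
    rw [push_invariant hinv hα eα (fun _ _ => rfl), push_trans,
      push_congr (e₁ := trans e₀ (eα.restrict hle)) (e₂ := e) (fun x hx => ?_) E] at h4
    · exact .step h4 h2
    · show autFun α (e₀.fwd x) = e.fwd x
      rw [he₀, hf x hx]

section Quasisimple

variable {F : FusionSystem S} {p : ℕ}

theorem im_sup_le (e : Iso S S') {A B : Subgroup Ω} (hA : A ≤ S) (hB : B ≤ S) :
    im e.fwd (A ⊔ B) ≤ im e.fwd A ⊔ im e.fwd B := by
  rw [img_sup e hA hB]

theorem push_central [Finite S] (e : Iso S S') {Q : Subgroup Ω} (h : F.IsCentral Q) :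
    (push e F).IsCentral (im e.fwd Q) := by
  obtain ⟨hQ, hext⟩ := isCentral_iff.1 h
  refine isCentral_iff.2 ⟨e.img_le hQ, fun P f hf => ?_⟩
  obtain ⟨hP, hS', hm⟩ := (isMap_push_iff e).1 hf
  obtain ⟨g, hg, hgP, hgQ⟩ := hext _ _ hm
  have hg' := isMap_push e hg
  rw [img_sup e hm.le hQ, e.img_symm hP] at hg'
  refine ⟨_, hg', fun y hy => ?_, fun y hy => ?_⟩
  · rw [hgP _ (mem_im_self _ hy), e.to_inv y (hP hy), e.to_inv _ (hS' y hy)]
  · obtain ⟨x, hx, rfl⟩ := (e.mem_img hQ).1 hy
    rw [e.inv_to x (hQ hx), hgQ x hx]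

theorem push_center [Finite S] (e : Iso S S') :
    im e.fwd F.center = (push e F).center := by
  have : Finite S' := e.finite
  refine le_antisymm (le_center (push_central e center_isCentral)) ?_
  have hc := (center_isCentral (F := push e F))
  have h1 := push_central e.symm hc
  rw [push_push e F] at h1
  have h2 := im_mono e.fwd (le_center h1)
  rwa [e.symm_fwd, e.img_symm hc.1] at h2

theorem push_hyperfocal [Finite S] (e : Iso S S') :
    im e.fwd (F.hyperfocalSubgroup p) ≤ (push e F).hyperfocalSubgroup p := by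
  have : Finite S' := e.finite
  have hH : F.hyperfocalSubgroup p ≤ S := by
    refine (Subgroup.closure_le _).2 ?_
    rintro _ ⟨P, α, x, hP, -, rfl⟩
    exact S.mul_mem (S.inv_mem (hP x.2)) (hP (SetLike.coe_mem _))
  let K : Subgroup Ω :=
    { carrier := {x | x ∈ S ∧ e.fwd x ∈ (push e F).hyperfocalSubgroup p}
      one_mem' := ⟨S.one_mem, by rw [e.to_one]; exact Subgroup.one_mem _⟩
      mul_mem' := fun {a b} ha hb => ⟨S.mul_mem ha.1 hb.1, by
        rw [e.to_mul a ha.1 b hb.1]; exact Subgroup.mul_mem _ ha.2 hb.2⟩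
      inv_mem' := fun {a} ha => ⟨S.inv_mem ha.1, by
        rw [e.to_map_inv ha.1]; exact Subgroup.inv_mem _ ha.2⟩ }
  suffices F.hyperfocalSubgroup p ≤ K from im_le fun x hx => (this hx).2
  refine (Subgroup.closure_le _).2 ?_
  rintro _ ⟨P, α, x, hP, hα, rfl⟩
  have hfP : Finite P := finite_of_le hP
  refine ⟨S.mul_mem (S.inv_mem (hP x.2)) (hP (SetLike.coe_mem _)), ?_⟩
  have hex : ∀ a : F.autGroup P, ∃ b : (push e F).autGroup (im e.fwd P),
      ∀ y ∈ P, autFun (b : MulAut (im e.fwd P : Subgroup Ω')) (e.fwd y) = e.fwd (autFun (a : MulAut P) y) := fun a => by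
    obtain ⟨b, hb, hbe⟩ := exists_aut_push e hP a.2
    exact ⟨⟨b, hb⟩, hbe⟩
  choose ψ hψ using hex
  have huniq : ∀ (b b' : (push e F).autGroup (im e.fwd P)),
      (∀ y ∈ P, autFun (b : MulAut (im e.fwd P : Subgroup Ω')) (e.fwd y) =
        autFun (b' : MulAut (im e.fwd P : Subgroup Ω')) (e.fwd y)) → b = b' := by
    intro b b' hbb
    refine Subtype.ext (autFun_ext fun z hz => ?_)
    obtain ⟨y, hy, rfl⟩ := (e.mem_img hP).1 hz
    exact hbb y hy
  let Ψ : F.autGroup P →* (push e F).autGroup (im e.fwd P) :=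
    MonoidHom.mk' ψ fun a b => huniq _ _ fun y hy => by
      rw [hψ _ y hy, Subgroup.coe_mul, Subgroup.coe_mul, autFun_mul, autFun_mul, hψ b y hy,
        hψ a _ (autFun_mem _ hy)]
  have hres : Ψ α ∈ pResidual p ((push e F).autGroup (im e.fwd P)) := by
    have : (pResidual p (F.autGroup P)).map Ψ ≤ pResidual p ((push e F).autGroup (im e.fwd P)) := by
      rw [pResidual, MonoidHom.map_closure, Subgroup.closure_le]
      rintro _ ⟨a, ha, rfl⟩
      exact Subgroup.subset_closure (Nat.Coprime.coprime_dvd_left (orderOf_map_dvd Ψ a) ha)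
    exact this ⟨α, hα, rfl⟩
  refine Subgroup.subset_closure ⟨im e.fwd P, Ψ α, ⟨e.fwd x, mem_im_self _ x.2⟩, e.img_le hP, hres, ?_⟩
  rw [e.to_mul _ (S.inv_mem (hP x.2)) _ (hP (SetLike.coe_mem _)), e.to_map_inv (hP x.2),
    ← autFun_apply, ← autFun_apply]
  show _ = (e.fwd (x : Ω))⁻¹ * autFun (ψ α : MulAut (im e.fwd P : Subgroup Ω')) (e.fwd (x : Ω))
  rw [hψ α x x.2]

theorem quot_le {Ω₀ : Type*} [Group Ω₀] {Ω₁ : Type*} [Group Ω₁] {R : Subgroup Ω₀} {R' : Subgroup Ω₁}
    [Finite S] [Finite S'] {F' : FusionSystem S'} {Z : Subgroup Ω} {Z' : Subgroup Ω'}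
    {θ : S →* Ω₀} {θ' : S' →* Ω₁} {E : FusionSystem R} {E' : FusionSystem R'}
    (hq : IsQuot F Z θ E) (hq' : IsQuot F' Z' θ' E') (e : Iso S S') (hFF : push e F ≤ F')
    (ψ : Iso R R') (hcomp : ∀ x ∈ S, along θ' (e.fwd x) = ψ.fwd (along θ x)) :
    push ψ E ≤ E' := by
  refine le_of_isMap fun P' f' hf' => ?_
  obtain ⟨hP', hS'', hm⟩ := (isMap_push_iff ψ).1 hf'
  obtain ⟨h, hh, hrel⟩ := hq.lift _ _ hm
  have hh' := isMap_mono hFF (isMap_push e hh)
  have hd : im e.fwd (preimageAlong θ (im ψ.bwd P')) = preimageAlong θ' P' := by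
    refine le_antisymm (im_le fun x hx => ?_) fun y hy => ?_
    · obtain ⟨hxS, hx'⟩ := mem_preimageAlong.1 hx
      refine mem_preimageAlong.2 ⟨e.to_mem x hxS, ?_⟩
      rw [hcomp x hxS]
      obtain ⟨z, hz, hze⟩ := (ψ.symm.mem_img hP').1 hx'
      rw [← hze, Iso.symm_fwd, ψ.to_inv z (hP' hz)]
      exact hz
    · obtain ⟨hyS, hy'⟩ := mem_preimageAlong.1 hy
      rw [← e.to_inv y hyS]
      refine mem_im_self _ (mem_preimageAlong.2 ⟨e.inv_mem y hyS, ?_⟩)
      have := mem_im_self ψ.bwd hy'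
      rwa [← e.to_inv y hyS, hcomp _ (e.inv_mem y hyS),
        ψ.inv_to _ (along_mem hq.range_eq (e.inv_mem y hyS))] at this
  rw [hd] at hh'
  obtain ⟨f'', hf'', hrel'⟩ := hq'.descend P' _ hP' hh'
  refine hf''.congr fun y hy => ?_
  obtain ⟨u, hu, rfl⟩ := exists_along_eq hq'.range_eq (hP' hy)
  have hupre : u ∈ preimageAlong θ' P' := mem_preimageAlong.2 ⟨hu, hy⟩
  rw [hrel' u hupre]
  rw [← hd] at hupre
  obtain ⟨x, hx, rfl⟩ := (e.mem_img (preimageAlong_le _)).1 hupre
  obtain ⟨hxS, hx'⟩ := mem_preimageAlong.1 hx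
  rw [e.inv_to x hxS, hcomp _ (hh.mem hx), ← hrel x hx]
  have hz : ψ.fwd (along θ x) ∈ P' := by rw [← hcomp x hxS]; exact hy
  rw [ψ.to_inv _ (hS'' _ hz), hcomp x hxS]

theorem push_quasisimple [Finite S] [Fact p.Prime] (hS : IsPGroup p S) (e : Iso S S')
    (h : F.Quasisimple p) : (push e F).Quasisimple p := by
  obtain ⟨hF, hhyp, hsimp⟩ := h
  have : Finite S' := e.finite
  refine ⟨push_saturated e hS hF, le_antisymm ?_ ?_, fun E' hE' => ?_⟩
  · refine (Subgroup.closure_le _).2 ?_
    rintro _ ⟨P, α, x, hP, -, rfl⟩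
    exact S'.mul_mem (S'.inv_mem (hP x.2)) (hP (SetLike.coe_mem _))
  · have h1 := push_hyperfocal (p := p) (F := F) e
    rwa [hhyp, e.img_self] at h1
  set Z := F.center with hZdef
  set Z' := (push e F).center with hZ'def
  have hsc : F.StronglyClosed Z := normal_stronglyClosed (central_normal center_isCentral)
  have hsc' : (push e F).StronglyClosed Z' := normal_stronglyClosed (central_normal center_isCentral)
  set θ := QuotientGroup.mk' (Z.subgroupOf S)
  set θ' := QuotientGroup.mk' (Z'.subgroupOf S')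
  have hk : ∀ s : S, θ s = 1 ↔ (s : Ω) ∈ Z := fun s => by
    rw [QuotientGroup.mk'_apply, QuotientGroup.eq_one_iff, Subgroup.mem_subgroupOf]
  obtain ⟨E, hE⟩ := Fusion.FactorExists.exists_factorSystem (F := F) hsc hk
    (MonoidHom.range_eq_top.2 (QuotientGroup.mk'_surjective _))
  have hq := isQuot_of_factorSystem hsc hE
  have hq' := isQuot_of_factorSystem hsc' hE'
  let eM : S ≃* S' :=
    { toFun := fun x => ⟨e.fwd x, e.to_mem x x.2⟩
      invFun := fun y => ⟨e.bwd y, e.inv_mem y y.2⟩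
      left_inv := fun x => Subtype.ext (e.inv_to x x.2)
      right_inv := fun y => Subtype.ext (e.to_inv y y.2)
      map_mul' := fun x y => Subtype.ext (e.to_mul x x.2 y y.2) }
  have hZimg : (Z.subgroupOf S).map eM.toMonoidHom = Z'.subgroupOf S' := by
    ext y
    rw [Subgroup.mem_subgroupOf, hZ'def, ← push_center e]
    constructor
    · rintro ⟨x, hx, rfl⟩
      exact mem_im_self e.fwd hx
    · intro hy
      obtain ⟨x, hx, hxy⟩ := (e.mem_img hsc.1).1 hy
      exact ⟨⟨x, hsc.1 hx⟩, hx, Subtype.ext hxy⟩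
  let q := QuotientGroup.congr (Z.subgroupOf S) (Z'.subgroupOf S') eM hZimg
  let ψ : Iso (⊤ : Subgroup (S ⧸ Z.subgroupOf S)) (⊤ : Subgroup (S' ⧸ Z'.subgroupOf S')) :=
    ⟨q, q.symm, fun _ _ => trivial, fun _ _ => trivial, fun x _ y _ => map_mul q x y,
      fun x _ => q.symm_apply_apply x, fun y _ => q.apply_symm_apply y⟩
  have hcomp : ∀ x ∈ S, along θ' (e.fwd x) = ψ.fwd (along θ x) := by
    intro x hx
    rw [along_of_mem θ' (e.to_mem x hx), along_of_mem θ hx]
    rfl
  have hEq : push ψ E = E' := by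
    refine fs_ext_le (quot_le hq hq' e (le_of_isMap fun _ _ h => h) ψ hcomp) ?_
    have hFF : push e.symm (push e F) ≤ F := by rw [push_push]; exact le_of_isMap fun _ _ h => h
    have h1 := push_mono ψ (quot_le hq' hq e.symm hFF ψ.symm fun y hy => by
      rw [e.symm_fwd, ψ.symm_fwd]
      conv_rhs => rw [← e.to_inv y hy, hcomp _ (e.inv_mem y hy)]
      rw [ψ.inv_to _ (Subgroup.mem_top _)])
    have h3 : push ψ (push ψ.symm E') = E' := push_push ψ.symm E'
    rwa [h3] at h1
  rw [← hEq]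
  have := hq.finite
  exact push_isSimple ψ (hq.isPGroup hS) (hsimp E hE)

end Quasisimple

/-- A factor system modulo the trivial group along an isomorphism is the transported system. -/
theorem factor_bot [Finite S] {F : FusionSystem S} {θ : S →* Ω'} {E : FusionSystem S'}
    (hE : F.IsFactorSystem ⊥ θ E) (e : Iso S S') (he : ∀ x : S, e.fwd x = θ x) :
    push e F = E := by
  have : Finite S' := e.finite
  have hsc : F.StronglyClosed (⊥ : Subgroup Ω) := normal_stronglyClosed isNormal_bot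
  have hq := isQuot_of_factorSystem hsc hE
  have hq₀ := isQuot_push e F
  let idI : ∀ {Ω₂ : Type v} [Group Ω₂] (R : Subgroup Ω₂), Iso R R := fun R =>
    ⟨id, id, fun _ h => h, fun _ h => h, fun _ _ _ _ => rfl, fun _ _ => rfl, fun _ _ => rfl⟩
  let idS : Iso S S :=
    ⟨id, id, fun _ h => h, fun _ h => h, fun _ _ _ _ => rfl, fun _ _ => rfl, fun _ _ => rfl⟩
  have himid : ∀ {Ω₂ : Type u} [Group Ω₂] (P : Subgroup Ω₂), im id P = P := fun P => by
    simp [im, Subgroup.closure_eq]
  have hidS : push idS F ≤ F := le_of_isMap fun P f hf => by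
    obtain ⟨-, -, hm⟩ := (isMap_push_iff idS).1 hf
    exact isMap_of_eq (himid P) hm
  have hθ : ∀ x ∈ S, along θ x = e.fwd x := fun x hx => by
    rw [along_of_mem θ hx]; exact (he ⟨x, hx⟩).symm
  have himid' : ∀ P : Subgroup Ω', im id P = P := fun P => by simp [im, Subgroup.closure_eq]
  have key : ∀ D : FusionSystem S', D ≤ push (idI S') D := fun D => le_of_isMap fun P f hf =>
    (isMap_push_iff _).2 ⟨hf.le, fun x hx => hf.mem hx, isMap_of_eq (himid' P).symm hf⟩
  have hal : ∀ x ∈ S, along (MonoidHom.mk' (fun x : S => e.fwd x)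
      fun x y => e.to_mul x x.2 y y.2 : S →* Ω') x = e.fwd x := fun x hx => along_of_mem _ hx
  refine fs_ext_le ?_ ?_
  · refine fun P φ hφ => quot_le hq₀ hq idS hidS (idI S') (fun x hx => ?_) P (key _ P hφ)
    show along θ x = along _ x
    rw [hθ x hx, hal x hx]
  · refine fun P φ hφ => quot_le hq hq₀ idS hidS (idI S') (fun x hx => ?_) P (key _ P hφ)
    show along _ x = along θ x
    rw [hθ x hx, hal x hx]

end Cfsg.Agent.Components.FusionComponent
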