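import Cfsg.Agent.Lib.Components.Balance
import Cfsg.Agent.Lib.Components.Hyperplane

/-!
Glauberman's lemma for the signalizer functor theorem: a `q'`-subgroup `U` of a solvable `p'`-group `K`
such that `⁅U, C_K(B)⁆` is a `q'`-group for every hyperplane `B` of `A` lies in `O_{q'}(K)`.
-/

set_option autoImplicit false

namespace Cfsg.Agent.Components.GlaubermanLemma

open Subgroup
open Cfsg.Agent.Components.Basic Cfsg.Agent.Components.Fitting Cfsg.Agent.Components.PComponents

universe u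

variable {G : Type u} [Group G]

lemma le_map_pPrimeCore_of_commutator {p q : ℕ} [Finite G] [hp : Fact p.Prime] [hq : Fact q.Prime]
    {A K U : Subgroup G} (hA : Cfsg.IsElementaryAbelian p A) (hA2 : p ^ 2 ≤ Nat.card A)
    (hK : ¬ p ∣ Nat.card K) (hKs : Group.IsSolvable K) (hAK : A ≤ normalizer (K : Set G))
    (hUK : U ≤ K) (hUq : ¬ q ∣ Nat.card U)
    (hcomm : ∀ B : Subgroup G, B ≤ A → B.relIndex A = p →
      ¬ q ∣ Nat.card ↥⁅U, K ⊓ centralizer (B : Set G)⁆) :
    U ≤ (Cfsg.pPrimeCore q K).map K.subtype := by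
  set f := QuotientGroup.mk' (Cfsg.pPrimeCore q K) with hf
  set V := Cfsg.pCore q (↥K ⧸ Cfsg.pPrimeCore q K) with hV
  set W := (V.comap f).map K.subtype with hW
  have hWK : W ≤ K := map_subtype_le _
  have hWn : K ≤ normalizer (W : Set G) := by
    refine le_normalizer_of_normal_subgroupOf (hK := ?_) hWK
    rw [subgroupOf, hW, comap_map_eq_self_of_injective K.subtype_injective]
    infer_instance
  have hAW : A ≤ normalizer (W : Set G) := by
    intro a ha
    let e : ↥K ≃* ↥K :=
      { toFun := fun k => ⟨a * (k : G) * a⁻¹, (mem_normalizer_iff.mp (hAK ha) k).mp k.2⟩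
        invFun := fun k => ⟨a⁻¹ * (k : G) * a, by
          have := (mem_normalizer_iff.mp (inv_mem (hAK ha)) k).mp k.2
          rwa [inv_inv] at this⟩
        left_inv := fun k => by ext; simp [mul_assoc]
        right_inv := fun k => by ext; simp [mul_assoc]
        map_mul' := fun k l => by ext; simp [mul_assoc] }
    have hchar : (V.comap f).map e.toMonoidHom = V.comap f := by
      have hR := Cores.map_pPrimeCore_eq e q
      let eb : ↥K ⧸ Cfsg.pPrimeCore q K ≃* ↥K ⧸ Cfsg.pPrimeCore q K := QuotientGroup.congr _ _ e hR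
      ext k
      constructor
      · rintro ⟨l, hl, rfl⟩
        show f (e l) ∈ V
        rw [hV, ← Cores.map_pCore_eq eb q]
        exact ⟨f l, hl, QuotientGroup.congr_mk _ _ e hR l⟩
      · intro hk
        refine ⟨e.symm k, ?_, e.apply_symm_apply k⟩
        show f (e.symm k) ∈ V
        rw [hV, ← Cores.map_pCore_eq eb.symm q]
        refine ⟨f k, hk, ?_⟩
        rw [MulEquiv.coe_toMonoidHom, MulEquiv.symm_apply_eq]
        show f k = eb (f (e.symm k))
        refine (Eq.trans ?_ (QuotientGroup.congr_mk _ _ e hR (e.symm k)).symm)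
        show f k = f (e (e.symm k))
        rw [e.apply_symm_apply]
    rw [mem_normalizer_iff]
    intro x
    constructor
    · rintro ⟨l, hl, rfl⟩
      exact ⟨e l, hchar.le ⟨l, hl, rfl⟩, rfl⟩
    · rintro ⟨l, hl, hlx⟩
      obtain ⟨m, hm, rfl⟩ := hchar.ge hl
      refine ⟨m, hm, ?_⟩
      have hlx' : a * (m : G) * a⁻¹ = a * x * a⁻¹ := hlx
      exact mul_left_cancel (mul_right_cancel hlx')
  have hWp : ¬ p ∣ Nat.card W := fun h => hK (h.trans (card_dvd_of_le hWK))
  -- the image of `U` centralizes `V`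
  have hcent : V ≤ centralizer (((U.subgroupOf K).map f : Subgroup _) : Set _) := by
    have hV' : V = (W.subgroupOf K).map f := by
      rw [subgroupOf, hW, comap_map_eq_self_of_injective K.subtype_injective,
        map_comap_eq_self_of_surjective (QuotientGroup.mk'_surjective _)]
    set S := (centralizer (((U.subgroupOf K).map f : Subgroup _) : Set _)).comap f with hS
    suffices h : W ≤ S.map K.subtype by
      rw [hV', Subgroup.map_le_iff_le_comap]
      intro w hw
      obtain ⟨s, hs, hsw⟩ := h (mem_subgroupOf.mp hw)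
      rwa [← Subtype.ext hsw]
    rw [Hyperplane.eq_iSup_hyperplane hA hA2 hWp hAW]
    refine iSup_le fun B => ?_
    rintro w ⟨hwW, hwB⟩
    refine ⟨⟨w, hWK hwW⟩, ?_, rfl⟩
    show f ⟨w, hWK hwW⟩ ∈ centralizer _
    rw [mem_centralizer_iff]
    rintro _ ⟨u, hu, rfl⟩
    set c : ↥K := u * ⟨w, hWK hwW⟩ * u⁻¹ * (⟨w, hWK hwW⟩)⁻¹ with hc
    have h1 : (c : G) ∈ ⁅U, K ⊓ centralizer ((B : Subgroup G) : Set G)⁆ := by
      simpa [hc, commutatorElement_def] using
        commutator_mem_commutator (mem_subgroupOf.mp hu) (mem_inf.mpr ⟨hWK hwW, hwB⟩)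
    have h2 : f c ∈ V := by
      rw [hV']
      refine ⟨c, mem_subgroupOf.mpr ?_, rfl⟩
      exact W.mul_mem ((mem_normalizer_iff.mp (hWn u.2) w).mp hwW) (W.inv_mem hwW)
    obtain ⟨k, hk⟩ := Cores.pCore_isPGroup q (⟨f c, h2⟩ : V)
    have h3 : orderOf (f c) ∣ q ^ k := orderOf_dvd_of_pow_eq_one (congrArg Subtype.val hk)
    have h4 : (orderOf (f c)).Coprime q := by
      refine Nat.Coprime.coprime_dvd_left (orderOf_map_dvd f c) ?_
      rw [← Subgroup.orderOf_coe]
      exact Local.coprime_orderOf_of_mem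
        (hq.out.coprime_iff_not_dvd.mpr (hcomm _ B.2.1 B.2.2)).symm h1
    have h5 : f c = 1 := orderOf_eq_one_iff.mp (Nat.eq_one_of_dvd_coprimes (h4.pow_right k) dvd_rfl h3)
    rwa [hc, map_mul, map_mul, map_mul, map_inv, map_inv, mul_inv_eq_one, mul_inv_eq_iff_eq_mul] at h5
  have hQ : centralizer (V : Set _) ≤ V := by
    have : Group.IsSolvable (↥K ⧸ Cfsg.pPrimeCore q K) :=
      Group.isSolvable_of_surjective (QuotientGroup.mk'_surjective _)
    have h := centralizer_genFitting_le (G := ↥K ⧸ Cfsg.pPrimeCore q K)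
    rwa [Cfsg.generalizedFittingSubgroup, Balance.layer_eq_bot_of_isSolvable, bot_sup_eq,
      fitting_eq_pCore (Cores.pPrimeCore_quotient_self q)] at h
  intro u hu
  refine ⟨⟨u, hUK hu⟩, ?_, rfl⟩
  have hfu : f ⟨u, hUK hu⟩ ∈ V :=
    hQ (le_centralizer_iff.mp hcent ⟨_, mem_subgroupOf.mpr hu, rfl⟩)
  obtain ⟨k, hk⟩ := Cores.pCore_isPGroup q (⟨_, hfu⟩ : V)
  refine (QuotientGroup.eq_one_iff _).mp (orderOf_eq_one_iff.mp (?_ : orderOf (f ⟨u, hUK hu⟩) = 1))
  refine Nat.eq_one_of_dvd_coprimes (Nat.Coprime.pow_right k ?_) dvd_rfl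
    (orderOf_dvd_of_pow_eq_one (congrArg Subtype.val hk))
  refine Nat.Coprime.coprime_dvd_left (orderOf_map_dvd f _) ?_
  rw [← Subgroup.orderOf_coe]
  exact Local.coprime_orderOf_of_mem (hq.out.coprime_iff_not_dvd.mpr hUq).symm hu

end Cfsg.Agent.Components.GlaubermanLemma
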