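/-
A virtually free group built from a finite family of partial isomorphisms of a finite group `S`
(the fundamental group of a graph of groups with one vertex), realised as pairs
(reduced edge path, permutation) inside `FreeGroup E ⋊ Perm S`.
-/
import Mathlib
import Cfsg.Prelude.Def_FusionSystem

set_option autoImplicit false
set_option linter.all false

open Cfsg Cfsg.FusionSystem

namespace Cfsg.Agent.Components.GraphGroup

universe u

/-! ### Regular representations and partial isomorphisms -/

theorem exists_equivariant {S : Type u} [Group S] [Finite S] (P : Subgroup S) (ψ : P →* S)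
    (hψ : Function.Injective ψ) :
    ∃ σ : Equiv.Perm S, ∀ (x : P) (y : S), σ ((x : S) * y) = ψ x * σ y := by
  obtain ⟨T, hT, -⟩ := Subgroup.exists_isComplement_right P 1
  obtain ⟨T', hT', -⟩ := Subgroup.exists_isComplement_right ψ.range 1
  have hc : Nat.card T = Nat.card T' := by
    have h1 := hT.card_mul
    have h2 := hT'.card_mul
    have h3 : Nat.card ψ.range = Nat.card P := (Nat.card_congr (MonoidHom.ofInjective hψ).toEquiv).symm
    simp only [SetLike.coe_sort_coe] at h1 h2
    rw [h3, ← h1] at h2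
    exact (Nat.eq_of_mul_eq_mul_left Nat.card_pos h2).symm
  obtain ⟨f⟩ := Finite.card_eq.1 hc
  let eP : ↥(P : Set S) × T ≃ S := Equiv.ofBijective _ hT
  let eQ : ↥(ψ.range : Set S) × T' ≃ S := Equiv.ofBijective _ hT'
  let m : ↥(P : Set S) × T ≃ ↥(ψ.range : Set S) × T' :=
    (MonoidHom.ofInjective hψ).toEquiv.prodCongr f
  refine ⟨(eP.symm.trans m).trans eQ, fun x y => ?_⟩
  obtain ⟨⟨a, t⟩, rfl⟩ := eP.surjective y
  have : (x : S) * eP (a, t) = eP (x * a, t) := by
    show (x : S) * ((a : S) * (t : S)) = ((x * a : P) : S) * (t : S)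
    rw [Subgroup.coe_mul, mul_assoc]
  rw [this]
  show eQ (m (eP.symm (eP (x * a, t)))) = ψ x * eQ (m (eP.symm (eP (a, t))))
  rw [Equiv.symm_apply_apply, Equiv.symm_apply_apply]
  show ψ (x * a) * (f t : S) = ψ x * (ψ a * (f t : S))
  rw [map_mul, mul_assoc]

variable {Ω : Type u} [Group Ω] {S : Subgroup Ω}

/-- The maps of the system. -/
abbrev Idx (F : FusionSystem S) : Type u := Σ P : Subgroup Ω, {φ : P →* Ω // φ ∈ F.Hom P}

variable {F : FusionSystem S}

/-- The left regular representation of `S`. -/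
def rho : ↥S →* Equiv.Perm ↥S := MulAction.toPermHom ↥S ↥S

theorem rho_injective : Function.Injective (rho (S := S)) := fun a b h => by
  simpa [rho] using congr($h 1)

theorem idx_le (i : Idx F) : i.1 ≤ S := (F.le_of_mem i.2.2).1

theorem idx_mem (i : Idx F) (x : i.1) : i.2.1 x ∈ S := (F.le_of_mem i.2.2).2 x

/-- A map of the system with values in `S`. -/
def idxHom (i : Idx F) : ↥(i.1.subgroupOf S) →* ↥S :=
  (i.2.1.codRestrict S (idx_mem i)).comp (Subgroup.subgroupOfEquivOfLe (idx_le i)).toMonoidHom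

theorem idxHom_injective (i : Idx F) : Function.Injective (idxHom i) := fun a b h =>
  (Subgroup.subgroupOfEquivOfLe (idx_le i)).injective
    (F.injective_of_mem i.2.2 (congrArg Subtype.val h))

variable [Finite S]

/-- A permutation inducing the map. -/
noncomputable def sig (i : Idx F) : Equiv.Perm ↥S :=
  (exists_equivariant _ (idxHom i) (idxHom_injective i)).choose

theorem sig_spec (i : Idx F) (x : i.1) :
    rho (⟨i.2.1 x, idx_mem i x⟩ : ↥S) * sig i = sig i * rho (⟨x, idx_le i x.2⟩ : ↥S) := by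
  ext1 y
  exact ((exists_equivariant _ (idxHom i) (idxHom_injective i)).choose_spec
    ⟨⟨x, idx_le i x.2⟩, x.2⟩ y).symm

/-- The stabiliser of an edge. -/
def edgeStab (i : Idx F) : Subgroup (Equiv.Perm ↥S) :=
  (rho.comp (i.2.1.codRestrict S (idx_mem i))).range

variable (F) in
/-- The edges. -/
abbrev Edge : Type u := Σ i : Idx F, Equiv.Perm ↥S ⧸ edgeStab i

variable (S) in
/-- The vertices. -/
abbrev Vert : Type u := Equiv.Perm ↥S ⧸ (rho (S := S)).range

variable (S) in
/-- The base vertex. -/
def v0 : Vert S := QuotientGroup.mk 1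

/-- The action on edges. -/
def eact (τ : Equiv.Perm ↥S) (e : Edge F) : Edge F := ⟨e.1, τ • e.2⟩

theorem eact_one (e : Edge F) : eact 1 e = e := by simp [eact]

theorem eact_mul (τ τ' : Equiv.Perm ↥S) (e : Edge F) : eact (τ * τ') e = eact τ (eact τ' e) := by
  obtain ⟨i, q⟩ := e
  exact congrArg (Sigma.mk i) (mul_smul τ τ' q)

/-- The action on edges as permutations. -/
def eperm (τ : Equiv.Perm ↥S) : Equiv.Perm (Edge F) where
  toFun := eact τ
  invFun := eact τ⁻¹
  left_inv e := by rw [← eact_mul, inv_mul_cancel, eact_one]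
  right_inv e := by rw [← eact_mul, mul_inv_cancel, eact_one]

/-- Source. -/
noncomputable def src (e : Edge F) : Vert S :=
  Quotient.liftOn' e.2 (fun τ => (QuotientGroup.mk τ : Vert S)) fun a b h => by
    rw [QuotientGroup.eq]
    rw [QuotientGroup.leftRel_apply] at h
    obtain ⟨x, hx⟩ := h
    exact ⟨_, hx⟩

/-- Target. -/
noncomputable def tgt (e : Edge F) : Vert S :=
  Quotient.liftOn' e.2 (fun τ => (QuotientGroup.mk (τ * sig e.1) : Vert S)) fun a b h => by
    rw [QuotientGroup.eq]
    rw [QuotientGroup.leftRel_apply] at h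
    obtain ⟨x, hx⟩ := h
    have hx' : rho (⟨e.1.2.1 x, idx_mem e.1 x⟩ : ↥S) = a⁻¹ * b := hx
    refine ⟨⟨x, idx_le e.1 x.2⟩, ?_⟩
    calc rho (⟨x, idx_le e.1 x.2⟩ : ↥S)
        = (sig e.1)⁻¹ * (sig e.1 * rho (⟨x, idx_le e.1 x.2⟩ : ↥S)) := by group
      _ = (a * sig e.1)⁻¹ * (b * sig e.1) := by rw [← sig_spec, hx']; group

theorem src_eact (τ : Equiv.Perm ↥S) (e : Edge F) : src (eact τ e) = τ • src e := by
  obtain ⟨i, q⟩ := e
  induction q using QuotientGroup.induction_on with
  | _ a => rfl

theorem tgt_eact (τ : Equiv.Perm ↥S) (e : Edge F) : tgt (eact τ e) = τ • tgt e := by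
  obtain ⟨i, q⟩ := e
  induction q using QuotientGroup.induction_on with
  | _ a =>
    show (QuotientGroup.mk (τ * a * sig i) : Vert S) = QuotientGroup.mk (τ * (a * sig i))
    rw [mul_assoc]

/-- A letter: an oriented edge. -/
abbrev Letter (F : FusionSystem S) : Type u := Edge F × Bool

/-- Head of a letter. -/
noncomputable def hd (a : Letter F) : Vert S := cond a.2 (src a.1) (tgt a.1)

/-- Tail of a letter. -/
noncomputable def tl (a : Letter F) : Vert S := cond a.2 (tgt a.1) (src a.1)

/-- Opposite letter. -/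
def opp (a : Letter F) : Letter F := (a.1, !a.2)

/-- The action on letters. -/
def lact (τ : Equiv.Perm ↥S) (a : Letter F) : Letter F := (eact τ a.1, a.2)

theorem lact_one (a : Letter F) : lact 1 a = a := by simp [lact, eact_one]

theorem lact_mul (τ τ' : Equiv.Perm ↥S) (a : Letter F) :
    lact (τ * τ') a = lact τ (lact τ' a) := by simp [lact, eact_mul]

theorem lact_injective (τ : Equiv.Perm ↥S) : Function.Injective (lact (F := F) τ) := by
  intro a b h
  simpa [← lact_mul, lact_one] using congrArg (lact τ⁻¹) h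

theorem hd_opp (a : Letter F) : hd (opp a) = tl a := by obtain ⟨e, b⟩ := a; cases b <;> rfl

theorem tl_opp (a : Letter F) : tl (opp a) = hd a := by obtain ⟨e, b⟩ := a; cases b <;> rfl

theorem hd_lact (τ : Equiv.Perm ↥S) (a : Letter F) : hd (lact τ a) = τ • hd a := by
  obtain ⟨e, b⟩ := a; cases b <;> simp [hd, lact, src_eact, tgt_eact]

theorem tl_lact (τ : Equiv.Perm ↥S) (a : Letter F) : tl (lact τ a) = τ • tl a := by
  obtain ⟨e, b⟩ := a; cases b <;> simp [tl, lact, src_eact, tgt_eact]

/-! ### Paths -/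

/-- `L` is a path from `v` to `v'`. -/
def IsPath : Vert S → List (Letter F) → Vert S → Prop
  | v, [], v' => v = v'
  | v, a :: L, v' => hd a = v ∧ IsPath (tl a) L v'

theorem isPath_append {v v' : Vert S} {L M : List (Letter F)} :
    IsPath v (L ++ M) v' ↔ ∃ w, IsPath v L w ∧ IsPath w M v' := by
  induction L generalizing v with
  | nil => simp [IsPath]
  | cons a L ih => simp [IsPath, ih, and_assoc]

theorem isPath_map {v v' : Vert S} {L : List (Letter F)} (τ : Equiv.Perm ↥S)
    (h : IsPath v L v') : IsPath (τ • v) (L.map (lact τ)) (τ • v') := by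
  induction L generalizing v with
  | nil => simp only [IsPath] at h; simp [IsPath, h]
  | cons a L ih =>
    refine ⟨by rw [hd_lact, h.1], ?_⟩
    rw [tl_lact]
    exact ih h.2

theorem isPath_invRev {v v' : Vert S} {L : List (Letter F)} (h : IsPath v L v') :
    IsPath v' (FreeGroup.invRev L) v := by
  induction L generalizing v with
  | nil => simp only [IsPath] at h; simp [IsPath, h]
  | cons a L ih =>
    rw [FreeGroup.invRev_cons, isPath_append]
    refine ⟨tl a, ih h.2, ?_⟩
    show hd (opp a) = tl a ∧ tl (opp a) = v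
    exact ⟨hd_opp a, by rw [tl_opp, h.1]⟩

theorem isPath_red {v v' : Vert S} {L M : List (Letter F)} (hr : FreeGroup.Red L M)
    (h : IsPath v L v') : IsPath v M v' := by
  induction hr with
  | refl => exact h
  | tail _ hs ih =>
    cases hs with
    | @not L₁ L₂ x b =>
      rw [isPath_append] at ih ⊢
      obtain ⟨w, h1, h2, h3, h4⟩ := ih
      refine ⟨w, h1, ?_⟩
      cases b <;> simp_all [hd, tl]

/-! ### The free group and its automorphisms -/

variable (F) in
/-- The action on the free group. -/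
def act : Equiv.Perm ↥S →* MulAut (FreeGroup (Edge F)) where
  toFun τ := FreeGroup.freeGroupCongr (eperm τ)
  map_one' := by
    ext x
    show FreeGroup.map (eact (F := F) 1) x = x
    rw [show eact (F := F) 1 = fun z => z from funext eact_one]
    exact FreeGroup.map.id' x
  map_mul' τ τ' := by
    ext x
    show FreeGroup.map (eact (F := F) (τ * τ')) x = FreeGroup.map (eact τ) (FreeGroup.map (eact τ') x)
    rw [FreeGroup.map.comp]
    exact congrArg (fun f => FreeGroup.map f x) (funext fun e => eact_mul τ τ' e)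

theorem act_mk (τ : Equiv.Perm ↥S) (L : List (Letter F)) :
    act F τ (FreeGroup.mk L) = FreeGroup.mk (L.map (lact τ)) := rfl

variable [DecidableEq (Edge F)]

theorem toWord_act (τ : Equiv.Perm ↥S) (w : FreeGroup (Edge F)) :
    (act F τ w).toWord = w.toWord.map (lact τ) := by
  conv_lhs => rw [← FreeGroup.mk_toWord (x := w), act_mk, FreeGroup.toWord_mk]
  apply FreeGroup.IsReduced.reduce_eq
  show List.IsChain _ _
  rw [List.isChain_map]
  refine List.IsChain.imp (fun a b hab h => hab ?_) FreeGroup.isReduced_toWord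
  exact (eperm τ).injective h

variable (F) in
/-- The graph group. -/
noncomputable def graphGroup :
    Subgroup (FreeGroup (Edge F) ⋊[act F] Equiv.Perm ↥S) where
  carrier := {g | IsPath (v0 S) g.left.toWord (g.right • v0 S)}
  one_mem' := by
    show IsPath (F := F) (v0 S) (FreeGroup.toWord 1) ((1 : Equiv.Perm ↥S) • v0 S)
    rw [FreeGroup.toWord_one, one_smul]
    rfl
  mul_mem' {a b} ha hb := by
    show IsPath _ (a.left * act F a.right b.left).toWord _
    rw [FreeGroup.toWord_mul, toWord_act]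
    refine isPath_red FreeGroup.reduce.red ?_
    rw [isPath_append]
    refine ⟨a.right • v0 S, ha, ?_⟩
    have := isPath_map a.right hb
    rwa [← mul_smul, ← SemidirectProduct.mul_right] at this
  inv_mem' {a} ha := by
    show IsPath _ (act F a.right⁻¹ a.left⁻¹).toWord _
    rw [toWord_act, FreeGroup.toWord_inv]
    have := isPath_map a.right⁻¹ (isPath_invRev ha)
    rw [inv_smul_smul] at this
    exact this

theorem mem_graphGroup {g : FreeGroup (Edge F) ⋊[act F] Equiv.Perm ↥S} :
    g ∈ graphGroup F ↔ IsPath (v0 S) g.left.toWord (g.right • v0 S) := Iff.rfl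

theorem rho_smul (s : ↥S) : rho s • v0 S = v0 S := by
  show (QuotientGroup.mk (rho s * 1) : Vert S) = QuotientGroup.mk 1
  rw [QuotientGroup.eq]
  exact ⟨s⁻¹, by simp⟩

theorem exists_of_smul_v0 {σ : Equiv.Perm ↥S} (h : σ • v0 S = v0 S) : ∃ s : ↥S, rho s = σ := by
  have h' : (QuotientGroup.mk (σ * 1) : Vert S) = QuotientGroup.mk 1 := h
  rw [QuotientGroup.eq] at h'
  obtain ⟨s, hs⟩ := h'
  exact ⟨s⁻¹, by rw [map_inv, hs]; simp⟩

variable (F) in
/-- The embedding of `S`. -/
noncomputable def iota : ↥S →* graphGroup F :=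
  ((SemidirectProduct.inr : Equiv.Perm ↥S →* FreeGroup (Edge F) ⋊[act F] Equiv.Perm ↥S).comp
    rho).codRestrict (graphGroup F) fun s => by
      rw [mem_graphGroup]
      simp [IsPath, rho_smul]

/-- The word of an element. -/
noncomputable def word (g : graphGroup F) : List (Letter F) := g.1.left.toWord

/-- The permutation of an element. -/
noncomputable def perm (g : graphGroup F) : Equiv.Perm ↥S := g.1.right

theorem perm_mul (g h : graphGroup F) : perm (g * h) = perm g * perm h := rfl

theorem word_mul (g h : graphGroup F) :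
    word (g * h) = FreeGroup.reduce (word g ++ (word h).map (lact (perm g))) := by
  show (g.1.left * act F g.1.right h.1.left).toWord = _
  rw [FreeGroup.toWord_mul, toWord_act]
  rfl

theorem word_one : word (1 : graphGroup F) = [] := by
  show FreeGroup.toWord (1 : FreeGroup (Edge F)) = []
  rw [FreeGroup.toWord_one]

theorem word_isPath (g : graphGroup F) : IsPath (v0 S) (word g) (perm g • v0 S) := g.2

/-! ### Fusion -/

/-- The stable letter of a map. -/
noncomputable def stab (i : Idx F) : graphGroup F :=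
  ⟨⟨FreeGroup.of ⟨i, QuotientGroup.mk 1⟩, sig i⟩, by
    rw [mem_graphGroup, FreeGroup.toWord_of]
    refine ⟨rfl, ?_⟩
    show (QuotientGroup.mk (1 * sig i) : Vert S) = QuotientGroup.mk (sig i * 1)
    simp⟩

theorem stab_conj (i : Idx F) (x : i.1) :
    iota F ⟨i.2.1 x, idx_mem i x⟩ = stab i * iota F ⟨x, idx_le i x.2⟩ * (stab i)⁻¹ := by
  rw [eq_mul_inv_iff_mul_eq]
  apply Subtype.ext
  refine SemidirectProduct.ext ?_ ?_
  · show 1 * act F (rho (⟨i.2.1 x, idx_mem i x⟩ : ↥S)) (FreeGroup.of ⟨i, QuotientGroup.mk 1⟩) =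
      FreeGroup.of ⟨i, QuotientGroup.mk 1⟩ * act F (sig i) 1
    rw [map_one, one_mul, mul_one]
    show FreeGroup.freeGroupCongr (eperm _) (FreeGroup.of (⟨i, QuotientGroup.mk 1⟩ : Edge F)) = _
    refine (FreeGroup.map.of (f := eact _)).trans (congrArg FreeGroup.of ?_)
    refine congrArg (Sigma.mk i) ?_
    show (QuotientGroup.mk (_ * 1) : Equiv.Perm ↥S ⧸ edgeStab i) = QuotientGroup.mk 1
    rw [QuotientGroup.eq]
    refine ⟨x⁻¹, ?_⟩
    simp only [MonoidHom.comp_apply, map_inv, mul_one]
    rfl
  · exact sig_spec i x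

/-- One step along an edge: if the inverse-translated map is in the system, so is the map. -/
theorem edge_step {P : Subgroup Ω} (hP : P ≤ S) (φ : P →* Ω) (hφ : ∀ x, φ x ∈ S)
    (a : Letter F) (h0 : hd a = v0 S)
    (hfix : ∀ x : P, lact (rho ⟨φ x, hφ x⟩) a = a) :
    ∃ (g : Equiv.Perm ↥S) (φ' : P →* Ω) (hφ' : ∀ x, φ' x ∈ S), tl a = g • v0 S ∧
      (∀ x : P, rho ⟨φ x, hφ x⟩ * g = g * rho ⟨φ' x, hφ' x⟩) ∧
      (φ' ∈ F.Hom P → φ ∈ F.Hom P) := by
  obtain ⟨⟨i, q⟩, b⟩ := a
  induction q using QuotientGroup.induction_on with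
  | _ τ =>
  have hfix' : ∀ x : P, ∃ u : i.1,
      rho (⟨i.2.1 u, idx_mem i u⟩ : ↥S) = τ⁻¹ * rho ⟨φ x, hφ x⟩ * τ := by
    intro x
    have h := congrArg Prod.fst (hfix x)
    have h2 : (QuotientGroup.mk (rho ⟨φ x, hφ x⟩ * τ) : Equiv.Perm ↥S ⧸ edgeStab i) =
        QuotientGroup.mk τ := eq_of_heq (Sigma.mk.inj h).2
    obtain ⟨u, hu⟩ := QuotientGroup.eq.1 h2.symm
    refine ⟨u, ?_⟩
    rw [mul_assoc]
    exact hu
  cases b with
  | true =>
    have h0' : τ • v0 S = v0 S := by
      show (QuotientGroup.mk (τ * 1) : Vert S) = _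
      rw [mul_one]; exact h0
    obtain ⟨s, rfl⟩ := exists_of_smul_v0 h0'
    have hu : ∀ x : P, ∃ u : i.1, i.2.1 u = (s : Ω)⁻¹ * φ x * s := by
      intro x
      obtain ⟨u, hu⟩ := hfix' x
      rw [← map_inv, ← map_mul, ← map_mul] at hu
      exact ⟨u, congrArg Subtype.val (rho_injective hu)⟩
    let χ : P →* Ω := (MulAut.conj (s : Ω)⁻¹).toMonoidHom.comp φ
    have hχ : ∀ x, χ x ∈ i.2.1.range := fun x => by
      obtain ⟨u, hu⟩ := hu x
      exact ⟨u, by rw [hu]; simp [χ, MulAut.conj_apply]⟩
    obtain ⟨ψ, hψ, hψ'⟩ := F.inv_mem i.2.2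
    have hψv : ∀ u : i.1, ψ ⟨i.2.1 u, ⟨u, rfl⟩⟩ = (u : Ω) := hψ'
    let φ' : P →* Ω := ψ.comp (χ.codRestrict _ hχ)
    have hP' : ∀ x, φ' x ∈ i.1 := fun x => by
      obtain ⟨u, hu⟩ := hχ x
      have : φ' x = ψ ⟨i.2.1 u, ⟨u, rfl⟩⟩ := congrArg ψ (Subtype.ext hu.symm)
      rw [this, hψv u]
      exact u.2
    have hval : ∀ x, i.2.1 ⟨φ' x, hP' x⟩ = χ x := fun x => by
      obtain ⟨u, hu⟩ := hχ x
      have : φ' x = (u : Ω) := (congrArg ψ (Subtype.ext hu.symm)).trans (hψv u)
      rw [← hu]
      congr 1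
      exact Subtype.ext this
    refine ⟨rho s * sig i, φ', fun x => idx_le i (hP' x), ?_, fun x => ?_, fun h => ?_⟩
    · show (QuotientGroup.mk (rho s * sig i) : Vert S) = QuotientGroup.mk (rho s * sig i * 1)
      rw [mul_one]
    · rw [mul_assoc (rho s), ← sig_spec i ⟨φ' x, hP' x⟩, ← mul_assoc, ← mul_assoc, ← map_mul,
        ← map_mul]
      congr 2
      apply Subtype.ext
      show φ x * s = s * i.2.1 ⟨φ' x, hP' x⟩
      rw [hval x]
      simp [χ, MulAut.conj_apply, mul_assoc]
    · have h1 := F.comp_mem h i.2.2 hP'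
      have h2 : ∀ x, (i.2.1.comp (φ'.codRestrict i.1 hP')) x ∈ S := fun x => idx_mem i _
      have h3 := F.comp_mem h1 (F.conj_mem le_rfl s.2) h2
      convert h3 using 1
      ext x
      show φ x = (s : Ω) * i.2.1 ⟨φ' x, hP' x⟩ * (s : Ω)⁻¹
      rw [hval x]
      simp [χ, MulAut.conj_apply, mul_assoc]
  | false =>
    have h0' : (τ * sig i) • v0 S = v0 S := by
      show (QuotientGroup.mk (τ * sig i * 1) : Vert S) = _
      rw [mul_one]; exact h0
    obtain ⟨s, hs⟩ := exists_of_smul_v0 h0'
    have hu : ∀ x : P, ∃ u : i.1, rho (⟨i.2.1 u, idx_mem i u⟩ : ↥S) = τ⁻¹ * rho ⟨φ x, hφ x⟩ * τ ∧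
        (u : Ω) = (s : Ω)⁻¹ * φ x * s := by
      intro x
      obtain ⟨u, hu⟩ := hfix' x
      refine ⟨u, hu, ?_⟩
      have h1 := sig_spec i u
      rw [hu] at h1
      have h2 : rho (⟨u, idx_le i u.2⟩ : ↥S) = rho (s⁻¹ * ⟨φ x, hφ x⟩ * s) := by
        rw [map_mul, map_mul, map_inv, hs, eq_comm]
        calc (τ * sig i)⁻¹ * rho ⟨φ x, hφ x⟩ * (τ * sig i)
            = (sig i)⁻¹ * (τ⁻¹ * rho ⟨φ x, hφ x⟩ * τ * sig i) := by group
          _ = rho (⟨u, idx_le i u.2⟩ : ↥S) := by rw [h1]; group
      exact congrArg Subtype.val (rho_injective h2)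
    let χ : P →* Ω := (MulAut.conj (s : Ω)⁻¹).toMonoidHom.comp φ
    have hχe : ∀ x, χ x = (s : Ω)⁻¹ * φ x * s := fun x => by simp [χ, MulAut.conj_apply]
    have hχ : ∀ x, χ x ∈ i.1 := fun x => by
      obtain ⟨u, -, hu⟩ := hu x
      rw [hχe, ← hu]; exact u.2
    let φ' : P →* Ω := i.2.1.comp (χ.codRestrict i.1 hχ)
    refine ⟨τ, φ', fun x => idx_mem i _, ?_, fun x => ?_, fun h => ?_⟩
    · show (QuotientGroup.mk τ : Vert S) = QuotientGroup.mk (τ * 1)
      rw [mul_one]
    · obtain ⟨u, hu1, hu2⟩ := hu x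
      have hux : u = ⟨χ x, hχ x⟩ := Subtype.ext (hu2.trans (hχe x).symm)
      subst hux
      show _ = τ * rho (⟨i.2.1 ⟨χ x, hχ x⟩, idx_mem i _⟩ : ↥S)
      rw [hu1]
      group
    · obtain ⟨ψ, hψ, hψ'⟩ := F.inv_mem i.2.2
      have hr : ∀ x, φ' x ∈ i.2.1.range := fun x => ⟨_, rfl⟩
      have h1 := F.comp_mem h hψ hr
      have hv : ∀ x, (ψ.comp (φ'.codRestrict _ hr)) x = χ x := fun x => hψ' ⟨χ x, hχ x⟩
      have h2 : ∀ x, (ψ.comp (φ'.codRestrict _ hr)) x ∈ S := fun x => by
        rw [hv x]; exact idx_le i (hχ x)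
      have h3 := F.comp_mem h1 (F.conj_mem le_rfl s.2) h2
      convert h3 using 1
      ext x
      show φ x = (s : Ω) * (ψ.comp (φ'.codRestrict _ hr)) x * (s : Ω)⁻¹
      rw [hv x, hχe x]
      group

theorem mem_of_fixed_path {P : Subgroup Ω} (hP : P ≤ S) :
    ∀ (L : List (Letter F)) (σ : Equiv.Perm ↥S) (φ : P →* Ω) (hφ : ∀ x, φ x ∈ S),
      IsPath (v0 S) L (σ • v0 S) →
      (∀ x : P, rho ⟨φ x, hφ x⟩ * σ = σ * rho (⟨(x : Ω), hP x.2⟩ : ↥S)) →
      (∀ x : P, L.map (lact (rho ⟨φ x, hφ x⟩)) = L) → φ ∈ F.Hom P := by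
  intro L
  induction hn : L.length generalizing L with
  | zero =>
    intro σ φ hφ hp hc _
    obtain rfl := List.length_eq_zero_iff.1 hn
    obtain ⟨s, rfl⟩ := exists_of_smul_v0 (Eq.symm hp)
    have : φ = conjHom P (s : Ω) := by
      ext x
      have h := hc x
      rw [← map_mul, ← map_mul] at h
      have h' : φ x * (s : Ω) = (s : Ω) * x := congrArg Subtype.val (rho_injective h)
      show φ x = (s : Ω) * x * (s : Ω)⁻¹
      rw [← h']; group
    rw [this]
    exact F.conj_mem hP s.2
  | succ n ih =>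
    intro σ φ hφ hp hc hfix
    obtain ⟨a, L', rfl⟩ : ∃ a L', L = a :: L' := by
      cases L with
      | nil => simp at hn
      | cons a L' => exact ⟨a, L', rfl⟩
    obtain ⟨g, φ', hφ', ht, hg, himp⟩ :=
      edge_step hP φ hφ a hp.1 fun x => (List.cons.inj (hfix x)).1
    refine himp (ih (L'.map (lact g⁻¹)) (by simpa using hn) (g⁻¹ * σ) φ' hφ' ?_ (fun x => ?_)
      fun x => ?_)
    · have h := hp.2
      rw [ht] at h
      have h' := isPath_map g⁻¹ h
      rw [inv_smul_smul, ← mul_smul] at h'
      exact h'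
    · calc rho ⟨φ' x, hφ' x⟩ * (g⁻¹ * σ) = g⁻¹ * (g * rho ⟨φ' x, hφ' x⟩) * (g⁻¹ * σ) := by group
        _ = g⁻¹ * (rho ⟨φ x, hφ x⟩ * σ) := by rw [← hg]; group
        _ = g⁻¹ * σ * rho (⟨(x : Ω), hP x.2⟩ : ↥S) := by rw [hc x]; group
    · have h := (List.cons.inj (hfix x)).2
      conv_rhs => rw [← h]
      rw [List.map_map, List.map_map]
      refine List.map_congr_left fun b _ => ?_
      simp only [Function.comp_apply, ← lact_mul]
      congr 1
      calc rho ⟨φ' x, hφ' x⟩ * g⁻¹ = g⁻¹ * (g * rho ⟨φ' x, hφ' x⟩) * g⁻¹ := by group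
        _ = g⁻¹ * rho ⟨φ x, hφ x⟩ := by rw [← hg]; group

theorem isRealizedBy_iota : F.IsRealizedBy (iota F) := by
  refine ⟨fun a b h => rho_injective (congrArg (fun g : graphGroup F => g.1.right) h),
    fun P hP φ hφ => ⟨fun h => ?_, ?_⟩⟩
  · exact ⟨stab ⟨P, φ, h⟩, fun x => stab_conj ⟨P, φ, h⟩ x⟩
  · rintro ⟨g, hg⟩
    refine mem_of_fixed_path hP (word g) (perm g) φ hφ (word_isPath g) (fun x => ?_) fun x => ?_
    · have h := hg x
      rw [eq_mul_inv_iff_mul_eq] at h
      exact congrArg (fun g : graphGroup F => g.1.right) h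
    · have h := hg x
      rw [eq_mul_inv_iff_mul_eq] at h
      have h2 : 1 * act F (rho ⟨φ x, hφ x⟩) g.1.left = g.1.left * act F g.1.right 1 :=
        congrArg (fun g : graphGroup F => g.1.left) h
      rw [map_one, one_mul, mul_one] at h2
      show g.1.left.toWord.map _ = g.1.left.toWord
      rw [← toWord_act, h2]

/-! ### Finite subgroups -/

theorem opp_lact (τ : Equiv.Perm ↥S) (a : Letter F) : opp (lact τ a) = lact τ (opp a) := rfl

theorem opp_opp (a : Letter F) : opp (opp a) = a := by simp [opp]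

theorem isReduced_append {L M : List (Letter F)} (hL : FreeGroup.IsReduced L)
    (hM : FreeGroup.IsReduced M) (h : ∀ x ∈ L.getLast?, ∀ y ∈ M.head?, y ≠ opp x) :
    FreeGroup.IsReduced (L ++ M) := by
  refine List.IsChain.append hL hM fun x hx y hy hxy => ?_
  by_contra hne
  exact h x hx y hy (Prod.ext hxy.symm (Bool.eq_not_of_ne (Ne.symm hne)))

theorem isReduced_word (g : graphGroup F) : FreeGroup.IsReduced (word g) :=
  FreeGroup.isReduced_toWord

theorem isReduced_map {L : List (Letter F)} (τ : Equiv.Perm ↥S) (h : FreeGroup.IsReduced L) :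
    FreeGroup.IsReduced (L.map (lact τ)) := by
  show List.IsChain _ _
  rw [List.isChain_map]
  exact List.IsChain.imp (fun a b hab hh => hab ((eperm τ).injective hh)) h

theorem word_mul_of_reduced (g h : graphGroup F)
    (hne : ∀ x ∈ (word g).getLast?, ∀ y ∈ ((word h).map (lact (perm g))).head?, y ≠ opp x) :
    word (g * h) = word g ++ (word h).map (lact (perm g)) := by
  rw [word_mul]
  exact (isReduced_append (isReduced_word g) (isReduced_map _ (isReduced_word h)) hne).reduce_eq

/-- In an element of finite order the last letter undoes the translate of the first one. -/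
theorem last_eq {g : graphGroup F} (hg : IsOfFinOrder g) {a x : Letter F}
    (ha : (word g).head? = some a) (hx : (word g).getLast? = some x) :
    x = lact (perm g) (opp a) := by
  by_contra hne
  have key : ∀ n : ℕ, (word (g ^ (n + 1))).head? = some a := by
    intro n
    induction n with
    | zero => simpa using ha
    | succ n ih =>
      rw [pow_succ', word_mul_of_reduced, List.head?_append, ha]
      · rfl
      · intro x' hx' y hy
        rw [hx, Option.mem_some_iff] at hx'
        rw [List.head?_map, ih, Option.map_some, Option.mem_some_iff] at hy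
        subst hx' hy
        intro h
        exact hne (by rw [← opp_lact, h, opp_opp])
  obtain ⟨m, hm⟩ : ∃ m, orderOf g = m + 1 :=
    ⟨orderOf g - 1, (Nat.succ_pred_eq_of_pos hg.orderOf_pos).symm⟩
  have := key m
  rw [← hm, pow_orderOf_eq_one, word_one] at this
  simp at this

theorem head_eq {g h : graphGroup F} (hg : IsOfFinOrder g) (hgh : IsOfFinOrder (g * h))
    (hh : IsOfFinOrder h) {a b : Letter F}
    (ha : (word g).head? = some a) (hb : (word h).head? = some b) : a = b := by
  by_contra hne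
  have hne0 : word g ≠ [] := fun h0 => by simp [h0] at ha
  have hne1 : word h ≠ [] := fun h0 => by simp [h0] at hb
  have hx := List.getLast?_eq_some_getLast hne0
  have hy := List.getLast?_eq_some_getLast hne1
  have hx' := last_eq hg ha hx
  have hy' := last_eq hh hb hy
  have hw : word (g * h) = word g ++ (word h).map (lact (perm g)) := by
    apply word_mul_of_reduced
    intro x hxm y hym
    rw [hx, Option.mem_some_iff] at hxm
    rw [List.head?_map, hb, Option.map_some, Option.mem_some_iff] at hym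
    rw [← hxm, ← hym, hx', opp_lact, opp_opp]
    exact fun h => hne (lact_injective _ h).symm
  have h1 : (word (g * h)).head? = some a := by rw [hw, List.head?_append, ha]; rfl
  have h2 : (word (g * h)).getLast? = some (lact (perm (g * h)) (opp b)) := by
    rw [hw, List.getLast?_append, List.getLast?_map, hy, hy', perm_mul, lact_mul]
    rfl
  have h3 := lact_injective _ (last_eq hgh h1 h2)
  exact hne (by rw [← opp_opp a, ← h3, opp_opp])

theorem fixed_of_empty {g h : graphGroup F} (hgh : IsOfFinOrder (g * h)) (hh : IsOfFinOrder h)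
    (hhgh : IsOfFinOrder (h * (g * h))) {a : Letter F} (h0 : word g = []) (ha : (word h).head? = some a) :
    lact (perm g) a = a := by
  have hw : word (g * h) = (word h).map (lact (perm g)) := by
    rw [word_mul_of_reduced, h0, List.nil_append]
    simp [h0]
  have h1 : (word (g * h)).head? = some (lact (perm g) a) := by
    rw [hw, List.head?_map, ha]; rfl
  exact (head_eq hh hhgh hgh ha h1).symm

variable {H : Type u} [Group H] [Finite H]

/-- The total length of a finite family. -/
noncomputable def total (f : H →* graphGroup F) : ℕ :=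
  letI := Fintype.ofFinite H
  ∑ h, (word (f h)).length

theorem exists_conj_mem_range (f : H →* graphGroup F) :
    ∃ g : graphGroup F, ∀ h : H, g * f h * g⁻¹ ∈ (iota F).range := by
  let := Fintype.ofFinite H
  induction hn : total f using Nat.strong_induction_on generalizing f with
  | _ n ih =>
  by_cases hall : ∀ h, word (f h) = []
  · refine ⟨1, fun h => ?_⟩
    have hp := word_isPath (f h)
    rw [hall h] at hp
    obtain ⟨s, hs⟩ := exists_of_smul_v0 (Eq.symm hp)
    refine ⟨s, ?_⟩
    rw [one_mul, inv_one, mul_one]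
    apply Subtype.ext
    exact SemidirectProduct.ext (FreeGroup.toWord_eq_nil_iff.1 (hall h)).symm hs
  push_neg at hall
  obtain ⟨k, hk⟩ := hall
  obtain ⟨a, ha⟩ : ∃ a, (word (f k)).head? = some a := ⟨_, List.head?_eq_some_head hk⟩
  have hfin : ∀ h, IsOfFinOrder (f h) := fun h => f.isOfFinOrder (isOfFinOrder_of_finite h)
  have hhead : ∀ h, word (f h) ≠ [] → (word (f h)).head? = some a := by
    intro h hh
    have hb := List.head?_eq_some_head hh
    rw [hb, head_eq (hfin h) (by rw [← map_mul]; exact hfin _) (hfin k) hb ha]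
  have hempty : ∀ h, word (f h) = [] → lact (perm (f h)) a = a := by
    intro h hh
    exact fixed_of_empty (by rw [← map_mul]; exact hfin (h * k)) (hfin k)
      (by rw [← map_mul, ← map_mul]; exact hfin _) hh ha
  obtain ⟨L, hL⟩ : ∃ L, word (f k) = a :: L := by
    cases hw : word (f k) with
    | nil => exact absurd hw hk
    | cons b L =>
      rw [hw, List.head?_cons, Option.some.injEq] at ha
      exact ⟨L, by rw [ha]⟩
  have hpa : hd a = v0 S := by
    have := word_isPath (f k)
    rw [hL] at this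
    exact this.1
  obtain ⟨τ, hτ⟩ : ∃ τ : Equiv.Perm ↥S, tl a = τ • v0 S := by
    obtain ⟨τ, hτ⟩ := QuotientGroup.mk_surjective (tl a)
    refine ⟨τ, ?_⟩
    show tl a = QuotientGroup.mk (τ * 1)
    rw [mul_one, hτ]
  let c : graphGroup F := ⟨⟨FreeGroup.mk [a], τ⟩, by
    rw [mem_graphGroup, FreeGroup.toWord_mk, (FreeGroup.IsReduced.singleton).reduce_eq]
    exact ⟨hpa, hτ⟩⟩
  let f' : H →* graphGroup F := (MulAut.conj c⁻¹).toMonoidHom.comp f
  have hleft : ∀ h, (f' h).1.left = act F τ⁻¹
      ((FreeGroup.mk [a])⁻¹ * (f h).1.left * act F (perm (f h)) (FreeGroup.mk [a])) := by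
    intro h
    have e : f' h = c⁻¹ * f h * c := by
      show c⁻¹ * f h * c⁻¹⁻¹ = _
      rw [inv_inv]
    rw [e]
    show act F τ⁻¹ (FreeGroup.mk [a])⁻¹ * act F τ⁻¹ (f h).1.left *
      act F (τ⁻¹ * perm (f h)) (FreeGroup.mk [a]) = _
    rw [map_mul (act F τ⁻¹) (_ * _), map_mul (act F τ⁻¹), map_mul (act F), MulAut.mul_apply]
  have hle : ∀ h, (word (f' h)).length ≤ (word (f h)).length ∧
      (word (f h) ≠ [] → (word (f' h)).length < (word (f h)).length) := by
    intro h
    show (f' h).1.left.toWord.length ≤ _ ∧ (_ → (f' h).1.left.toWord.length < _)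
    rw [hleft, toWord_act, List.length_map]
    by_cases hh : word (f h) = []
    · have h1 : (f h).1.left = 1 := FreeGroup.toWord_eq_nil_iff.1 hh
      refine ⟨?_, fun hne => absurd hh hne⟩
      rw [h1, act_mk, List.map_cons, List.map_nil, hempty h hh, mul_one, inv_mul_cancel,
        FreeGroup.toWord_one]
      exact Nat.zero_le _
    · suffices hlt : ((FreeGroup.mk [a])⁻¹ * (f h).1.left *
          act F (perm (f h)) (FreeGroup.mk [a])).toWord.length < (word (f h)).length from
        ⟨hlt.le, fun _ => hlt⟩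
      obtain ⟨M, hM⟩ : ∃ M, word (f h) = a :: M := by
        cases hw : word (f h) with
        | nil => exact absurd hw hh
        | cons b M =>
          have h1 := hhead h hh
          rw [hw, List.head?_cons, Option.some.injEq] at h1
          exact ⟨M, by rw [h1]⟩
      rcases eq_or_ne M [] with rfl | hM0
      · have hl := last_eq (hfin h) (a := a) (x := a) (by rw [hM]; rfl) (by rw [hM]; rfl)
        have := congrArg Prod.snd hl
        simp [opp, lact] at this
      obtain ⟨M', x, rfl⟩ : ∃ M' x, M = M' ++ [x] :=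
        ⟨_, _, (List.dropLast_append_getLast hM0).symm⟩
      have hl := last_eq (hfin h) (a := a) (x := x) (by rw [hM]; rfl)
        (by rw [hM, ← List.cons_append, List.getLast?_concat])
      have hw : (f h).1.left = FreeGroup.mk [a] * FreeGroup.mk M' * FreeGroup.mk [x] := by
        rw [← FreeGroup.mk_toWord (x := (f h).1.left)]
        show FreeGroup.mk (word (f h)) = _
        rw [hM, FreeGroup.mul_mk, FreeGroup.mul_mk]
        rfl
      have hx : FreeGroup.mk [x] = (act F (perm (f h)) (FreeGroup.mk [a]))⁻¹ := by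
        rw [act_mk, FreeGroup.inv_mk, hl]
        rfl
      rw [hw, hx, show (FreeGroup.mk [a])⁻¹ * (FreeGroup.mk [a] * FreeGroup.mk M' *
        (act F (perm (f h)) (FreeGroup.mk [a]))⁻¹) * act F (perm (f h)) (FreeGroup.mk [a]) =
          FreeGroup.mk M' from by group, FreeGroup.toWord_mk, hM]
      have h2 : (FreeGroup.reduce M').length ≤ M'.length :=
        FreeGroup.Red.length_le FreeGroup.reduce.red
      simp only [List.length_cons, List.length_append, List.length_nil]
      omega
  have hlt : total f' < n := by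
    rw [← hn]
    exact Finset.sum_lt_sum (fun h _ => (hle h).1) ⟨k, Finset.mem_univ _, (hle k).2 hk⟩
  obtain ⟨g, hg⟩ := ih _ hlt f' rfl
  refine ⟨g * c⁻¹, fun h => ?_⟩
  have := hg h
  rwa [show g * f' h * g⁻¹ = g * c⁻¹ * f h * (g * c⁻¹)⁻¹ by
    show g * (c⁻¹ * f h * c⁻¹⁻¹) * g⁻¹ = _
    group] at this

/-! ### The free normal subgroup -/

variable (F) in
/-- The projection to the permutation group. -/
noncomputable def proj : graphGroup F →* Equiv.Perm ↥S :=
  SemidirectProduct.rightHom.comp (graphGroup F).subtype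

theorem isFreeGroup_ker : IsFreeGroup (proj F).ker := by
  let θ : (proj F).ker →* FreeGroup (Edge F) :=
    { toFun := fun g => g.1.1.left
      map_one' := rfl
      map_mul' := fun g h => by
        show g.1.1.left * act F g.1.1.right h.1.1.left = _
        rw [show g.1.1.right = 1 from g.2, map_one]
        rfl }
  have hθ : Function.Injective θ := fun g h he =>
    Subtype.ext (Subtype.ext (SemidirectProduct.ext he (g.2.trans h.2.symm)))
  exact IsFreeGroup.ofMulEquiv (MonoidHom.ofInjective hθ).symm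

theorem index_ker_dvd : (proj F).ker.index ∣ (Nat.card ↥S).factorial := by
  rw [Subgroup.index_ker, ← Nat.card_perm]
  exact Subgroup.card_subgroup_dvd_card _

end Cfsg.Agent.Components.GraphGroup
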