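import Cfsg.Agent.Lib.Components.LocalFix
import Cfsg.Agent.Lib.Components.PComponentCriterion
import Cfsg.Agent.Lib.ZStar.Main
import Cfsg.Agent.Techniques.Alperin.Radical
import Cfsg.Agent.Lib.Coprime.PGroup

/-!
A perfect group generated by 2-elements that centralizes a Sylow 2-subgroup of a group `D` with
`O(D) = 1` centralizes `D`: Glauberman's consequence of the `Z*`-theorem, proved with the theorem
of Alperin and Goldschmidt.
-/

set_option autoImplicit false
set_option linter.style.haveILetI false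
set_option linter.unusedSectionVars false

namespace Cfsg.Agent.Components.SylowCentralizer

open Subgroup
open scoped commutatorElement
open Cfsg.Agent.CharP Cfsg.Agent.Techniques.Alperin Cfsg.Agent.Techniques.Alperin.Radical

universe u

variable {G : Type u} [Group G] [Finite G]

/-- A `p`-group `T` acting on a section `W / Q ≠ 1` of itself fixes a nontrivial element. -/
lemma exists_fixed_step {p : ℕ} [Fact p.Prime] {T W Q : Subgroup G} (hT : IsPGroup p T) (hQW : Q < W)
    (hWT : W ≤ T) (hTW : T ≤ normalizer (W : Set G)) (hTQ : T ≤ normalizer (Q : Set G)) :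
    ∃ s ∈ W, s ∉ Q ∧ ∀ t ∈ T, ⁅t, s⁆ ∈ Q := by
  set N := normalizer (Q : Set G)
  set q := QuotientGroup.mk' (Q.subgroupOf N)
  haveI hnil : Group.IsNilpotent ↥((T.subgroupOf N).map q) := ((hT.comap_subtype (K := N)).map q).isNilpotent
  set Tb := (T.subgroupOf N).map q
  set Wb := (W.subgroupOf N).map q
  have hWb : Wb ≠ ⊥ := by
    intro h
    refine hQW.not_ge fun w hw => ?_
    have h1 : q ⟨w, hTQ (hWT hw)⟩ ∈ Wb := ⟨⟨w, hTQ (hWT hw)⟩, hw, rfl⟩
    rw [h, Subgroup.mem_bot] at h1
    exact mem_subgroupOf.mp ((QuotientGroup.eq_one_iff (N := Q.subgroupOf N) _).mp h1)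
  have hTWb : Tb ≤ normalizer (Wb : Set _) :=
    (Subgroup.map_mono ((comap_mono hTW).trans (le_normalizer_comap N.subtype))).trans (le_normalizer_map q)
  obtain ⟨X, hXW, ⟨hX, hTX⟩, hmin⟩ := Basic.exists_minimal_le
    (fun X : Subgroup (↥N ⧸ Q.subgroupOf N) => X ≠ ⊥ ∧ Tb ≤ normalizer (X : Set _)) (H := Wb) ⟨hWb, hTWb⟩
  have hlt := @Coprime.commutator_lt_of_isNilpotent _ _ X Tb hnil
    (hXW.trans (Subgroup.map_mono (comap_mono hWT))) hX hTX
  have hbot : ⁅X, Tb⁆ = ⊥ := by
    by_contra hne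
    exact hlt.ne (hmin _ hlt.le ⟨hne, normalizer_commutator_ge_right X Tb⟩)
  obtain ⟨x, hxX, hx1⟩ := (Subgroup.ne_bot_iff_exists_ne_one.mp hX) |> fun ⟨x, hx⟩ =>
    (⟨x, x.2, fun h => hx (Subtype.ext h)⟩ : ∃ x, x ∈ X ∧ x ≠ 1)
  obtain ⟨⟨w, hwN⟩, hw, rfl⟩ := hXW hxX
  refine ⟨w, hw, fun h => hx1 ((QuotientGroup.eq_one_iff (N := Q.subgroupOf N) _).mpr h), fun t ht => ?_⟩
  have h1 : ⁅q ⟨w, hwN⟩, q ⟨t, hTQ ht⟩⁆ = 1 := by
    have h := commutator_mem_commutator hxX (show q ⟨t, hTQ ht⟩ ∈ Tb from ⟨_, ht, rfl⟩)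
    rwa [hbot, Subgroup.mem_bot] at h
  rw [← map_commutatorElement] at h1
  have h2 : ⁅w, t⁆ ∈ Q := (QuotientGroup.eq_one_iff (N := Q.subgroupOf N) _).mp h1
  rw [← commutatorElement_inv]
  exact Q.inv_mem h2

/-- A 2-element in `R O` with `R` a 2-group and `O` of odd order centralizing it lies in `R`. -/
lemma mem_of_mem_sup {R O : Subgroup G} (hR : IsPGroup 2 R) (hO : (Nat.card O).Coprime 2)
    (hRO : O ≤ centralizer (R : Set G)) {s : G} {m : ℕ} (hs : s ^ 2 ^ m = 1) (h : s ∈ R ⊔ O) :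
    s ∈ R := by
  have h' : s ∈ (↑(R ⊔ O) : Set G) := h
  rw [coe_mul_of_right_le_normalizer_left _ _ (hRO.trans (centralizer_le_normalizer _))] at h'
  obtain ⟨r, hr, k, hk, rfl⟩ := h'
  suffices k = 1 by simpa [this] using hr
  have hc : Commute r k := mem_centralizer_iff.mp (hRO hk) r hr
  rw [hc.mul_pow] at hs
  have hk2 : k ^ 2 ^ m ∈ R := by
    rw [← inv_eq_of_mul_eq_one_right hs]
    exact R.inv_mem (R.pow_mem hr _)
  obtain ⟨i, hi⟩ := IsPGroup.iff_orderOf.mp hR ⟨_, hk2⟩
  rw [orderOf_mk] at hi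
  have h1 : k ^ 2 ^ m = 1 := orderOf_eq_one_iff.mp (Nat.eq_one_of_dvd_coprimes
    (hO.symm.pow_left i) (hi ▸ dvd_rfl) (orderOf_dvd_natCard _ (O.pow_mem hk _)))
  exact orderOf_eq_one_iff.mp (Nat.eq_one_of_dvd_coprimes (hO.symm.pow_left m)
    (orderOf_dvd_of_pow_eq_one h1) (orderOf_dvd_natCard _ hk))

/-- `C` has a central Sylow 2-subgroup inside `Q` modulo a normal subgroup of odd order. -/
def CentralSylowIn (Q C : Subgroup G) : Prop :=
  ∃ K ≤ C, C ≤ normalizer (K : Set G) ∧ (Nat.card K).Coprime 2 ∧ C ≤ Q ⊔ K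

/-- For a centric radical `R ∋ u` of `D⟨u⟩`, the centralizer in `D` of `R ∩ D` has a central Sylow
2-subgroup modulo the core. -/
lemma centralSylow_of_isCR {D S : Subgroup G} [D.Normal] {u : G} (hu : u * u = 1)
    (huS : u ∈ centralizer (S : Set G)) (hS : S ≤ D) (P : Sylow 2 G)
    (hP : (P : Subgroup G) = S ⊔ zpowers u) {R : Subgroup G} (hR : IsCR 2 (P : Subgroup G) R)
    (huR : u ∈ R) : R ⊓ D ≤ S ⊔ zpowers u ∧
      CentralSylowIn (R ⊓ D) (centralizer ((R ⊓ D : Subgroup G) : Set G) ⊓ D) := by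
  haveI : Fact (Nat.Prime 2) := ⟨Nat.prime_two⟩
  set Q := R ⊓ D with hQ
  set N := normalizer (R : Set G) with hN
  have hRT : R ≤ S ⊔ zpowers u := hP ▸ hR.fn.le
  refine ⟨inf_le_left.trans hRT, ?_⟩
  have hTu : S ⊔ zpowers u ≤ centralizer ({u} : Set G) := sup_le
    (fun s hs => mem_centralizer_singleton_iff.mpr (mem_centralizer_iff.mp huS s hs))
    (zpowers_le.mpr (mem_centralizer_singleton_iff.mpr rfl))
  have huS' : zpowers u ≤ normalizer (S : Set G) :=
    (zpowers_le.mpr huS).trans (centralizer_le_normalizer _)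
  have hRQ : R ≤ Q ⊔ zpowers u := by
    intro r hr
    have h : r ∈ (↑(S ⊔ zpowers u) : Set G) := hRT hr
    rw [coe_mul_of_right_le_normalizer_left _ _ huS'] at h
    obtain ⟨s, hs, v, hv, rfl⟩ := h
    refine mul_mem_sup ⟨?_, hS hs⟩ hv
    simpa using R.mul_mem hr (R.inv_mem (zpowers_le.mpr huR hv))
  have hR2 : IsPGroup 2 R := P.isPGroup'.to_le hR.fn.le
  -- `C_D(Q) ∩ N(R)` centralizes `u`
  have hY : ∀ y ∈ D, y ∈ centralizer (Q : Set G) → y ∈ N → y * u = u * y := by
    set k0 := kOf 2 N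
    set Q' := Q.subgroupOf N
    haveI : Q'.Normal := by
      refine normal_subgroupOf_of_le_normalizer (le_trans ?_ inf_normalizer_le_normalizer_inf)
      exact le_inf le_rfl le_normalizer_of_normal
    set Y' := centralizer (Q' : Set ↥N) ⊓ D.subgroupOf N with hY'
    haveI : Y'.Normal := inferInstance
    set q := QuotientGroup.mk' (Cfsg.pPrimeCore 2 ↥N)
    have hp : IsPGroup 2 (Y'.map q) := by
      rintro ⟨_, y, hy, rfl⟩
      obtain ⟨hyQ, hyD⟩ := hy
      set z := ⁅(y : G), u⁆ with hz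
      have hzQ : z ∈ Q := by
        refine ⟨?_, ?_⟩
        · exact R.mul_mem ((mem_normalizer_iff.mp y.2 u).mp huR) (R.inv_mem huR)
        · rw [hz, commutatorElement_def, show (y : G) * u * (y : G)⁻¹ * u⁻¹ =
            y * (u * (y : G)⁻¹ * u⁻¹) by group]
          exact D.mul_mem hyD (Normal.conj_mem inferInstance _ (D.inv_mem hyD) u)
      have hzy : (y : G) * z = z * y := by
        have hzN : z ∈ N := le_normalizer hzQ.1
        exact (congrArg Subtype.val
          (mem_centralizer_iff.mp hyQ ⟨z, hzN⟩ (mem_subgroupOf.mpr hzQ))).symm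
      have hzu : z * u = u * z :=
        mem_centralizer_singleton_iff.mp (hTu (hRT hzQ.1))
      have hyu : (y : G) * u * (y : G)⁻¹ = z * u := by rw [hz, commutatorElement_def]; group
      have hz2 : z * z = 1 := by
        have h1 : (z * u) * (z * u) = 1 := by
          rw [← hyu, show (y : G) * u * (y : G)⁻¹ * ((y : G) * u * (y : G)⁻¹) =
            (y : G) * (u * u) * (y : G)⁻¹ by group, hu, mul_one, mul_inv_cancel]
        rwa [show z * u * (z * u) = z * z * (u * u) by
          rw [show z * u * (z * u) = z * (u * z) * u by group, ← hzu]; group, hu, mul_one] at h1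
      have hy2 : ((y ^ 2 : ↥N) : G) ∈ centralizer (R : Set G) := by
        refine le_centralizer_iff.mp ?_ (mem_zpowers _)
        refine hRQ.trans (sup_le (fun a ha => ?_) (zpowers_le.mpr ?_))
        · refine mem_centralizer_iff.mpr fun w hw => ?_
          have haN : a ∈ N := le_normalizer ha.1
          have hc : (y : G) * a = a * y := (congrArg Subtype.val
            (mem_centralizer_iff.mp hyQ ⟨a, haN⟩ (mem_subgroupOf.mpr ha))).symm
          obtain ⟨i, rfl⟩ := mem_zpowers_iff.mp hw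
          exact (((show Commute (y : G) a from hc).pow_left 2).zpow_left i).eq
        · refine mem_centralizer_iff.mpr fun w hw => ?_
          obtain ⟨i, rfl⟩ := mem_zpowers_iff.mp hw
          refine (Commute.zpow_left ?_ i).eq
          show ((y ^ 2 : ↥N) : G) * u = u * ((y ^ 2 : ↥N) : G)
          rw [SubgroupClass.coe_pow, pow_two]
          calc (y : G) * y * u = (y : G) * ((y : G) * u * (y : G)⁻¹) * y := by group
            _ = (y : G) * (z * u) * y := by rw [hyu]
            _ = z * ((y : G) * u * (y : G)⁻¹) * y * y := by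
                rw [show (y : G) * (z * u) = (y : G) * z * u by group, hzy]; group
            _ = z * (z * u) * y * y := by rw [hyu]
            _ = u * (y * y) := by rw [← mul_assoc z z u, hz2]; group
      have h2 : q (y ^ 2) ∈ (R.subgroupOf N).map q := by
        have h := Subgroup.mem_map_of_mem q (show y ^ 2 ∈ R.subgroupOf N ⊔ Cfsg.pPrimeCore 2 ↥N by
          have hle : R ⊔ kOf 2 N ≤ (R.subgroupOf N ⊔ Cfsg.pPrimeCore 2 ↥N).map N.subtype := by
            rw [Subgroup.map_sup, map_subgroupOf_eq_of_le le_normalizer]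
          obtain ⟨v, hv, hvy⟩ := hle (hR.cent_le hy2)
          rwa [show y ^ 2 = v from Subtype.ext hvy.symm])
        rwa [Subgroup.map_sup, QuotientGroup.map_mk'_self, sup_bot_eq] at h
      obtain ⟨k, hk⟩ := ((hR2.comap_subtype (K := N)).map q) ⟨_, h2⟩
      refine ⟨k + 1, Subtype.ext ?_⟩
      have hk' := congrArg Subtype.val hk
      simp only [SubgroupClass.coe_pow, map_pow] at hk' ⊢
      rw [pow_succ', pow_mul]
      exact hk'
    have hle : Y'.map N.subtype ≤ R ⊔ kOf 2 N := by
      rw [← hR.radical]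
      exact Subgroup.map_mono (PLocal.Cores.le_pPrimePCore hp)
    intro y hyD hyQ hyN
    have hy' : (⟨y, hyN⟩ : ↥N) ∈ Y' :=
      ⟨mem_centralizer_iff.mpr fun a ha => Subtype.ext (mem_centralizer_iff.mp hyQ a ha), hyD⟩
    have hsup : R ⊔ kOf 2 N ≤ centralizer ({u} : Set G) :=
      sup_le (hRT.trans hTu) fun k hk => mem_centralizer_singleton_iff.mpr
        (mem_centralizer_iff.mp (hR.comm hk) u huR).symm
    exact mem_centralizer_singleton_iff.mp (hsup (hle ⟨_, hy', rfl⟩))
  -- `Z = Q ∩ C` is a Sylow subgroup of `C`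
  set C := centralizer (Q : Set G) ⊓ D with hC
  set Z := Q ⊓ C with hZ
  have huQ : u ∈ centralizer (Q : Set G) := mem_centralizer_iff.mpr fun a ha =>
    mem_centralizer_singleton_iff.mp (hTu (hRT ha.1))
  have hsyl : ¬ 2 ∣ Z.relIndex C := by
    set L := C ⊔ zpowers u
    have huC : zpowers u ≤ normalizer (C : Set G) :=
      (le_inf (zpowers_le.mpr (le_normalizer huQ)) le_normalizer_of_normal).trans
        inf_normalizer_le_normalizer_inf
    have hLZ : L ≤ centralizer (Z : Set G) := by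
      refine sup_le (fun c hc => mem_centralizer_iff.mpr fun z hz => ?_)
        (zpowers_le.mpr (mem_centralizer_iff.mpr fun z hz => mem_centralizer_iff.mp huQ z hz.1))
      exact mem_centralizer_iff.mp hc.1 z hz.1
    have hZu : IsPGroup 2 ↥(Z ⊔ zpowers u) :=
      P.isPGroup'.to_le (sup_le (inf_le_left.trans (inf_le_left.trans hR.fn.le))
        (zpowers_le.mpr (hR.fn.le huR)))
    obtain ⟨T2, hT2, hle⟩ := exists_isSylIn_ge (H := L) hZu
      (sup_le (inf_le_right.trans le_sup_left) le_sup_right)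
    set W := T2 ⊓ C with hW
    have hWi : ¬ 2 ∣ W.relIndex C := by
      intro h
      refine hT2.not_dvd (h.trans ?_)
      rw [inf_relIndex_right, ← relIndex_subgroupOf (K := C) (H := T2) (le_sup_left : C ≤ L)]
      haveI : (C.subgroupOf L).Normal :=
        normal_subgroupOf_of_le_normalizer (sup_le le_normalizer huC)
      exact Cores.relIndex_dvd_index_right_normal (T2.subgroupOf L) (C.subgroupOf L)
    rcases (le_inf (le_sup_left.trans hle) inf_le_right : Z ≤ W).lt_or_eq with hlt | heq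
    · exfalso
      obtain ⟨s, hs, hsZ, hfix⟩ := exists_fixed_step hT2.isPGroup hlt inf_le_left
        ((le_inf le_normalizer (hT2.le.trans (sup_le le_normalizer huC))).trans
          inf_normalizer_le_normalizer_inf)
        ((hT2.le.trans hLZ).trans (centralizer_le_normalizer _))
      have hzu := hfix u (hle (mem_sup_right (mem_zpowers u)))
      have hsN : s ∈ N := by
        rw [hN, mem_normalizer_iff_map_conj_eq]
        refine eq_of_le_of_card_ge ?_ (le_of_eq (card_map_of_injective (MulAut.conj s).injective).symm)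
        refine (Subgroup.map_mono hRQ).trans ?_
        rw [Subgroup.map_sup, MonoidHom.map_zpowers]
        refine sup_le ?_ (zpowers_le.mpr ?_)
        · rintro _ ⟨a, ha, rfl⟩
          show s * a * s⁻¹ ∈ R
          rw [← mem_centralizer_iff.mp hs.2.1 a ha, mul_inv_cancel_right]
          exact ha.1
        · show s * u * s⁻¹ ∈ R
          rw [show s * u * s⁻¹ = ⁅u, s⁆⁻¹ * u by rw [commutatorElement_def]; group]
          exact R.mul_mem (R.inv_mem hzu.1.1) huR
      have hsu := hY s hs.2.2 hs.2.1 hsN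
      have hsR : s ∈ centralizer (R : Set G) := by
        refine le_centralizer_iff.mp (hRQ.trans (sup_le ?_ (zpowers_le.mpr ?_))) (mem_zpowers s)
        · exact le_centralizer_iff.mp (zpowers_le.mpr hs.2.1)
        · exact mem_centralizer_iff.mpr fun w hw => by
            obtain ⟨i, rfl⟩ := mem_zpowers_iff.mp hw
            exact ((show Commute s u from hsu).zpow_left i).eq
      obtain ⟨m, hm⟩ := hT2.isPGroup ⟨s, hs.1⟩
      refine hsZ ⟨⟨?_, hs.2.2⟩, hs.2⟩
      refine mem_of_mem_sup hR2 ?_ hR.comm (m := m) (congrArg Subtype.val hm) (hR.cent_le hsR)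
      rw [card_map_of_injective N.subtype_injective]
      exact Cores.pPrimeCore_card_coprime 2
    · rwa [heq]
  refine ⟨kOf 2 C, map_subtype_le _, le_normalizer.trans (LocalFix.normalizer_le_normalizer_pPrimeCore C),
    ?_, ?_⟩
  · rw [card_map_of_injective C.subtype_injective]
    exact Cores.pPrimeCore_card_coprime 2
  · set Z' := Z.subgroupOf C
    have hZc : Z' ≤ Subgroup.center ↥C := fun z hz => Subgroup.mem_center_iff.mpr fun c =>
      Subtype.ext (mem_centralizer_iff.mp c.2.1 z (mem_subgroupOf.mp hz).1).symm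
    obtain ⟨k, hk⟩ := Transfer.NormalPComplement.hasNormalPComplement_iff_pPrimeCore.mp
      (PLocal.PSolvable.hasNormalPComplement_of_central hZc
        ((hR2.to_le (inf_le_left.trans inf_le_left)).comap_subtype) hsyl)
    have htop : Z' ⊔ Cfsg.pPrimeCore 2 ↥C = ⊤ := by
      rw [← index_eq_one]
      obtain ⟨i, -, hi⟩ := (Nat.dvd_prime_pow Nat.prime_two).mp
        (hk ▸ index_dvd_of_le (le_sup_right : Cfsg.pPrimeCore 2 ↥C ≤ Z' ⊔ Cfsg.pPrimeCore 2 ↥C))
      rcases Nat.eq_zero_or_pos i with rfl | hi0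
      · rw [hi, pow_zero]
      · exact absurd ((dvd_pow_self 2 hi0.ne').trans (hi ▸ index_dvd_of_le
          (le_sup_left : Z' ≤ Z' ⊔ Cfsg.pPrimeCore 2 ↥C))) hsyl
    calc C = (⊤ : Subgroup ↥C).map C.subtype := by rw [← MonoidHom.range_eq_map, range_subtype]
      _ = Z ⊔ kOf 2 C := by rw [← htop, Subgroup.map_sup, map_subgroupOf_eq_of_le inf_le_right]
      _ ≤ Q ⊔ kOf 2 C := sup_le_sup_right inf_le_left _

/-- `u` centralizes `D` when it fixes every centric step. -/
theorem mem_centralizer_of_odd_commutator {D S : Subgroup G} [D.Normal] (hO : Cfsg.oddCore D = ⊥)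
    (hS : IsSylIn 2 S D) {u : G} (hu : orderOf u = 2) (huS : u ∈ centralizer (S : Set G))
    (hgen : D ⊔ zpowers u = ⊤)
    (hK : ∀ Q ≤ S, CentralSylowIn Q (centralizer (Q : Set G) ⊓ D) → ∀ n ∈ D,
      n ∈ normalizer (Q : Set G) → Odd (orderOf ⁅u, n⁆)) :
    u ∈ centralizer (D : Set G) := by
  haveI : Fact (Nat.Prime 2) := ⟨Nat.prime_two⟩
  have huu : u * u = 1 := by rw [← pow_two, ← hu, pow_orderOf_eq_one]
  have hu2 : IsPGroup 2 (zpowers u) := IsPGroup.of_card (n := 1) (by rw [Nat.card_zpowers, hu, pow_one])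
  have huS' : zpowers u ≤ normalizer (S : Set G) :=
    (zpowers_le.mpr huS).trans (centralizer_le_normalizer _)
  set T := S ⊔ zpowers u with hT
  have hTp : IsPGroup 2 T := by
    rw [hT, sup_comm]
    exact hu2.to_sup_of_normal_right' hS.isPGroup huS'
  have hTD : T ⊓ D = S := hS.eq_of_le (hTp.to_le inf_le_left) inf_le_right (le_inf le_sup_left hS.le)
  have hidx : ¬ 2 ∣ T.index := by
    intro hd
    refine hS.not_dvd (hd.trans (dvd_of_eq ?_))
    have htop : T ⊔ D = ⊤ := top_le_iff.mp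
      (hgen ▸ sup_le le_sup_right ((le_sup_right : zpowers u ≤ T).trans le_sup_left))
    have h := Cores.card_sup_mul_card_inf T D
    rw [htop, Subgroup.card_top, hTD, ← T.card_mul_index] at h
    have h2 : Nat.card S * S.relIndex D = Nat.card D := by
      rw [← relIndex_bot_left, ← relIndex_bot_left D]
      exact relIndex_mul_relIndex _ _ _ bot_le hS.le
    rw [← h2] at h
    refine Nat.eq_of_mul_eq_mul_left (Nat.mul_pos (Nat.card_pos (α := T)) (Nat.card_pos (α := S))) ?_
    linarith [h]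
  set P : Sylow 2 G := hTp.toSylow hidx
  have hP : (P : Subgroup G) = T := rfl
  have hTu : T ≤ centralizer ({u} : Set G) := sup_le
    (fun s hs => mem_centralizer_singleton_iff.mpr (mem_centralizer_iff.mp huS s hs))
    (zpowers_le.mpr (mem_centralizer_singleton_iff.mpr rfl))
  have step : ∀ R : Subgroup G, IsCR 2 (P : Subgroup G) R → u ∈ R → ∀ x ∈ normalizer (R : Set G),
      x⁻¹ * u * x = u := by
    intro R hR huR x hx
    obtain ⟨hQT, hcs⟩ := centralSylow_of_isCR huu huS hS.le P hP hR huR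
    have hQS : R ⊓ D ≤ S := (le_inf hQT inf_le_right).trans hTD.le
    have h : x ∈ (↑(D ⊔ zpowers u) : Set G) := by rw [hgen]; trivial
    rw [coe_mul_of_right_le_normalizer_left _ _ le_normalizer_of_normal] at h
    obtain ⟨d, hd, v, hv, rfl⟩ := h
    have hvR : v ∈ R := zpowers_le.mpr huR hv
    have hdR : d ∈ normalizer (R : Set G) := by
      simpa using mul_mem hx (inv_mem (le_normalizer hvR))
    have hdQ : d ∈ normalizer ((R ⊓ D : Subgroup G) : Set G) :=
      inf_normalizer_le_normalizer_inf ⟨hdR, le_normalizer hd⟩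
    have hodd := hK _ hQS hcs d hd hdQ
    have hmem : ⁅u, d⁆ ∈ S := hQS ⟨by
      rw [commutatorElement_def, show u * d * u⁻¹ * d⁻¹ = u * (d * u⁻¹ * d⁻¹) by group]
      exact R.mul_mem huR ((mem_normalizer_iff.mp hdR _).mp (R.inv_mem huR)), by
      rw [commutatorElement_def]
      exact D.mul_mem (Normal.conj_mem inferInstance d hd u) (D.inv_mem hd)⟩
    obtain ⟨i, hi⟩ := IsPGroup.iff_orderOf.mp hS.isPGroup ⟨_, hmem⟩
    rw [orderOf_mk] at hi
    have h1 : ⁅u, d⁆ = 1 := by
      rw [← orderOf_eq_one_iff, hi]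
      rcases i with _ | i
      · rfl
      · rw [hi] at hodd
        exact absurd hodd (by simp [Nat.odd_pow_iff])
    have hc : Commute u d := commutatorElement_eq_one_iff_commute.mp h1
    have hv' : Commute u v := (mem_centralizer_singleton_iff.mp
      (hTu ((le_sup_right : zpowers u ≤ T) hv))).symm
    rw [mul_assoc, (hc.mul_right hv').eq, ← mul_assoc, inv_mul_cancel, one_mul]
  have hchain : ∀ (A : Set G) (g : G), Chain.Chain (P : Subgroup G)
      (fun R _ => IsCR 2 (P : Subgroup G) R) A g → A = {u} → g⁻¹ * u * g = u := by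
    intro A g hg
    induction hg with
    | one _ => intro _; simp
    | @step A R x g _ hx hR hA _ ih =>
      intro hAu
      subst hAu
      have hxu := step R hR (hA rfl) x hx
      have := ih (by rw [Chain.cs, Set.image_singleton, hxu])
      calc (x * g)⁻¹ * u * (x * g) = g⁻¹ * (x⁻¹ * u * x) * g := by group
        _ = u := by rw [hxu, this]
  have huP : u ∈ (P : Subgroup G) := mem_sup_right (mem_zpowers u)
  have hfus : ∀ g : G, g⁻¹ * u * g ∈ (P : Subgroup G) → g⁻¹ * u * g = u := by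
    intro g hg
    obtain ⟨c, hc, g', rfl, hch⟩ := goldschmidt_chain P {u} g (Set.singleton_subset_iff.mpr huP)
      (by rintro _ ⟨a, ha, rfl⟩; rw [Set.mem_singleton_iff] at ha; subst ha; exact hg)
    have hcu : c * u = u * c := mem_centralizer_singleton_iff.mp hc
    rw [show (c * g')⁻¹ * u * (c * g') = g'⁻¹ * (c⁻¹ * (u * c)) * g' by group, ← hcu,
      inv_mul_cancel_left]
    exact hchain _ _ hch rfl
  have hiso : Cfsg.IsIsolatedInvolution u := by
    refine ⟨hu, fun g hg => ?_⟩
    set v := g * u * g⁻¹ with hv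
    have hvv : v * v = 1 := by
      rw [hv, show g * u * g⁻¹ * (g * u * g⁻¹) = g * (u * u) * g⁻¹ by group, huu, mul_one,
        mul_inv_cancel]
    have hvp : IsPGroup 2 (zpowers v) := IsPGroup.of_card (n := 1) (by
      rw [Nat.card_zpowers, pow_one]
      exact (orderOf_injective (MulAut.conj g).toMonoidHom (MulAut.conj g).injective u).trans hu)
    have hsup : IsPGroup 2 ↥(zpowers u ⊔ zpowers v) :=
      hu2.to_sup_of_normal_right' hvp ((zpowers_le.mpr (mem_centralizer_iff.mpr fun w hw => by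
        obtain ⟨i, rfl⟩ := mem_zpowers_iff.mp hw
        exact (hg.symm.zpow_left i).eq)).trans (centralizer_le_normalizer _))
    obtain ⟨P', hP'⟩ := hsup.exists_le_sylow
    obtain ⟨k, hk⟩ := MulAction.exists_smul_eq G P' P
    have hmem : ∀ w ∈ (P' : Subgroup G), k * w * k⁻¹ ∈ (P : Subgroup G) := by
      intro w hw
      rw [← hk]
      exact ⟨w, hw, rfl⟩
    have h1 := hfus k⁻¹ (by simpa using hmem u (hP' (mem_sup_left (mem_zpowers u))))
    have h2 := hfus (k * g)⁻¹ (by
      simpa [hv, mul_assoc] using hmem v (hP' (mem_sup_right (mem_zpowers v))))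
    rw [inv_inv] at h1 h2
    refine mul_left_cancel (a := k) (mul_right_cancel (b := k⁻¹) ?_)
    rw [h1, hv]
    simpa [mul_assoc] using h2
  refine mem_centralizer_iff.mpr fun d hd => ?_
  have h := ZStar.Main.commutator_mem_oddCore hiso d
  have hm : u * d * u⁻¹ * d⁻¹ ∈ Cfsg.pPrimeCore 2 G ⊓ D :=
    ⟨h, D.mul_mem (Normal.conj_mem inferInstance d hd u) (D.inv_mem hd)⟩
  rw [← PLocal.Cores.map_subtype_pPrimeCore_eq D,
    show Cfsg.pPrimeCore 2 ↥D = ⊥ from hO, Subgroup.map_bot, Subgroup.mem_bot] at hm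
  exact (mul_inv_eq_iff_eq_mul.mp (mul_inv_eq_one.mp hm)).symm

/-- The hypothesis of `mem_centralizer_of_odd_commutator` for the elements of a perfect group
centralizing `S`. -/
lemma odd_commutator_of_perfect {D S J : Subgroup G} [D.Normal] (hJ : ⁅J, J⁆ = J)
    (hJS : J ≤ centralizer (S : Set G)) {Q : Subgroup G} (hQ : Q ≤ S)
    (hcs : CentralSylowIn Q (centralizer (Q : Set G) ⊓ D)) {n : G} (hn : n ∈ D)
    (hnQ : n ∈ normalizer (Q : Set G)) {j : G} (hj : j ∈ J) : Odd (orderOf ⁅j, n⁆) := by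
  haveI : Fact (Nat.Prime 2) := ⟨Nat.prime_two⟩
  set C := centralizer (Q : Set G) ⊓ D with hC
  obtain ⟨K, hKC, hKn, hKc, hCQ⟩ := hcs
  set O := kOf 2 C with hO
  haveI : (K.subgroupOf C).Normal := normal_subgroupOf_of_le_normalizer hKn
  have hKO : K ≤ O := by
    refine (map_subgroupOf_eq_of_le hKC).symm.le.trans (Subgroup.map_mono (Cores.le_pPrimeCore ?_))
    rwa [Nat.card_congr (subgroupOfEquivOfLe hKC).toEquiv]
  have hJQ : J ≤ centralizer (Q : Set G) := hJS.trans (centralizer_le hQ)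
  have hJC : J ≤ normalizer (C : Set G) :=
    (le_inf (hJQ.trans le_normalizer) le_normalizer_of_normal).trans inf_normalizer_le_normalizer_inf
  set NO := normalizer (O : Set G)
  have hJO : J ≤ NO := hJC.trans (LocalFix.normalizer_le_normalizer_pPrimeCore C)
  have hCO : C ≤ NO := le_normalizer.trans (LocalFix.normalizer_le_normalizer_pPrimeCore C)
  have hQO : Q ≤ NO := by
    refine (le_trans ?_ (centralizer_le_normalizer _)).trans
      (LocalFix.normalizer_le_normalizer_pPrimeCore C)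
    exact le_centralizer_iff.mp inf_le_left
  have hdec : ∀ c ∈ C, ∃ x ∈ Q ⊓ C, ∃ o ∈ O, c = x * o := by
    intro c hc
    have h : c ∈ (↑(Q ⊔ O) : Set G) := (hCQ.trans (sup_le_sup_left hKO Q)) hc
    rw [coe_mul_of_left_le_normalizer_right _ _ hQO] at h
    obtain ⟨x, hx, o, ho, rfl⟩ := h
    exact ⟨x, ⟨hx, by simpa using C.mul_mem hc (C.inv_mem (map_subtype_le _ ho))⟩, o, ho, rfl⟩
  have hmemC : ∀ j ∈ J, ⁅j, n⁆ ∈ C := by
    intro j hj
    refine ⟨mem_centralizer_iff.mpr fun a ha => ?_, ?_⟩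
    · have h1 : n⁻¹ * a * n ∈ Q := by
        have := (mem_normalizer_iff.mp (inv_mem hnQ) a).mp ha
        rwa [inv_inv] at this
      have ha' : j * a = a * j := (mem_centralizer_iff.mp (hJQ hj) a ha).symm
      have hb : j * (n⁻¹ * a * n) = n⁻¹ * a * n * j := (mem_centralizer_iff.mp (hJQ hj) _ h1).symm
      have hcb : j⁻¹ * (n⁻¹ * a * n) = n⁻¹ * a * n * j⁻¹ :=
        ((show Commute j (n⁻¹ * a * n) from hb).inv_left).eq
      rw [commutatorElement_def]
      calc a * (j * n * j⁻¹ * n⁻¹) = (a * j) * n * j⁻¹ * n⁻¹ := by group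
        _ = (j * a) * n * j⁻¹ * n⁻¹ := by rw [ha']
        _ = j * n * (n⁻¹ * a * n * j⁻¹) * n⁻¹ := by group
        _ = j * n * (j⁻¹ * (n⁻¹ * a * n)) * n⁻¹ := by rw [hcb]
        _ = j * n * j⁻¹ * n⁻¹ * a := by group
    · rw [commutatorElement_def]
      exact D.mul_mem (Normal.conj_mem inferInstance n hn j) (D.inv_mem hn)
  set q := QuotientGroup.mk' (O.subgroupOf NO)
  have hq : ∀ {c x o : G} (hc : c ∈ NO) (hx : x ∈ NO), o ∈ O → c = x * o →
      q ⟨c, hc⟩ = q ⟨x, hx⟩ := by
    intro c x o hc hx ho hcx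
    symm
    refine (QuotientGroup.eq (s := O.subgroupOf NO)).mpr ?_
    show x⁻¹ * c ∈ O
    rw [hcx, inv_mul_cancel_left]
    exact ho
  let f : J →* ↥NO ⧸ O.subgroupOf NO :=
    { toFun := fun i => q ⟨⁅(i : G), n⁆, hCO (hmemC i i.2)⟩
      map_one' := by
        rw [← map_one q]
        exact congrArg q (Subtype.ext (commutatorElement_one_left n))
      map_mul' := fun a b => by
        obtain ⟨x, hx, o, ho, hxo⟩ := hdec _ (hmemC b b.2)
        obtain ⟨x', hx', o', ho', hxo'⟩ := hdec _ (hmemC a a.2)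
        rw [hq (hCO (hmemC b b.2)) (hCO hx.2) ho hxo, hq (hCO (hmemC a a.2)) (hCO hx'.2) ho' hxo',
          ← map_mul]
        have hax : (a : G) * x = x * a := (mem_centralizer_iff.mp (hJQ a.2) x hx.1).symm
        have hxx : x * x' = x' * x := mem_centralizer_iff.mp hx'.2.1 x hx.1
        refine hq _ _ (o := x'⁻¹ * ((a : G) * o * (a : G)⁻¹) * x' * o') ?_ ?_
        · refine O.mul_mem ?_ ho'
          have h1 := (mem_normalizer_iff.mp (hJO a.2) o).mp ho
          simpa using (mem_normalizer_iff.mp (inv_mem (hCO hx'.2)) _).mp h1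
        · show ⁅((a * b : J) : G), n⁆ = x' * x * _
          rw [Subgroup.coe_mul, commutatorElement_mul_left_eq_conj_mul, hxo, hxo', ← hxx]
          calc (a : G) * (x * o) * (a : G)⁻¹ * (x' * o')
              = ((a : G) * x) * o * (a : G)⁻¹ * x' * o' := by group
            _ = x * (((a : G) * o * (a : G)⁻¹) * x') * o' := by rw [hax]; group
            _ = _ := by group }
  have hcomm : ∀ a b : J, Commute (f a) (f b) := by
    intro a b
    obtain ⟨x, hx, o, ho, hxo⟩ := hdec _ (hmemC a a.2)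
    obtain ⟨x', hx', o', ho', hxo'⟩ := hdec _ (hmemC b b.2)
    show q _ * q _ = q _ * q _
    rw [hq (hCO (hmemC a a.2)) (hCO hx.2) ho hxo, hq (hCO (hmemC b b.2)) (hCO hx'.2) ho' hxo',
      ← map_mul, ← map_mul]
    exact congrArg q (Subtype.ext (mem_centralizer_iff.mp hx'.2.1 x hx.1))
  have hker : commutator J ≤ f.ker := (_root_.commutator_def J).le.trans (commutator_le.mpr fun a _ b _ => by
    rw [MonoidHom.mem_ker, map_commutatorElement, commutatorElement_eq_one_iff_commute]
    exact hcomm a b)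
  rw [(Subgroup.isPerfect_iff.mpr hJ).commutator_eq_top] at hker
  have h1 : q ⟨⁅j, n⁆, hCO (hmemC j hj)⟩ = 1 := hker (mem_top (⟨j, hj⟩ : J))
  have hmem : ⁅j, n⁆ ∈ O := (QuotientGroup.eq_one_iff (N := O.subgroupOf NO) _).mp h1
  rw [← Nat.coprime_two_right]
  refine Nat.Coprime.coprime_dvd_left (orderOf_dvd_natCard O hmem) ?_
  rw [hO, card_map_of_injective C.subtype_injective]
  exact Cores.pPrimeCore_card_coprime 2

/-- A perfect group generated by 2-elements centralizing a Sylow 2-subgroup of `D` is trivial when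
`C(D) = 1` and `O(D) = 1`. -/
theorem eq_bot_of_centralizes_sylow {D S J : Subgroup G} [D.Normal]
    (hC : centralizer (D : Set G) = ⊥) (hO : Cfsg.oddCore D = ⊥) (hS : IsSylIn 2 S D)
    (hJ : ⁅J, J⁆ = J) (hJ2 : PComponents.pGen 2 J = J) (hJS : J ≤ centralizer (S : Set G)) :
    J = ⊥ := by
  haveI : Fact (Nat.Prime 2) := ⟨Nat.prime_two⟩
  by_contra hne
  obtain ⟨x, hx, k, hk, hx1⟩ : ∃ x ∈ J, ∃ k : ℕ, x ^ 2 ^ k = 1 ∧ x ≠ 1 := by
    by_contra h
    push Not at h
    refine hne ?_
    rw [← hJ2, eq_bot_iff]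
    exact (closure_le _).mpr fun x hx => h x hx.1 hx.2.choose hx.2.choose_spec
  obtain ⟨v, hv⟩ := exists_prime_orderOf_dvd_card' (G := zpowers x) 2 (by
    rw [Nat.card_zpowers]
    obtain ⟨i, -, hi⟩ := (Nat.dvd_prime_pow Nat.prime_two).mp (orderOf_dvd_of_pow_eq_one hk)
    rw [hi]
    refine dvd_pow_self 2 fun h => hx1 ?_
    rw [← orderOf_eq_one_iff, hi, h, pow_zero])
  set u : G := (v : G) with hu'
  have hu : orderOf u = 2 := (orderOf_coe v).trans hv
  have huJ : u ∈ J := zpowers_le.mpr hx v.2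
  set H := D ⊔ zpowers u with hH
  set D1 := D.subgroupOf H
  set S1 := S.subgroupOf H
  have huH : u ∈ H := mem_sup_right (mem_zpowers u)
  haveI : D1.Normal := inferInstance
  have hO1 : Cfsg.oddCore D1 = ⊥ := by
    have h := Cores.map_pPrimeCore_eq (subgroupOfEquivOfLe (le_sup_left : D ≤ H)) 2
    rw [show Cfsg.pPrimeCore 2 ↥D = ⊥ from hO, Subgroup.map_eq_bot_iff] at h
    rw [(MonoidHom.ker_eq_bot_iff _).mpr (subgroupOfEquivOfLe _).injective, le_bot_iff] at h
    exact h
  have hS1 : IsSylIn 2 S1 D1 := isSylIn_of_not_dvd hS.isPGroup.comap_subtype (comap_mono hS.le)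
    (by rw [relIndex_subgroupOf le_sup_left]; exact hS.not_dvd)
  have huS1 : (⟨u, huH⟩ : H) ∈ centralizer (S1 : Set H) :=
    mem_centralizer_iff.mpr fun s hs => Subtype.ext (mem_centralizer_iff.mp (hJS huJ) s hs)
  have hgen : D1 ⊔ zpowers (⟨u, huH⟩ : H) = ⊤ := by
    apply Subgroup.map_injective H.subtype_injective
    rw [Subgroup.map_sup, MonoidHom.map_zpowers, map_subgroupOf_eq_of_le le_sup_left,
      ← MonoidHom.range_eq_map, range_subtype]
    rfl
  have hu1 : orderOf (⟨u, huH⟩ : H) = 2 := by rw [← orderOf_coe]; exact hu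
  have key := mem_centralizer_of_odd_commutator hO1 hS1 hu1 huS1 hgen fun Q hQ hcs n hn hnQ => by
    have hQS : Q.map H.subtype ≤ S := (Subgroup.map_mono hQ).trans (map_comap_le _ _)
    have hCeq : (centralizer (Q : Set H) ⊓ D1).map H.subtype =
        centralizer ((Q.map H.subtype : Subgroup G) : Set G) ⊓ D := by
      ext g
      constructor
      · rintro ⟨c, hc, rfl⟩
        refine ⟨mem_centralizer_iff.mpr ?_, hc.2⟩
        rintro _ ⟨a, ha, rfl⟩
        exact congrArg Subtype.val (mem_centralizer_iff.mp hc.1 a ha)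
      · intro hg
        refine ⟨⟨g, mem_sup_left hg.2⟩, ⟨mem_centralizer_iff.mpr fun a ha => Subtype.ext ?_, hg.2⟩, rfl⟩
        exact mem_centralizer_iff.mp hg.1 _ ⟨a, ha, rfl⟩
    obtain ⟨K, hKC, hKn, hKc, hCQ⟩ := hcs
    have hcs' : CentralSylowIn (Q.map H.subtype)
        (centralizer ((Q.map H.subtype : Subgroup G) : Set G) ⊓ D) := by
      rw [← hCeq]
      refine ⟨K.map H.subtype, Subgroup.map_mono hKC,
        (Subgroup.map_mono hKn).trans (le_normalizer_map _), ?_, ?_⟩
      · rwa [card_map_of_injective H.subtype_injective]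
      · rw [← Subgroup.map_sup]; exact Subgroup.map_mono hCQ
    have h := odd_commutator_of_perfect (D := D) hJ hJS hQS hcs' (n := (n : G)) hn
      (le_normalizer_map H.subtype ⟨n, hnQ, rfl⟩) huJ
    rw [← orderOf_coe]
    exact h
  have h1 : u ∈ centralizer (D : Set G) := mem_centralizer_iff.mpr fun d hd =>
    congrArg Subtype.val (mem_centralizer_iff.mp key ⟨d, mem_sup_left hd⟩ hd)
  rw [hC, Subgroup.mem_bot] at h1
  rw [h1, orderOf_one] at hu
  omega

end Cfsg.Agent.Components.SylowCentralizer
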