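import Cfsg.Agent.Lib.Components.Fitting

/-!
Centres in the layer, the action on the layer, derived series of `F*`.
-/

set_option autoImplicit false

namespace Cfsg.Agent.Components.Layer

open Subgroup
open Cfsg.Agent.Components.Basic Cfsg.Agent.Components.Fitting

universe u

variable {G : Type u} [Group G]

lemma map_center_subtype (H : Subgroup G) :
    (Subgroup.center H).map H.subtype = H ⊓ centralizer (H : Set G) := by
  ext x
  constructor
  · rintro ⟨y, hy, rfl⟩
    refine ⟨y.2, mem_centralizer_iff.mpr fun h hh => ?_⟩
    exact congrArg Subtype.val (Subgroup.mem_center_iff.mp hy ⟨h, hh⟩)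
  · rintro ⟨hx, hc⟩
    exact ⟨⟨x, hx⟩, Subgroup.mem_center_iff.mpr fun g => Subtype.ext (mem_centralizer_iff.mp hc g g.2), rfl⟩

/-- The centre of the layer is `F(G) ⊓ E(G)`. -/
lemma center_layer_eq [Finite G] :
    Cfsg.layer G ⊓ centralizer (Cfsg.layer G : Set G) = Cfsg.fittingSubgroup G ⊓ Cfsg.layer G :=
  le_antisymm (le_inf layer_inf_centralizer_le_fitting inf_le_left)
    (le_inf inf_le_right (inf_le_left.trans fitting_le_centralizer_layer))

/-- `[E, U]` for a component: `L ≤ [E(G), U]` or `U` centralizes `L`. -/
lemma component_le_commutator_layer_or [Finite G] (U : Subgroup G) {L : Subgroup G}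
    (hL : Cfsg.IsComponent L) : L ≤ ⁅Cfsg.layer G, U⁆ ∨ ⁅L, U⁆ = ⊥ := by
  have hle : ⁅Cfsg.layer G, U⁆ ≤ Cfsg.layer G := commutator_le_left _ _
  have hsn : ⁅Cfsg.layer G, U⁆.IsSubnormal :=
    IsSubnormal.trans hle
      (normal_subgroupOf_of_le_normalizer (normalizer_commutator_ge_left _ _)).isSubnormal
      (inferInstance : (Cfsg.layer G).Normal).isSubnormal
  refine (component_le_or_commutator_eq_bot hL hsn).imp id fun h => ?_
  apply commutator_eq_bot_of_perfect (component_commutator_self hL)
  rw [commutator_comm]
  exact le_bot_iff.mp ((commutator_mono le_rfl (commutator_mono (le_layer hL) le_rfl)).trans h.le)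

lemma layer_eq_centralized_sup_commutator [Finite G] (U : Subgroup G) :
    Cfsg.layer G = (Cfsg.layer G ⊓ centralizer (U : Set G)) ⊔ ⁅Cfsg.layer G, U⁆ := by
  refine le_antisymm (layer_le fun L hL => ?_) (sup_le inf_le_left (commutator_le_left _ _))
  rcases component_le_commutator_layer_or U hL with h | h
  · exact h.trans le_sup_right
  · exact le_trans (le_inf (le_layer hL) (commutator_eq_bot_iff_le_centralizer.mp h)) le_sup_left

/-- A central element of a join of finitely many components is a product of central elements. -/
lemma mem_iSup_center_of_mem [Finite G] (s : Finset {K : Subgroup G // Cfsg.IsComponent K}) {x : G}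
    (hx : x ∈ ⨆ L ∈ s, (L : Subgroup G)) (hc : ∀ L ∈ s, x ∈ centralizer ((L : Subgroup G) : Set G)) :
    x ∈ ⨆ L : {K : Subgroup G // Cfsg.IsComponent K},
      ((L : Subgroup G) ⊓ centralizer ((L : Subgroup G) : Set G)) := by
  classical
  induction s using Finset.induction_on generalizing x with
  | empty =>
    simp only [Finset.notMem_empty, not_false_eq_true, iSup_neg, iSup_bot, mem_bot] at hx
    exact hx ▸ one_mem _
  | @insert L s hLs ih =>
    rw [Finset.iSup_insert] at hx
    set R := ⨆ K ∈ s, (K : Subgroup G) with hR
    have hR : R ≤ centralizer ((L : Subgroup G) : Set G) := by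
      refine iSup₂_le fun K hK => commutator_eq_bot_iff_le_centralizer.mp
        (component_commutator_eq_bot_of_ne K.2 L.2 ?_)
      intro h
      exact hLs (Subtype.ext h ▸ hK)
    rw [sup_comm, ← SetLike.mem_coe,
      coe_mul_of_left_le_normalizer_right R (L : Subgroup G) (hR.trans (centralizer_le_normalizer _))] at hx
    obtain ⟨r, hr, l, hl, rfl⟩ := hx
    have hl' : l ∈ centralizer ((L : Subgroup G) : Set G) := by
      have := (centralizer ((L : Subgroup G) : Set G)).mul_mem
        ((centralizer ((L : Subgroup G) : Set G)).inv_mem (hR hr)) (hc L (Finset.mem_insert_self _ _))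
      simpa using this
    refine mul_mem (ih hr fun K hK => ?_) (mem_iSup_of_mem L ⟨hl, hl'⟩)
    have hlK : l ∈ centralizer ((K : Subgroup G) : Set G) := by
      have hne : (L : Subgroup G) ≠ K := fun h => hLs (Subtype.ext h ▸ hK)
      exact commutator_eq_bot_iff_le_centralizer.mp (component_commutator_eq_bot_of_ne L.2 K.2 hne) hl
    have := (centralizer ((K : Subgroup G) : Set G)).mul_mem (hc K (Finset.mem_insert_of_mem hK))
      ((centralizer ((K : Subgroup G) : Set G)).inv_mem hlK)
    simpa [mul_assoc] using this

lemma iSup_center_eq [Finite G] :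
    Cfsg.layer G ⊓ centralizer (Cfsg.layer G : Set G) =
      ⨆ L : {K : Subgroup G // Cfsg.IsComponent K},
        ((L : Subgroup G) ⊓ centralizer ((L : Subgroup G) : Set G)) := by
  classical
  apply le_antisymm
  · rintro x ⟨hx, hc⟩
    have := Fintype.ofFinite {K : Subgroup G // Cfsg.IsComponent K}
    refine mem_iSup_center_of_mem Finset.univ ?_ fun L _ => centralizer_le ?_ hc
    · refine (layer_le fun L hL => ?_) hx
      exact le_iSup₂_of_le ⟨L, hL⟩ (Finset.mem_univ _) le_rfl
    · exact le_layer L.2
  · refine iSup_le fun L => le_inf (inf_le_left.trans (le_layer L.2)) (le_centralizer_iff.mp ?_)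
    refine layer_le fun K hK => ?_
    by_cases h : K = (L : Subgroup G)
    · subst h
      exact le_centralizer_iff.mp inf_le_right
    · exact (commutator_eq_bot_iff_le_centralizer.mp
        (component_commutator_eq_bot_of_ne hK L.2 h)).trans (centralizer_le inf_le_left)

lemma derived_le_normalizer {N C : Subgroup G} (hC : C ≤ normalizer (N : Set G)) (m : ℕ) :
    C ≤ normalizer ((derivedSeries N m).map N.subtype : Set G) := by
  induction m with
  | zero => rwa [derivedSeries_zero, ← MonoidHom.range_eq_map, range_subtype]
  | succ m ih =>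
    intro c hc
    have h := mem_normalizer_iff_map_conj_eq.mp (ih hc)
    rw [mem_normalizer_iff_map_conj_eq, derivedSeries_succ, map_commutator, map_commutator, h]

/-- A normal solvable subgroup of `C_G(F(G))` lies in `F(G)`. -/
lemma le_fitting_of_le_centralizer [Finite G] (N : Subgroup G)
    (hN : N ≤ centralizer (Cfsg.fittingSubgroup G : Set G))
    (hnorm : centralizer (Cfsg.fittingSubgroup G : Set G) ≤ normalizer (N : Set G))
    (hsolv : Group.IsSolvable N) : N ≤ Cfsg.fittingSubgroup G := by
  set C := centralizer (Cfsg.fittingSubgroup G : Set G) with hC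
  have hCn : C.Normal := inferInstance
  obtain ⟨n, hn⟩ := hsolv
  -- downward induction along the derived series
  suffices h : ∀ k m, m + k = n → (derivedSeries N m).map N.subtype ≤ Cfsg.fittingSubgroup G by
    have h0 := h n 0 (zero_add n)
    rwa [derivedSeries_zero, ← MonoidHom.range_eq_map, range_subtype] at h0
  intro k
  induction k with
  | zero =>
    intro m hm
    rw [add_zero] at hm
    subst hm
    rw [hn, Subgroup.map_bot]
    exact bot_le
  | succ k ih =>
    intro m hm
    set D := (derivedSeries N m).map N.subtype with hD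
    have hDle : D ≤ C := (map_subtype_le _).trans hN
    have h1 : ⁅D, D⁆ ≤ Cfsg.fittingSubgroup G := by
      rw [hD, ← map_commutator]
      exact ih (m + 1) (by omega)
    have hDn : (D.subgroupOf C).Normal := by
      refine normal_subgroupOf_of_le_normalizer ?_
      exact derived_le_normalizer hnorm m
    have hDsn : D.IsSubnormal := IsSubnormal.trans hDle hDn.isSubnormal hCn.isSubnormal
    refine le_fitting_of_isSubnormal hDsn (Group.of_quotient_center_nilpotent ?_)
    have hcen : commutator D ≤ Subgroup.center D := by
      intro y hy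
      rw [Subgroup.mem_center_iff]
      intro g
      refine Subtype.ext ?_
      have hy' : (y : G) ∈ Cfsg.fittingSubgroup G := by
        refine h1 ?_
        rw [← map_subtype_commutator]
        exact ⟨y, hy, rfl⟩
      exact (mem_centralizer_iff.mp (hDle g.2) _ hy').symm
    have := Subgroup.Normal.quotient_commutative_iff_commutator_le.mpr hcen
    exact isNilpotent_of_isMulCommutative _

end Cfsg.Agent.Components.Layer
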