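import Cfsg.Agent.Lib.Components.Local
import Cfsg.Agent.Lib.Cores.Subnormal

/-!
With `O_{p'}(G) = 1`, the preimage of `E(N/O_{p'}(N))`, `N = N_G(P)`, fixes every component of `G`.
-/

set_option autoImplicit false

namespace Cfsg.Agent.Components.LocalFix

open Subgroup
open scoped commutatorElement
open Cfsg.Agent.Components.Basic Cfsg.Agent.Components.Fitting Cfsg.Agent.Components.PComponents

universe u

variable {G : Type u} [Group G] {p : ℕ}

/-- A subgroup normalizing `H` normalizes `O_{p'}(H)`. -/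
lemma normalizer_le_normalizer_pPrimeCore (H : Subgroup G) :
    normalizer (H : Set G) ≤ normalizer ((Cfsg.pPrimeCore p H).map H.subtype : Set G) := by
  intro g hg
  rw [mem_normalizer_iff_map_conj_eq]
  have key : ∀ K : Subgroup G, H.map (MulAut.conj g).toMonoidHom = K →
      ((Cfsg.pPrimeCore p H).map H.subtype).map (MulAut.conj g).toMonoidHom =
        (Cfsg.pPrimeCore p K).map K.subtype := by
    rintro _ rfl
    refine Eq.trans ?_ (congrArg (Subgroup.map (H.map (MulAut.conj g).toMonoidHom).subtype)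
      (Cores.map_pPrimeCore_eq ((MulAut.conj g).subgroupMap H) p))
    erw [Subgroup.map_map, Subgroup.map_map]
    rfl
  exact key H (mem_normalizer_iff_map_conj_eq.mp hg)

/-- If `u`, `v` commute with `a`, `b` and each other, then `[u a, v b] = [a, b]`. -/
lemma commutator_mul_eq {Q : Type*} [Group Q] {a b u v : Q} (hua : Commute u a) (hub : Commute u b)
    (hva : Commute v a) (hvb : Commute v b) (huv : Commute u v) :
    ⁅u * a, v * b⁆ = ⁅a, b⁆ := by
  have h1 : Commute u (v * b) := huv.mul_right hub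
  have h2 : Commute v (a * b * a⁻¹) := (hva.mul_right hvb).mul_right hva.inv_right
  simp only [commutatorElement_def, mul_inv_rev]
  calc u * a * (v * b) * (a⁻¹ * u⁻¹) * (b⁻¹ * v⁻¹)
      = u * a * (v * b) * a⁻¹ * (u⁻¹ * (b⁻¹ * v⁻¹)) := by group
    _ = u * (v * (a * b * a⁻¹)) * ((b⁻¹ * v⁻¹) * u⁻¹) := by
        rw [show b⁻¹ * v⁻¹ = (v * b)⁻¹ from (mul_inv_rev _ _).symm, (h1.inv_inv).eq]
        simp only [mul_assoc]
        rw [← mul_assoc a v, ← mul_assoc v a, hva.eq]
    _ = u * (a * b * a⁻¹) * (v * (b⁻¹ * v⁻¹) * u⁻¹) := by rw [h2.eq]; group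
    _ = u * (a * b * a⁻¹) * (b⁻¹ * u⁻¹) := by rw [← mul_assoc v, hvb.inv_right.eq, mul_inv_cancel_right]
    _ = (u * (a * b * a⁻¹ * b⁻¹)) * u⁻¹ := by group
    _ = a * b * a⁻¹ * b⁻¹ := by
        rw [(((hua.mul_right hub).mul_right hua.inv_right).mul_right hub.inv_right).eq, mul_inv_cancel_right]

/-- A subgroup `K` perfect modulo `R` whose commutators with `U` lie in `R` and with
`[K, y] ⊆ U` satisfies `[K, y] ⊆ R`. -/
lemma commutator_mem_of_perfect {R K U : Subgroup G} {y : G}
    (hR : ∀ g ∈ K ⊔ U ⊔ zpowers y, g ∈ normalizer (R : Set G)) (hRK : R ≤ K)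
    (hperf : ⁅K, K⁆ ⊔ R = K) (hKU : ⁅K, U⁆ ≤ R) (hyU : y ∈ normalizer (U : Set G))
    (hK : ∀ k ∈ K, y * k * y⁻¹ * k⁻¹ ∈ U) {k : G} (hk : k ∈ K) : y * k * y⁻¹ * k⁻¹ ∈ R := by
  have hyR : y ∈ normalizer (R : Set G) := hR y (mem_sup_right (mem_zpowers y))
  set W := normalizer (R : Set G) with hW
  haveI : (R.subgroupOf W).Normal := normal_subgroupOf_of_le_normalizer le_rfl
  set q := QuotientGroup.mk' (R.subgroupOf W) with hq
  have hq1 : ∀ x : W, q x = 1 ↔ (x : G) ∈ R := fun x => QuotientGroup.eq_one_iff x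
  have hKW : ∀ a ∈ K, a ∈ W := fun a ha => hR a (mem_sup_left (mem_sup_left ha))
  have hUW : ∀ a ∈ U, a ∈ W := fun a ha => hR a (mem_sup_left (mem_sup_right ha))
  have hcomm : ∀ (a c : G) (ha : a ∈ K) (hc : c ∈ U), Commute (q ⟨c, hUW c hc⟩) (q ⟨a, hKW a ha⟩) := by
    intro a c ha hc
    refine (commutatorElement_eq_one_iff_commute.mp ?_).symm
    rw [← map_commutatorElement, hq1]
    exact hKU (commutator_mem_commutator ha hc)
  -- the elements of `K` fixed by `y` modulo `R`
  let Z : Subgroup G :=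
    { carrier := {a | ∃ ha : a ∈ W, q ⟨y, hyR⟩ * q ⟨a, ha⟩ * (q ⟨y, hyR⟩)⁻¹ = q ⟨a, ha⟩}
      one_mem' := ⟨one_mem _, by rw [show (⟨1, one_mem _⟩ : W) = 1 from rfl, map_one]; group⟩
      mul_mem' := by
        rintro a b ⟨ha, ea⟩ ⟨hb, eb⟩
        refine ⟨mul_mem ha hb, ?_⟩
        rw [show (⟨a * b, mul_mem ha hb⟩ : W) = ⟨a, ha⟩ * ⟨b, hb⟩ from rfl, map_mul]
        calc q ⟨y, hyR⟩ * (q ⟨a, ha⟩ * q ⟨b, hb⟩) * (q ⟨y, hyR⟩)⁻¹ =
            (q ⟨y, hyR⟩ * q ⟨a, ha⟩ * (q ⟨y, hyR⟩)⁻¹) * (q ⟨y, hyR⟩ * q ⟨b, hb⟩ * (q ⟨y, hyR⟩)⁻¹) := by group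
          _ = _ := by rw [ea, eb]
      inv_mem' := by
        rintro a ⟨ha, ea⟩
        refine ⟨inv_mem ha, ?_⟩
        rw [show (⟨a⁻¹, inv_mem ha⟩ : W) = (⟨a, ha⟩ : W)⁻¹ from rfl, map_inv]
        conv_rhs => rw [← ea]
        group }
  have hRZ : R ≤ Z := fun r hr => ⟨le_normalizer hr, by rw [(hq1 ⟨r, _⟩).mpr hr]; group⟩
  have hKK : ⁅K, K⁆ ≤ Z := by
    refine commutator_le.mpr fun a ha b hb => ⟨hKW _ (commutator_le_self K (commutator_mem_commutator ha hb)), ?_⟩
    set Y := q ⟨y, hyR⟩
    set A := q ⟨a, hKW a ha⟩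
    set B := q ⟨b, hKW b hb⟩
    rw [show (⟨⁅a, b⁆, hKW _ (commutator_le_self K (commutator_mem_commutator ha hb))⟩ : W) =
      ⁅(⟨a, hKW a ha⟩ : W), ⟨b, hKW b hb⟩⁆ from rfl, map_commutatorElement]
    have hu : Y * A * Y⁻¹ * A⁻¹ = q ⟨_, hUW _ (hK a ha)⟩ := by
      rw [← map_inv, ← map_inv, ← map_mul, ← map_mul, ← map_mul]; rfl
    have hv : Y * B * Y⁻¹ * B⁻¹ = q ⟨_, hUW _ (hK b hb)⟩ := by
      rw [← map_inv, ← map_inv, ← map_mul, ← map_mul, ← map_mul]; rfl
    have hua := hcomm a _ ha (hK a ha)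
    have hub := hcomm b _ hb (hK a ha)
    have hva := hcomm a _ ha (hK b hb)
    have hvb := hcomm b _ hb (hK b hb)
    rw [← hu] at hua hub
    rw [← hv] at hva hvb
    have hu' : Commute (Y * A * Y⁻¹ * A⁻¹) (Y * B * Y⁻¹) := by
      have hc' : y⁻¹ * (y * a * y⁻¹ * a⁻¹) * y ∈ U :=
        (mem_normalizer_iff''.mp hyU _).mp (hK a ha)
      have h0 := hcomm b _ hb hc'
      rw [show (⟨y⁻¹ * (y * a * y⁻¹ * a⁻¹) * y, hUW _ hc'⟩ : W) =
        (⟨y, hyR⟩ : W)⁻¹ * ⟨_, hUW _ (hK a ha)⟩ * ⟨y, hyR⟩ from rfl, map_mul, map_mul, map_inv, ← hu] at h0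
      change Commute (Y⁻¹ * (Y * A * Y⁻¹ * A⁻¹) * Y) B at h0
      have := h0.map (MulAut.conj Y).toMonoidHom
      simpa [mul_assoc] using this
    have huv : Commute (Y * A * Y⁻¹ * A⁻¹) (Y * B * Y⁻¹ * B⁻¹) := hu'.mul_right hub.inv_right
    calc Y * ⁅A, B⁆ * Y⁻¹ = ⁅Y * A * Y⁻¹ * A⁻¹ * A, Y * B * Y⁻¹ * B⁻¹ * B⁆ := by
          simp only [commutatorElement_def]; group
      _ = ⁅A, B⁆ := commutator_mul_eq hua hub hva hvb huv
  obtain ⟨hkW, e⟩ := (hperf ▸ sup_le hKK hRZ : K ≤ Z) hk
  have : q (⟨y, hyR⟩ * ⟨k, hkW⟩ * (⟨y, hyR⟩ : W)⁻¹ * (⟨k, hkW⟩ : W)⁻¹) = 1 := by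
    rw [map_mul, map_mul, map_mul, map_inv, map_inv, e, mul_inv_cancel]
  exact (hq1 _).mp this

/-- The subgroup fixing every component. -/
def fixer (G : Type u) [Group G] : Subgroup G :=
  ⨅ L : {L : Subgroup G // Cfsg.IsComponent L}, normalizer (L.1 : Set G)

/-- A `p'`-element centralizing `P` which maps every component into its `P`-orbit fixes it. -/
lemma mem_fixer_of_orbit [Finite G] {P : Subgroup G} (hP : IsPGroup p P)
    {k : G} (hk : (orderOf k).Coprime p) (hkP : k ∈ centralizer (P : Set G))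
    (h : ∀ L : Subgroup G, Cfsg.IsComponent L → ∃ a ∈ P,
      L.map (MulAut.conj k).toMonoidHom = L.map (MulAut.conj a).toMonoidHom) :
    k ∈ fixer G := by
  simp only [fixer, mem_iInf]
  rintro ⟨L, hL⟩
  obtain ⟨a, ha, he⟩ := h L hL
  have hc : Commute k a := (mem_centralizer_iff.mp hkP a ha).symm
  have hn : a⁻¹ * k ∈ normalizer (L : Set G) := by
    rw [mem_normalizer_iff_map_conj_eq]
    have h' : (L.map (MulAut.conj k).toMonoidHom).map (MulAut.conj a⁻¹).toMonoidHom =
        (L.map (MulAut.conj a).toMonoidHom).map (MulAut.conj a⁻¹).toMonoidHom := by rw [he]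
    rw [Subgroup.map_map, Subgroup.map_map] at h'
    have e1 : (MulAut.conj a⁻¹).toMonoidHom.comp (MulAut.conj k).toMonoidHom =
        (MulAut.conj (a⁻¹ * k)).toMonoidHom := by ext; simp [mul_assoc]
    have e2 : (MulAut.conj a⁻¹).toMonoidHom.comp (MulAut.conj a).toMonoidHom =
        MonoidHom.id G := by ext; simp [mul_assoc]
    rw [e1, e2, Subgroup.map_id] at h'
    exact h'
  obtain ⟨m, hm⟩ := hP ⟨a, ha⟩
  have ham : a ^ p ^ m = 1 := congrArg Subtype.val hm
  have h1 : k ^ p ^ m ∈ normalizer (L : Set G) := by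
    have := pow_mem hn (p ^ m)
    rwa [hc.symm.inv_left.mul_pow, inv_pow, ham, inv_one, one_mul] at this
  obtain ⟨j, hj⟩ : k ∈ zpowers (k ^ p ^ m) := by
    obtain ⟨j, hj⟩ := exists_pow_eq_self_of_coprime (x := k) (n := p ^ m) (hk.pow_right m).symm
    exact ⟨(j : ℤ), by simpa using hj⟩
  exact (show k ∈ normalizer (L : Set G) from hj ▸ zpow_mem h1 j)

variable [Finite G] [hp : Fact p.Prime]

omit hp in
lemma layer_le_fixer : Cfsg.layer G ≤ fixer G := by
  simp only [fixer, le_iInf_iff]
  exact fun L => layer_le_normalizer L.2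

/-- A `p'`-element `k` centralizing the `p`-group `P ⊇ O_p(G)` with `[y, k] ∈ R` for all
`p`-elements `y` of `E(G) ⊓ N(P)`, `R` a `p'`-group, fixes every component. -/
lemma mem_fixer [Finite G] [hp : Fact p.Prime] (hO : Cfsg.pPrimeCore p G = ⊥) {P R : Subgroup G}
    (hP : IsPGroup p P) (hPO : Cfsg.pCore p G ≤ P) (hR : (Nat.card R).Coprime p)
    {k : G} (hk : (orderOf k).Coprime p) (hkP : k ∈ centralizer (P : Set G))
    (hy : ∀ y ∈ Cfsg.layer G, y ∈ normalizer (P : Set G) → (∃ m : ℕ, y ^ p ^ m = 1) →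
      y * k * y⁻¹ * k⁻¹ ∈ R) :
    k ∈ fixer G := by
  refine mem_fixer_of_orbit hP hk hkP fun L hL => ?_
  by_contra hcon
  push Not at hcon
  -- the product of the orbit
  set E : Subgroup G := ⨆ a : P, L.map (MulAut.conj (a : G)).toMonoidHom with hE
  have hcomp : ∀ a : G, Cfsg.IsComponent (L.map (MulAut.conj a).toMonoidHom) := component_conj hL
  have hLE : L ≤ E := by
    refine le_iSup_of_le (⟨1, one_mem P⟩ : P) (le_of_eq ?_)
    ext; simp
  have hEl : E ≤ Cfsg.layer G := iSup_le fun a => le_layer (hcomp _)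
  -- `E` and its conjugate by `k` commute
  have hEk : E.map (MulAut.conj k).toMonoidHom ≤ centralizer (E : Set G) := by
    rw [hE, Subgroup.map_iSup, iSup_le_iff]
    intro a
    rw [le_centralizer_iff, iSup_le_iff]
    intro b
    rw [← le_centralizer_iff, ← commutator_eq_bot_iff_le_centralizer, Subgroup.map_map]
    have hka : (MulAut.conj k).toMonoidHom.comp (MulAut.conj (a : G)).toMonoidHom =
        (MulAut.conj ((a : G) * k)).toMonoidHom := by
      ext x
      simp only [MonoidHom.coe_comp, MulEquiv.coe_toMonoidHom, Function.comp_apply]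
      rw [← MulAut.mul_apply, ← map_mul, ← (mem_centralizer_iff.mp hkP a a.2)]
    rw [hka]
    refine component_commutator_eq_bot_of_ne (hcomp _) (hcomp _) fun he => ?_
    refine hcon ((a : G)⁻¹ * b) (mul_mem (inv_mem a.2) b.2) ?_
    have := congrArg (Subgroup.map (MulAut.conj (a : G)⁻¹).toMonoidHom) he
    rw [Subgroup.map_map, Subgroup.map_map] at this
    convert this using 2 <;> ext <;> simp [mul_assoc]
  -- `P` normalizes `E`
  have hPE : P ≤ normalizer (E : Set G) := by
    intro g hg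
    rw [mem_normalizer_iff_map_conj_eq, hE, Subgroup.map_iSup]
    refine Equiv.iSup_congr (Equiv.mulLeft (⟨g, hg⟩ : P)) fun a => ?_
    erw [Subgroup.map_map]
    congr 1
    ext x
    simp [mul_assoc]
  set H := E ⊔ P with hH
  have hHE : H ≤ normalizer (E : Set G) := sup_le le_normalizer hPE
  obtain ⟨S, hS⟩ := (hP.comap_subtype (K := H)).exists_le_sylow
  set S' := (S : Subgroup H).map H.subtype with hS'
  have hS'p : IsPGroup p S' := S.isPGroup'.map _
  have hPS : P ≤ S' := by
    intro x hx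
    exact ⟨⟨x, mem_sup_right hx⟩, hS hx, rfl⟩
  -- a suitable `p`-element
  obtain ⟨y, hyS, hyE, hyn, hyc⟩ : ∃ y, y ∈ S' ∧ y ∈ E ∧ y ∈ normalizer (P : Set G) ∧
      y ∉ centralizer (E : Set G) := by
    by_cases hle : S' ≤ P
    · by_contra hno
      push Not at hno
      have hLH : L ≤ H := hLE.trans le_sup_left
      have hidx := Cores.sylow_subgroupOf_isSubnormal S (hL.1.subgroupOf (K := H))
      have hc : (S : Subgroup H).subgroupOf (L.subgroupOf H) ≤
          Subgroup.center ↥(L.subgroupOf H) := by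
        intro z hz
        rw [Subgroup.mem_center_iff]
        intro w
        refine Subtype.ext (Subtype.ext ?_)
        exact mem_centralizer_iff.mp (hno _ ⟨z.1, hz, rfl⟩ (hLE z.2)
          (le_normalizer (hle ⟨z.1, hz, rfl⟩))) _ (hLE w.2)
      have hcop : (Subgroup.center ↥(L.subgroupOf H)).index.Coprime p :=
        ((hp.out.coprime_iff_not_dvd.mpr hidx).symm).coprime_dvd_left (index_dvd_of_le hc)
      set e := subgroupOfEquivOfLe hLH
      have hcop' : (Subgroup.center ↥L).index.Coprime p := by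
        obtain ⟨f⟩ := quotient_center_equiv e
        rwa [index, ← Nat.card_congr f.toEquiv]
      exact quasisimple_center_ne_top hL.2 (component_eq_top_of_coprime_index hO hL _ hcop')
    · have hlt : P.subgroupOf S' < ⊤ := by
        rw [lt_top_iff_ne_top, Ne, subgroupOf_eq_top]; exact hle
      haveI := hS'p.isNilpotent
      obtain ⟨⟨s, hsS⟩, hsN, hsP⟩ := SetLike.exists_of_lt
        (Group.normalizerCondition_of_isNilpotent (P.subgroupOf S') hlt)
      have hsH : s ∈ H := (map_subtype_le _) hsS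
      obtain ⟨e, he, a, ha, rfl⟩ := (Coprime.mem_sup_of_le_normalizer hPE).mp hsH
      have heS : e ∈ S' := by simpa using mul_mem hsS (inv_mem (hPS ha))
      have heN : e * a ∈ normalizer (P : Set G) := by
        rw [← subgroupOf_normalizer_eq hPS] at hsN
        exact hsN
      refine ⟨e, heS, he, by simpa using mul_mem heN (inv_mem (le_normalizer ha)), fun hc => ?_⟩
      refine hsP (mem_subgroupOf.mpr (mul_mem (hPO ?_) ha))
      -- `E ⊓ C(E)` lies in `O_p(G)`
      haveI : (Cfsg.layer G).Normal := inferInstance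
      have hz : e ∈ (Subgroup.center ↥(Cfsg.layer G)).map (Cfsg.layer G).subtype := by
        refine ⟨⟨e, hEl he⟩, Subgroup.mem_center_iff.mpr ?_, rfl⟩
        have hall : Cfsg.layer G ≤ centralizer ({e} : Set G) := by
          refine layer_le fun M hM => ?_
          by_cases hME : ∃ b : P, L.map (MulAut.conj (b : G)).toMonoidHom = M
          · obtain ⟨b, rfl⟩ := hME
            intro z hz
            exact mem_centralizer_singleton_iff.mpr
              (mem_centralizer_iff.mp hc z (le_iSup (fun c : P => L.map (MulAut.conj (c : G)).toMonoidHom) b hz))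
          · have : E ≤ centralizer (M : Set G) := iSup_le fun b => commutator_eq_bot_iff_le_centralizer.mp
              (component_commutator_eq_bot_of_ne (hcomp _) hM fun h => hME ⟨b, h⟩)
            intro z hz
            exact mem_centralizer_singleton_iff.mpr (mem_centralizer_iff.mp (this he) z hz)
        exact fun z => Subtype.ext (mem_centralizer_singleton_iff.mp (hall z.2))
      have hcn : ((Subgroup.center ↥(Cfsg.layer G)).map (Cfsg.layer G).subtype).Normal :=
        Cores.normal_map_subtype _ _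
      rw [← fitting_eq_pCore hO]
      exact le_fitting_of_isSubnormal hcn.isSubnormal
        (@Group.nilpotent_of_mulEquiv _ _ _ _ (isNilpotent_of_isMulCommutative (Subgroup.center ↥(Cfsg.layer G)))
          (equivMapOfInjective _ (Cfsg.layer G).subtype (subtype_injective _))) hz
  obtain ⟨m, hm⟩ := hS'p ⟨y, hyS⟩
  have hym : y ^ p ^ m = 1 := congrArg Subtype.val hm
  have hr := hy y (hEl hyE) hyn ⟨m, hym⟩
  have hky : k * y * k⁻¹ ∈ centralizer (E : Set G) := hEk ⟨y, hyE, rfl⟩
  have hcom : Commute y (k * y⁻¹ * k⁻¹) := by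
    have : Commute y (k * y * k⁻¹) := mem_centralizer_iff.mp hky y hyE
    have := this.inv_right
    simpa [mul_assoc] using this
  have hzero : y * k * y⁻¹ * k⁻¹ = 1 := by
    rw [← orderOf_eq_one_iff]
    refine Nat.eq_one_of_dvd_coprimes (hR.pow_right m) (orderOf_dvd_natCard _ hr)
      (orderOf_dvd_of_pow_eq_one ?_)
    rw [show y * k * y⁻¹ * k⁻¹ = y * (k * y⁻¹ * k⁻¹) by group, hcom.mul_pow, hym, one_mul, conj_pow,
      inv_pow, hym, inv_one, mul_one, mul_inv_cancel]
  refine hyc ?_
  have h1 : k * y = y * k := (mul_inv_eq_iff_eq_mul.mp (mul_inv_eq_one.mp hzero)).symm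
  rwa [h1, mul_inv_cancel_right] at hky

/-- With `O_{p'}(G) = 1`, the preimage in `N_G(P)` of `E(N_G(P)/O_{p'}(N_G(P)))` fixes every
component of `G`. -/
theorem preimage_layer_le_fixer (hO : Cfsg.pPrimeCore p G = ⊥) {P : Subgroup G} (hP : IsPGroup p P) :
    ((Cfsg.layer (↥(normalizer (P : Set G)) ⧸ Cfsg.pPrimeCore p ↥(normalizer (P : Set G)))).comap
        (QuotientGroup.mk' (Cfsg.pPrimeCore p ↥(normalizer (P : Set G))))).map
      (normalizer (P : Set G)).subtype ≤ fixer G := by
  set N := normalizer (P : Set G) with hN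
  set RN := Cfsg.pPrimeCore p ↥N with hRN
  set q := QuotientGroup.mk' RN with hq
  set M := (Cfsg.layer (↥N ⧸ RN)).comap q with hM
  have hRcop : (Nat.card RN).Coprime p := Cores.pPrimeCore_card_coprime p
  set P₁ := P ⊔ Cfsg.pCore p G with hP₁
  have hP₁p : IsPGroup p P₁ := hP.to_sup_of_normal_right (Cores.pCore_isPGroup p)
  have hMq : M.map q = Cfsg.layer (↥N ⧸ RN) :=
    map_comap_eq_self_of_surjective (QuotientGroup.mk'_surjective _) _
  have hperf : ∀ J : Subgroup (↥N ⧸ RN), ⁅J, J⁆ = J → Group.IsPerfect ↥((J.comap q).map q) := by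
    intro J hJ
    rw [map_comap_eq_self_of_surjective (QuotientGroup.mk'_surjective _)]
    exact Subgroup.isPerfect_iff.mpr hJ
  set D := centralizer (P₁ : Set G) with hD
  have hMD : M ≤ D.comap N.subtype := by
    refine Local.le_of_pPrime_mem (R := RN) hRcop (hperf _ commutator_layer_self) fun z hz hord => ?_
    have h1 : (z : G) ∈ centralizer (((Cfsg.pCore p ↥N).map N.subtype : Subgroup G) : Set G) := by
      rw [mem_centralizer_iff]
      rintro _ ⟨w, hw, rfl⟩
      exact congrArg Subtype.val (mem_centralizer_iff.mp (Local.comap_layer_le_centralizer_pCore hz) w hw)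
    have h2 : (z : G) ∈ centralizer (P : Set G) :=
      centralizer_le (by exact Local.le_map_pCore_normalizer hP) h1
    have h3 : (z : G) ∈ centralizer (Cfsg.pCore p G : Set G) :=
      Local.mem_centralizer_pCore hP (by rwa [orderOf_coe]) h1
    exact le_centralizer_iff.mp (sup_le (le_centralizer_iff.mp (zpowers_le.mpr h2))
      (le_centralizer_iff.mp (zpowers_le.mpr h3))) (mem_zpowers (z : G))
  set R := RN.map N.subtype with hR
  have hRMD : R ≤ D := by
    rintro _ ⟨r, hr, rfl⟩
    exact hMD (show q r ∈ Cfsg.layer (↥N ⧸ RN) by rw [show q r = 1 from (QuotientGroup.eq_one_iff r).mpr hr]; exact one_mem _)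
  have hDN : D ≤ N := (centralizer_le (show (P : Set G) ⊆ (P₁ : Set G) from SetLike.coe_subset_coe.mpr le_sup_left)).trans
    (centralizer_le_normalizer _)
  have hcn : ∀ H : Subgroup G, normalizer (H : Set G) ≤
      normalizer (centralizer (H : Set G) : Set G) := fun H => le_normalizer_iff.mpr fun g hg c hc => by
    rw [mem_centralizer_iff]
    intro l hl
    have hl' : g⁻¹ * l * g ∈ H := (mem_normalizer_iff''.mp hg l).mp hl
    calc l * (g * c * g⁻¹) = g * ((g⁻¹ * l * g) * c) * g⁻¹ := by group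
      _ = g * (c * (g⁻¹ * l * g)) * g⁻¹ := by rw [mem_centralizer_iff.mp hc _ hl']
      _ = g * c * g⁻¹ * l := by group
  have hNP₁ : N ≤ normalizer (P₁ : Set G) := by
    intro g hg
    rw [mem_normalizer_iff_map_conj_eq, hP₁, Subgroup.map_sup]
    congr 1
    · exact mem_normalizer_iff_map_conj_eq.mp hg
    · exact mem_normalizer_iff_map_conj_eq.mp ((normalizer_eq_top (Cfsg.pCore p G)).symm ▸ mem_top g)
  have hND : N ≤ normalizer (D : Set G) := hNP₁.trans (hcn P₁)
  have hRD : (Cfsg.pPrimeCore p ↥D).map D.subtype = R := by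
    refine le_antisymm ?_ ?_
    · have hle : (Cfsg.pPrimeCore p ↥D).map D.subtype ≤ N := (map_subtype_le _).trans hDN
      haveI : (((Cfsg.pPrimeCore p ↥D).map D.subtype).subgroupOf N).Normal :=
        normal_subgroupOf_of_le_normalizer (hND.trans (normalizer_le_normalizer_pPrimeCore D))
      refine (map_subgroupOf_eq_of_le hle).symm.le.trans (Subgroup.map_mono (Cores.le_pPrimeCore ?_))
      rw [Nat.card_congr (subgroupOfEquivOfLe hle).toEquiv,
        Subgroup.card_map_of_injective D.subtype_injective]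
      exact Cores.pPrimeCore_card_coprime p
    · haveI : (R.subgroupOf D).Normal := normal_subgroupOf_of_le_normalizer (hDN.trans (by
        refine le_trans ?_ (le_normalizer_map N.subtype)
        rw [normalizer_eq_top, ← MonoidHom.range_eq_map, range_subtype]))
      refine (map_subgroupOf_eq_of_le hRMD).symm.le.trans (Subgroup.map_mono (Cores.le_pPrimeCore ?_))
      rw [Nat.card_congr (subgroupOfEquivOfLe hRMD).toEquiv, hR,
        Subgroup.card_map_of_injective N.subtype_injective]
      exact hRcop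
  have hN₁R : normalizer (D : Set G) ≤ normalizer (R : Set G) :=
    hRD ▸ normalizer_le_normalizer_pPrimeCore D
  have hN₁D : normalizer (P₁ : Set G) ≤ normalizer (D : Set G) := hcn P₁
  have hRcop' : (Nat.card R).Coprime p := by
    rw [hR, Subgroup.card_map_of_injective N.subtype_injective]; exact hRcop
  set fix' := (fixer G).comap N.subtype with hfix
  have hfR : RN ≤ fix' := by
    intro r hr
    have hrR : (r : G) ∈ R := ⟨r, hr, rfl⟩
    refine mem_fixer hO hP₁p le_sup_right hRcop' (Local.coprime_orderOf_of_mem hRcop' hrR)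
      (hRMD hrR) fun y _ hyn _ => ?_
    exact R.mul_mem ((mem_normalizer_iff.mp (hN₁R (hN₁D hyn)) _).mp hrR) (R.inv_mem hrR)
  set U := Cfsg.layer G ⊓ D with hU
  have hUN : U ≤ N := inf_le_right.trans hDN
  haveI hUn : (U.subgroupOf N).Normal := normal_subgroupOf_of_le_normalizer
    (le_trans (le_inf (by rw [normalizer_eq_top]; exact le_top) hND) inf_normalizer_le_normalizer_inf)
  have hKfix : ∀ Kb : Subgroup (↥N ⧸ RN), Cfsg.IsComponent Kb → Kb.comap q ≤ fix' := by
    intro Kb hKb
    have hUq : ((U.subgroupOf N).map q).Normal := hUn.map q (QuotientGroup.mk'_surjective _)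
    rcases component_le_or_commutator_eq_bot hKb hUq.isSubnormal with h | h
    · refine (comap_mono h).trans ?_
      rw [comap_map_eq, QuotientGroup.ker_mk']
      exact sup_le (fun u hu => layer_le_fixer (mem_subgroupOf.mp hu).1) hfR
    set K := (Kb.comap q).map N.subtype with hK
    have hKM : Kb.comap q ≤ M := comap_mono (le_layer hKb)
    have hKD : K ≤ D := (Subgroup.map_mono hKM).trans (map_le_iff_le_comap.mpr hMD)
    have hRK : R ≤ K := Subgroup.map_mono ((QuotientGroup.ker_mk' RN).symm.le.trans (ker_le_comap q Kb))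
    have hKperf : ⁅K, K⁆ ⊔ R = K := by
      rw [hK, ← map_commutator, hR, ← Subgroup.map_sup]
      congr 1
      have h1 : (⁅Kb.comap q, Kb.comap q⁆).map q = Kb := by
        rw [map_commutator, map_comap_eq_self_of_surjective (QuotientGroup.mk'_surjective _),
          component_commutator_self hKb]
      conv_rhs => rw [← h1, comap_map_eq, QuotientGroup.ker_mk']
    have hKU : ⁅K, U⁆ ≤ R := by
      rw [← map_subgroupOf_eq_of_le hUN, hK, ← map_commutator]
      refine Subgroup.map_mono ?_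
      refine le_trans ?_ (QuotientGroup.ker_mk' RN).le
      rw [← Subgroup.map_eq_bot_iff, map_commutator,
        map_comap_eq_self_of_surjective (QuotientGroup.mk'_surjective _), h]
    refine Local.le_of_pPrime_mem (R := RN) hRcop (hperf _ (component_commutator_self hKb)) fun z hz hord => ?_
    have hzK : (z : G) ∈ K := ⟨z, hz, rfl⟩
    refine mem_fixer hO hP₁p le_sup_right hRcop' (by rwa [Subgroup.coe_subtype, orderOf_coe]) (hKD hzK) fun y hyl hyn _ => ?_
    refine commutator_mem_of_perfect (U := U) (fun g hg => ?_) hRK hKperf hKU ?_ (fun k hk => ?_) hzK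
    · exact hN₁R ((sup_le (sup_le (hKD.trans le_normalizer) (inf_le_right.trans le_normalizer))
        (zpowers_le.mpr (hN₁D hyn)) : K ⊔ U ⊔ zpowers y ≤ normalizer (D : Set G)) hg)
    · exact inf_normalizer_le_normalizer_inf ⟨(normalizer_eq_top (Cfsg.layer G)).symm ▸ mem_top y, hN₁D hyn⟩
    · refine ⟨?_, D.mul_mem ((mem_normalizer_iff.mp (hN₁D hyn) k).mp (hKD hk)) (D.inv_mem (hKD hk))⟩
      have hc : k * y⁻¹ * k⁻¹ ∈ Cfsg.layer G :=
        (inferInstance : (Cfsg.layer G).Normal).conj_mem _ (inv_mem hyl) k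
      simpa [mul_assoc] using mul_mem hyl hc
  refine map_le_iff_le_comap.mpr ?_
  have hle : Cfsg.layer (↥N ⧸ RN) ≤ fix'.map q := layer_le fun Kb hKb => by
    rw [← map_comap_eq_self_of_surjective (QuotientGroup.mk'_surjective RN) Kb]
    exact Subgroup.map_mono (hKfix Kb hKb)
  refine (comap_mono hle).trans ?_
  rw [comap_map_eq, QuotientGroup.ker_mk']
  exact sup_le le_rfl hfR

/-- `O_{p'}(C_G(x))` fixes every component. -/
lemma centralizerPPrimeCore_le_fixer (hO : Cfsg.pPrimeCore p G = ⊥) {x : G} (hx : orderOf x = p) :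
    Cfsg.centralizerPPrimeCore p x ≤ fixer G := by
  have hP : IsPGroup p (zpowers x) := IsPGroup.iff_card.mpr ⟨1, by rw [Nat.card_zpowers, hx, pow_one]⟩
  set N := normalizer (zpowers x : Set G) with hN
  set C := centralizer ({x} : Set G) with hC
  have hC' : C = centralizer ((zpowers x : Subgroup G) : Set G) := by
    rw [zpowers_eq_closure, centralizer_closure]
  have hle : Cfsg.centralizerPPrimeCore p x ≤ N :=
    (map_subtype_le _).trans (hC'.le.trans (centralizer_le_normalizer _))
  have hn : N ≤ normalizer (Cfsg.centralizerPPrimeCore p x : Set G) := by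
    refine le_trans ?_ (normalizer_le_normalizer_pPrimeCore C)
    rw [hC']
    refine le_normalizer_iff.mpr fun g hg c hc => mem_centralizer_iff.mpr fun l hl => ?_
    have hl' : g⁻¹ * l * g ∈ zpowers x := (mem_normalizer_iff''.mp hg l).mp hl
    calc l * (g * c * g⁻¹) = g * ((g⁻¹ * l * g) * c) * g⁻¹ := by group
      _ = g * (c * (g⁻¹ * l * g)) * g⁻¹ := by rw [mem_centralizer_iff.mp hc _ hl']
      _ = g * c * g⁻¹ * l := by group
  haveI : ((Cfsg.centralizerPPrimeCore p x).subgroupOf N).Normal :=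
    normal_subgroupOf_of_le_normalizer hn
  have h1 : (Cfsg.centralizerPPrimeCore p x).subgroupOf N ≤ Cfsg.pPrimeCore p ↥N := by
    refine Cores.le_pPrimeCore ?_
    rw [Nat.card_congr (subgroupOfEquivOfLe hle).toEquiv, Cfsg.centralizerPPrimeCore,
      Subgroup.card_map_of_injective (centralizer ({x} : Set G)).subtype_injective]
    exact Cores.pPrimeCore_card_coprime p
  refine le_trans ?_ (preimage_layer_le_fixer hO hP)
  refine (map_subgroupOf_eq_of_le hle).symm.le.trans (Subgroup.map_mono (h1.trans ?_))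
  exact (QuotientGroup.ker_mk' _).symm.le.trans (ker_le_comap _ _)

/-- If `x` of order `p` moves the component `L`, then `O_{p'}(C_G(x))` centralizes `L`. -/
lemma commutator_eq_bot_of_moved (hO : Cfsg.pPrimeCore p G = ⊥) {x : G} (hx : orderOf x = p)
    {L : Subgroup G} (hL : Cfsg.IsComponent L)
    (hmov : ∀ k : ℕ, 0 < k → k < p → L.map (MulAut.conj (x ^ k)).toMonoidHom ≠ L) :
    ⁅L, Cfsg.centralizerPPrimeCore p x⁆ = ⊥ := by
  set W := Cfsg.centralizerPPrimeCore p x with hW
  set C := centralizer ({x} : Set G) with hC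
  set Lay := Cfsg.layer G with hLay
  have hWC : C ≤ normalizer (W : Set G) :=
    le_trans le_normalizer (normalizer_le_normalizer_pPrimeCore C)
  have hWcop : (Nat.card W).Coprime p := by
    rw [hW, Cfsg.centralizerPPrimeCore,
      Subgroup.card_map_of_injective (centralizer ({x} : Set G)).subtype_injective]
    exact Cores.pPrimeCore_card_coprime p
  -- the diagonal element attached to `l`
  have hdiag : ∀ l ∈ L, ∃ d m : G, d = l * m ∧ m ∈ centralizer (L : Set G) ∧ d ∈ C ∧ d ∈ Lay := by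
    intro l hl
    have key : ∀ k : ℕ, k < p → (l * x) ^ (k + 1) * (x ^ (k + 1))⁻¹ ∈ Lay ∧
        l⁻¹ * ((l * x) ^ (k + 1) * (x ^ (k + 1))⁻¹) ∈ centralizer (L : Set G) := by
      intro k
      induction k with
      | zero => exact fun _ => ⟨by simpa using le_layer hL hl, by simp⟩
      | succ k ih =>
        intro hk
        obtain ⟨h1, h2⟩ := ih (by omega)
        have e : (l * x) ^ (k + 1 + 1) * (x ^ (k + 1 + 1))⁻¹ =
            ((l * x) ^ (k + 1) * (x ^ (k + 1))⁻¹) * (x ^ (k + 1) * l * (x ^ (k + 1))⁻¹) := by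
          simp only [pow_succ _ (k + 1)]; group
        have hm : x ^ (k + 1) * l * (x ^ (k + 1))⁻¹ ∈ L.map (MulAut.conj (x ^ (k + 1))).toMonoidHom :=
          ⟨l, hl, rfl⟩
        constructor
        · rw [e]
          exact mul_mem h1 (le_layer (component_conj hL (x ^ (k + 1))) hm)
        · rw [e, ← mul_assoc]
          refine mul_mem h2 ?_
          exact commutator_eq_bot_iff_le_centralizer.mp (component_commutator_eq_bot_of_ne
            (component_conj hL (x ^ (k + 1))) hL (hmov (k + 1) (by omega) hk)) hm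
    obtain ⟨h1, h2⟩ := key (p - 1) (by have := hp.out.one_lt; omega)
    have hpp : p - 1 + 1 = p := by have := hp.out.one_lt; omega
    rw [hpp, show x ^ p = 1 from hx ▸ pow_orderOf_eq_one x, inv_one, mul_one] at h1 h2
    refine ⟨(l * x) ^ p, l⁻¹ * (l * x) ^ p, (mul_inv_cancel_left l _).symm, h2, ?_, h1⟩
    have hc : Commute l (l⁻¹ * (l * x) ^ p) := mem_centralizer_iff.mp h2 l hl
    have hd : (l * x) ^ p * l = l * (l * x) ^ p := by
      have := hc.eq
      rw [mul_inv_cancel_left, mul_assoc] at this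
      conv_rhs => rw [this]
      group
    rw [mem_centralizer_singleton_iff]
    have h3 := (Commute.refl (l * x)).pow_left p
    have h4 : l * ((l * x) ^ p * x) = l * (x * (l * x) ^ p) := by
      calc l * ((l * x) ^ p * x) = ((l * x) ^ p * l) * x := by rw [hd]; group
        _ = (l * x) ^ p * (l * x) := by group
        _ = (l * x) * (l * x) ^ p := h3.eq
        _ = l * (x * (l * x) ^ p) := by group
    exact mul_left_cancel h4
  have hLC : L ≤ normalizer (centralizer (L : Set G) : Set G) := le_normalizer_iff.mpr fun g hg c hc => by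
    rw [mem_centralizer_iff]
    intro a ha
    calc a * (g * c * g⁻¹) = g * ((g⁻¹ * a * g) * c) * g⁻¹ := by group
      _ = g * (c * (g⁻¹ * a * g)) * g⁻¹ := by
        rw [mem_centralizer_iff.mp hc _ (L.mul_mem (L.mul_mem (L.inv_mem hg) ha) hg)]
      _ = g * c * g⁻¹ * a := by group
  set J := W ⊓ Lay with hJ
  have hJL : J ≤ normalizer (L : Set G) := inf_le_right.trans (layer_le_normalizer hL)
  have hJC : J ≤ normalizer (centralizer (L : Set G) : Set G) := fun g hg =>
    le_normalizer_iff.mpr (fun g hg c hc => mem_centralizer_iff.mpr fun a ha => by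
      have ha' : g⁻¹ * a * g ∈ L := (mem_normalizer_iff''.mp hg a).mp ha
      calc a * (g * c * g⁻¹) = g * ((g⁻¹ * a * g) * c) * g⁻¹ := by group
        _ = g * (c * (g⁻¹ * a * g)) * g⁻¹ := by rw [mem_centralizer_iff.mp hc _ ha']
        _ = g * c * g⁻¹ * a := by group) (hJL hg)
  have hQ : ((J ⊔ centralizer (L : Set G)).subgroupOf L).Normal := by
    refine normal_subgroupOf_of_le_normalizer fun l hl => ?_
    obtain ⟨d, m, hdm, hm, hdC, hdl⟩ := hdiag l hl
    have hdN : d ∈ normalizer ((J ⊔ centralizer (L : Set G) : Subgroup G) : Set G) := by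
      have hdJ : d ∈ normalizer (J : Set G) := inf_normalizer_le_normalizer_inf
        ⟨hWC hdC, (normalizer_eq_top Lay).symm ▸ mem_top d⟩
      have hdL : d ∈ normalizer (centralizer (L : Set G) : Set G) := by
        rw [hdm]; exact mul_mem (hLC hl) (le_normalizer hm)
      rw [mem_normalizer_iff_map_conj_eq] at hdJ hdL ⊢
      rw [Subgroup.map_sup]
      congr 1
    have : l = d * m⁻¹ := by rw [hdm]; group
    rw [this]
    exact mul_mem hdN (inv_mem (le_normalizer (mem_sup_right hm)))
  have hpow : ∀ z ∈ J ⊔ centralizer (L : Set G), z ^ Nat.card J ∈ centralizer (L : Set G) := by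
    intro z hz
    rw [sup_comm] at hz
    obtain ⟨c, hc, j, hj, rfl⟩ := (Coprime.mem_sup_of_le_normalizer hJC).mp hz
    have : ∀ n : ℕ, (c * j) ^ n * (j ^ n)⁻¹ ∈ centralizer (L : Set G) := by
      intro n
      induction n with
      | zero => simp
      | succ n ih =>
        have e : (c * j) ^ (n + 1) * (j ^ (n + 1))⁻¹ =
            ((c * j) ^ n * (j ^ n)⁻¹) * (j ^ n * c * (j ^ n)⁻¹) := by
          simp only [pow_succ]; group
        rw [e]
        exact mul_mem ih ((mem_normalizer_iff.mp (pow_mem (hJC hj) n) c).mp hc)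
    have hjn : j ^ Nat.card J = 1 := congrArg Subtype.val (pow_card_eq_one' (x := (⟨j, hj⟩ : J)))
    simpa [hjn] using this (Nat.card J)
  have hJcop : (Nat.card J).Coprime p := hWcop.coprime_dvd_left (card_dvd_of_le inf_le_left)
  -- `L ⊓ J C(L)` is central in `L`
  have hcent : (J ⊔ centralizer (L : Set G)).subgroupOf L ≤ Subgroup.center ↥L := by
    refine (quasisimple_eq_top_or_le_center_of_normal hL.2 _).resolve_left fun htop => ?_
    have hpel : ∀ z : L, (∃ k : ℕ, z ^ p ^ k = 1) → z ∈ Subgroup.center ↥L := by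
      rintro z ⟨k, hk⟩
      have hz : (z : G) ^ Nat.card J ∈ centralizer (L : Set G) :=
        hpow z (mem_subgroupOf.mp (htop ▸ mem_top z))
      have hco : (orderOf z).Coprime (Nat.card J) :=
        ((hJcop.pow_right k).symm).coprime_dvd_left (orderOf_dvd_of_pow_eq_one hk)
      obtain ⟨n, hn⟩ := exists_pow_eq_self_of_coprime hco.symm
      rw [← hn, Subgroup.mem_center_iff]
      intro w
      refine Subtype.ext ?_
      have := pow_mem hz n
      exact mem_centralizer_iff.mp this w w.2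
    obtain ⟨T⟩ := (inferInstance : Nonempty (Sylow p L))
    have hTc : (T : Subgroup L) ≤ Subgroup.center ↥L := fun z hz => hpel z (by
      obtain ⟨k, hk⟩ := T.isPGroup' ⟨z, hz⟩
      exact ⟨k, congrArg Subtype.val hk⟩)
    exact quasisimple_center_ne_top hL.2 (component_eq_top_of_coprime_index hO hL _
      ((hp.out.coprime_iff_not_dvd.mpr fun h => T.not_dvd_index (h.trans (index_dvd_of_le hTc))).symm))
  refine commutator_eq_bot_of_perfect (component_commutator_self hL) ?_
  rw [commutator_eq_bot_iff_le_centralizer]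
  refine commutator_le.mpr fun l hl w hw => ?_
  -- `[l, w]` lies in `L ⊓ J C(L)`
  have hwL : w ∈ normalizer (L : Set G) := by
    have := centralizerPPrimeCore_le_fixer hO hx hw
    simp only [fixer, mem_iInf] at this
    exact this ⟨L, hL⟩
  have hcl : ⁅l, w⁆ ∈ L := by
    rw [commutatorElement_def, mul_assoc, mul_assoc, ← mul_assoc w]
    exact L.mul_mem hl ((mem_normalizer_iff.mp hwL _).mp (L.inv_mem hl))
  obtain ⟨d, m, hdm, hm, hdC, hdl⟩ := hdiag l hl
  have hJd : ⁅d, w⁆ ∈ J := by
    refine ⟨W.mul_mem ((mem_normalizer_iff.mp (hWC hdC) w).mp hw) (W.inv_mem hw), ?_⟩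
    rw [commutatorElement_def, mul_assoc, mul_assoc, ← mul_assoc w]
    exact mul_mem hdl ((inferInstance : Lay.Normal).conj_mem _ (inv_mem hdl) w)
  have hwC : w ∈ normalizer (centralizer (L : Set G) : Set G) :=
    le_normalizer_iff.mpr (fun g hg c hc => mem_centralizer_iff.mpr fun a ha => by
      have ha' : g⁻¹ * a * g ∈ L := (mem_normalizer_iff''.mp hg a).mp ha
      calc a * (g * c * g⁻¹) = g * ((g⁻¹ * a * g) * c) * g⁻¹ := by group
        _ = g * (c * (g⁻¹ * a * g)) * g⁻¹ := by rw [mem_centralizer_iff.mp hc _ ha']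
        _ = g * c * g⁻¹ * a := by group) hwL
  have hlw : ⁅l, w⁆ ∈ J ⊔ centralizer (L : Set G) := by
    have e : ⁅l, w⁆ = (l * m⁻¹ * l⁻¹) * ⁅d, w⁆ * ((w * l) * (w⁻¹ * (w * m * w⁻¹) * w) * (w * l)⁻¹) := by
      rw [hdm]; simp only [commutatorElement_def]; group
    have hc1 : l * m⁻¹ * l⁻¹ ∈ centralizer (L : Set G) := (mem_normalizer_iff.mp (hLC hl) _).mp (inv_mem hm)
    have hc2 : (w * l) * (w⁻¹ * (w * m * w⁻¹) * w) * (w * l)⁻¹ ∈ centralizer (L : Set G) :=
      (mem_normalizer_iff.mp (mul_mem hwC (hLC hl)) _).mp (by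
        have : w⁻¹ * (w * m * w⁻¹) * w = m := by group
        rw [this]; exact hm)
    exact e ▸ mul_mem (mul_mem (mem_sup_right hc1) (mem_sup_left hJd)) (mem_sup_right hc2)
  refine mem_centralizer_iff.mpr fun a ha => ?_
  exact congrArg Subtype.val (Subgroup.mem_center_iff.mp
    (hcent (show (⟨⁅l, w⁆, hcl⟩ : L) ∈ (J ⊔ centralizer (L : Set G)).subgroupOf L from hlw)) ⟨a, ha⟩)

end Cfsg.Agent.Components.LocalFix
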