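import Cfsg.Agent.Lib.Components.LocalFix
import Cfsg.Agent.S1270
import Cfsg.Agent.Lib.Components.Hyperplane
import Cfsg.Prelude.Def_Balance

/-!
Local `k`-balance of the components forces `Δ_G(A) = 1` when `O_{p'}(G) = 1`.
-/

set_option autoImplicit false

namespace Cfsg.Agent.Components.LocalBalance

open Subgroup
open Cfsg.Agent.Components.Basic Cfsg.Agent.Components.Fitting Cfsg.Agent.Components.PComponents

universe u

variable {G : Type u} [Group G] {p : ℕ}

/-- An automorphism acts on the quotient by the center. -/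
def quotCenterAut (A : Type u) [Group A] : MulAut A →* MulAut (A ⧸ Subgroup.center A) where
  toFun e := QuotientGroup.congr (Subgroup.center A) (Subgroup.center A) e (by
    ext x
    simp only [mem_map, mem_center_iff]
    constructor
    · rintro ⟨y, hy, rfl⟩ g
      obtain ⟨g, rfl⟩ := e.surjective g
      rw [show (e : A →* A) y = e y from rfl, ← map_mul, ← map_mul, hy]
    · intro hx
      refine ⟨e.symm x, fun g => e.injective ?_, e.apply_symm_apply x⟩
      simpa using hx (e g))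
  map_one' := by
    ext x
    induction x using QuotientGroup.induction_on
    rfl
  map_mul' e f := by
    ext x
    induction x using QuotientGroup.induction_on
    rfl

/-- The action of `N_G(L)` on `L/Z(L)`. -/
def actQuot (L : Subgroup G) : normalizer (L : Set G) →* MulAut (↥L ⧸ Subgroup.center ↥L) :=
  (quotCenterAut ↥L).comp L.normalizerMonoidHom

lemma actQuot_apply {L : Subgroup G} (g : normalizer (L : Set G)) (l : L) :
    actQuot L g (QuotientGroup.mk l) =
      QuotientGroup.mk (⟨(g : G) * l * (g : G)⁻¹, (mem_normalizer_iff.mp g.2 l).mp l.2⟩ : L) := rfl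

/-- The action on `L/Z(L)` has kernel `C(L)` for a component `L`. -/
lemma actQuot_eq_one_iff {L : Subgroup G} (hL : Cfsg.IsComponent L) (g : normalizer (L : Set G)) :
    actQuot L g = 1 ↔ (g : G) ∈ centralizer (L : Set G) := by
  constructor
  · intro hg
    refine le_centralizer_iff.mp (commutator_eq_bot_iff_le_centralizer.mp
      (commutator_eq_bot_of_perfect (component_commutator_self hL) (M := zpowers (g : G)) ?_))
      (mem_zpowers (g : G))
    rw [commutator_eq_bot_iff_le_centralizer]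
    refine commutator_le.mpr ?_
    rintro l hl _ ⟨n, rfl⟩
    have hn : actQuot L (g ^ n) = 1 := by rw [map_zpow, hg, one_zpow]
    have h := congrArg (fun f : MulAut (↥L ⧸ Subgroup.center ↥L) => f (QuotientGroup.mk ⟨l, hl⟩)) hn
    simp only [actQuot_apply, MulAut.one_apply] at h
    rw [eq_comm, QuotientGroup.eq, Subgroup.mem_center_iff] at h
    rw [mem_centralizer_iff]
    intro a ha
    have hl' : ((g ^ n : normalizer (L : Set G)) : G) * l * ((g ^ n : normalizer (L : Set G)) : G)⁻¹ ∈ L :=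
      (mem_normalizer_iff.mp (g ^ n).2 l).mp hl
    have h' := congrArg Subtype.val
      (h (⟨l⁻¹ * a * l, L.mul_mem (L.mul_mem (L.inv_mem hl) ha) hl⟩ : L))
    simp only [Subgroup.coe_mul, Subgroup.coe_inv, SubgroupClass.coe_zpow] at h'
    simp only [commutatorElement_def]
    have e : l⁻¹ * ((g : G) ^ n * l * ((g : G) ^ n)⁻¹) =
        l⁻¹ * (l * (g : G) ^ n * l⁻¹ * ((g : G) ^ n)⁻¹)⁻¹ * l := by group
    rw [e] at h'
    have h'' : a * (l * (g : G) ^ n * l⁻¹ * ((g : G) ^ n)⁻¹)⁻¹ =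
        (l * (g : G) ^ n * l⁻¹ * ((g : G) ^ n)⁻¹)⁻¹ * a :=
      calc a * (l * (g : G) ^ n * l⁻¹ * ((g : G) ^ n)⁻¹)⁻¹
          = l * ((l⁻¹ * a * l) * (l⁻¹ * (l * (g : G) ^ n * l⁻¹ * ((g : G) ^ n)⁻¹)⁻¹ * l)) * l⁻¹ := by group
        _ = l * ((l⁻¹ * (l * (g : G) ^ n * l⁻¹ * ((g : G) ^ n)⁻¹)⁻¹ * l) * (l⁻¹ * a * l)) * l⁻¹ := by rw [h']
        _ = (l * (g : G) ^ n * l⁻¹ * ((g : G) ^ n)⁻¹)⁻¹ * a := by group
    exact (Commute.inv_right_iff.mp h'').eq
  · intro hg
    ext x
    induction x using QuotientGroup.induction_on with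
    | H l =>
      rw [actQuot_apply, MulAut.one_apply]
      congr 1
      refine Subtype.ext ?_
      show (g : G) * l * (g : G)⁻¹ = l
      rw [← mem_centralizer_iff.mp hg l l.2, mul_inv_cancel_right]

variable [Finite G] [hp : Fact p.Prime]

/-- `O_{p'}(C_G(a))` centralizes `O_p(G)`. -/
lemma centralizerPPrimeCore_le_centralizer_pCore {x : G} (hx : orderOf x = p) :
    Cfsg.centralizerPPrimeCore p x ≤ centralizer (Cfsg.pCore p G : Set G) := by
  have hP : IsPGroup p (zpowers x) := IsPGroup.iff_card.mpr ⟨1, by rw [Nat.card_zpowers, hx, pow_one]⟩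
  set N := normalizer (zpowers x : Set G) with hN
  set C := centralizer ({x} : Set G) with hC
  set W := Cfsg.centralizerPPrimeCore p x with hW
  have hC' : C = centralizer ((zpowers x : Subgroup G) : Set G) := by
    rw [zpowers_eq_closure, centralizer_closure]
  have hle : W ≤ N := (map_subtype_le _).trans (hC'.le.trans (centralizer_le_normalizer _))
  have hn : N ≤ normalizer (W : Set G) := by
    refine le_trans ?_ (LocalFix.normalizer_le_normalizer_pPrimeCore C)
    rw [hC']
    refine le_normalizer_iff.mpr fun g hg c hc => mem_centralizer_iff.mpr fun l hl => ?_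
    have hl' : g⁻¹ * l * g ∈ zpowers x := (mem_normalizer_iff''.mp hg l).mp hl
    calc l * (g * c * g⁻¹) = g * ((g⁻¹ * l * g) * c) * g⁻¹ := by group
      _ = g * (c * (g⁻¹ * l * g)) * g⁻¹ := by rw [mem_centralizer_iff.mp hc _ hl']
      _ = g * c * g⁻¹ * l := by group
  haveI : (W.subgroupOf N).Normal := normal_subgroupOf_of_le_normalizer hn
  have hWcop : (Nat.card W).Coprime p := by
    rw [hW, Cfsg.centralizerPPrimeCore,
      Subgroup.card_map_of_injective (centralizer ({x} : Set G)).subtype_injective]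
    exact Cores.pPrimeCore_card_coprime p
  have h1 : W.subgroupOf N ≤ Cfsg.pPrimeCore p ↥N :=
    Cores.le_pPrimeCore (by rwa [Nat.card_congr (subgroupOfEquivOfLe hle).toEquiv])
  intro w hw
  refine Local.mem_centralizer_pCore hP (Local.coprime_orderOf_of_mem hWcop hw) ?_
  rw [mem_centralizer_iff]
  rintro _ ⟨z, hz, rfl⟩
  have hc : ⁅Cfsg.pCore p ↥N, Cfsg.pPrimeCore p ↥N⁆ = ⊥ :=
    commutator_eq_bot_of_disjoint (disjoint_iff.mpr (Cores.pCore_inf_pPrimeCore p))
  exact congrArg Subtype.val (mem_centralizer_iff.mp (commutator_eq_bot_iff_le_centralizer.mp hc hz)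
    ⟨w, hle hw⟩ (h1 hw)).symm

set_option maxHeartbeats 1000000 in
/-- The action on a component: subgroups of `Δ(A)` go to `Δ` of the image of `A`.  `E` is any group containing
`A`, centralizing it, and normalizing `D`. -/
lemma exists_action_delta (hO : Cfsg.pPrimeCore p G = ⊥) {k : ℕ} {A D E L : Subgroup G}
    (hA : Cfsg.IsElementaryAbelian p A) (hAk : Nat.card A = p ^ k) (hL : Cfsg.IsComponent L)
    {M : Type u} [Group M] (act : normalizer (L : Set G) →* MulAut M)
    (hact : ∀ g, act g = 1 ↔ (g : G) ∈ centralizer (L : Set G))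
    (hinn₀ : (MulAut.conj : M →* MulAut M).range ≤ (L.subgroupOf (normalizer (L : Set G))).map act)
    (hAE : A ≤ E) (hEA : E ≤ centralizer (A : Set G)) (hED : E ≤ normalizer (D : Set G))
    (hEL : E ≤ normalizer (L : Set G)) (hAf : A ⊓ centralizer (L : Set G) = ⊥)
    (hDL : D ≤ normalizer (L : Set G)) (hDO : D ≤ centralizer (Cfsg.pCore p G : Set G))
    (hD : ∀ a ∈ A, a ≠ 1 → D ≤ Cfsg.centralizerPPrimeCore p a) :
    ∃ (H₀ : Subgroup (MulAut M)) (f : ↥(E ⊔ D) →* ↥H₀) (Ab : Subgroup ↥H₀),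
      (MulAut.conj : M →* MulAut M).range ≤ H₀ ∧ (∀ h, f h = 1 ↔ (h : G) ∈ centralizer (L : Set G)) ∧
        Cfsg.IsElementaryAbelian p Ab ∧ Nat.card Ab = p ^ k ∧
        (∀ y ∈ Ab, ∃ a : ↥(E ⊔ D), (a : G) ∈ A ∧ f a = y) ∧
        ∀ d : ↥(E ⊔ D), (d : G) ∈ D → f d ∈ Cfsg.signalizerDelta p Ab := by
  have hAL : A ≤ normalizer (L : Set G) := hAE.trans hEL
  set T := E ⊔ D with hT
  have hTL : T ≤ normalizer (L : Set G) := sup_le hEL hDL
  set H := L ⊔ T with hH
  have hHL : H ≤ normalizer (L : Set G) := sup_le le_normalizer hTL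
  set ψ : H →* MulAut M := act.comp (inclusion hHL) with hψ
  have hker : ∀ h : H, ψ h = 1 ↔ (h : G) ∈ centralizer (L : Set G) := fun h =>
    hact (inclusion hHL h)
  have hinn : (MulAut.conj : M →* MulAut M).range ≤ ψ.range := by
    intro y hy
    obtain ⟨⟨l, _⟩, hl, rfl⟩ := hinn₀ hy
    exact ⟨⟨l, mem_sup_left hl⟩, rfl⟩
  haveI : Finite ψ.range := Finite.of_surjective _ ψ.rangeRestrict_surjective
  set q := ψ.rangeRestrict with hq
  have hq1 : ∀ h : H, q h = 1 ↔ (h : G) ∈ centralizer (L : Set G) := fun h => by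
    rw [← hker, Subtype.ext_iff]; rfl
  set Ab := (A.subgroupOf H).map q with hAb
  have hTH : T ≤ H := le_sup_right
  have hAH : A ≤ H := (hAE.trans le_sup_left).trans le_sup_right
  have hDH : D ≤ H := le_sup_right.trans le_sup_right
  haveI : IsMulCommutative A := hA.1
  have hAcomm : ∀ a ∈ A, ∀ b ∈ A, a * b = b * a := fun a ha b hb => Hyperplane.mem_comm hA ha hb
  have hAbE : Cfsg.IsElementaryAbelian p Ab := by
    refine ⟨⟨⟨?_⟩⟩, ?_⟩
    · rintro ⟨_, a, ha, rfl⟩ ⟨_, b, hb, rfl⟩
      refine Subtype.ext ?_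
      show q a * q b = q b * q a
      rw [← map_mul, ← map_mul]
      exact congrArg q (Subtype.ext (hAcomm _ ha _ hb))
    · rintro _ ⟨a, ha, rfl⟩
      rw [← map_pow, show a ^ p = 1 from Subtype.ext (hA.2 _ ha), map_one]
  have hAbc : Nat.card Ab = p ^ k := by
    rw [← hAk, ← Nat.card_congr (subgroupOfEquivOfLe hAH).toEquiv]
    set f := q.comp (A.subgroupOf H).subtype with hf
    have hinj : Function.Injective f := by
      rw [← MonoidHom.ker_eq_bot_iff, eq_bot_iff]
      intro a ha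
      have h1 : ((a : H) : G) ∈ A ⊓ centralizer (L : Set G) := ⟨a.2, (hq1 _).mp ha⟩
      rw [hAf, Subgroup.mem_bot] at h1
      exact Subtype.ext (Subtype.ext h1)
    rw [Nat.card_congr (MonoidHom.ofInjective hinj).toEquiv]
    have he : f.range = Ab := (MonoidHom.range_comp q (A.subgroupOf H).subtype).trans
      (congrArg (Subgroup.map q) (range_subtype _))
    rw [he]
  refine ⟨ψ.range, q.comp (inclusion hTH), Ab, hinn, fun h => hq1 _, hAbE, hAbc, ?_, ?_⟩
  · rintro _ ⟨y, hy, rfl⟩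
    exact ⟨⟨(y : G), mem_sup_left (hAE hy)⟩, hy, rfl⟩
  rintro ⟨d, hdT⟩ hd
  show q ⟨d, hDH hd⟩ ∈ Cfsg.signalizerDelta p Ab
  simp only [Cfsg.signalizerDelta, mem_iInf]
  rintro ⟨_, ⟨x', hxA, rfl⟩, hne⟩
  set x : G := (x' : G) with hx
  have hx1 : x ≠ 1 := fun h => hne (by rw [show x' = 1 from Subtype.ext h, map_one])
  have hord : orderOf x = p := orderOf_eq_prime (hA.2 _ hxA) hx1
  have hTx : T ≤ centralizer ({x} : Set G) := sup_le
    (fun a ha => mem_centralizer_singleton_iff.mpr (mem_centralizer_iff.mp (hEA ha) x hxA).symm)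
    ((hD x hxA hx1).trans (map_subtype_le _))
  have hxL : x ∈ normalizer (L : Set G) := hAL hxA
  set C₀ := L ⊓ centralizer ({x} : Set G) with hC₀
  set V := C₀ ⊔ D with hV
  have hVH : V ≤ H := sup_le (inf_le_left.trans le_sup_left) hDH
  have hVx : V ≤ centralizer ({x} : Set G) := sup_le inf_le_right (le_sup_right.trans hTx)
  set W := Cfsg.centralizerPPrimeCore p x ⊓ V with hW
  have hVW : V ≤ normalizer (W : Set G) := le_trans (le_inf
    (hVx.trans (le_trans le_normalizer (LocalFix.normalizer_le_normalizer_pPrimeCore _))) le_normalizer)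
    inf_normalizer_le_normalizer_inf
  have hTV : T ≤ normalizer (V : Set G) := by
    have hTC : T ≤ normalizer (C₀ : Set G) :=
      le_trans (le_inf hTL (hTx.trans le_normalizer)) inf_normalizer_le_normalizer_inf
    refine sup_le (fun a ha => ?_) ((le_sup_right : D ≤ V).trans le_normalizer)
    rw [mem_normalizer_iff_map_conj_eq, hV, Subgroup.map_sup,
      mem_normalizer_iff_map_conj_eq.mp (hTC (mem_sup_left ha))]
    congr 1
    exact mem_normalizer_iff_map_conj_eq.mp (hED ha)
  set Cb := centralizer ({q x'} : Set ψ.range) with hCb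
  set Vb := (V.subgroupOf H).map q with hVb
  set Wb := (W.subgroupOf H).map q with hWb
  have hVC : Vb ≤ Cb := by
    rintro _ ⟨v, hv, rfl⟩
    rw [mem_centralizer_singleton_iff, ← map_mul, ← map_mul]
    congr 1
    exact Subtype.ext (mem_centralizer_singleton_iff.mp (hVx hv))
  have hWV : Wb ≤ Vb := Subgroup.map_mono (fun u hu => mem_subgroupOf.mpr (mem_inf.mp (mem_subgroupOf.mp hu)).2)
  have hCV : Cb ≤ normalizer (Vb : Set ψ.range) := by
    intro y hy
    obtain ⟨⟨g, hg⟩, rfl⟩ := ψ.rangeRestrict_surjective y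
    obtain ⟨l, hl, u, hu, rfl⟩ := (Coprime.mem_sup_of_le_normalizer hTL).mp hg
    have hux := mem_centralizer_singleton_iff.mp (hTx hu)
    have hz1 : q (x' * ⟨l * u, hg⟩ * x'⁻¹ * (⟨l * u, hg⟩ : H)⁻¹) = 1 := by
      rw [map_mul, map_mul, map_mul, map_inv, map_inv,
        (mem_centralizer_singleton_iff.mp hy).symm, mul_inv_cancel_right, mul_inv_cancel]
    have hz2 : x * l * x⁻¹ * l⁻¹ ∈ centralizer (L : Set G) := by
      have hc : u * x⁻¹ * u⁻¹ = x⁻¹ := by
        calc u * x⁻¹ * u⁻¹ = (u * x * u⁻¹)⁻¹ := by group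
          _ = x⁻¹ := by rw [hux, mul_inv_cancel_right]
      have e : x * l * x⁻¹ * l⁻¹ = x * (l * u) * x⁻¹ * (l * u)⁻¹ := by
        calc x * l * x⁻¹ * l⁻¹ = x * l * (u * x⁻¹ * u⁻¹) * l⁻¹ := by rw [hc]
          _ = _ := by group
      rw [e]; exact (hq1 _).mp hz1
    set z := x * l * x⁻¹ * l⁻¹ with hz
    have hzL : z ∈ L := L.mul_mem ((mem_normalizer_iff.mp hxL l).mp hl) (L.inv_mem hl)
    have hzO : z ∈ Cfsg.pCore p G := by
      rw [← fitting_eq_pCore hO]
      exact le_fitting_of_isSubnormal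
        ((isSubnormal_map_subtype_iff hL.1 _).mpr (Subgroup.Normal.isSubnormal inferInstance))
        (@Group.nilpotent_of_mulEquiv _ _ _ _ (isNilpotent_of_isMulCommutative (Subgroup.center L))
          (equivMapOfInjective _ L.subtype L.subtype_injective))
        ⟨⟨z, hzL⟩, Subgroup.mem_center_iff.mpr fun w =>
          Subtype.ext (mem_centralizer_iff.mp hz2 w w.2), rfl⟩
    have hxl : x * l * x⁻¹ = z * l := by rw [hz]; group
    have hxl' : x * l⁻¹ * x⁻¹ = l⁻¹ * z⁻¹ := by
      calc x * l⁻¹ * x⁻¹ = (x * l * x⁻¹)⁻¹ := by group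
        _ = _ := by rw [hxl, mul_inv_rev]
    have fixed : ∀ c : G, c ∈ centralizer ({x} : Set G) → x * c * x⁻¹ = c := fun c hc => by
      rw [← mem_centralizer_singleton_iff.mp hc, mul_inv_cancel_right]
    have unfix : ∀ c : G, x * c * x⁻¹ = c → c ∈ centralizer ({x} : Set G) := fun c hc => by
      rw [mem_centralizer_singleton_iff]
      exact (mul_inv_eq_iff_eq_mul.mp hc).symm
    have hkey : ∀ c ∈ C₀, l * c * l⁻¹ ∈ C₀ := by
      intro c hc
      have hlc : l * c * l⁻¹ ∈ L := L.mul_mem (L.mul_mem hl hc.1) (L.inv_mem hl)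
      refine ⟨hlc, unfix _ ?_⟩
      calc x * (l * c * l⁻¹) * x⁻¹ = (x * l * x⁻¹) * (x * c * x⁻¹) * (x * l⁻¹ * x⁻¹) := by group
        _ = z * (l * c * l⁻¹) * z⁻¹ := by rw [hxl, hxl', fixed c hc.2]; group
        _ = l * c * l⁻¹ := by rw [← mem_centralizer_iff.mp hz2 _ hlc, mul_inv_cancel_right]
    have hkeyD : ∀ w ∈ D, l * w * l⁻¹ ∈ V := by
      intro w hw
      have hwl : w * l⁻¹ * w⁻¹ ∈ L := (mem_normalizer_iff.mp (hDL hw) _).mp (L.inv_mem hl)
      have hwx : w ∈ centralizer ({x} : Set G) := hTx (mem_sup_right hw)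
      have hcl : l * w * l⁻¹ * w⁻¹ ∈ L := by
        have := L.mul_mem hl hwl; simpa [mul_assoc] using this
      have hwz : z * w = w * z := mem_centralizer_iff.mp (hDO hw) z hzO
      have hc : l * w * l⁻¹ * w⁻¹ ∈ C₀ := by
        refine ⟨hcl, unfix _ ?_⟩
        calc x * (l * w * l⁻¹ * w⁻¹) * x⁻¹
            = (x * l * x⁻¹) * (x * w * x⁻¹) * (x * l⁻¹ * x⁻¹) * (x * w⁻¹ * x⁻¹) := by group
          _ = z * l * w * l⁻¹ * (z⁻¹ * w⁻¹) := by
            rw [hxl, hxl', fixed w hwx, fixed w⁻¹ (inv_mem hwx)]; group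
          _ = z * l * w * l⁻¹ * (w⁻¹ * z⁻¹) := by
            rw [← mul_inv_rev w z, ← mul_inv_rev z w, hwz]
          _ = z * (l * w * l⁻¹ * w⁻¹) * z⁻¹ := by group
          _ = _ := by rw [← mem_centralizer_iff.mp hz2 _ hcl, mul_inv_cancel_right]
      have : l * w * l⁻¹ = (l * w * l⁻¹ * w⁻¹) * w := by group
      rw [this]; exact mul_mem (mem_sup_left hc) (mem_sup_right hw)
    have hlV : l ∈ normalizer (V : Set G) := by
      have hle : V.map (MulAut.conj l).toMonoidHom ≤ V := by
        rw [map_le_iff_le_comap]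
        exact sup_le (fun c hc => mem_sup_left (hkey c hc)) hkeyD
      rw [mem_normalizer_iff_map_conj_eq]
      exact Subgroup.eq_of_le_of_card_ge hle
        (le_of_eq (Subgroup.card_map_of_injective (MulAut.conj l).injective).symm)
    exact le_normalizer_map q ⟨⟨l * u, hg⟩,
      le_normalizer_comap H.subtype (show l * u ∈ normalizer (V : Set G) from mul_mem hlV (hTV hu)), rfl⟩
  have hVbW : Vb ≤ normalizer (Wb : Set ψ.range) := by
    refine le_trans (Subgroup.map_mono ?_) (le_normalizer_map q)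
    exact fun v hv => le_normalizer_comap H.subtype (hVW hv)
  have hsub : (Wb.subgroupOf Cb).IsSubnormal := by
    have h2 : (Vb.subgroupOf Cb).Normal := normal_subgroupOf_of_le_normalizer hCV
    refine IsSubnormal.trans (fun u hu => hWV hu) (normal_subgroupOf_of_le_normalizer ?_).isSubnormal
      h2.isSubnormal
    exact fun u hu => le_normalizer_comap Cb.subtype (hVbW hu)
  have hWbc : (Nat.card (Wb.subgroupOf Cb)).Coprime p := by
    rw [Nat.card_congr (subgroupOfEquivOfLe (hWV.trans hVC)).toEquiv]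
    refine Nat.Coprime.coprime_dvd_left ((W.subgroupOf H).card_map_dvd q) ?_
    rw [Nat.card_congr (subgroupOfEquivOfLe ((inf_le_right : W ≤ V).trans hVH)).toEquiv]
    refine Nat.Coprime.coprime_dvd_left (card_dvd_of_le inf_le_left) ?_
    rw [Cfsg.centralizerPPrimeCore,
      Subgroup.card_map_of_injective (centralizer ({x} : Set G)).subtype_injective]
    exact Cores.pPrimeCore_card_coprime p
  have hdW : q ⟨d, hDH hd⟩ ∈ Wb := ⟨⟨d, hDH hd⟩, ⟨hD x hxA hx1 hd, mem_sup_right hd⟩, rfl⟩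
  refine ⟨⟨_, hVC (hWV hdW)⟩, le_pPrimeCore_of_isSubnormal hsub hWbc hdW, rfl⟩

/-- A component acting as a locally `k`-balanced group is centralized by subgroups of `Δ(A)`. -/
lemma le_centralizer_component_of_action (hO : Cfsg.pPrimeCore p G = ⊥) {k : ℕ} {A D L : Subgroup G}
    (hA : Cfsg.IsElementaryAbelian p A) (hAk : Nat.card A = p ^ k) (hL : Cfsg.IsComponent L)
    {M : Type u} [Group M] (act : normalizer (L : Set G) →* MulAut M)
    (hact : ∀ g, act g = 1 ↔ (g : G) ∈ centralizer (L : Set G))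
    (hinn₀ : (MulAut.conj : M →* MulAut M).range ≤ (L.subgroupOf (normalizer (L : Set G))).map act)
    (hloc : Cfsg.IsLocallyKBalanced p k M)
    (hAL : A ≤ normalizer (L : Set G)) (hAf : A ⊓ centralizer (L : Set G) = ⊥)
    (hDL : D ≤ normalizer (L : Set G)) (hDO : D ≤ centralizer (Cfsg.pCore p G : Set G))
    (hD : ∀ a ∈ A, a ≠ 1 → D ≤ Cfsg.centralizerPPrimeCore p a) :
    D ≤ centralizer (L : Set G) := by
  have hDA : A ≤ centralizer (D : Set G) := fun a ha => mem_centralizer_iff.mpr fun e he => by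
    by_cases ha1 : a = 1
    · rw [ha1, mul_one, one_mul]
    · exact mem_centralizer_singleton_iff.mp (map_subtype_le _ (hD a ha ha1 he))
  obtain ⟨H₀, f, Ab, hinn, hf, hE, hc, -, hdel⟩ := exists_action_delta hO hA hAk hL act hact hinn₀
    le_rfl (fun a ha => mem_centralizer_iff.mpr fun b hb => Hyperplane.mem_comm hA hb ha)
    (hDA.trans (centralizer_le_normalizer _)) hAL hAf hDL hDO hD
  intro d hd
  refine (hf ⟨d, mem_sup_right hd⟩).mp ?_
  rw [← Subgroup.mem_bot, ← hloc H₀ hinn Ab hE hc]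
  exact hdel ⟨d, mem_sup_right hd⟩ hd

/-- A locally `k`-balanced component is centralized by subgroups of `Δ(A)`. -/
lemma le_centralizer_component (hO : Cfsg.pPrimeCore p G = ⊥) {k : ℕ} {A D L : Subgroup G}
    (hA : Cfsg.IsElementaryAbelian p A) (hAk : Nat.card A = p ^ k) (hL : Cfsg.IsComponent L)
    (hloc : Cfsg.IsLocallyKBalanced p k (↥L ⧸ Subgroup.center ↥L))
    (hAL : A ≤ normalizer (L : Set G)) (hAf : A ⊓ centralizer (L : Set G) = ⊥)
    (hDL : D ≤ normalizer (L : Set G)) (hDO : D ≤ centralizer (Cfsg.pCore p G : Set G))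
    (hD : ∀ a ∈ A, a ≠ 1 → D ≤ Cfsg.centralizerPPrimeCore p a) :
    D ≤ centralizer (L : Set G) := by
  refine le_centralizer_component_of_action hO hA hAk hL (actQuot L) (actQuot_eq_one_iff hL) ?_ hloc
    hAL hAf hDL hDO hD
  rintro _ ⟨y, rfl⟩
  induction y using QuotientGroup.induction_on with
  | H l =>
    refine ⟨⟨l, le_normalizer l.2⟩, l.2, ?_⟩
    ext x
    induction x using QuotientGroup.induction_on with
    | H z => rfl

/-- The same with the component itself locally `k`-balanced. -/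
lemma le_centralizer_component_self (hO : Cfsg.pPrimeCore p G = ⊥) {k : ℕ} {A D L : Subgroup G}
    (hA : Cfsg.IsElementaryAbelian p A) (hAk : Nat.card A = p ^ k) (hL : Cfsg.IsComponent L)
    (hloc : Cfsg.IsLocallyKBalanced p k ↥L)
    (hAL : A ≤ normalizer (L : Set G)) (hAf : A ⊓ centralizer (L : Set G) = ⊥)
    (hDL : D ≤ normalizer (L : Set G)) (hDO : D ≤ centralizer (Cfsg.pCore p G : Set G))
    (hD : ∀ a ∈ A, a ≠ 1 → D ≤ Cfsg.centralizerPPrimeCore p a) :
    D ≤ centralizer (L : Set G) := by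
  refine le_centralizer_component_of_action hO hA hAk hL L.normalizerMonoidHom (fun g => ?_) ?_ hloc
    hAL hAf hDL hDO hD
  · rw [MulEquiv.ext_iff, mem_centralizer_iff]
    refine ⟨fun h a ha => ?_, fun h a => Subtype.ext ?_⟩
    · have h2 : (g : G) * a * (g : G)⁻¹ = a := congrArg Subtype.val (h ⟨a, ha⟩)
      exact (mul_inv_eq_iff_eq_mul.mp h2).symm
    · show (g : G) * a * (g : G)⁻¹ = a
      rw [← h a a.2, mul_inv_cancel_right]
  · rintro _ ⟨l, rfl⟩
    exact ⟨⟨l, le_normalizer l.2⟩, l.2, MulEquiv.ext fun x => rfl⟩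

/-- With `O_{p'}(G) = 1`, if the balance conclusion holds at each component then `Δ_G(A) = 1`. -/
theorem eq_bot_of_components (hO : Cfsg.pPrimeCore p G = ⊥) {k : ℕ} (hk : 1 ≤ k)
    {A D : Subgroup G} (hA : Cfsg.IsElementaryAbelian p A) (hAk : Nat.card A = p ^ k)
    (hD : ∀ a ∈ A, a ≠ 1 → D ≤ Cfsg.centralizerPPrimeCore p a)
    (h : ∀ L : Subgroup G, Cfsg.IsComponent L → A ≤ normalizer (L : Set G) →
      A ⊓ centralizer (L : Set G) = ⊥ → D ≤ normalizer (L : Set G) →
      D ≤ centralizer (Cfsg.pCore p G : Set G) → D ≤ centralizer (L : Set G)) : D = ⊥ := by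
  obtain ⟨a, ha, ha1⟩ : ∃ a ∈ A, a ≠ 1 := by
    refine A.bot_or_exists_ne_one.resolve_left fun h => ?_
    rw [h, Subgroup.card_bot] at hAk
    exact absurd hAk.symm (Nat.one_lt_pow (by omega) hp.out.one_lt).ne'
  have hao : orderOf a = p := orderOf_eq_prime (hA.2 a ha) ha1
  have hDO : D ≤ centralizer (Cfsg.pCore p G : Set G) :=
    (hD a ha ha1).trans (centralizerPPrimeCore_le_centralizer_pCore hao)
  have hDE : Cfsg.layer G ≤ centralizer (D : Set G) := by
    refine layer_le fun L hL => le_centralizer_iff.mp ?_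
    by_cases hne : ∀ b ∈ A, b ≠ 1 → ⁅L, zpowers b⁆ = L
    · refine h L hL (fun b hb => ?_) ?_ ?_ hDO
      · by_cases hb1 : b = 1
        · rw [hb1]; exact one_mem _
        · exact le_normalizer_iff_commutator_le_left.mpr (hne b hb hb1).le (mem_zpowers b)
      · rw [eq_bot_iff]
        rintro b ⟨hb, hbc⟩
        by_contra hb1
        refine component_ne_bot hL ((hne b hb hb1).symm.trans ?_)
        rw [commutator_eq_bot_iff_le_centralizer, le_centralizer_iff]
        exact zpowers_le.mpr hbc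
      · intro d hd
        have := LocalFix.centralizerPPrimeCore_le_fixer hO hao (hD a ha ha1 hd)
        simp only [LocalFix.fixer, mem_iInf] at this
        exact this ⟨L, hL⟩
    · push Not at hne
      obtain ⟨b, hb, hb1, hbne⟩ := hne
      refine (hD b hb hb1).trans ?_
      rw [le_centralizer_iff]
      exact commutator_eq_bot_iff_le_centralizer.mp
        (Cfsg.Agent.S1270.result p hO b (orderOf_eq_prime (hA.2 b hb) hb1) L hL hbne)
  have hDF : D ≤ centralizer (Cfsg.generalizedFittingSubgroup G : Set G) := by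
    rw [le_centralizer_iff, Cfsg.generalizedFittingSubgroup, fitting_eq_pCore hO]
    exact sup_le hDE (le_centralizer_iff.mp hDO)
  have hle := centralizer_genFitting_le (G := G)
  haveI : IsMulCommutative ↥(centralizer (Cfsg.generalizedFittingSubgroup G : Set G)) :=
    ⟨⟨fun a b => Subtype.ext (mem_centralizer_iff.mp b.2 a.1 (hle a.2))⟩⟩
  have hDp : D ≤ Cfsg.pCore p G := hDF.trans (by
    rw [← fitting_eq_pCore hO]
    exact le_fitting_of_isSubnormal (Subgroup.Normal.isSubnormal inferInstance)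
      (isNilpotent_of_isMulCommutative _))
  refine (Subgroup.eq_bot_iff_forall D).mpr fun d hd => ?_
  have hc : (orderOf d).Coprime p := Local.coprime_orderOf_of_mem (R := Cfsg.centralizerPPrimeCore p a) (by
    rw [Cfsg.centralizerPPrimeCore,
      Subgroup.card_map_of_injective (centralizer ({a} : Set G)).subtype_injective]
    exact Cores.pPrimeCore_card_coprime p) (hD a ha ha1 hd)
  obtain ⟨m, hm⟩ := Cores.pCore_isPGroup p (⟨d, hDp hd⟩ : Cfsg.pCore p G)
  rw [← orderOf_eq_one_iff]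
  exact Nat.eq_one_of_dvd_coprimes (hc.pow_right m) dvd_rfl
    (orderOf_dvd_of_pow_eq_one (congrArg Subtype.val hm))

/-- With `O_{p'}(G) = 1` and all components locally `k`-balanced, `Δ_G(A) = 1`. -/
theorem eq_bot_of_locallyKBalanced (hO : Cfsg.pPrimeCore p G = ⊥) {k : ℕ} (hk : 1 ≤ k)
    (h : ∀ L : Subgroup G, Cfsg.IsComponent L → Cfsg.IsLocallyKBalanced p k (↥L ⧸ Subgroup.center ↥L))
    {A D : Subgroup G} (hA : Cfsg.IsElementaryAbelian p A) (hAk : Nat.card A = p ^ k)
    (hD : ∀ a ∈ A, a ≠ 1 → D ≤ Cfsg.centralizerPPrimeCore p a) : D = ⊥ :=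
  eq_bot_of_components hO hk hA hAk hD fun L hL h1 h2 h3 h4 =>
    le_centralizer_component hO hA hAk hL (h L hL) h1 h2 h3 h4 hD

/-- The same with the components themselves locally `k`-balanced. -/
theorem eq_bot_of_locallyKBalanced_self (hO : Cfsg.pPrimeCore p G = ⊥) {k : ℕ} (hk : 1 ≤ k)
    (h : ∀ L : Subgroup G, Cfsg.IsComponent L → Cfsg.IsLocallyKBalanced p k ↥L)
    {A D : Subgroup G} (hA : Cfsg.IsElementaryAbelian p A) (hAk : Nat.card A = p ^ k)
    (hD : ∀ a ∈ A, a ≠ 1 → D ≤ Cfsg.centralizerPPrimeCore p a) : D = ⊥ :=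
  eq_bot_of_components hO hk hA hAk hD fun L hL h1 h2 h3 h4 =>
    le_centralizer_component_self hO hA hAk hL (h L hL) h1 h2 h3 h4 hD

end Cfsg.Agent.Components.LocalBalance
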