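import Cfsg.Agent.Lib.Components.Fitting
import Cfsg.Agent.Lib.Components.PComponents
import Cfsg.Agent.Lib.Cores.Subnormal

/-!
Bender's theorem on two maximal subgroups containing each other's generalized Fitting subgroup.
-/

set_option autoImplicit false

namespace Cfsg.Agent.Components.MaximalPair

open Subgroup Cfsg.Agent.Components.Basic Cfsg.Agent.Components.Fitting Cfsg.Agent.Components.PComponents

universe u

variable {G : Type u} [Group G] [Finite G]

lemma le_normalizer_map_of_normal (M : Subgroup G) (X : Subgroup M) [X.Normal] :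
    M ≤ normalizer ((X.map M.subtype : Subgroup G) : Set G) :=
  le_normalizer_of_normal_subgroupOf (hK := by
    rw [subgroupOf, comap_map_eq_self_of_injective M.subtype_injective]; infer_instance) (map_subtype_le X)

/-- Disjoint subgroups normalizing each other commute elementwise. -/
lemma le_centralizer_of_disjoint {X Y : Subgroup G} (hXY : X ≤ normalizer (Y : Set G))
    (hYX : Y ≤ normalizer (X : Set G)) (h : X ⊓ Y = ⊥) : X ≤ centralizer (Y : Set G) := by
  rw [← commutator_eq_bot_iff_le_centralizer, ← le_bot_iff, ← h]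
  refine le_inf (le_normalizer_iff_commutator_le_left.mp hYX) ?_
  rw [commutator_comm]
  exact le_normalizer_iff_commutator_le_left.mp hXY

lemma normalizer_eq_of_coatom [IsSimpleGroup G] {M : Subgroup G} (hM : IsCoatom M) {X : Subgroup G}
    (hX : X ≤ M) (hn : M ≤ normalizer (X : Set G)) (hne : X ≠ ⊥) : normalizer (X : Set G) = M := by
  rcases hM.le_iff.mp hn with h | h
  · exfalso
    have hXn : X.Normal := normalizer_eq_top_iff.mp h
    rcases hXn.eq_bot_or_eq_top with h1 | h1
    · exact hne h1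
    · exact hM.1 (top_le_iff.mp (h1.ge.trans hX))
  · exact h

lemma centralizer_inf_le {N : Subgroup G} :
    centralizer (((Cfsg.generalizedFittingSubgroup N).map N.subtype : Subgroup G) : Set G) ⊓ N ≤
      (Cfsg.generalizedFittingSubgroup N).map N.subtype := by
  rintro x ⟨hx, hxN⟩
  refine ⟨⟨x, hxN⟩, centralizer_genFitting_le (mem_centralizer_iff.mpr fun y hy => Subtype.ext ?_), rfl⟩
  exact mem_centralizer_iff.mp hx y ⟨y, hy, rfl⟩

/-- A component of `M` is a component of `N`. -/
lemma layer_le_layer {M N : Subgroup G}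
    (h1 : (Cfsg.generalizedFittingSubgroup M).map M.subtype ≤ N)
    (h2 : (Cfsg.generalizedFittingSubgroup N).map N.subtype ≤ M) :
    (Cfsg.layer M).map M.subtype ≤ (Cfsg.layer N).map N.subtype := by
  rw [map_le_iff_le_comap]
  refine layer_le fun L hL => ?_
  rw [← map_le_iff_le_comap]
  set L' := L.map M.subtype with hL'
  have hLM : L' ≤ M := map_subtype_le L
  have hLN : L' ≤ N := (Subgroup.map_mono (component_le_genFitting hL)).trans h1
  set V := (Cfsg.generalizedFittingSubgroup N).map N.subtype with hV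
  have hVN : V ≤ N := map_subtype_le _
  set H := M ⊓ N with hH
  have hsn : (L'.subgroupOf H).IsSubnormal := by
    have e : L'.subgroupOf H = L.comap (inclusion (inf_le_left : H ≤ M)) := by
      ext x
      simp only [mem_subgroupOf, mem_comap, hL', Subgroup.mem_map, Subgroup.coe_subtype]
      exact ⟨fun ⟨y, hy, hyx⟩ => (Subtype.ext hyx : y = inclusion inf_le_left x) ▸ hy,
        fun h => ⟨_, h, rfl⟩⟩
    rw [e]
    exact hL.1.comap _
  have hcomp : Cfsg.IsComponent (L'.subgroupOf H) :=
    ⟨hsn, quasisimple_of_mulEquiv ((equivMapOfInjective L M.subtype M.subtype_injective).trans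
      (subgroupOfEquivOfLe (le_inf hLM hLN)).symm) hL.2⟩
  have hVH : (V.subgroupOf H).Normal := normal_subgroupOf_of_le_normalizer
    (inf_le_right.trans (le_normalizer_map_of_normal N _))
  have hVle : V ≤ H := le_inf h2 hVN
  have hLV : L' ≤ V := by
    rcases component_le_or_commutator_eq_bot hcomp hVH.isSubnormal with h | h
    · have := Subgroup.map_mono (f := H.subtype) h
      rwa [map_subgroupOf_eq_of_le (le_inf hLM hLN), map_subgroupOf_eq_of_le hVle] at this
    · have h' := congrArg (Subgroup.map H.subtype) h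
      rw [map_commutator, map_subgroupOf_eq_of_le (le_inf hLM hLN), map_subgroupOf_eq_of_le hVle,
        Subgroup.map_bot, commutator_eq_bot_iff_le_centralizer] at h'
      exact (le_inf h' hLN).trans centralizer_inf_le
  have hle : L'.subgroupOf N ≤ Cfsg.generalizedFittingSubgroup N := by
    intro x hx
    obtain ⟨y, hy, hyx⟩ := hLV hx
    rwa [← (Subtype.ext hyx : y = x)]
  have hsnN : (L'.subgroupOf N).IsSubnormal := by
    refine isSubnormal_of_isSubnormal_genFitting hle ?_
    let f : Cfsg.generalizedFittingSubgroup N →* H :=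
      MonoidHom.codRestrict ((N.subtype).comp (Cfsg.generalizedFittingSubgroup N).subtype) H
        fun z => hVle ⟨z, z.2, rfl⟩
    have e : (L'.subgroupOf N).subgroupOf (Cfsg.generalizedFittingSubgroup N) = (L'.subgroupOf H).comap f := rfl
    rw [e]
    exact hsn.comap f
  exact fun x hx => ⟨⟨x, hLN hx⟩, le_layer (L := L'.subgroupOf N)
    ⟨hsnN, quasisimple_of_mulEquiv ((equivMapOfInjective L M.subtype M.subtype_injective).trans
      (subgroupOfEquivOfLe hLN).symm) hL.2⟩ hx, rfl⟩

/-- `O_r` of a subgroup, inside the group. -/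
def core (r : ℕ) (M : Subgroup G) : Subgroup G := (Cfsg.pCore r M).map M.subtype

lemma le_normalizer_core (r : ℕ) (M : Subgroup G) : M ≤ normalizer (core r M : Set G) :=
  le_normalizer_map_of_normal M _

lemma core_isPGroup (r : ℕ) (M : Subgroup G) : IsPGroup r (core r M) :=
  (Cores.pCore_isPGroup r).map _

lemma core_le_fitting (r : ℕ) [Fact r.Prime] (M : Subgroup G) :
    core r M ≤ (Cfsg.fittingSubgroup M).map M.subtype :=
  Subgroup.map_mono (Fitting.pCore_le_fitting r)

/-- The `p'`-part of the Fitting subgroup, inside the group. -/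
def coPart (p : ℕ) (M : Subgroup G) : Subgroup G :=
  (Cfsg.fittingSubgroup M ⊓ Cfsg.pPrimeCore p M).map M.subtype

lemma disjoint_of_isPGroup {p : ℕ} [Fact p.Prime] {X Y : Subgroup G} (hX : IsPGroup p X)
    (hY : (Nat.card Y).Coprime p) : X ⊓ Y = ⊥ := by
  obtain ⟨k, hk⟩ := IsPGroup.iff_card.mp hX
  exact disjoint_iff.mp (disjoint_of_coprime_natCard (by rw [hk]; exact hY.symm.pow_left k))

/-- For two primes in `F(M)`, the part at one of them lies in `O_p(N)`. -/
lemma core_le_core {p q : ℕ} [hp : Fact p.Prime] [hq : Fact q.Prime] (hqp : q ≠ p) {M N : Subgroup G}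
    (h1 : (Cfsg.fittingSubgroup M).map M.subtype ≤ N) (h2 : (Cfsg.fittingSubgroup N).map N.subtype ≤ M)
    (hlay : Cfsg.layer N = ⊥) (hCq : centralizer (core q M : Set G) ⊓ N ≤ M) :
    core p M ≤ core p N := by
  set Vp := core p N with hVp
  set V' := coPart p N with hV'
  have hVpF : Vp ≤ (Cfsg.fittingSubgroup N).map N.subtype := core_le_fitting p N
  have hV'F : V' ≤ (Cfsg.fittingSubgroup N).map N.subtype := Subgroup.map_mono inf_le_left
  have hV'c : (Nat.card V').Coprime p :=
    (Cores.pPrimeCore_card_coprime p).coprime_dvd_left (by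
      rw [hV', coPart, card_subtype]; exact card_dvd_of_le inf_le_right)
  have hUpN : core p M ≤ N := (core_le_fitting p M).trans h1
  have hUqN : core q M ≤ N := (core_le_fitting q M).trans h1
  have hnV' : N ≤ normalizer (V' : Set G) := le_normalizer_map_of_normal N _
  have hnVp : N ≤ normalizer (Vp : Set G) := le_normalizer_core p N
  have hUpV' : core p M ≤ centralizer (V' : Set G) :=
    le_centralizer_of_disjoint (hUpN.trans hnV') (hV'F.trans (h2.trans (le_normalizer_core p M)))
      (disjoint_of_isPGroup (core_isPGroup p M) hV'c)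
  have hqc : (Nat.card (core q M)).Coprime p := by
    obtain ⟨k, hk⟩ := IsPGroup.iff_card.mp (core_isPGroup q M)
    rw [hk]
    exact ((Nat.coprime_primes hq.out hp.out).mpr hqp).pow_left k
  have hUqVp : core q M ≤ centralizer (Vp : Set G) :=
    le_centralizer_of_disjoint (hUqN.trans hnVp) (hVpF.trans (h2.trans (le_normalizer_core q M)))
      (by rw [inf_comm]; exact disjoint_of_isPGroup (core_isPGroup p N) hqc)
  set K := N ⊓ centralizer (V' : Set G) with hK
  have hNK : N ≤ normalizer (K : Set G) := fun g hg => by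
    have key : ∀ g ∈ N, ∀ k ∈ K, g * k * g⁻¹ ∈ K := fun g hg k hk =>
      ⟨N.mul_mem (N.mul_mem hg hk.1) (N.inv_mem hg), mem_centralizer_iff.mpr fun v hv => by
        have hv' : g⁻¹ * v * g ∈ V' := by simpa using (mem_normalizer_iff.mp (hnV' (N.inv_mem hg)) v).mp hv
        calc v * (g * k * g⁻¹) = g * ((g⁻¹ * v * g) * k) * g⁻¹ := by group
          _ = g * (k * (g⁻¹ * v * g)) * g⁻¹ := by rw [mem_centralizer_iff.mp hk.2 _ hv']
          _ = g * k * g⁻¹ * v := by group⟩
    exact mem_normalizer_iff.mpr fun k => ⟨key g hg k, fun h => by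
      simpa [mul_assoc] using key g⁻¹ (N.inv_mem hg) _ h⟩
  have hF : Cfsg.fittingSubgroup N ≤ Cfsg.pCore p N ⊔ (Cfsg.fittingSubgroup N ⊓ Cfsg.pPrimeCore p N) := by
    intro x hx
    obtain ⟨a, ha, b, hb, rfl⟩ := Subgroup.mem_sup_of_normal_right.mp
      ((Fitting.fitting_eq_coreJoin (G := N)).le.trans (Fitting.coreJoin_le_sup p) hx)
    refine mul_mem_sup ha ⟨?_, hb⟩
    have := (Cfsg.fittingSubgroup N).mul_mem ((Cfsg.fittingSubgroup N).inv_mem (Fitting.pCore_le_fitting p ha)) hx
    rwa [inv_mul_cancel_left] at this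
  -- the `p`-elements of `K` centralize `O_q(M)`
  have hel : ∀ k ∈ K, (∃ j : ℕ, k ^ p ^ j = 1) → k ∈ centralizer (core q M : Set G) := by
    rintro k hk ⟨j, hj⟩
    refine mem_centralizer_iff.mpr fun u hu => ?_
    set c := u * k * u⁻¹ * k⁻¹ with hc
    have hcK : c ∈ K := K.mul_mem ((mem_normalizer_iff.mp (hNK (hUqN hu)) k).mp hk) (K.inv_mem hk)
    have hcVp : ∀ v ∈ Vp, v * c = c * v := fun v hv => by
      have hu' : ∀ w ∈ Vp, u * w * u⁻¹ = w := fun w hw => by
        rw [← mem_centralizer_iff.mp (hUqVp hu) w hw, mul_inv_cancel_right]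
      have hv' : k⁻¹ * v * k ∈ Vp := by
        simpa using (mem_normalizer_iff.mp (hnVp (N.inv_mem hk.1)) v).mp hv
      have e1 : (u * k * u⁻¹) * (k⁻¹ * v * k) * (u * k * u⁻¹)⁻¹ = v := by
        calc (u * k * u⁻¹) * (k⁻¹ * v * k) * (u * k * u⁻¹)⁻¹
            = u * (k * (u⁻¹ * (k⁻¹ * v * k) * u) * k⁻¹) * u⁻¹ := by group
          _ = u * v * u⁻¹ := by
              have h' := hu' _ hv'
              have h'' : u⁻¹ * (k⁻¹ * v * k) * u = k⁻¹ * v * k := by
                nth_rewrite 1 [← h']; group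
              rw [h'']; group
          _ = v := hu' v hv
      have e2 : c * v * c⁻¹ = v := by
        calc c * v * c⁻¹ = (u * k * u⁻¹) * (k⁻¹ * v * k) * (u * k * u⁻¹)⁻¹ := by rw [hc]; group
          _ = v := e1
      exact (mul_inv_eq_iff_eq_mul.mp e2).symm
    have hcF : (⟨c, hcK.1⟩ : N) ∈ Cfsg.fittingSubgroup N := by
      have hcen : (⟨c, hcK.1⟩ : N) ∈ centralizer (Cfsg.generalizedFittingSubgroup N : Set N) := by
        rw [Cfsg.generalizedFittingSubgroup, hlay, bot_sup_eq]
        have hle : Cfsg.pCore p N ⊔ (Cfsg.fittingSubgroup N ⊓ Cfsg.pPrimeCore p N) ≤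
            centralizer ({(⟨c, hcK.1⟩ : N)} : Set N) := by
          refine sup_le (fun w hw => ?_) (fun w hw => ?_) <;> rw [mem_centralizer_singleton_iff] <;>
            apply Subtype.ext
          · exact hcVp w ⟨w, hw, rfl⟩
          · exact mem_centralizer_iff.mp hcK.2 w ⟨w, hw, rfl⟩
        exact mem_centralizer_iff.mpr fun w hw => mem_centralizer_singleton_iff.mp (hle (hF hw))
      have := centralizer_genFitting_le hcen
      rwa [Cfsg.generalizedFittingSubgroup, hlay, bot_sup_eq] at this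
    obtain ⟨a, ha, b, hb, hab⟩ := Subgroup.mem_sup_of_normal_right.mp
      ((Fitting.fitting_eq_coreJoin (G := N)).le.trans (Fitting.coreJoin_le_sup p) hcF)
    have hab' : c = (a : G) * b := (congrArg Subtype.val hab).symm
    have hbV : (b : G) ∈ V' := ⟨b, ⟨by
      have := (Cfsg.fittingSubgroup N).mul_mem ((Cfsg.fittingSubgroup N).inv_mem (Fitting.pCore_le_fitting p ha)) hcF
      rwa [← hab, inv_mul_cancel_left] at this, hb⟩, rfl⟩
    have haV : (a : G) ∈ Vp := ⟨a, ha, rfl⟩
    have hua : u * (a : G) * u⁻¹ = a := by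
      rw [← mem_centralizer_iff.mp (hUqVp hu) _ haV, mul_inv_cancel_right]
    have hiter : ∀ n : ℕ, ∃ b' ∈ V', u ^ n * k * (u ^ n)⁻¹ = (a : G) ^ n * b' * k := by
      intro n
      induction n with
      | zero => exact ⟨1, V'.one_mem, by simp⟩
      | succ n ih =>
        obtain ⟨b', hb', e⟩ := ih
        have hub : u * b' * u⁻¹ ∈ V' := (mem_normalizer_iff.mp (hnV' (hUqN hu)) b').mp hb'
        have hcomm : (u * b' * u⁻¹) * (a : G) = (a : G) * (u * b' * u⁻¹) :=
          mem_centralizer_iff.mp (le_centralizer_of_disjoint (hVpF.trans ((map_subtype_le _).trans hnV'))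
            (hV'F.trans ((map_subtype_le _).trans hnVp)) (disjoint_of_isPGroup (core_isPGroup p N) hV'c) haV)
            _ hub
        refine ⟨u * b' * u⁻¹ * b, V'.mul_mem hub hbV, ?_⟩
        have hpow : u * (a : G) ^ n * u⁻¹ = (a : G) ^ n := by rw [← conj_pow, hua]
        calc u ^ (n + 1) * k * (u ^ (n + 1))⁻¹ = u * (u ^ n * k * (u ^ n)⁻¹) * u⁻¹ := by
              rw [pow_succ']; group
          _ = (u * (a : G) ^ n * u⁻¹) * (u * b' * u⁻¹) * (c * k) := by rw [e, hc]; group
          _ = (a : G) ^ n * ((u * b' * u⁻¹) * a) * b * k := by rw [hpow, hab']; group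
          _ = (a : G) ^ (n + 1) * (u * b' * u⁻¹ * b) * k := by rw [hcomm, pow_succ]; group
    obtain ⟨b', hb', e⟩ := hiter (orderOf u)
    rw [pow_orderOf_eq_one, one_mul, inv_one, mul_one] at e
    have e' : (a : G) ^ orderOf u = b'⁻¹ := by
      rw [eq_inv_iff_mul_eq_one]
      have : (a : G) ^ orderOf u * b' * k = 1 * k := by rw [one_mul]; exact e.symm
      exact mul_right_cancel this
    have ha1 : (a : G) ^ orderOf u = 1 := by
      have : (a : G) ^ orderOf u ∈ Vp ⊓ V' := ⟨Vp.pow_mem haV _, e' ▸ V'.inv_mem hb'⟩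
      rwa [disjoint_of_isPGroup (core_isPGroup p N) hV'c, mem_bot] at this
    have haone : (a : G) = 1 := by
      rw [← orderOf_eq_one_iff]
      refine Nat.eq_one_of_dvd_coprimes ?_ dvd_rfl (orderOf_dvd_of_pow_eq_one ha1)
      obtain ⟨i, hi⟩ := IsPGroup.iff_orderOf.mp (core_isPGroup p N) ⟨_, haV⟩
      obtain ⟨l, hl⟩ := IsPGroup.iff_orderOf.mp (core_isPGroup q M) ⟨u, hu⟩
      rw [orderOf_mk] at hi hl
      rw [hi, hl]
      exact Nat.Coprime.pow _ _ ((Nat.coprime_primes hp.out hq.out).mpr (Ne.symm hqp))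
    rw [haone, one_mul] at hab'
    have hbk : Commute c k := hab' ▸ mem_centralizer_iff.mp hk.2 _ hbV
    have hck : (c * k) ^ p ^ j = 1 := by
      rw [hc, inv_mul_cancel_right, conj_pow, hj, mul_one, mul_inv_cancel]
    rw [hbk.mul_pow, hj, mul_one] at hck
    have hc1 : c = 1 := by
      rw [← orderOf_eq_one_iff]
      refine Nat.eq_one_of_dvd_coprimes ?_ dvd_rfl (orderOf_dvd_of_pow_eq_one hck)
      exact (Nat.Coprime.coprime_dvd_left (Subgroup.orderOf_dvd_natCard V' (hab' ▸ hbV)) hV'c).pow_right j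
    rw [hc, mul_inv_eq_one, mul_inv_eq_iff_eq_mul] at hc1
    exact hc1
  set K₁ := pGen p K with hK₁
  have hK₁M : K₁ ≤ M := (closure_le _).mpr fun k hk => hCq ⟨hel k hk.1 hk.2, hk.1.1⟩
  have hK₁N : K₁ ≤ N := (pGen_le K).trans inf_le_left
  have hUK : core p M ≤ K₁ := fun u hu => subset_closure ⟨⟨hUpN hu, hUpV' hu⟩, by
    obtain ⟨j, hj⟩ := core_isPGroup p M ⟨u, hu⟩
    exact ⟨j, congrArg Subtype.val hj⟩⟩
  have hK₁n : (K₁.subgroupOf N).Normal :=
    normal_subgroupOf_of_le_normalizer (hNK.trans (normalizer_le_normalizer_pGen K))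
  have hUn : ((core p M).subgroupOf K₁).Normal :=
    normal_subgroupOf_of_le_normalizer (hK₁M.trans (le_normalizer_core p M))
  have hsn : ((core p M).subgroupOf N).IsSubnormal := by
    refine IsSubnormal.trans (K := K₁.subgroupOf N) (comap_mono hUK) ?_ hK₁n.isSubnormal
    let f : K₁.subgroupOf N →* K₁ := (subgroupOfEquivOfLe hK₁N).toMonoidHom
    have e : ((core p M).subgroupOf N).subgroupOf (K₁.subgroupOf N) = ((core p M).subgroupOf K₁).comap f := rfl
    rw [e]
    exact hUn.isSubnormal.comap f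
  have h := Cores.le_pCore_of_isSubnormal hsn (core_isPGroup p M).comap_subtype
  intro u hu
  exact ⟨⟨u, hUpN hu⟩, h hu, rfl⟩

/-- Bender's theorem for a primitive pair. -/
theorem result_pair {M N : Subgroup G} (hMN : M ≠ N)
    (hP1 : ∀ X : Subgroup G, X ≠ ⊥ → X ≤ M ⊓ N → M ≤ normalizer (X : Set G) →
      N ⊓ normalizer (X : Set G) ≤ M)
    (hP2 : ∀ X : Subgroup G, X ≠ ⊥ → X ≤ M ⊓ N → N ≤ normalizer (X : Set G) →
      M ⊓ normalizer (X : Set G) ≤ N)
    (h1 : (Cfsg.generalizedFittingSubgroup M).map M.subtype ≤ N)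
    (h2 : (Cfsg.generalizedFittingSubgroup N).map N.subtype ≤ M) :
    ∃ p : ℕ, p.Prime ∧ IsPGroup p (Cfsg.generalizedFittingSubgroup M) ∧
      IsPGroup p (Cfsg.generalizedFittingSubgroup N) := by
  have hboth : ∀ X : Subgroup G, X ≠ ⊥ → X ≤ M ⊓ N → M ≤ normalizer (X : Set G) →
      N ≤ normalizer (X : Set G) → False := fun X hne hle hnM hnN =>
    hMN (le_antisymm (fun g hg => hP2 X hne hle hnN ⟨hg, hnM hg⟩) fun g hg => hP1 X hne hle hnM ⟨hg, hnN hg⟩)
  have hE : (Cfsg.layer M).map M.subtype = ⊥ := by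
    by_contra hne
    have he := le_antisymm (layer_le_layer h1 h2) (layer_le_layer h2 h1)
    have hnormal : ∀ H : Subgroup G, H ≤ normalizer (((Cfsg.layer H).map H.subtype : Subgroup G) : Set G) := fun H => by
      have : (Cfsg.layer H).Normal := by
        have : (Cfsg.layer H).Characteristic :=
          characteristic_iff_map_eq.mpr fun φ => layer_map_equiv φ
        infer_instance
      exact le_normalizer_map_of_normal H _
    exact hboth _ hne (le_inf (map_subtype_le _)
      ((Subgroup.map_mono Fitting.layer_le_genFitting).trans h1)) (hnormal M) (he ▸ hnormal N)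
  have hlM : Cfsg.layer M = ⊥ := (map_eq_bot_iff_of_injective _ M.subtype_injective).mp hE
  have hlN : Cfsg.layer N = ⊥ := by
    refine (map_eq_bot_iff_of_injective _ N.subtype_injective).mp (le_bot_iff.mp ?_)
    exact (layer_le_layer h2 h1).trans hE.le
  have hgM : Cfsg.generalizedFittingSubgroup M = Cfsg.fittingSubgroup M := by
    rw [Cfsg.generalizedFittingSubgroup, hlM, bot_sup_eq]
  have hgN : Cfsg.generalizedFittingSubgroup N = Cfsg.fittingSubgroup N := by
    rw [Cfsg.generalizedFittingSubgroup, hlN, bot_sup_eq]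
  rw [hgM] at h1
  rw [hgN] at h2
  rw [hgM, hgN]
  have hcM : ∀ r : ℕ, r.Prime → core r M ≠ ⊥ → centralizer (core r M : Set G) ⊓ N ≤ M := fun r hr hne x hx => by
    have : Fact r.Prime := ⟨hr⟩
    exact hP1 _ hne (le_inf (map_subtype_le _) ((core_le_fitting r M).trans h1)) (le_normalizer_core r M)
      ⟨hx.2, centralizer_le_normalizer _ hx.1⟩
  have hcN : ∀ r : ℕ, r.Prime → core r N ≠ ⊥ → centralizer (core r N : Set G) ⊓ M ≤ N := fun r hr hne x hx => by
    have : Fact r.Prime := ⟨hr⟩
    exact hP2 _ hne (le_inf ((core_le_fitting r N).trans h2) (map_subtype_le _)) (le_normalizer_core r N)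
      ⟨hx.2, centralizer_le_normalizer _ hx.1⟩
  have htriv : ∀ H : Subgroup G, Cfsg.layer H = ⊥ → (∀ r : ℕ, r.Prime → core r H = ⊥) → H = ⊥ := by
    intro H hl hcon
    have hF : Cfsg.fittingSubgroup H = ⊥ := by
      rw [Fitting.fitting_eq_coreJoin, eq_bot_iff]
      exact iSup_le fun r => le_of_eq ((map_eq_bot_iff_of_injective _ H.subtype_injective).mp (hcon r r.2))
    have h := centralizer_genFitting_le (G := H)
    rw [Cfsg.generalizedFittingSubgroup, hl, hF, bot_sup_eq] at h
    rw [eq_bot_iff]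
    intro x hx
    have := h (show (⟨x, hx⟩ : H) ∈ centralizer ((⊥ : Subgroup H) : Set H) from
      mem_centralizer_iff.mpr fun y hy => by rw [mem_bot.mp hy, one_mul, mul_one])
    exact mem_bot.mpr (congrArg Subtype.val (mem_bot.mp this))
  obtain ⟨p, hp, hpM⟩ : ∃ p : ℕ, p.Prime ∧ core p M ≠ ⊥ := by
    by_contra hcon
    push Not at hcon
    have hMb := htriv M hlM hcon
    refine hMN (hMb.trans (htriv N hlN fun r hr => ?_).symm)
    have : Fact r.Prime := ⟨hr⟩
    exact le_bot_iff.mp ((core_le_fitting r N).trans (h2.trans hMb.le))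
  have : Fact p.Prime := ⟨hp⟩
  by_cases htwo : ∃ q : ℕ, q.Prime ∧ q ≠ p ∧ core q M ≠ ⊥
  · obtain ⟨q, hq, hqp, hqM⟩ := htwo
    have : Fact q.Prime := ⟨hq⟩
    have hpq : core p M ≤ core p N := core_le_core hqp h1 h2 hlN (hcM q hq hqM)
    have hqq : core q M ≤ core q N := core_le_core (Ne.symm hqp) h1 h2 hlN (hcM p hp hpM)
    have hpN : core p N ≠ ⊥ := fun h => hpM (le_bot_iff.mp (h ▸ hpq))
    have hqN : core q N ≠ ⊥ := fun h => hqM (le_bot_iff.mp (h ▸ hqq))
    have he := le_antisymm hpq (core_le_core hqp h2 h1 hlM (hcN q hq hqN))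
    exact (hboth _ hpM (le_inf (map_subtype_le _) ((core_le_fitting p M).trans h1))
      (le_normalizer_core p M) (he ▸ le_normalizer_core p N)).elim
  push Not at htwo
  have hFM : Cfsg.fittingSubgroup M ≤ Cfsg.pCore p M := by
    rw [Fitting.fitting_eq_coreJoin]
    refine iSup_le fun r => ?_
    by_cases hr : (r : ℕ) = p
    · rw [hr]
    · rw [show Cfsg.pCore (r : ℕ) M = ⊥ from (map_eq_bot_iff_of_injective _ M.subtype_injective).mp (htwo r r.2 hr)]
      exact bot_le
  refine ⟨p, hp, (Cores.pCore_isPGroup p).to_le hFM, ?_⟩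
  -- every prime of `F(N)` is `p`
  have hN' : ∀ r : ℕ, r.Prime → r ≠ p → core r N = ⊥ := by
    intro r hr hrp
    by_contra hrN
    have : Fact r.Prime := ⟨hr⟩
    by_cases hs : ∃ s : ℕ, s.Prime ∧ s ≠ r ∧ core s N ≠ ⊥
    · obtain ⟨s, hs, hsr, hsN⟩ := hs
      have : Fact s.Prime := ⟨hs⟩
      have := core_le_core hsr h2 h1 hlM (hcN s hs hsN)
      exact hrN (le_bot_iff.mp (htwo r hr hrp ▸ this))
    push Not at hs
    refine hpM (le_bot_iff.mp ?_)
    have hUN : core p M ≤ N := (core_le_fitting p M).trans h1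
    have hVM : core r N ≤ M := (core_le_fitting r N).trans h2
    have hcop : (Nat.card (core r N)).Coprime p := by
      obtain ⟨k, hk⟩ := IsPGroup.iff_card.mp (core_isPGroup r N)
      rw [hk]
      exact ((Nat.coprime_primes hr hp).mpr hrp).pow_left k
    have hUV : core p M ≤ centralizer (core r N : Set G) :=
      le_centralizer_of_disjoint (hUN.trans (le_normalizer_core r N)) (hVM.trans (le_normalizer_core p M))
        (disjoint_of_isPGroup (core_isPGroup p M) hcop)
    have hFN : Cfsg.fittingSubgroup N ≤ Cfsg.pCore r N := by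
      rw [Fitting.fitting_eq_coreJoin]
      refine iSup_le fun s => ?_
      by_cases hsr : (s : ℕ) = r
      · rw [hsr]
      · rw [show Cfsg.pCore (s : ℕ) N = ⊥ from (map_eq_bot_iff_of_injective _ N.subtype_injective).mp (hs s s.2 hsr)]
        exact bot_le
    have hle : core p M ≤ core r N := by
      refine (le_inf ?_ hUN).trans (centralizer_inf_le.trans (Subgroup.map_mono (hgN ▸ hFN)))
      refine hUV.trans (centralizer_le ?_)
      exact SetLike.coe_subset_coe.mpr (Subgroup.map_mono (hgN ▸ hFN))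
    rw [← disjoint_of_isPGroup (core_isPGroup p M) hcop]
    exact le_inf le_rfl hle
  have hFN : Cfsg.fittingSubgroup N ≤ Cfsg.pCore p N := by
    rw [Fitting.fitting_eq_coreJoin]
    refine iSup_le fun s => ?_
    by_cases hsp : (s : ℕ) = p
    · rw [hsp]
    · rw [show Cfsg.pCore (s : ℕ) N = ⊥ from (map_eq_bot_iff_of_injective _ N.subtype_injective).mp (hN' s s.2 hsp)]
      exact bot_le
  exact (Cores.pCore_isPGroup p).to_le hFN

theorem result [IsSimpleGroup G] (_hna : ¬ IsMulCommutative G) {M N : Subgroup G} (hM : IsCoatom M)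
    (hN : IsCoatom N) (hMN : M ≠ N) (h1 : (Cfsg.generalizedFittingSubgroup M).map M.subtype ≤ N)
    (h2 : (Cfsg.generalizedFittingSubgroup N).map N.subtype ≤ M) :
    ∃ p : ℕ, p.Prime ∧ IsPGroup p (Cfsg.generalizedFittingSubgroup M) ∧
      IsPGroup p (Cfsg.generalizedFittingSubgroup N) :=
  result_pair hMN (fun X hne hle hn => inf_le_right.trans (normalizer_eq_of_coatom hM (hle.trans inf_le_left) hn hne).le)
    (fun X hne hle hn => inf_le_right.trans (normalizer_eq_of_coatom hN (hle.trans inf_le_right) hn hne).le) h1 h2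

end Cfsg.Agent.Components.MaximalPair
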