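import Cfsg.Agent.Lib.PGroups.MaximalClass
import Cfsg.Agent.GStructB.MaxClass
import Cfsg.Prelude.Def_OddOrderLocal

/-!
Elements of order at most `p²` in metacyclic `p`-groups, `p` odd, and automorphisms of order `p`.
-/

set_option autoImplicit false
set_option linter.all false

namespace Cfsg.Agent.Components.MetacyclicOmega

open Subgroup
open scoped commutatorElement

universe u

/-- The geometric sum. -/
def S (k : ℕ) (s : ℤ) : ℤ := ∑ l ∈ Finset.range k, s ^ l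

lemma S_succ (k : ℕ) (s : ℤ) : S (k + 1) s = S k s + s ^ k := Finset.sum_range_succ _ _

lemma S_mul (a : ℕ) (s : ℤ) : ∀ b, S (a * b) s = S a s * S b (s ^ a)
  | 0 => by simp [S]
  | b + 1 => by
    rw [Nat.mul_succ, S_succ, mul_add, ← S_mul a s b]
    show ∑ l ∈ Finset.range (a * b + a), s ^ l = _
    rw [Finset.sum_range_add, S, S, Finset.sum_mul, ← pow_mul]
    congr 1
    refine Finset.sum_congr rfl fun l _ => ?_
    rw [pow_add, mul_comm]

lemma S_modEq_sq {p : ℕ} {s t : ℤ} (hs : s = 1 + p * t) :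
    ∀ k : ℕ, (2 * S k s) ≡ (2 * k + p * t * (k * (k - 1))) [ZMOD (p : ℤ) ^ 2]
  | 0 => by simp [S]
  | k + 1 => by
    have h1 : s ^ k ≡ 1 + k * (p * t) [ZMOD (p : ℤ) ^ 2] := by
      clear * - hs
      induction k with
      | zero => simp
      | succ k ih =>
        rw [pow_succ, Int.modEq_iff_dvd]
        obtain ⟨q, hq⟩ := Int.modEq_iff_dvd.mp ih
        refine ⟨q * s - k * t * t, ?_⟩
        push_cast
        subst hs
        linear_combination (1 + (p : ℤ) * t) * hq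
    have h2 := (S_modEq_sq hs k).add (h1.mul_left 2)
    rw [S_succ, mul_add]
    convert h2 using 1
    push_cast
    ring

lemma S_prime {p : ℕ} (hp : p.Prime) (hp2 : p ≠ 2) {s : ℤ} (hs : (p : ℤ) ∣ s - 1) :
    ∃ q : ℤ, S p s = p * (1 + p * q) := by
  obtain ⟨t, ht⟩ := hs
  have h := S_modEq_sq (s := s) (t := t) (by linarith) p
  obtain ⟨q, hq⟩ := Int.modEq_iff_dvd.mp h
  have hodd : Odd p := hp.odd_of_ne_two hp2
  obtain ⟨m, hm⟩ := hodd
  have hm' : (p : ℤ) = 2 * m + 1 := by exact_mod_cast hm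
  have h2 : (2 : ℤ) ∣ (t * ((p : ℤ) - 1) - q) := by
    have : (p : ℤ) * p * (t * ((p : ℤ) - 1) - q) = 2 * (S p s - p) := by linear_combination (norm := ring_nf) hq
    have h2' : (2 : ℤ) ∣ (p : ℤ) * p * (t * ((p : ℤ) - 1) - q) := ⟨_, this⟩
    rcases (Int.prime_two.dvd_mul.mp h2') with h | h
    · exfalso
      rcases Int.prime_two.dvd_mul.mp h with h | h <;> · rw [hm'] at h; omega
    · exact h
  obtain ⟨w, hw⟩ := h2
  refine ⟨w, ?_⟩
  linear_combination (norm := ring_nf) (-1/2 : ℤ) * hq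
  have : (p : ℤ) * p * (t * ((p : ℤ) - 1) - q) = 2 * (S p s - p) := by linear_combination (norm := ring_nf) hq
  rw [hw] at this
  linarith

variable {G : Type u} [Group G]

lemma conj_pow_zpow {g x : G} {r : ℤ} (h : g * x * g⁻¹ = x ^ r) :
    ∀ (i : ℕ) (j : ℤ), g ^ i * x ^ j * (g ^ i)⁻¹ = x ^ (r ^ i * j)
  | 0, j => by simp
  | i + 1, j => by
    rw [pow_succ g i, mul_inv_rev]
    calc g ^ i * g * x ^ j * (g⁻¹ * (g ^ i)⁻¹) = g ^ i * (g * x ^ j * g⁻¹) * (g ^ i)⁻¹ := by group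
      _ = g ^ i * x ^ (r * j) * (g ^ i)⁻¹ := by rw [← conj_zpow, h, ← zpow_mul]
      _ = x ^ (r ^ (i + 1) * j) := by rw [conj_pow_zpow h i, pow_succ, mul_assoc]

lemma mul_pow_conj {g x : G} {s : ℤ} (h : g * x * g⁻¹ = x ^ s) (j : ℤ) :
    ∀ k : ℕ, (x ^ j * g) ^ k = x ^ (j * S k s) * g ^ k
  | 0 => by simp [S]
  | k + 1 => by
    rw [pow_succ, mul_pow_conj h j k, S_succ, mul_add, zpow_add, mul_comm j (s ^ k),
      ← conj_pow_zpow h k j, pow_succ]
    group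

/-- The abstract properties of the elements of order dividing `p²`. -/
structure Omega (p : ℕ) (L : Type u) [Group L] : Prop where
  mul_mem : ∀ a b : L, a ^ p ^ 2 = 1 → b ^ p ^ 2 = 1 → (a * b) ^ p ^ 2 = 1
  mul_pow : ∀ a b : L, a ^ p ^ 2 = 1 → b ^ p ^ 2 = 1 → (a * b) ^ p = a ^ p * b ^ p
  central : ∀ a b : L, a ^ p = 1 → b ^ p ^ 2 = 1 → Commute a b
  root : ∀ a : L, a ^ p = 1 → ∃ b : L, b ^ p ^ 2 = 1 ∧ b ^ p = a
  card : Nat.card {a : L | a ^ p = 1} = p ^ 2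

lemma no_big {L : Type u} [Group L] [Finite L] {p : ℕ} [hp : Fact p.Prime] (hL : IsPGroup p L)
    (hnc : ∀ C : Subgroup L, IsCyclic C → C.index ≠ p) (hne : Nontrivial L) (g : L) :
    p ^ 2 * orderOf g ≤ Nat.card L := by
  obtain ⟨m, hm⟩ := IsPGroup.iff_card.1 hL
  obtain ⟨k, hkm, hk⟩ := (Nat.dvd_prime_pow hp.out).mp (hm ▸ orderOf_dvd_natCard g)
  rw [hk, hm, ← pow_add]
  refine Nat.pow_le_pow_right hp.out.pos ?_
  by_contra hlt
  obtain ⟨w, hw⟩ : ∃ w : L, orderOf w * p = Nat.card L := by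
    rcases (show k = m ∨ k + 1 = m by omega) with h | h
    · have hm1 : 1 ≤ m := by
        rcases m with _ | m
        · rw [pow_zero] at hm; exact absurd hm (Nat.ne_of_gt Finite.one_lt_card)
        · omega
      refine ⟨g ^ p, ?_⟩
      rw [orderOf_pow_of_dvd hp.out.ne_zero (by rw [hk]; exact dvd_pow_self p (by omega)), hk, hm,
        Nat.div_mul_cancel (dvd_pow_self p (by omega)), h]
    · exact ⟨g, by rw [hk, hm, ← h, pow_succ]⟩
  refine hnc (zpowers w) inferInstance ?_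
  have := (zpowers w).card_mul_index
  rw [Nat.card_zpowers, ← hw] at this
  exact Nat.eq_of_mul_eq_mul_left (orderOf_pos w) this

theorem omega_of_metacyclic {L : Type u} [Group L] [Finite L] {p : ℕ} [hp : Fact p.Prime] (hp2 : p ≠ 2)
    (hL : IsPGroup p L) (hmc : Cfsg.IsMetacyclic L) (hnc : ∀ C : Subgroup L, IsCyclic C → C.index ≠ p)
    (hne : Nontrivial L) : Omega p L ∧ ∃ A : Subgroup L, IsCyclic A ∧ commutator L ≤ A := by
  obtain ⟨A, hAn, hAc, hQc⟩ := hmc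
  refine ⟨?_, A, hAc, ?_⟩
  swap
  · have : IsMulCommutative (L ⧸ A) := ⟨⟨IsCyclic.commGroup.mul_comm⟩⟩
    exact Subgroup.Normal.quotient_commutative_iff_commutator_le.mp this
  obtain ⟨x, hx⟩ := A.isCyclic_iff_exists_zpowers_eq_top.mp hAc
  obtain ⟨q, hq⟩ := IsCyclic.exists_ofOrder_eq_natCard (α := L ⧸ A)
  obtain ⟨y, rfl⟩ := QuotientGroup.mk'_surjective A q
  obtain ⟨e, he⟩ : ∃ e, orderOf x = p ^ e := (IsPGroup.iff_orderOf.mp hL) x
  obtain ⟨n, hn⟩ := IsPGroup.iff_card.1 (hL.to_quotient A)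
  have hxA : x ∈ A := hx ▸ mem_zpowers x
  have hmemA : ∀ g, g ∈ A ↔ ∃ i : ℤ, x ^ i = g := fun g => by rw [← hx]; exact mem_zpowers_iff
  have hcard : Nat.card L = p ^ n * p ^ e := by
    rw [Subgroup.card_eq_card_quotient_mul_card_subgroup A, hn, ← hx, Nat.card_zpowers, he]
  have hgen : ∀ g : L, ∃ (a : ℕ) (j : ℤ), g = x ^ j * y ^ a := by
    intro g
    have hg : QuotientGroup.mk' A g ∈ Submonoid.powers (QuotientGroup.mk' A y) := by
      rw [mem_powers_iff_mem_zpowers, Subgroup.eq_top_of_card_eq (zpowers (QuotientGroup.mk' A y))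
        (by rw [Nat.card_zpowers, hq])]
      exact mem_top _
    obtain ⟨a, ha⟩ := hg
    have ha' : QuotientGroup.mk' A (y ^ a) = QuotientGroup.mk' A g := by rw [map_pow]; exact ha
    have : g * (y ^ a)⁻¹ ∈ A := by
      rw [← QuotientGroup.eq_one_iff]
      show QuotientGroup.mk' A (g * (y ^ a)⁻¹) = 1
      rw [map_mul, map_inv, ha', mul_inv_cancel]
    obtain ⟨j, hj⟩ := (hmemA _).mp this
    exact ⟨a, j, by rw [hj, inv_mul_cancel_right]⟩
  have hyA : ∀ a : ℕ, y ^ a ∈ A ↔ p ^ n ∣ a := fun a => by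
    rw [← QuotientGroup.eq_one_iff, ← hn, ← hq, orderOf_dvd_iff_pow_eq_one]
    simp
  have hdvd : p ^ n ∣ orderOf y := (hyA _).mp (by rw [pow_orderOf_eq_one]; exact one_mem A)
  have hn2 : 2 ≤ n := by
    have h := no_big hL hnc hne x
    rw [he, hcard] at h
    exact (Nat.pow_le_pow_iff_right hp.out.one_lt).mp (Nat.le_of_mul_le_mul_right h (pow_pos hp.out.pos e))
  have he2 : 2 ≤ e := by
    have h := no_big hL hnc hne y
    have h' := Nat.le_of_dvd (orderOf_pos y) hdvd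
    rw [hcard] at h
    have h'' : p ^ n * p ^ 2 ≤ p ^ n * p ^ e := by
      rw [mul_comm (p ^ n) (p ^ 2)]; exact le_trans (Nat.mul_le_mul_left _ h') h
    exact (Nat.pow_le_pow_iff_right hp.out.one_lt).mp (Nat.le_of_mul_le_mul_left h'' (pow_pos hp.out.pos n))
  have hx1 : ∀ i : ℤ, x ^ i = 1 ↔ (p : ℤ) ^ e ∣ i := fun i => by
    rw [← orderOf_dvd_iff_zpow_eq_one, he]; push_cast; rfl
  have hpp : Prime (p : ℤ) := Nat.prime_iff_prime_int.mp hp.out
  -- the action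
  obtain ⟨r, hr⟩ := (hmemA _).mp (hAn.conj_mem x hxA y)
  have hr1 : (p : ℤ) ∣ r - 1 := by
    obtain ⟨k, hk⟩ := (IsPGroup.iff_orderOf.mp hL) y
    have h := conj_pow_zpow hr.symm (p ^ k) 1
    rw [← hk, pow_orderOf_eq_one, one_mul, inv_one, mul_one, mul_one, zpow_one] at h
    have h' : (p : ℤ) ^ e ∣ r ^ orderOf y - 1 := (hx1 _).mp (by rw [zpow_sub_one, ← h, mul_inv_cancel])
    have h'' : (p : ℤ) ∣ r ^ orderOf y - 1 := (dvd_pow_self (p : ℤ) (by omega)).trans h'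
    rw [hk] at h''
    rw [← ZMod.intCast_zmod_eq_zero_iff_dvd] at h'' ⊢
    push_cast at h'' ⊢
    rwa [ZMod.pow_card_pow] at h''
  have hpow : ∀ a : ℕ, (p : ℤ) ∣ r ^ a - 1 := fun a => hr1.trans (by simpa using sub_dvd_pow_sub_pow r 1 a)
  have hS1 : ∀ s : ℤ, (p : ℤ) ∣ s - 1 → ∃ w : ℤ, S (p ^ 2) s = (p : ℤ) ^ 2 * w ∧ ¬ (p : ℤ) ∣ w := by
    intro s hs
    obtain ⟨q1, hq1⟩ := S_prime hp.out hp2 hs
    obtain ⟨q2, hq2⟩ := S_prime hp.out hp2 (hs.trans (by simpa using sub_dvd_pow_sub_pow s 1 p))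
    refine ⟨(1 + p * q1) * (1 + p * q2), ?_, ?_⟩
    · rw [sq, S_mul, hq1, hq2]; ring
    · intro h
      rcases hpp.dvd_or_dvd h with h | h <;> exact hpp.not_dvd_one ((dvd_add_left (dvd_mul_right _ _)).mp h)
  -- a complement element of order `p²`
  obtain ⟨c, hc⟩ := (hmemA _).mp ((hyA _).mpr (dvd_refl (p ^ n)))
  have hc2 : (p : ℤ) ^ 2 ∣ c := by
    by_contra hnd
    have hn0 : 0 < n := by omega
    obtain ⟨d, hd⟩ := hdvd
    have h1 : orderOf (y ^ p ^ n) = d := by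
      rw [orderOf_pow_of_dvd (pow_pos hp.out.pos n).ne' ⟨d, hd⟩, hd, Nat.mul_div_cancel_left _ (pow_pos hp.out.pos n)]
    have h2 : p ^ (e - 1) ∣ d := by
      have h3 : (p : ℤ) ^ e ∣ (d : ℤ) * c := (hx1 _).mp (by
        rw [mul_comm, zpow_mul, hc, zpow_natCast, ← h1, pow_orderOf_eq_one])
      obtain ⟨k, hk⟩ : ∃ k, d = p ^ k := by
        obtain ⟨k, hk⟩ := (IsPGroup.iff_orderOf.mp hL) (y ^ p ^ n)
        exact ⟨k, h1 ▸ hk⟩
      rw [hk]
      refine pow_dvd_pow p ?_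
      by_contra hlt
      refine hnd ?_
      have h4 : (p : ℤ) ^ (k + 2) ∣ (p : ℤ) ^ k * c := by
        rw [hk] at h3; push_cast at h3
        exact (pow_dvd_pow _ (by omega)).trans h3
      rw [pow_add] at h4
      exact (mul_dvd_mul_iff_left (pow_ne_zero k hpp.ne_zero)).mp h4
    have h5 := no_big hL hnc hne y
    rw [hcard, hd] at h5
    have h6 : p ^ 2 * (p ^ n * p ^ (e - 1)) ≤ p ^ n * p ^ e :=
      le_trans (Nat.mul_le_mul_left _ (Nat.mul_le_mul_left _ (Nat.le_of_dvd (by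
        rw [← h1]; exact orderOf_pos _) h2))) h5
    rw [← pow_add, ← pow_add, ← pow_add, Nat.pow_le_pow_iff_right hp.out.one_lt] at h6
    omega
  set g := y ^ p ^ (n - 2) with hg
  set s := r ^ p ^ (n - 2) with hs
  have hgx : g * x * g⁻¹ = x ^ s := by simpa using conj_pow_zpow hr.symm (p ^ (n - 2)) 1
  have hs1 : (p : ℤ) ∣ s - 1 := hpow _
  have hgp : g ^ p ^ 2 = x ^ c := by
    rw [hg, ← pow_mul, ← pow_add, show n - 2 + 2 = n by omega, hc]
  obtain ⟨w, hw, hwp⟩ := hS1 s hs1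
  obtain ⟨c', hc'⟩ := hc2
  obtain ⟨wi, b, hb⟩ : IsCoprime w ((p : ℤ) ^ e) := ((hpp.coprime_iff_not_dvd.mpr hwp).symm).pow_right
  set u := x ^ (-c' * wi) * g with hu
  have hu2 : u ^ p ^ 2 = 1 := by
    rw [hu, mul_pow_conj hgx, hgp, ← zpow_add, hw, hc', hx1]
    refine ⟨(p : ℤ) ^ 2 * c' * b, ?_⟩
    linear_combination (norm := ring_nf) -((p : ℤ) ^ 2 * c') * hb
  set v := x ^ ((p : ℤ) ^ (e - 2)) with hv
  have hpe : (p : ℤ) ^ e = (p : ℤ) ^ (e - 2) * (p : ℤ) ^ 2 := by rw [← pow_add, show e - 2 + 2 = e by omega]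
  have hv1 : ∀ i : ℤ, v ^ i = 1 ↔ (p : ℤ) ^ 2 ∣ i := fun i => by
    rw [hv, ← zpow_mul, hx1, hpe, mul_dvd_mul_iff_left (pow_ne_zero _ hpp.ne_zero)]
  have hux : u * x * u⁻¹ = x ^ s := by
    rw [hu, mul_inv_rev, ← hgx]
    calc x ^ (-c' * wi) * g * x * (g⁻¹ * (x ^ (-c' * wi))⁻¹) =
        x ^ (-c' * wi) * (g * x * g⁻¹) * (x ^ (-c' * wi))⁻¹ := by group
      _ = g * x * g⁻¹ := by rw [hgx, ← zpow_neg, ← zpow_add, ← zpow_add]; congr 1; ring
  have huv : u * v * u⁻¹ = v ^ s := by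
    rw [hv, ← conj_zpow, hux, ← zpow_mul, ← zpow_mul, mul_comm]
  -- every element of order dividing `p²` is `v ^ b * u ^ a`
  have hform : ∀ z : L, z ^ p ^ 2 = 1 → ∃ (a : ℕ) (b : ℤ), z = v ^ b * u ^ a := by
    intro z hz
    obtain ⟨a0, j, rfl⟩ := hgen z
    obtain ⟨a, rfl⟩ : p ^ (n - 2) ∣ a0 := by
      have hya : y ^ a0 * x * (y ^ a0)⁻¹ = x ^ (r ^ a0) := by simpa using conj_pow_zpow hr.symm a0 1
      rw [mul_pow_conj hya] at hz
      have : y ^ (a0 * p ^ 2) ∈ A := by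
        rw [pow_mul, eq_inv_of_mul_eq_one_right hz]
        exact inv_mem ((hmemA _).mpr ⟨_, rfl⟩)
      have := (hyA _).mp this
      rw [show p ^ n = p ^ (n - 2) * p ^ 2 by rw [← pow_add, show n - 2 + 2 = n by omega]] at this
      exact Nat.dvd_of_mul_dvd_mul_right (pow_pos hp.out.pos 2) this
    obtain ⟨l, hl⟩ : ∃ l : ℤ, u ^ a = x ^ l * g ^ a := ⟨_, mul_pow_conj hgx _ a⟩
    refine ⟨a, ?_⟩
    have hzeq : x ^ j * y ^ (p ^ (n - 2) * a) = x ^ (j - l) * u ^ a := by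
      rw [hl, ← mul_assoc, ← zpow_add, sub_add_cancel, hg, ← pow_mul]
    rw [hzeq] at hz ⊢
    have hua : u ^ a * x * (u ^ a)⁻¹ = x ^ (s ^ a) := by simpa using conj_pow_zpow hux a 1
    obtain ⟨w', hw', hwp'⟩ := hS1 (s ^ a) (hs1.trans (by simpa using sub_dvd_pow_sub_pow s 1 a))
    rw [mul_pow_conj hua, ← pow_mul u, mul_comm a (p ^ 2), pow_mul u, hu2, one_pow, mul_one, hx1, hw', hpe,
      show (j - l) * ((p : ℤ) ^ 2 * w') = ((j - l) * w') * (p : ℤ) ^ 2 by ring,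
      mul_dvd_mul_iff_right (pow_ne_zero _ hpp.ne_zero)] at hz
    obtain ⟨b, hb⟩ := (((hpp.coprime_iff_not_dvd.mpr hwp').pow_left (m := e - 2))).dvd_of_dvd_mul_right hz
    exact ⟨b, by rw [hb, hv, ← zpow_mul]⟩
  have hvua : ∀ (a : ℕ), u ^ a * v * (u ^ a)⁻¹ = v ^ (s ^ a) := fun a => by simpa using conj_pow_zpow huv a 1
  have hin : ∀ (a : ℕ) (b : ℤ), (v ^ b * u ^ a) ^ p ^ 2 = 1 := fun a b => by
    obtain ⟨w', hw', -⟩ := hS1 (s ^ a) (hs1.trans (by simpa using sub_dvd_pow_sub_pow s 1 a))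
    rw [mul_pow_conj (hvua a), ← pow_mul u, mul_comm a (p ^ 2), pow_mul u, hu2, one_pow, mul_one, hv1, hw']
    exact ⟨b * w', by ring⟩
  have hp1 : ∀ (a : ℕ) (b : ℤ), (v ^ b * u ^ a) ^ p = v ^ (b * p) * u ^ (a * p) := fun a b => by
    obtain ⟨q, hq⟩ := S_prime hp.out hp2 (s := s ^ a) (hs1.trans (by simpa using sub_dvd_pow_sub_pow s 1 a))
    rw [mul_pow_conj (hvua a), ← pow_mul u, hq]
    congr 1
    refine mul_inv_eq_one.mp ?_
    rw [← zpow_neg, ← zpow_add, hv1]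
    exact ⟨b * q, by ring⟩
  have hprod : ∀ (a a' : ℕ) (b b' : ℤ),
      (v ^ b * u ^ a) * (v ^ b' * u ^ a') = v ^ (b + s ^ a * b') * u ^ (a + a') := fun a a' b b' => by
    rw [zpow_add, ← conj_pow_zpow huv a b', pow_add]; group
  have hvp : ∀ (a : ℕ) (b : ℤ), v ^ (s ^ a * (b * p)) = v ^ (b * p) := fun a b => by
    refine mul_inv_eq_one.mp ?_
    rw [← zpow_neg, ← zpow_add, hv1]
    obtain ⟨q, hq⟩ := hs1.trans (by simpa using sub_dvd_pow_sub_pow s 1 a : s - 1 ∣ s ^ a - 1)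
    exact ⟨b * q, by linear_combination (b * (p : ℤ)) * hq⟩
  have hupv : ∀ (a : ℕ) (b : ℤ), Commute (u ^ (a * p)) (v ^ b) := fun a b => by
    have h1 : u ^ (a * p) * v ^ b * (u ^ (a * p))⁻¹ = v ^ b := by
      rw [conj_pow_zpow huv]
      refine mul_inv_eq_one.mp ?_
      rw [← zpow_neg, ← zpow_add, hv1]
      have : (p : ℤ) ^ (1 + 1) ∣ (s ^ a) ^ p ^ 1 - 1 ^ p ^ 1 :=
        dvd_sub_pow_of_dvd_sub (hs1.trans (by simpa using sub_dvd_pow_sub_pow s 1 a)) 1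
      rw [pow_one, one_pow, ← pow_mul] at this
      obtain ⟨q, hq⟩ := this
      exact ⟨b * q, by linear_combination b * hq⟩
    exact mul_inv_eq_iff_eq_mul.mp h1
  have hEform : ∀ z : L, z ^ p = 1 → ∃ (a : ℕ) (b : ℤ), z = v ^ (b * p) * u ^ (a * p) := by
    intro z hz
    obtain ⟨a, b, rfl⟩ := hform z (by rw [sq, pow_mul, hz, one_pow])
    rw [hp1] at hz
    have hd : p ∣ a := by
      have h1 : u ^ (a * p) = v ^ (-(b * p)) := by rw [zpow_neg]; exact eq_inv_of_mul_eq_one_right hz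
      have h2 : y ^ (p ^ (n - 2) * (a * p)) ∈ A := by
        have h3 : u ^ (a * p) ∈ A := by rw [h1]; exact zpow_mem ((hmemA _).mpr ⟨_, rfl⟩) _
        rw [hu, mul_pow_conj hgx, hg, ← pow_mul] at h3
        exact (mul_mem_cancel_left ((hmemA _).mpr ⟨_, rfl⟩)).mp h3
      have h4 := (hyA _).mp h2
      rw [show p ^ n = p ^ (n - 2) * (p * p) by rw [← sq, ← pow_add, show n - 2 + 2 = n by omega]] at h4
      exact Nat.dvd_of_mul_dvd_mul_right hp.out.pos (Nat.dvd_of_mul_dvd_mul_left (pow_pos hp.out.pos _) h4)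
    obtain ⟨a', rfl⟩ := hd
    have h5 : u ^ (p * a' * p) = 1 := by
      rw [show p * a' * p = p ^ 2 * a' by ring, pow_mul, hu2, one_pow]
    rw [h5, mul_one, hv1, sq] at hz
    obtain ⟨b', rfl⟩ := (mul_dvd_mul_iff_right hpp.ne_zero).mp hz
    exact ⟨a', b', by rw [mul_comm p a', mul_comm (p : ℤ) b']⟩
  refine ⟨fun a b ha hb => ?_, fun a b ha hb => ?_, fun a b ha hb => ?_, fun a ha => ?_, ?_⟩
  · obtain ⟨i, k, rfl⟩ := hform a ha
    obtain ⟨i', k', rfl⟩ := hform b hb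
    rw [hprod]; exact hin _ _
  · obtain ⟨i, k, rfl⟩ := hform a ha
    obtain ⟨i', k', rfl⟩ := hform b hb
    rw [hprod, hp1, hp1, hp1, add_mul, zpow_add, mul_assoc (s ^ i), hvp, add_mul, pow_add,
      mul_assoc, mul_assoc, ← mul_assoc (u ^ (i * p)), (hupv i (k' * p)).eq, mul_assoc]
  · obtain ⟨i, k, rfl⟩ := hEform a ha
    obtain ⟨i', k', rfl⟩ := hform b hb
    have h1 : Commute (v ^ (k * p)) (u ^ i') := by
      refine (mul_inv_eq_iff_eq_mul.mp ?_).symm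
      rw [conj_pow_zpow huv, hvp]
    exact Commute.mul_left (Commute.mul_right (Commute.zpow_zpow_self v _ _) h1)
      (Commute.mul_right (hupv i k') (Commute.pow_pow_self u _ _))
  · obtain ⟨i, k, rfl⟩ := hEform a ha
    exact ⟨v ^ k * u ^ i, hin i k, hp1 i k⟩
  · have hbij : Function.Bijective fun ab : Fin p × Fin p =>
        (⟨v ^ (((ab.2 : ℕ) : ℤ) * p) * u ^ ((ab.1 : ℕ) * p), by
          have h := hin (ab.1 : ℕ) ((ab.2 : ℕ) : ℤ)
          rwa [sq, pow_mul, hp1] at h⟩ : {a : L | a ^ p = 1}) := by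
      refine ⟨fun ab ab' h => ?_, fun z => ?_⟩
      · have h' : v ^ (((ab.2 : ℕ) : ℤ) * p) * u ^ ((ab.1 : ℕ) * p) =
            v ^ (((ab'.2 : ℕ) : ℤ) * p) * u ^ ((ab'.1 : ℕ) * p) := congrArg Subtype.val h
        have key : ∀ a a' : ℕ, a' ≤ a → a < p → u ^ (a * p) * (u ^ (a' * p))⁻¹ ∈ A → a = a' := by
          intro a a' hle hlt hmem
          rw [← pow_sub _ (Nat.mul_le_mul_right p hle), ← Nat.sub_mul, hu, mul_pow_conj hgx, hg, ← pow_mul,
            mul_mem_cancel_left ((hmemA _).mpr ⟨_, rfl⟩)] at hmem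
          have h4 := (hyA _).mp hmem
          rw [show p ^ n = p ^ (n - 2) * (p * p) by rw [← sq, ← pow_add, show n - 2 + 2 = n by omega]] at h4
          have := Nat.dvd_of_mul_dvd_mul_right hp.out.pos (Nat.dvd_of_mul_dvd_mul_left (pow_pos hp.out.pos _) h4)
          have := Nat.eq_zero_of_dvd_of_lt this (by omega)
          omega
        have hAv : ∀ i : ℤ, v ^ i ∈ A := fun i => zpow_mem ((hmemA _).mpr ⟨_, rfl⟩) i
        have hmem : u ^ ((ab.1 : ℕ) * p) * (u ^ ((ab'.1 : ℕ) * p))⁻¹ ∈ A := by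
          rw [show u ^ ((ab.1 : ℕ) * p) * (u ^ ((ab'.1 : ℕ) * p))⁻¹ =
            (v ^ (((ab.2 : ℕ) : ℤ) * p))⁻¹ * ((v ^ (((ab.2 : ℕ) : ℤ) * p) * u ^ ((ab.1 : ℕ) * p)) *
              (u ^ ((ab'.1 : ℕ) * p))⁻¹) by group, h', mul_inv_cancel_right]
          exact mul_mem (inv_mem (hAv _)) (hAv _)
        have e1 : (ab.1 : ℕ) = ab'.1 := by
          rcases le_total (ab'.1 : ℕ) ab.1 with hle | hle
          · exact key _ _ hle ab.1.2 hmem
          · exact (key _ _ hle ab'.1.2 (by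
              have := inv_mem hmem; rwa [mul_inv_rev, inv_inv] at this)).symm
        rw [e1] at h'
        have h2 := (hv1 _).mp (by rw [zpow_sub, mul_right_cancel h', mul_inv_cancel] :
          v ^ (((ab.2 : ℕ) : ℤ) * p - ((ab'.2 : ℕ) : ℤ) * p) = 1)
        rw [← sub_mul, sq, mul_dvd_mul_iff_right hpp.ne_zero] at h2
        have e2 : (ab.2 : ℕ) = ab'.2 := by
          have := Int.eq_zero_of_abs_lt_dvd h2 (by
            have := ab.2.2; have := ab'.2.2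
            rw [abs_lt]; omega)
          omega
        exact Prod.ext (Fin.ext e1) (Fin.ext e2)
      · obtain ⟨a, b, hab⟩ := hEform z z.2
        have hpos : (0 : ℤ) < p := by exact_mod_cast hp.out.pos
        refine ⟨(⟨a % p, Nat.mod_lt _ hp.out.pos⟩, ⟨(b % (p : ℤ)).toNat, by
          have := Int.emod_lt_of_pos b hpos; have := Int.emod_nonneg b hpp.ne_zero; omega⟩), Subtype.ext ?_⟩
        rw [hab]
        show v ^ ((((b % (p : ℤ)).toNat : ℕ) : ℤ) * p) * u ^ (a % p * p) = _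
        rw [Int.toNat_of_nonneg (Int.emod_nonneg b hpp.ne_zero)]
        congr 1
        · refine mul_inv_eq_one.mp ?_
          rw [← zpow_neg, ← zpow_add, hv1]
          exact ⟨-(b / (p : ℤ)), by have := Int.emod_add_mul_ediv b (p : ℤ); linear_combination (p : ℤ) * this⟩
        · conv_rhs => rw [← Nat.mod_add_div a p, add_mul, pow_add,
            show p * (a / p) * p = p ^ 2 * (a / p) by ring, pow_mul u (p ^ 2), hu2, one_pow, mul_one]
    rw [← Nat.card_eq_of_bijective _ hbij, Nat.card_prod, Nat.card_fin, sq]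

end Cfsg.Agent.Components.MetacyclicOmega
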