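import Cfsg.Prelude.Def_LocalEven
import Mathlib.FieldTheory.Finite.Basic
import Mathlib.GroupTheory.PGroup

/-!
Coordinates for a faithful natural SL₂-module inside a group, adapted to a given Sylow `p`-subgroup.
-/

set_option autoImplicit false
set_option linter.all false

namespace Cfsg.Agent.Components.NaturalSL2

open Matrix

variable {F : Type*} [Field F]

abbrev SL (F : Type*) [Field F] := Matrix.SpecialLinearGroup (Fin 2) F

/-- The upper unitriangular matrix with corner `a`. -/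
def uni (a : F) : SL F := ⟨!![1, a; 0, 1], by simp [Matrix.det_fin_two]⟩

/-- The diagonal matrix `(a, a⁻¹)`. -/
def dia (a : F) (ha : a ≠ 0) : SL F := ⟨!![a, 0; 0, a⁻¹], by simp [Matrix.det_fin_two, ha]⟩

theorem uni_mulVec (a : F) (x : Fin 2 → F) : (uni a).1 *ᵥ x = ![x 0 + a * x 1, x 1] := by
  ext i; fin_cases i <;> simp [uni, Matrix.mulVec, dotProduct, Fin.sum_univ_two]

theorem dia_mulVec (a : F) (ha : a ≠ 0) (x : Fin 2 → F) : (dia a ha).1 *ᵥ x = ![a * x 0, a⁻¹ * x 1] := by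
  ext i; fin_cases i <;> simp [dia, Matrix.mulVec, dotProduct, Fin.sum_univ_two]

theorem uni_mul (a b : F) : uni a * uni b = uni (a + b) := by
  apply Subtype.ext
  show (uni a).1 * (uni b).1 = (uni (a + b)).1
  ext i j; fin_cases i <;> fin_cases j <;> simp [uni, Matrix.mul_apply, Fin.sum_univ_two, add_comm]

theorem uni_zero : uni (0 : F) = 1 := by
  apply Subtype.ext
  show (uni (0 : F)).1 = 1
  simp [uni, Matrix.one_fin_two]

/-- The upper unitriangular group. -/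
def unip (F : Type*) [Field F] : Subgroup (SL F) where
  carrier := Set.range uni
  one_mem' := ⟨0, uni_zero⟩
  mul_mem' := by rintro _ _ ⟨a, rfl⟩ ⟨b, rfl⟩; exact ⟨a + b, (uni_mul a b).symm⟩
  inv_mem' := by
    rintro _ ⟨a, rfl⟩
    exact ⟨-a, (inv_eq_of_mul_eq_one_right (by rw [uni_mul, add_neg_cancel, uni_zero])).symm⟩

theorem mem_unip {A : SL F} : A ∈ unip F ↔ ∃ a, uni a = A := Iff.rfl

theorem eq_uni_of_fix {A : SL F} (h : A.1 *ᵥ ![1, 0] = ![1, 0]) : uni (A.1 0 1) = A := by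
  have h0 := congrFun h 0
  have h1 := congrFun h 1
  simp [Matrix.mulVec, dotProduct, Fin.sum_univ_two] at h0 h1
  have hd := A.2
  rw [Matrix.det_fin_two, h0, h1] at hd
  apply Subtype.ext
  ext i j; fin_cases i <;> fin_cases j <;> simp [uni, h0, h1]
  simpa using hd.symm

theorem exists_column {w : Fin 2 → F} (hw : w ≠ 0) : ∃ g : SL F, g.1 *ᵥ ![1, 0] = w := by
  by_cases h0 : w 0 = 0
  · have h1 : w 1 ≠ 0 := fun h1 => hw (by ext i; fin_cases i <;> assumption)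
    refine ⟨⟨!![0, -(w 1)⁻¹; w 1, 0], by simp [Matrix.det_fin_two, h1]⟩, ?_⟩
    ext i; fin_cases i <;> simp [Matrix.mulVec, dotProduct, Fin.sum_univ_two, h0]
  · refine ⟨⟨!![w 0, 0; w 1, (w 0)⁻¹], by simp [Matrix.det_fin_two, h0]⟩, ?_⟩
    ext i; fin_cases i <;> simp [Matrix.mulVec, dotProduct, Fin.sum_univ_two]

theorem unip_isPGroup [Fintype F] {p n : ℕ} (hF : Fintype.card F = p ^ n) : IsPGroup p (unip F) := by
  have hn : n ≠ 0 := by
    rintro rfl
    have := Fintype.one_lt_card (α := F)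
    simp [hF] at this
  have hp0 : (p : F) = 0 := by
    have h := Nat.cast_card_eq_zero F
    rw [hF, Nat.cast_pow] at h
    exact (pow_eq_zero_iff hn).mp h
  have hpow : ∀ (a : F) (k : ℕ), uni a ^ k = uni (k * a) := by
    intro a k
    induction k with
    | zero => rw [pow_zero, Nat.cast_zero, zero_mul, uni_zero]
    | succ k ih => rw [pow_succ, ih, uni_mul, Nat.cast_succ, add_mul, one_mul]
  rintro ⟨_, a, rfl⟩
  refine ⟨1, Subtype.ext ?_⟩
  show uni a ^ p ^ 1 = 1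
  rw [pow_one, hpow, hp0, zero_mul, uni_zero]

variable {G : Type*} [Group G]

/-- Coordinates on a faithful natural module in which `T` is the upper unitriangular group. -/
structure Data (F : Type*) [Field F] (V L T : Subgroup G) where
  ρ : L →* SL F
  ψ : V → Fin 2 → F
  ρbij : Function.Bijective ρ
  ψbij : Function.Bijective ψ
  map_mul : ∀ u v, ψ (u * v) = ψ u + ψ v
  act : ∀ (l : L) (v : V), ∃ w : V, (w : G) = (l : G) * (v : G) * (l : G)⁻¹ ∧ ψ w = (ρ l).1 *ᵥ ψ v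
  memT : ∀ g, g ∈ T ↔ ∃ h : g ∈ L, ρ ⟨g, h⟩ ∈ unip F

theorem exists_data [Finite G] {p : ℕ} [hp : Fact p.Prime] [Fintype F] {n : ℕ} (hF : Fintype.card F = p ^ n)
    {V L : Subgroup G} (hnat : Cfsg.IsNaturalSL2Module F V L)
    (hf : L ⊓ Subgroup.centralizer (V : Set G) = ⊥) (S : Sylow p L) :
    Nonempty (Data F V L ((S : Subgroup L).map L.subtype)) := by
  obtain ⟨-, ρ, ψ, hsur, hker, hact⟩ := hnat
  have hinj : Function.Injective ρ := by
    rw [← MonoidHom.ker_eq_bot_iff, hker, ← Subgroup.inf_subgroupOf_left, hf, Subgroup.bot_subgroupOf]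
  letI : MulAction (S : Subgroup L) (Fin 2 → F) :=
    { smul := fun s x => (ρ (s : L)).1 *ᵥ x
      one_smul := fun x => by
        show (ρ ((1 : (S : Subgroup L)) : L)).1 *ᵥ x = x
        rw [OneMemClass.coe_one, map_one]
        exact one_mulVec x
      mul_smul := fun s t x => by
        show (ρ (((s * t : (S : Subgroup L))) : L)).1 *ᵥ x = (ρ (s : L)).1 *ᵥ ((ρ (t : L)).1 *ᵥ x)
        rw [mulVec_mulVec, Subgroup.coe_mul, map_mul]
        rfl }
  obtain ⟨w, hw, hw0⟩ := S.2.exists_fixed_point_of_prime_dvd_card_of_fixed_point (Fin 2 → F) (by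
    rw [Nat.card_eq_fintype_card, Fintype.card_fun, hF, Fintype.card_fin]
    have hn : n ≠ 0 := by
      rintro rfl
      have := Fintype.one_lt_card (α := F)
      simp [hF] at this
    exact dvd_pow (dvd_pow_self p hn) two_ne_zero)
    (a := 0) (fun s => mulVec_zero _)
  obtain ⟨g, hg⟩ := exists_column hw0.symm
  let ρ' : L →* SL F := (MulAut.conj g⁻¹).toMonoidHom.comp ρ
  have hρ' : Function.Bijective ρ' := (MulAut.conj g⁻¹).bijective.comp ⟨hinj, hsur⟩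
  have hle : (S : Subgroup L) ≤ (unip F).comap ρ' := fun s hs => by
    refine ⟨_, eq_uni_of_fix ?_⟩
    have h : (ρ s).1 *ᵥ w = w := hw ⟨s, hs⟩
    show (g⁻¹ * ρ s * g⁻¹⁻¹).1 *ᵥ ![1, 0] = ![1, 0]
    rw [inv_inv]
    show ((g⁻¹).1 * (ρ s).1 * g.1) *ᵥ ![1, 0] = ![1, 0]
    rw [← mulVec_mulVec, ← mulVec_mulVec, hg, h, ← hg, mulVec_mulVec]
    show (g⁻¹ * g).1 *ᵥ _ = _
    rw [inv_mul_cancel]
    exact one_mulVec _
  have heq : (S : Subgroup L) = (unip F).comap ρ' :=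
    (S.3 ((unip_isPGroup hF).comap_of_injective ρ' hρ'.1) hle).symm
  refine ⟨⟨ρ', fun v => (g⁻¹).1 *ᵥ ψ (Additive.ofMul v), hρ', ?_, fun u v => ?_, fun l v => ?_, fun x => ?_⟩⟩
  · refine Function.bijective_iff_has_inverse.mpr ⟨fun x => (ψ.symm (g.1 *ᵥ x)).toMul, fun v => ?_, fun x => ?_⟩
    · show (ψ.symm (g.1 *ᵥ ((g⁻¹).1 *ᵥ ψ (Additive.ofMul v)))).toMul = v
      rw [mulVec_mulVec]
      show (ψ.symm ((g * g⁻¹).1 *ᵥ ψ (Additive.ofMul v))).toMul = v
      rw [mul_inv_cancel]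
      simp
    · show (g⁻¹).1 *ᵥ ψ (Additive.ofMul (ψ.symm (g.1 *ᵥ x)).toMul) = x
      rw [ofMul_toMul, AddEquiv.apply_symm_apply, mulVec_mulVec]
      show (g⁻¹ * g).1 *ᵥ x = x
      rw [inv_mul_cancel]
      exact one_mulVec _
  · show (g⁻¹).1 *ᵥ _ = _
    rw [ofMul_mul, map_add, mulVec_add]
  · obtain ⟨w', hw'1, hw'2⟩ := hact l v
    refine ⟨w', hw'1, ?_⟩
    show (g⁻¹).1 *ᵥ ψ (Additive.ofMul w') = (g⁻¹ * ρ l * g⁻¹⁻¹).1 *ᵥ ((g⁻¹).1 *ᵥ ψ (Additive.ofMul v))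
    rw [hw'2, mulVec_mulVec, mulVec_mulVec]
    show (g⁻¹ * ρ l).1 *ᵥ _ = (g⁻¹ * ρ l * g⁻¹⁻¹ * g⁻¹).1 *ᵥ _
    rw [mul_assoc _ g⁻¹⁻¹, inv_mul_cancel, mul_one]
  · rw [Subgroup.mem_map]
    constructor
    · rintro ⟨s, hs, rfl⟩
      exact ⟨s.2, (heq ▸ hs : s ∈ (unip F).comap ρ')⟩
    · rintro ⟨h, hu⟩
      exact ⟨⟨x, h⟩, heq.symm ▸ (Subgroup.mem_comap.mpr hu), rfl⟩

namespace Data

variable {V L T : Subgroup G} (d : Data F V L T)

theorem map_one' : d.ψ 1 = 0 := by simpa using d.map_mul 1 1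

theorem map_inv' (v : V) : d.ψ v⁻¹ = -d.ψ v :=
  eq_neg_of_add_eq_zero_left (by rw [← d.map_mul, inv_mul_cancel, d.map_one'])

include d in
theorem comm {a b : G} (ha : a ∈ V) (hb : b ∈ V) : a * b = b * a :=
  congrArg Subtype.val (d.ψbij.1 (show d.ψ (⟨a, ha⟩ * ⟨b, hb⟩) = d.ψ (⟨b, hb⟩ * ⟨a, ha⟩) by
    rw [d.map_mul, d.map_mul, add_comm]))

include d in
theorem conj_mem (l : L) (v : V) : (l : G) * v * (l : G)⁻¹ ∈ V := by
  obtain ⟨w, hw, -⟩ := d.act l v; exact hw ▸ w.2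

theorem act' (l : L) (v : V) : d.ψ ⟨_, d.conj_mem l v⟩ = (d.ρ l).1 *ᵥ d.ψ v := by
  obtain ⟨w, hw, hw'⟩ := d.act l v
  rw [← hw']; exact congrArg d.ψ (Subtype.ext hw.symm)

theorem commute_iff (l : L) (v : V) : (l : G) * v = v * l ↔ (d.ρ l).1 *ᵥ d.ψ v = d.ψ v := by
  rw [← d.act' l v, d.ψbij.1.eq_iff, Subtype.ext_iff]
  exact mul_inv_eq_iff_eq_mul.symm

theorem mem_cent_singleton {l : L} {a : F} (hl : d.ρ l = uni a) (ha : a ≠ 0) (v : V) :
    (v : G) ∈ Subgroup.centralizer ({(l : G)} : Set G) ↔ d.ψ v 1 = 0 := by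
  rw [Subgroup.mem_centralizer_singleton_iff, eq_comm, d.commute_iff, hl, uni_mulVec]
  constructor
  · intro h
    have := congrFun h 0
    simpa [ha] using this
  · intro h
    ext i; fin_cases i <;> simp [h]

theorem exists_mem_T (a : F) : ∃ l : L, (l : G) ∈ T ∧ d.ρ l = uni a := by
  obtain ⟨l, hl⟩ := d.ρbij.2 (uni a)
  exact ⟨l, (d.memT _).mpr ⟨l.2, by rw [Subtype.coe_eta, hl]; exact ⟨a, rfl⟩⟩, hl⟩

theorem mem_cent_T (v : V) : (v : G) ∈ Subgroup.centralizer (T : Set G) ↔ d.ψ v 1 = 0 := by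
  constructor
  · intro h
    obtain ⟨l, hl, hρ⟩ := d.exists_mem_T 1
    exact (d.mem_cent_singleton hρ one_ne_zero v).mp
      (Subgroup.mem_centralizer_singleton_iff.mpr (Subgroup.mem_centralizer_iff.mp h _ hl).symm)
  · intro h
    rw [Subgroup.mem_centralizer_iff]
    intro t ht
    obtain ⟨htL, a, ha⟩ := (d.memT t).mp ht
    show ((⟨t, htL⟩ : L) : G) * v = v * ((⟨t, htL⟩ : L) : G)
    rw [d.commute_iff, ← ha, uni_mulVec]
    ext i; fin_cases i <;> simp [h]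

/-- Commutator of a vector with an element of `T`. -/
theorem commutator_coord {l : L} {a : F} (hl : d.ρ l = uni a) (v : V) :
    ∃ h : (v : G) * l * (v : G)⁻¹ * (l : G)⁻¹ ∈ V, d.ψ ⟨_, h⟩ = ![-(a * d.ψ v 1), 0] := by
  have e : (v : G) * l * (v : G)⁻¹ * (l : G)⁻¹ =
      ((v * ⟨_, d.conj_mem l v⁻¹⟩ : V) : G) := by
    simp [mul_assoc]
  refine ⟨e ▸ SetLike.coe_mem _, ?_⟩
  rw [show (⟨_, e ▸ SetLike.coe_mem _⟩ : V) = v * ⟨_, d.conj_mem l v⁻¹⟩ from Subtype.ext e, d.map_mul,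
    d.act', hl, uni_mulVec, d.map_inv']
  ext i; fin_cases i <;> simp

end Data

end Cfsg.Agent.Components.NaturalSL2
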