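import Cfsg.Agent.S5515

/-!
Orbits of a group on subgroups of a simple normal subgroup, read off from a model of the automorphisms it induces.
-/

set_option autoImplicit false

namespace Cfsg.Agent.Components.OuterOrbits

open Subgroup

variable {T : Type*} [Group T]

lemma map_aut_mul (a b : MulAut T) (X : Subgroup T) :
    X.map (a * b).toMonoidHom = (X.map b.toMonoidHom).map a.toMonoidHom := by
  rw [Subgroup.map_map]
  rfl

lemma map_aut_inv {a : MulAut T} {X Y : Subgroup T} (h : X.map a.toMonoidHom = Y) :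
    Y.map (a⁻¹).toMonoidHom = X := by
  rw [← h, ← map_aut_mul, inv_mul_cancel]
  exact Subgroup.map_id X

/-- Orbits in a group with socle `L` on the subgroups of order three of `L`. -/
theorem orbits [Finite T] {n m : ℕ} (e : Cfsg.Out T ≃* Equiv.Perm (Fin 4)) (hZ : center T = ⊥)
    (R : Subgroup (MulAut T)) (hR : Cfsg.Inn T ≤ R)
    (hR6 : Nat.card (R.map (QuotientGroup.mk' (Cfsg.Inn T))) = 6)
    (Y : Fin n → Subgroup T) (lab : Fin n → Fin m) (pick : Fin m → Fin n)
    (hpick : ∀ k, lab (pick k) = k) (hY : ∀ i, Nat.card (Y i) = 3)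
    (hcov : ∀ X : Subgroup T, Nat.card X = 3 → ∃ i g, X.map (MulAut.conj g).toMonoidHom = Y i)
    (hstab : ∀ r ∈ R, ∀ i j, (Y i).map r.toMonoidHom = Y j → lab i = lab j)
    (htrans : ∀ i, ∃ r ∈ R, (Y i).map r.toMonoidHom = Y (pick (lab i)))
    {G : Type*} [Group G] [Finite G] (L : Subgroup G) [L.Normal] (eL : L ≃* T)
    (hC : centralizer (L : Set G) ≤ L) (hq : Nonempty (G ⧸ L ≃* Equiv.Perm (Fin 3))) :
    ∃ Y : Fin m → Subgroup G, (∀ i, Y i ≤ L ∧ Nat.card (Y i) = 3) ∧
      (∀ i j, (∃ g : G, (Y i).map (MulAut.conj g).toMonoidHom = Y j) → i = j) ∧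
      ∀ X : Subgroup G, X ≤ L → Nat.card X = 3 →
        ∃ i, ∃ g : G, X.map (MulAut.conj g).toMonoidHom = Y i := by
  obtain ⟨q⟩ := hq
  let φ : G →* MulAut T := (MulAut.congr eL).toMonoidHom.comp MulAut.conjNormal
  have hφ : ∀ x (l : L), φ x (eL l) =
      eL ⟨x * (l : G) * x⁻¹, (inferInstance : L.Normal).conj_mem _ l.2 x⟩ := fun x l => by
    show eL (MulAut.conjNormal x (eL.symm (eL l))) = _
    rw [eL.symm_apply_apply]
    exact congrArg eL (Subtype.ext (MulAut.conjNormal_apply x l))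
  have himage : ∀ l : L, φ (l : G) = MulAut.conj (eL l) := fun l => by
    refine MulEquiv.ext fun u => ?_
    obtain ⟨k, rfl⟩ := eL.surjective u
    rw [hφ, MulAut.conj_apply, ← map_inv, ← map_mul, ← map_mul]
    exact congrArg eL (Subtype.ext (by simp))
  have hker : ((QuotientGroup.mk' (Cfsg.Inn T)).comp φ).ker = L := by
    ext x
    rw [MonoidHom.mem_ker, MonoidHom.comp_apply, QuotientGroup.mk'_apply, QuotientGroup.eq_one_iff]
    refine ⟨?_, fun hx => ⟨eL ⟨x, hx⟩, (himage ⟨x, hx⟩).symm⟩⟩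
    rintro ⟨t, ht⟩
    obtain ⟨l, rfl⟩ := eL.surjective t
    rw [← himage] at ht
    have hy : φ ((l : G)⁻¹ * x) = 1 := by rw [map_mul, map_inv, ht, inv_mul_cancel]
    have hc : (l : G)⁻¹ * x ∈ centralizer (L : Set G) := by
      rw [mem_centralizer_iff]
      intro k hk
      have h1 := hφ ((l : G)⁻¹ * x) ⟨k, hk⟩
      rw [hy, MulAut.one_apply] at h1
      exact (mul_inv_eq_iff_eq_mul.mp (congrArg Subtype.val (eL.injective h1)).symm).symm
    have := mul_mem l.2 (hC hc)
    rwa [mul_inv_cancel_left] at this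
  have hS6 : Nat.card (φ.range.map (QuotientGroup.mk' (Cfsg.Inn T))) = 6 := by
    rw [← MonoidHom.range_comp, ← Nat.card_congr (QuotientGroup.quotientKerEquivRange _).toEquiv,
      Nat.card_congr (QuotientGroup.quotientMulEquivOfEq hker).toEquiv, Nat.card_congr q.toEquiv,
      Nat.card_perm, Nat.card_fin]
    rfl
  have hS : Cfsg.Inn T ≤ φ.range := by
    rintro _ ⟨t, rfl⟩
    obtain ⟨l, rfl⟩ := eL.surjective t
    exact ⟨_, himage l⟩
  obtain ⟨o, ho⟩ := S5515.six_conj e _ _ hR6 hS6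
  obtain ⟨a, rfl⟩ := QuotientGroup.mk'_surjective (Cfsg.Inn T) o
  have hcomp : (MulAut.conj (QuotientGroup.mk' (Cfsg.Inn T) a)).toMonoidHom.comp
      (QuotientGroup.mk' (Cfsg.Inn T)) =
      (QuotientGroup.mk' (Cfsg.Inn T)).comp (MulAut.conj a).toMonoidHom := by
    ext x
    simp [MulAut.conj_apply]
  have hRS : R.map (MulAut.conj a).toMonoidHom = φ.range := by
    rw [Subgroup.map_map, hcomp, ← Subgroup.map_map] at ho
    have h := congrArg (comap (QuotientGroup.mk' (Cfsg.Inn T))) ho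
    rwa [comap_map_eq, comap_map_eq, QuotientGroup.ker_mk', sup_eq_left.mpr hS,
      sup_eq_left.mpr ?_] at h
    intro x hx
    refine ⟨a⁻¹ * x * a, hR ?_, by simp [MulAut.conj_apply, mul_assoc]⟩
    have := (inferInstance : (Cfsg.Inn T).Normal).conj_mem x hx a⁻¹
    simpa using this
  have toS : ∀ r ∈ R, ∃ g : G, φ g = a * r * a⁻¹ := fun r hr => hRS.le ⟨r, hr, rfl⟩
  have ofS : ∀ g : G, a⁻¹ * φ g * a ∈ R := fun g => by
    obtain ⟨r, hr, hrg⟩ := hRS.ge (⟨g, rfl⟩ : φ g ∈ φ.range)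
    have : φ g = a * r * a⁻¹ := hrg.symm
    rw [this]
    simpa [mul_assoc] using hr
  let emb : T →* G := L.subtype.comp eL.symm.toMonoidHom
  have hemb : Function.Injective emb := L.subtype_injective.comp eL.symm.injective
  have hmove : ∀ (g : G) (t : T), g * emb t * g⁻¹ = emb (φ g t) := fun g t => by
    obtain ⟨l, rfl⟩ := eL.surjective t
    rw [hφ]
    simp [emb]
  have hmap : ∀ (g : G) (Z : Subgroup T), (Z.map emb).map (MulAut.conj g).toMonoidHom =
      (Z.map (φ g).toMonoidHom).map emb := fun g Z => by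
    rw [Subgroup.map_map, Subgroup.map_map]
    congr 1
    exact MonoidHom.ext fun t => hmove g t
  let A : Fin n → Subgroup T := fun i => (Y i).map a.toMonoidHom
  refine ⟨fun k => (A (pick k)).map emb, fun k => ⟨?_, ?_⟩, ?_, ?_⟩
  · rintro _ ⟨t, -, rfl⟩
    exact (eL.symm t).2
  · rw [card_map_of_injective hemb, card_map_of_injective a.injective, hY]
  · rintro k k' ⟨g, hg⟩
    rw [hmap] at hg
    have h := map_injective hemb hg
    rw [← map_aut_mul] at h
    have h' : (A (pick k')).map (a⁻¹).toMonoidHom = Y (pick k') := map_aut_inv rfl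
    rw [← h, ← map_aut_mul, ← mul_assoc] at h'
    rw [← hpick k, ← hpick k', hstab _ (ofS g) _ _ h']
  · intro X hX h3
    obtain ⟨Z, hZ⟩ : ∃ Z : Subgroup T, Z.map emb = X := ⟨X.comap emb, by
      rw [map_comap_eq, inf_eq_right]
      exact fun x hx => ⟨eL ⟨x, hX hx⟩, by simp [emb]⟩⟩
    have hZ3 : Nat.card (Z.map (a⁻¹).toMonoidHom : Subgroup T) = 3 := by
      rw [card_map_of_injective (a⁻¹).injective, ← h3, ← hZ, card_map_of_injective hemb]
    obtain ⟨i, t, ht⟩ := hcov _ hZ3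
    obtain ⟨r, hr, hri⟩ := htrans i
    obtain ⟨g, hg⟩ := toS (r * MulAut.conj t) (mul_mem hr (hR ⟨t, rfl⟩))
    refine ⟨lab i, g, ?_⟩
    rw [← hZ, hmap, hg]
    congr 1
    rw [map_aut_mul, map_aut_mul, map_aut_mul, ht, hri]

end Cfsg.Agent.Components.OuterOrbits
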