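import Cfsg.Agent.Lib.Components.Hyperplane
import Cfsg.Agent.Lib.Coprime.Sylow
import Cfsg.Agent.Lib.Coprime.Action
import Cfsg.Agent.Lib.Coprime.PGroup
import Cfsg.Prelude.Def_Balance

/-!
The family of a solvable signalizer functor: closure properties, the transitivity theorem, Sylow
subgroups of members.  In each statement `hθ : IsSolvableSignalizerFunctor p A θ`.
-/

set_option autoImplicit false

namespace Cfsg.Agent.Components.Signalizer

open Subgroup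
open scoped Pointwise

universe u

variable {G : Type u} [Group G] {p q : ℕ} {A : Subgroup G} {θ : G → Subgroup G}

lemma le_normalizer_of_inv {X : Subgroup G} (h : ∀ b ∈ A, ∀ x ∈ X, b * x * b⁻¹ ∈ X) :
    A ≤ normalizer (X : Set G) := fun b hb => mem_normalizer_iff.mpr fun z =>
  ⟨h b hb z, fun hz => by simpa [mul_assoc] using h b⁻¹ (inv_mem hb) _ hz⟩

lemma inv_of_le_normalizer {X : Subgroup G} (h : A ≤ normalizer (X : Set G)) :
    ∀ b ∈ A, ∀ x ∈ X, b * x * b⁻¹ ∈ X := fun _ hb x hx => (mem_normalizer_iff.mp (h hb) x).mp hx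

lemma member_normalizer {U : Subgroup G} (hU : U ∈ Cfsg.signalizerFamily p A θ) :
    A ≤ normalizer (U : Set G) :=
  le_normalizer_of_inv hU.2.2.1

lemma theta_normalizer (hθ : Cfsg.IsSolvableSignalizerFunctor p A θ) {a : G} (ha : a ∈ A) (ha1 : a ≠ 1) :
    A ≤ normalizer (θ a : Set G) :=
  le_normalizer_of_inv (hθ.1.2.2.1 a ha ha1)

lemma theta_mem (hθ : Cfsg.IsSolvableSignalizerFunctor p A θ) {a : G} (ha : a ∈ A) (ha1 : a ≠ 1) :
    θ a ∈ Cfsg.signalizerFamily p A θ :=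
  ⟨hθ.2 a ha ha1, hθ.1.2.1 a ha ha1, hθ.1.2.2.1 a ha ha1,
    fun b hb hb1 => hθ.1.2.2.2 a ha ha1 b hb hb1⟩

lemma member_of_le {U V : Subgroup G} (hU : U ∈ Cfsg.signalizerFamily p A θ) (hVU : V ≤ U)
    (hV : A ≤ normalizer (V : Set G)) : V ∈ Cfsg.signalizerFamily p A θ :=
  ⟨Coprime.isSolvable_of_le hVU hU.1, fun h => hU.2.1 (h.trans (card_dvd_of_le hVU)),
    inv_of_le_normalizer hV, fun a ha ha1 => (inf_le_inf_right _ hVU).trans (hU.2.2.2 a ha ha1)⟩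

lemma coprime_member [Finite G] [hp : Fact p.Prime] (hA : Cfsg.IsElementaryAbelian p A) {U : Subgroup G}
    (hU : ¬ p ∣ Nat.card U) : (Nat.card A).Coprime (Nat.card U) := by
  obtain ⟨k, hk⟩ := (Hyperplane.isPGroup hA).exists_card_eq
  rw [hk]
  exact (hp.out.coprime_iff_not_dvd.mpr hU).pow_left k

lemma inf_le_theta (A : Subgroup G) (θ : G → Subgroup G) {b : G} (hb : b ∈ A) (hb1 : b ≠ 1) :
    Cfsg.signalizerInf A θ ≤ θ b :=
  iInf_le_of_le (⟨b, hb, hb1⟩ : {a : G // a ∈ A ∧ a ≠ 1}) le_rfl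

lemma inf_le_centralizer (hθ : Cfsg.IsSolvableSignalizerFunctor p A θ) {B : Subgroup G} (hB : B ≤ A) :
    Cfsg.signalizerInf B θ ≤ centralizer (B : Set G) := by
  intro x hx
  rw [mem_centralizer_iff]
  intro b hb
  by_cases hb1 : b = 1
  · simp [hb1]
  · exact (mem_centralizer_singleton_iff.mp
      (hθ.1.1 b (hB hb) hb1 (inf_le_theta B θ hb hb1 hx))).symm

lemma inf_normalizer (hθ : Cfsg.IsSolvableSignalizerFunctor p A θ) {B : Subgroup G} (hB : B ≤ A) :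
    A ≤ normalizer ((Cfsg.signalizerInf B θ : Subgroup G) : Set G) := by
  refine le_normalizer_of_inv fun c hc x hx => ?_
  rw [Cfsg.signalizerInf, mem_iInf] at hx ⊢
  exact fun b => hθ.1.2.2.1 b.1 (hB b.2.1) b.2.2 c hc x (hx b)

lemma inf_mem (hθ : Cfsg.IsSolvableSignalizerFunctor p A θ) {B : Subgroup G} (hB : B ≤ A) (hB1 : B ≠ ⊥) :
    Cfsg.signalizerInf B θ ∈ Cfsg.signalizerFamily p A θ := by
  obtain ⟨b, hb, hb1⟩ : ∃ b ∈ B, b ≠ 1 := by
    by_contra h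
    push Not at h
    exact hB1 ((eq_bot_iff_forall B).mpr h)
  exact member_of_le (theta_mem hθ (hB hb) hb1) (inf_le_theta B θ hb hb1) (inf_normalizer hθ hB)

/-- A member centralized by `B` lies in `signalizerInf B θ`. -/
lemma member_inf_centralizer_le {U B : Subgroup G} (hU : U ∈ Cfsg.signalizerFamily p A θ) (hB : B ≤ A) :
    U ⊓ centralizer (B : Set G) ≤ Cfsg.signalizerInf B θ :=
  le_iInf fun b => (inf_le_inf_left _ (centralizer_le (Set.singleton_subset_iff.mpr b.2.1))).trans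
    (hU.2.2.2 b.1 (hB b.2.1) b.2.2)

lemma card_sup_dvd {X Y : Subgroup G} (hn : Y ≤ normalizer (X : Set G)) :
    Nat.card ↥(X ⊔ Y) ∣ Nat.card X * Nat.card Y := by
  have h1 : Nat.card ↥(X ⊔ Y) = Nat.card X * X.relIndex (X ⊔ Y) := by
    rw [← relIndex_bot_left, ← relIndex_bot_left, relIndex_mul_relIndex ⊥ X (X ⊔ Y) bot_le le_sup_left]
  have h2 : X.relIndex (X ⊔ Y) = X.relIndex Y := by
    have : (X.subgroupOf (normalizer (X : Set G))).Normal := normal_in_normalizer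
    have h := relIndex_sup_right (Y.subgroupOf (normalizer (X : Set G)))
      (X.subgroupOf (normalizer (X : Set G)))
    rw [← subgroupOf_sup hn le_normalizer, relIndex_subgroupOf (sup_le hn le_normalizer),
      relIndex_subgroupOf hn, sup_comm] at h
    exact h
  rw [h1, h2]
  exact mul_dvd_mul_left _ (relIndex_dvd_card _ _)

lemma isSolvable_sup {X Y : Subgroup G} (hn : Y ≤ normalizer (X : Set G)) (hX : Group.IsSolvable X)
    (hY : Group.IsSolvable Y) : Group.IsSolvable ↥(X ⊔ Y) := by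
  have : (X.subgroupOf (X ⊔ Y)).Normal :=
    normal_subgroupOf_of_le_normalizer (sup_le le_normalizer hn)
  rw [Group.isSolvable_iff_subgroup_quotient (X.subgroupOf (X ⊔ Y))]
  refine ⟨Group.isSolvable_of_isSolvable_injective
    (f := (subgroupOfEquivOfLe (le_sup_left : X ≤ X ⊔ Y)).toMonoidHom) (MulEquiv.injective _), ?_⟩
  refine Group.isSolvable_of_surjective
    (f := (QuotientGroup.mk' (X.subgroupOf (X ⊔ Y))).comp (inclusion (le_sup_right : Y ≤ X ⊔ Y))) ?_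
  intro z
  obtain ⟨⟨w, hw⟩, rfl⟩ := QuotientGroup.mk'_surjective _ z
  obtain ⟨x, hx, y, hy, rfl⟩ := (Coprime.mem_sup_of_le_normalizer hn).mp hw
  refine ⟨⟨y, hy⟩, ?_⟩
  show QuotientGroup.mk' _ (⟨y, _⟩ : ↥(X ⊔ Y)) = QuotientGroup.mk' _ _
  rw [QuotientGroup.mk'_eq_mk']
  refine ⟨(⟨y, mem_sup_right hy⟩ : ↥(X ⊔ Y))⁻¹ * ⟨x * y, hw⟩, ?_, by simp⟩
  rw [mem_subgroupOf]
  show y⁻¹ * (x * y) ∈ X
  simpa [mul_assoc] using (mem_normalizer_iff.mp (inv_mem (hn hy)) x).mp hx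

/-- The product of two members, one normalizing the other, is a member. -/
lemma member_sup [Finite G] [hp : Fact p.Prime] (hA : Cfsg.IsElementaryAbelian p A) {X Y : Subgroup G}
    (hX : X ∈ Cfsg.signalizerFamily p A θ) (hY : Y ∈ Cfsg.signalizerFamily p A θ)
    (hn : Y ≤ normalizer (X : Set G)) : X ⊔ Y ∈ Cfsg.signalizerFamily p A θ := by
  obtain ⟨hXs, hXp, hXA, hXθ⟩ := hX
  obtain ⟨hYs, hYp, hYA, hYθ⟩ := hY
  have hAX := le_normalizer_of_inv hXA
  have hAY := le_normalizer_of_inv hYA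
  refine ⟨isSolvable_sup hn hXs hYs, fun h => (hp.out.dvd_mul.mp (h.trans (card_sup_dvd hn))).elim hXp hYp,
    inv_of_le_normalizer (le_trans (le_inf hAX hAY) fun g hg => ?_), fun a ha ha1 => ?_⟩
  · rw [← Coprime.conj_smul_eq_self_iff, Subgroup.smul_sup, Coprime.conj_smul_eq_self_iff.mpr hg.1,
      Coprime.conj_smul_eq_self_iff.mpr hg.2]
  rintro u ⟨hu, hua⟩
  obtain ⟨x, hx, y, hy, rfl⟩ := (Coprime.mem_sup_of_le_normalizer hn).mp hu
  have hua' := mem_centralizer_singleton_iff.mp hua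
  have hmem : ∀ a' ∈ zpowers a, a' * y * a'⁻¹ * y⁻¹ ∈ X ⊓ Y := by
    intro a' ha'
    have ha'A : a' ∈ A := (zpowers_le.mpr ha) ha'
    refine ⟨?_, Y.mul_mem (hYA a' ha'A y hy) (Y.inv_mem hy)⟩
    have hc : a' * (x * y) * a'⁻¹ = x * y := by
      obtain ⟨m, rfl⟩ := mem_zpowers_iff.mp ha'
      have hcom : Commute (a ^ m) (x * y) := (Commute.symm hua').zpow_left m
      rw [hcom.eq, mul_inv_cancel_right]
    have : a' * y * a'⁻¹ * y⁻¹ = (a' * x * a'⁻¹)⁻¹ * x := by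
      calc a' * y * a'⁻¹ * y⁻¹ = (a' * x * a'⁻¹)⁻¹ * (a' * (x * y) * a'⁻¹) * y⁻¹ := by group
        _ = (a' * x * a'⁻¹)⁻¹ * (x * y) * y⁻¹ := by rw [hc]
        _ = (a' * x * a'⁻¹)⁻¹ * x := by group
    rw [this]
    exact X.mul_mem (X.inv_mem (hXA a' ha'A x hx)) hx
  obtain ⟨c, hc, hcy⟩ := Coprime.exists_fixed_mod (A := zpowers a) (K := Y) (N := X ⊓ Y)
    ((coprime_member hA hYp).coprime_dvd_left (card_dvd_of_le (zpowers_le.mpr ha)))
    (Or.inr hYs) inf_le_right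
    (le_trans (le_inf hn le_normalizer) inf_normalizer_le_normalizer_inf)
    (le_trans (le_inf ((zpowers_le.mpr ha).trans hAX) ((zpowers_le.mpr ha).trans hAY))
      inf_normalizer_le_normalizer_inf) hy hmem
  have hca : c ∈ centralizer ({a} : Set G) := mem_centralizer_singleton_iff.mpr
    (mem_centralizer_iff.mp hc.2 a (mem_zpowers a)).symm
  have hxn : x * (y * c⁻¹) ∈ X ⊓ centralizer ({a} : Set G) := by
    refine ⟨X.mul_mem hx ?_, ?_⟩
    · have h1 := (mem_normalizer_iff.mp (hn hy) _).mp (X.inv_mem hcy.1)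
      simpa [mul_assoc] using h1
    · rw [← mul_assoc]
      exact (centralizer ({a} : Set G)).mul_mem hua ((centralizer ({a} : Set G)).inv_mem hca)
  have := (θ a).mul_mem (hXθ a ha ha1 hxn) (hYθ a ha ha1 ⟨hc.1, hca⟩)
  simpa [mul_assoc] using this

/-- Conjugation by an element of `θ(A)` preserves the family. -/
lemma member_conj [Finite G] (hθ : Cfsg.IsSolvableSignalizerFunctor p A θ) {U : Subgroup G}
    (hU : U ∈ Cfsg.signalizerFamily p A θ) {c : G} (hc : c ∈ Cfsg.signalizerInf A θ) :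
    MulAut.conj c • U ∈ Cfsg.signalizerFamily p A θ := by
  have hcA := inf_le_centralizer hθ le_rfl hc
  refine ⟨Coprime.isSolvable_conj_smul c hU.1, by rw [Coprime.card_conj_smul]; exact hU.2.1,
    inv_of_le_normalizer fun b hb => ?_, fun a ha ha1 => ?_⟩
  · rw [← Coprime.conj_smul_eq_self_iff, ← Coprime.conj_smul_mul, mem_centralizer_iff.mp hcA b hb,
      Coprime.conj_smul_mul, Coprime.conj_smul_eq_self_iff.mpr (member_normalizer hU hb)]
  · have h1 : MulAut.conj c • centralizer ({a} : Set G) = centralizer {a} :=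
      Coprime.conj_smul_eq_self_iff.mpr (le_normalizer
        (mem_centralizer_singleton_iff.mpr (mem_centralizer_iff.mp hcA a ha).symm))
    have h2 : MulAut.conj c • θ a = θ a :=
      Coprime.conj_smul_eq_self_iff.mpr (le_normalizer (inf_le_theta A θ ha ha1 hc))
    rw [← h1, ← Subgroup.smul_inf, ← h2]
    exact pointwise_smul_le_pointwise_smul_iff.mpr (hU.2.2.2 a ha ha1)

/-- A maximal `q`-subgroup of the family. -/
def IsMaxQ (p q : ℕ) (A : Subgroup G) (θ : G → Subgroup G) (Q : Subgroup G) : Prop :=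
  Q ∈ Cfsg.signalizerFamily p A θ ∧ IsPGroup q Q ∧
    ∀ R ∈ Cfsg.signalizerFamily p A θ, IsPGroup q R → Q ≤ R → R = Q

lemma exists_isMaxQ_ge [Finite G] {U : Subgroup G} (hU : U ∈ Cfsg.signalizerFamily p A θ)
    (hUq : IsPGroup q U) : ∃ Q, U ≤ Q ∧ IsMaxQ p q A θ Q := by
  obtain ⟨Q, hUQ, ⟨hQ, hQq⟩, hmax⟩ := Finite.exists_le_maximal
    (p := fun R : Subgroup G => R ∈ Cfsg.signalizerFamily p A θ ∧ IsPGroup q R) (a := U) ⟨hU, hUq⟩
  exact ⟨Q, hUQ, hQ, hQq, fun R hR hRq hle => le_antisymm (hmax ⟨hR, hRq⟩ hle) hle⟩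

lemma isMaxQ_conj [Finite G] (hθ : Cfsg.IsSolvableSignalizerFunctor p A θ) {Q : Subgroup G}
    (hQ : IsMaxQ p q A θ Q) {c : G} (hc : c ∈ Cfsg.signalizerInf A θ) :
    IsMaxQ p q A θ (MulAut.conj c • Q) := by
  refine ⟨member_conj hθ hQ.1 hc, hQ.2.1.map _, fun R hR hRq hle => ?_⟩
  have h1 := member_conj hθ hR ((Cfsg.signalizerInf A θ).inv_mem hc)
  have hle' : Q ≤ MulAut.conj c⁻¹ • R := by
    rw [← Coprime.conj_inv_smul_smul c Q]
    exact pointwise_smul_le_pointwise_smul_iff.mpr hle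
  rw [← hQ.2.2 _ h1 (hRq.map _) hle', ← Coprime.conj_smul_mul, mul_inv_cancel, Coprime.conj_smul_one]

/-- A proper subgroup of a `q`-group is properly contained in its normalizer. -/
lemma normalizer_inf_not_le [Finite G] [hq : Fact q.Prime] {Q D : Subgroup G} (hQ : IsPGroup q Q)
    (hle : D ≤ Q) (hne : D ≠ Q) : ¬ normalizer (D : Set G) ⊓ Q ≤ D := by
  intro h
  have := hQ.isNilpotent
  have hlt : D.subgroupOf Q < ⊤ := lt_top_iff_ne_top.mpr fun e =>
    hne (le_antisymm hle (subgroupOf_eq_top.mp e))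
  obtain ⟨y, hy, hyn⟩ := SetLike.exists_of_lt (normalizerCondition_of_isNilpotent (G := Q) _ hlt)
  refine hyn (mem_subgroupOf.mpr (h ⟨?_, y.2⟩))
  have h2 := mem_map_of_mem Q.subtype hy
  rw [← subgroupOf_normalizer_eq hle, subgroupOf_map_subtype] at h2
  exact h2.1

/-- Two hyperplanes of an elementary abelian group of rank `≥ 3` meet nontrivially. -/
lemma exists_mem_two_hyperplanes [Finite G] [hp : Fact p.Prime] (hA : Cfsg.IsElementaryAbelian p A)
    (hA3 : p ^ 3 ≤ Nat.card A) {B₁ B₂ : Subgroup G} (h₁ : B₁ ≤ A) (i₁ : B₁.relIndex A = p)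
    (h₂ : B₂ ≤ A) (i₂ : B₂.relIndex A = p) : ∃ a ∈ A, a ≠ 1 ∧ a ∈ B₁ ∧ a ∈ B₂ := by
  by_contra hcon
  push Not at hcon
  have hd : Disjoint B₁ B₂ := disjoint_def.mpr fun {x} hx1 hx2 => by
    by_contra hx
    exact hcon x (h₁ hx1) hx hx1 hx2
  have hn : B₂ ≤ normalizer (B₁ : Set G) := fun b hb => centralizer_le_normalizer _
    (mem_centralizer_iff.mpr fun c hc => Hyperplane.mem_comm hA (h₁ hc) (h₂ hb))
  have h := Coprime.card_sup_of_disjoint hn hd
  have hle : Nat.card ↥(B₁ ⊔ B₂) ≤ Nat.card A := card_le_of_le (sup_le h₁ h₂)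
  have e : ∀ B : Subgroup G, B ≤ A → B.relIndex A = p → Nat.card B * p = Nat.card A := fun B hB hi => by
    rw [← hi, ← relIndex_bot_left, relIndex_mul_relIndex _ _ _ bot_le hB, relIndex_bot_left]
  rw [h] at hle
  have hm : Nat.card A * Nat.card A ≤ Nat.card A * (p * p) := by
    calc Nat.card A * Nat.card A = (Nat.card B₁ * Nat.card B₂) * (p * p) := by
          calc Nat.card A * Nat.card A = (Nat.card B₁ * p) * (Nat.card B₂ * p) := by
                rw [e B₁ h₁ i₁, e B₂ h₂ i₂]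
            _ = (Nat.card B₁ * Nat.card B₂) * (p * p) := by ring
      _ ≤ Nat.card A * (p * p) := Nat.mul_le_mul_right _ hle
  have hpp := Nat.le_of_mul_le_mul_left hm Nat.card_pos
  have : p * p < p ^ 3 := by
    rw [pow_succ, pow_two]
    exact lt_mul_of_one_lt_right (Nat.mul_pos hp.out.pos hp.out.pos) hp.out.one_lt
  omega

/-- Two `A`-invariant `q`-groups meeting in `D` have a common `a` with fixed points in both normalizers outside `D`. -/
lemma exists_common_fixed [Finite G] [hp : Fact p.Prime] [hq : Fact q.Prime]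
    (hA : Cfsg.IsElementaryAbelian p A) (hA3 : p ^ 3 ≤ Nat.card A) (hqp : q ≠ p)
    {Q₁ Q₂ : Subgroup G} (h₁ : IsPGroup q Q₁) (h₂ : IsPGroup q Q₂)
    (hA₁ : A ≤ normalizer (Q₁ : Set G)) (hA₂ : A ≤ normalizer (Q₂ : Set G))
    (hD₁ : Q₁ ⊓ Q₂ ≠ Q₁) (hD₂ : Q₁ ⊓ Q₂ ≠ Q₂) :
    ∃ a ∈ A, a ≠ 1 ∧ ¬ (normalizer ((Q₁ ⊓ Q₂ : Subgroup G) : Set G) ⊓ Q₁ ⊓ centralizer {a} ≤ Q₁ ⊓ Q₂) ∧
      ¬ (normalizer ((Q₁ ⊓ Q₂ : Subgroup G) : Set G) ⊓ Q₂ ⊓ centralizer {a} ≤ Q₁ ⊓ Q₂) := by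
  set D := Q₁ ⊓ Q₂
  have hAD : A ≤ normalizer (D : Set G) := le_trans (le_inf hA₁ hA₂) inf_normalizer_le_normalizer_inf
  have key : ∀ Q : Subgroup G, IsPGroup q Q → A ≤ normalizer (Q : Set G) → D ≤ Q → D ≠ Q →
      ∃ B, B ≤ A ∧ B.relIndex A = p ∧ ¬ normalizer (D : Set G) ⊓ Q ⊓ centralizer (B : Set G) ≤ D := by
    intro Q hQ hAQ hle hne
    have hN : ¬ p ∣ Nat.card ↥(normalizer (D : Set G) ⊓ Q) := by
      intro h
      obtain ⟨n, hn⟩ := IsPGroup.iff_card.mp (hQ.to_le (inf_le_right : normalizer (D : Set G) ⊓ Q ≤ Q))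
      rw [hn] at h
      exact hqp ((Nat.prime_dvd_prime_iff_eq hp.out hq.out).mp (hp.out.dvd_of_dvd_pow h)).symm
    have hAN : A ≤ normalizer ((normalizer (D : Set G) ⊓ Q : Subgroup G) : Set G) :=
      le_trans (le_inf (hAD.trans le_normalizer) hAQ) inf_normalizer_le_normalizer_inf
    by_contra hcon
    push Not at hcon
    apply normalizer_inf_not_le hQ hle hne
    rw [Hyperplane.eq_iSup_hyperplane hA
      ((Nat.pow_le_pow_right hp.out.pos (by norm_num)).trans hA3) hN hAN]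
    exact iSup_le fun B => hcon B.1 B.2.1 B.2.2
  obtain ⟨B₁, hB₁, i₁, n₁⟩ := key Q₁ h₁ hA₁ inf_le_left hD₁
  obtain ⟨B₂, hB₂, i₂, n₂⟩ := key Q₂ h₂ hA₂ inf_le_right hD₂
  obtain ⟨a, ha, ha1, ha₁, ha₂⟩ := exists_mem_two_hyperplanes hA hA3 hB₁ i₁ hB₂ i₂
  exact ⟨a, ha, ha1,
    fun h => n₁ ((inf_le_inf_left _ (centralizer_le (Set.singleton_subset_iff.mpr ha₁))).trans h),
    fun h => n₂ ((inf_le_inf_left _ (centralizer_le (Set.singleton_subset_iff.mpr ha₂))).trans h)⟩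

/-- The transitivity theorem. -/
theorem exists_conj_eq [Finite G] [hp : Fact p.Prime] [hq : Fact q.Prime]
    (hA : Cfsg.IsElementaryAbelian p A) (hA3 : p ^ 3 ≤ Nat.card A)
    (hθ : Cfsg.IsSolvableSignalizerFunctor p A θ) {Q₁ Q₂ : Subgroup G}
    (hQ₁ : IsMaxQ p q A θ Q₁) (hQ₂ : IsMaxQ p q A θ Q₂) :
    ∃ c ∈ Cfsg.signalizerInf A θ, MulAut.conj c • Q₁ = Q₂ := by
  induction hk : Nat.card G - Nat.card ↥(Q₁ ⊓ Q₂) using Nat.strong_induction_on generalizing Q₁ Q₂ with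
  | _ k ih =>
    subst hk
    by_cases heq : Q₁ = Q₂
    · exact ⟨1, one_mem _, by rw [Coprime.conj_smul_one, heq]⟩
    set D := Q₁ ⊓ Q₂ with hDdef
    have hD₁ : D ≠ Q₁ := fun h => heq (hQ₁.2.2 _ hQ₂.1 hQ₂.2.1 (h ▸ inf_le_right)).symm
    have hD₂ : D ≠ Q₂ := fun h => heq (hQ₂.2.2 _ hQ₁.1 hQ₁.2.1 (h ▸ inf_le_left))
    have hqp : q ≠ p := by
      intro hqp
      refine hD₁ (le_antisymm inf_le_left fun x hx => ?_)
      obtain ⟨n, hn⟩ := IsPGroup.iff_card.mp hQ₁.2.1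
      have h0 : n = 0 := by
        by_contra h0
        exact hQ₁.1.2.1 (by rw [hn, hqp]; exact dvd_pow_self p h0)
      have hbot : Q₁ = ⊥ := Subgroup.card_eq_one.mp (by rw [hn, h0, pow_zero])
      rw [hbot, mem_bot] at hx
      exact hx ▸ one_mem D
    have hAQ₁ := member_normalizer hQ₁.1
    have hAQ₂ := member_normalizer hQ₂.1
    obtain ⟨a, ha, ha1, hn₁, hn₂⟩ :=
      exists_common_fixed hA hA3 hqp hQ₁.2.1 hQ₂.2.1 hAQ₁ hAQ₂ hD₁ hD₂
    have hAD : A ≤ normalizer (D : Set G) := le_trans (le_inf hAQ₁ hAQ₂) inf_normalizer_le_normalizer_inf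
    set K := θ a ⊓ normalizer (D : Set G) with hKdef
    have hAK : A ≤ normalizer (K : Set G) :=
      le_trans (le_inf (theta_normalizer hθ ha ha1) (hAD.trans le_normalizer)) inf_normalizer_le_normalizer_inf
    have hKm := member_of_le (theta_mem hθ ha ha1) inf_le_left hAK
    have := hA.1
    have hcopK := coprime_member hA hKm.2.1
    have hAs : Group.IsSolvable A ∨ Group.IsSolvable K :=
      Or.inl (Coprime.isSolvable_of_isMulCommutative A)
    have inK : ∀ Q : Subgroup G, Q ∈ Cfsg.signalizerFamily p A θ →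
        normalizer (D : Set G) ⊓ Q ⊓ centralizer {a} ≤ K := fun Q hQ =>
      le_inf ((inf_le_inf_right _ inf_le_right).trans (hQ.2.2.2 a ha ha1)) (inf_le_left.trans inf_le_left)
    obtain ⟨S₁, hS₁, hS₁A⟩ := Coprime.exists_invariant_sylow_ge hAK hcopK hAs
      (inf_le_right : Q₁ ⊓ K ≤ K) (hQ₁.2.1.to_le inf_le_left)
      (le_trans (le_inf hAQ₁ hAK) inf_normalizer_le_normalizer_inf)
    obtain ⟨S₂, hS₂, hS₂A⟩ := Coprime.exists_invariant_sylow_ge hAK hcopK hAs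
      (inf_le_right : Q₂ ⊓ K ≤ K) (hQ₂.2.1.to_le inf_le_left)
      (le_trans (le_inf hAQ₂ hAK) inf_normalizer_le_normalizer_inf)
    obtain ⟨c, hcA, hc⟩ := Coprime.exists_centralizer_conj_sylow hAK hcopK hAs S₁ S₂ hS₁A hS₂A
    set T₁ := (S₁ : Subgroup K).map K.subtype with hT₁
    set T₂ := (S₂ : Subgroup K).map K.subtype with hT₂
    have hcT : MulAut.conj (c : G) • T₁ = T₂ := by
      rw [hT₁, hT₂, ← Coprime.sylow_map_smul, hc]
    have hcθ : (c : G) ∈ Cfsg.signalizerInf A θ :=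
      member_inf_centralizer_le hKm le_rfl ⟨c.2, hcA⟩
    have hDm : D ∈ Cfsg.signalizerFamily p A θ := member_of_le hQ₁.1 inf_le_left hAD
    have hT₁N : T₁ ≤ normalizer (D : Set G) := (map_subtype_le _).trans inf_le_right
    have hT₁m : T₁ ∈ Cfsg.signalizerFamily p A θ := member_of_le hKm (map_subtype_le _) hS₁A
    obtain ⟨R, hR, hRmax⟩ := exists_isMaxQ_ge (q := q) (member_sup hA hDm hT₁m hT₁N)
      ((hQ₁.2.1.to_le inf_le_left).to_sup_of_normal_left' (S₁.isPGroup'.map _) hT₁N)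
    have hDR : D ≤ R := le_sup_left.trans hR
    have hbig : ∀ {Q R' : Subgroup G}, D ≤ Q → D ≤ R' →
        (∃ x, x ∈ Q ∧ x ∈ R' ∧ x ∉ D) → Nat.card G - Nat.card ↥(Q ⊓ R') < Nat.card G - Nat.card D := by
      intro Q R' h1 h2 ⟨x, hx1, hx2, hx3⟩
      have hlt : Nat.card D < Nat.card ↥(Q ⊓ R') := by
        refine lt_of_le_of_ne (card_le_of_le (le_inf h1 h2)) fun e => hx3 ?_
        rw [eq_of_le_of_card_ge (le_inf h1 h2) e.ge]
        exact ⟨hx1, hx2⟩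
      have := card_le_card_group (Q ⊓ R')
      omega
    obtain ⟨x₁, hx₁, hx₁D⟩ := SetLike.not_le_iff_exists.mp hn₁
    obtain ⟨x₂, hx₂, hx₂D⟩ := SetLike.not_le_iff_exists.mp hn₂
    have hx₁T : x₁ ∈ T₁ := hS₁ ⟨hx₁.1.2, inK Q₁ hQ₁.1 hx₁⟩
    obtain ⟨c₁, hc₁, hc₁eq⟩ := ih _ (hbig inf_le_left hDR
      ⟨x₁, hx₁.1.2, (le_sup_right.trans hR) hx₁T, hx₁D⟩) hQ₁ hRmax rfl
    have hR2max := isMaxQ_conj hθ hRmax hcθ
    have hDR2 : D ≤ MulAut.conj (c : G) • R := by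
      rw [← Coprime.conj_smul_eq_self_iff.mpr (show (c : G) ∈ normalizer (D : Set G) from c.2.2)]
      exact pointwise_smul_le_pointwise_smul_iff.mpr hDR
    have hx₂R : x₂ ∈ MulAut.conj (c : G) • R := by
      have hx₂T : x₂ ∈ T₂ := hS₂ ⟨hx₂.1.2, inK Q₂ hQ₂.1 hx₂⟩
      rw [← hcT] at hx₂T
      exact pointwise_smul_le_pointwise_smul_iff.mpr (le_sup_right.trans hR) hx₂T
    obtain ⟨c₂, hc₂, hc₂eq⟩ := ih _ (hbig hDR2 inf_le_right ⟨x₂, hx₂R, hx₂.1.2, hx₂D⟩) hR2max hQ₂ rfl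
    refine ⟨c₂ * (c : G) * c₁, mul_mem (mul_mem hc₂ hcθ) hc₁, ?_⟩
    rw [Coprime.conj_smul_mul, Coprime.conj_smul_mul, hc₁eq, hc₂eq]

/-- Some `θ(A)`-conjugate of a maximal `q`-member meets a member in a Sylow `q`-subgroup. -/
theorem exists_sylow_conj_inf [Finite G] [hp : Fact p.Prime] [hq : Fact q.Prime]
    (hA : Cfsg.IsElementaryAbelian p A) (hA3 : p ^ 3 ≤ Nat.card A)
    (hθ : Cfsg.IsSolvableSignalizerFunctor p A θ) {Q H : Subgroup G} (hQ : IsMaxQ p q A θ Q)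
    (hH : H ∈ Cfsg.signalizerFamily p A θ) :
    ∃ c ∈ Cfsg.signalizerInf A θ, ∃ S : Sylow q H, (S : Subgroup H).map H.subtype = MulAut.conj c • Q ⊓ H := by
  obtain ⟨S, hS⟩ := Coprime.exists_invariant_sylow q (member_normalizer hH) (coprime_member hA hH.2.1)
    (Or.inr hH.1)
  have hTm := member_of_le hH (map_subtype_le (S : Subgroup H)) hS
  obtain ⟨R, hR, hRmax⟩ := exists_isMaxQ_ge hTm (S.isPGroup'.map _)
  obtain ⟨c, hc, rfl⟩ := exists_conj_eq hA hA3 hθ hQ hRmax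
  refine ⟨c, hc, S, le_antisymm (le_inf hR (map_subtype_le _)) ?_⟩
  have hle : (S : Subgroup H) ≤ (MulAut.conj c • Q).subgroupOf H := fun z hz =>
    mem_subgroupOf.mpr (hR ⟨z, hz, rfl⟩)
  rintro z ⟨hzR, hzH⟩
  have h := S.is_maximal' ((hRmax.2.1).comap_subtype (K := H)) hle
  exact ⟨⟨z, hzH⟩, h.le (mem_subgroupOf.mpr hzR), rfl⟩

/-- `C_Q(B)` is a Sylow `q`-subgroup of `θ(B)`. -/
theorem exists_sylow_inf_centralizer [Finite G] [hp : Fact p.Prime] [hq : Fact q.Prime]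
    (hA : Cfsg.IsElementaryAbelian p A) (hA3 : p ^ 3 ≤ Nat.card A)
    (hθ : Cfsg.IsSolvableSignalizerFunctor p A θ) {Q : Subgroup G} (hQ : IsMaxQ p q A θ Q)
    {B : Subgroup G} (hB : B ≤ A) (hB1 : B ≠ ⊥) :
    ∃ S : Sylow q ↥(Cfsg.signalizerInf B θ),
      (S : Subgroup ↥(Cfsg.signalizerInf B θ)).map (Cfsg.signalizerInf B θ).subtype =
        Q ⊓ centralizer (B : Set G) := by
  obtain ⟨c, hc, S, hS⟩ := exists_sylow_conj_inf hA hA3 hθ hQ (inf_mem hθ hB hB1)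
  have hcT : c ∈ Cfsg.signalizerInf B θ :=
    le_iInf (fun b => inf_le_theta A θ (hB b.2.1) b.2.2) hc
  refine ⟨MulAut.conj (⟨c, hcT⟩ : ↥(Cfsg.signalizerInf B θ))⁻¹ • S, ?_⟩
  rw [Coprime.sylow_map_smul, hS, Subgroup.smul_inf, InvMemClass.coe_inv, Coprime.conj_inv_smul_smul,
    Coprime.conj_smul_eq_self_iff.mpr (le_normalizer ((Cfsg.signalizerInf B θ).inv_mem hcT))]
  exact le_antisymm (le_inf inf_le_left (inf_le_right.trans (inf_le_centralizer hθ hB)))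
    (le_inf inf_le_left (member_inf_centralizer_le hQ.1 hB))

/-- For `a ∈ A`, `θ(⟨a⟩) = θ(a)`. -/
lemma inf_zpowers (hθ : Cfsg.IsSolvableSignalizerFunctor p A θ) {a : G} (ha : a ∈ A) (ha1 : a ≠ 1) :
    Cfsg.signalizerInf (zpowers a) θ = θ a := by
  refine le_antisymm (inf_le_theta _ θ (mem_zpowers a) ha1) (le_iInf fun b => ?_)
  refine le_trans (le_inf le_rfl ?_) (hθ.1.2.2.2 a ha ha1 b.1 (zpowers_le.mpr ha b.2.1) b.2.2)
  refine (hθ.1.1 a ha ha1).trans (le_of_eq_of_le ?_ (centralizer_le (Set.singleton_subset_iff.mpr b.2.1)))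
  rw [zpowers_eq_closure, centralizer_closure]

end Cfsg.Agent.Components.Signalizer
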