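import Cfsg.Agent.Lib.Components.PComponents
import Cfsg.Agent.Lib.Components.ExtendedLayer
import Cfsg.Prelude.Def_ClassificationStages

/-!
The `p`-layer of a group with a quasisimple quotient by a `p'`-subgroup.
-/

set_option autoImplicit false

namespace Cfsg.Agent.Components.QuasisimpleCover

open Subgroup Cfsg.Agent.Components.Basic Cfsg.Agent.Components.PComponents

universe u

variable {G : Type u} [Group G] [Finite G] {p : ℕ} [hp : Fact p.Prime]

/-- A `p'`-kernel with quasisimple image: the `p`-layer maps onto the image. -/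
lemma map_pLayer_eq_top {Q : Type*} [Group Q] [Finite Q] {f : G →* Q} (hf : Function.Surjective f)
    (hk : (Nat.card f.ker).Coprime p) (hQ : Cfsg.IsQuasisimple Q) (hO : Cfsg.pPrimeCore p Q = ⊥) :
    (Cfsg.pLayer p G).map f = ⊤ := by
  have hker : f.ker = Cfsg.pPrimeCore p G := by
    refine le_antisymm (Cores.le_pPrimeCore hk) ?_
    have h := Cores.map_pPrimeCore_le hf p
    rwa [hO, le_bot_iff, Subgroup.map_eq_bot_iff] at h
  let e : G ⧸ Cfsg.pPrimeCore p G ≃* Q :=
    (QuotientGroup.quotientMulEquivOfEq hker.symm).trans (QuotientGroup.quotientKerEquivOfSurjective f hf)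
  have hc : Cfsg.IsComponent (⊤ : Subgroup (G ⧸ Cfsg.pPrimeCore p G)) :=
    ⟨IsSubnormal.top, quasisimple_of_mulEquiv (e.symm.trans Subgroup.topEquiv.symm) hQ⟩
  have h2 : (Cfsg.pLayer p G).map (QuotientGroup.mk' (Cfsg.pPrimeCore p G)) = ⊤ := by
    rw [map_pLayer]
    exact top_le_iff.mp (le_layer hc)
  have he : e.toMonoidHom.comp (QuotientGroup.mk' (Cfsg.pPrimeCore p G)) = f :=
    MonoidHom.ext fun g => rfl
  rw [← he, ← Subgroup.map_map, h2, Subgroup.map_top_of_surjective _ e.surjective]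

/-- The image of a `p`-component is quasisimple with trivial `p'`-core. -/
lemma pcomp_image {K : Subgroup G} (hK : Cfsg.IsPComponent p K) :
    Cfsg.IsQuasisimple (K.map (QuotientGroup.mk' (Cfsg.pPrimeCore p G))) ∧
      Cfsg.pPrimeCore p (K.map (QuotientGroup.mk' (Cfsg.pPrimeCore p G))) = ⊥ := by
  refine ⟨hK.2.1.2, ?_⟩
  have h := map_pPrimeCore_subtype (p := p) hK.2.1.1
  rw [Cores.pPrimeCore_quotient_self, bot_inf_eq] at h
  exact (map_eq_bot_iff_of_injective _ (Subgroup.subtype_injective _)).mp h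

/-- A subgroup covering a `p`-component modulo the core has its `p`-layer covering it. -/
lemma le_pLayerOf_sup {K W : Subgroup G} (hK : Cfsg.IsPComponent p K) (hW : W ≤ K)
    (hcov : K ≤ W ⊔ (Cfsg.pPrimeCore p K).map K.subtype) :
    K ≤ Cfsg.pLayerOf p W ⊔ (Cfsg.pPrimeCore p K).map K.subtype := by
  obtain ⟨hQ, hO⟩ := pcomp_image hK
  set q := QuotientGroup.mk' (Cfsg.pPrimeCore p G)
  set O := (Cfsg.pPrimeCore p K).map K.subtype with hOdef
  have hOK : O = Cfsg.pPrimeCore p G ⊓ K := pcomp_core hK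
  have hWq : W.map q = K.map q := by
    refine le_antisymm (Subgroup.map_mono hW) ?_
    refine (Subgroup.map_mono hcov).trans ?_
    rw [Subgroup.map_sup, hOK]
    refine sup_le le_rfl ?_
    rintro _ ⟨x, hx, rfl⟩
    rw [show q x = 1 from (QuotientGroup.eq_one_iff x).mpr hx.1]
    exact one_mem _
  let f : W →* K.map q := (q.comp W.subtype).codRestrict _ fun w => hWq.le ⟨w, w.2, rfl⟩
  have hf : Function.Surjective f := by
    rintro ⟨y, hy⟩
    obtain ⟨w, hw, rfl⟩ := hWq.ge hy
    exact ⟨⟨w, hw⟩, rfl⟩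
  have hk : (Nat.card f.ker).Coprime p := by
    refine (Cores.pPrimeCore_card_coprime (G := G) p).coprime_dvd_left ?_
    rw [← card_subtype W f.ker]
    refine card_dvd_of_le ?_
    rintro _ ⟨w, hw, rfl⟩
    exact (QuotientGroup.eq_one_iff (N := Cfsg.pPrimeCore p G) (w : G)).mp (congrArg Subtype.val hw)
  have h := map_pLayer_eq_top hf hk hQ hO
  intro k hk'
  obtain ⟨w, hw, hwk⟩ := h.ge (mem_top (⟨q k, ⟨k, hk', rfl⟩⟩ : K.map q))
  have hwk' : q (w : G) = q k := congrArg Subtype.val hwk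
  have hd : (w : G)⁻¹ * k ∈ O := by
    rw [hOK]
    exact ⟨(QuotientGroup.eq).mp hwk', K.mul_mem (K.inv_mem (hW w.2)) hk'⟩
  have := mul_mem_sup (S := Cfsg.pLayerOf p W) (T := O) ⟨w, hw, rfl⟩ hd
  simpa using this

/-- A `p`-component is its own `p`-layer. -/
lemma pLayerOf_self {K : Subgroup G} (hK : Cfsg.IsPComponent p K) : Cfsg.pLayerOf p K = K := by
  refine le_antisymm (map_subtype_le _) ?_
  set L := Cfsg.pLayerOf p K with hL
  set q := QuotientGroup.mk' (Cfsg.pPrimeCore p G)
  have hle : L ≤ K := map_subtype_le _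
  have hLn : (L.subgroupOf K).Normal := by
    rw [hL, Cfsg.pLayerOf, subgroupOf, comap_map_eq_self_of_injective K.subtype_injective]
    exact ExtendedLayer.pLayer_normal
  refine (hK.2.2 L (IsSubnormal.trans hle hLn.isSubnormal hK.1) hle ?_).ge
  refine le_antisymm (Subgroup.map_mono hle) ?_
  refine (Subgroup.map_mono (le_pLayerOf_sup hK le_rfl le_sup_left)).trans ?_
  rw [Subgroup.map_sup, pcomp_core hK]
  refine sup_le le_rfl ?_
  rintro _ ⟨x, hx, rfl⟩
  rw [show q x = 1 from (QuotientGroup.eq_one_iff x).mpr hx.1]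
  exact one_mem _

/-- A `p`-component inside another is equal to it. -/
lemma pcomp_eq_of_le {K L : Subgroup G} (hK : Cfsg.IsPComponent p K) (hL : Cfsg.IsPComponent p L)
    (h : K ≤ L) : K = L := by
  by_contra hne
  have h1 : ⁅K, K⁆ ≤ Cfsg.pPrimeCore p G :=
    ((commutator_mono le_rfl h).trans (commutator_pcomp_le_core hK hL hne)).trans inf_le_left
  rw [pcomp_perfect hK] at h1
  exact hp.out.coprime_iff_not_dvd.mp (Cores.pPrimeCore_card_coprime p).symm
    ((pcomp_dvd_card hK).trans (card_dvd_of_le h1))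

end Cfsg.Agent.Components.QuasisimpleCover
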