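import Cfsg.Agent.Lib.PLocal.CyclicExtension
import Cfsg.Agent.Lib.PGroups.AbelianNormal
import Cfsg.Prelude.Def_CaseTheorems

/-!
A `p`-group of rank at least three has a normal elementary abelian subgroup of order `p ^ 2`.
-/

set_option autoImplicit false

namespace Cfsg.Agent.Components.RankTwo

open Cfsg Subgroup

variable {P : Type*} [Group P] [Finite P]

lemma int_sq_cases {n : ℕ} {k : ℤ} (h : (2 : ℤ) ^ (n + 2) ∣ k * k - 1) :
    (2 : ℤ) ^ (n + 1) ∣ k - 1 ∨ (2 : ℤ) ^ (n + 1) ∣ k + 1 := by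
  have hodd : ¬ (2 : ℤ) ∣ k := fun hk => by
    have h1 : (2 : ℤ) ∣ k * k - 1 := (dvd_pow_self 2 (by omega)).trans h
    have h2 : (2 : ℤ) ∣ k * k := Dvd.dvd.mul_right hk k
    have : (2 : ℤ) ∣ 1 := by have := Int.dvd_sub h2 h1; simpa using this
    omega
  obtain ⟨t, rfl⟩ : ∃ t, k = 2 * t + 1 := ⟨k / 2, by omega⟩
  have h4 : (2 : ℤ) ^ n ∣ t * (t + 1) := by
    refine (mul_dvd_mul_iff_left (by norm_num : (4 : ℤ) ≠ 0)).mp ?_
    calc (4 : ℤ) * 2 ^ n = 2 ^ (n + 2) := by ring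
      _ ∣ (2 * t + 1) * (2 * t + 1) - 1 := h
      _ = 4 * (t * (t + 1)) := by ring
  have h2 : Prime (2 : ℤ) := Int.prime_two
  rcases Int.emod_two_eq t with ht | ht
  · left
    have hn : ¬ (2 : ℤ) ∣ t + 1 := by omega
    obtain ⟨u, hu⟩ := Prime.pow_dvd_of_dvd_mul_right h2 n hn h4
    exact ⟨u, by rw [hu]; ring⟩
  · right
    have hn : ¬ (2 : ℤ) ∣ t := by omega
    obtain ⟨u, hu⟩ := Prime.pow_dvd_of_dvd_mul_left h2 n hn h4
    exact ⟨u, by rw [show 2 * t + 1 + 1 = 2 * (t + 1) by ring, hu]; ring⟩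

theorem exists_normal_sq {p : ℕ} [Fact p.Prime] (hP : IsPGroup p P) (hrk : ¬ PRankLE p 2 P) :
    ∃ U : Subgroup P, U.Normal ∧ IsElementaryAbelian p U ∧ Nat.card U = p ^ 2 := by
  obtain ⟨E, hEab, hEp, hEc⟩ : ∃ E : Subgroup P, IsMulCommutative E ∧ (∀ a ∈ E, a ^ p = 1) ∧
      p ^ 2 < Nat.card E := by
    simp only [PRankLE, not_forall, not_le] at hrk
    obtain ⟨E, h1, h2, h3⟩ := hrk
    exact ⟨E, h1, h2, h3⟩
  have hEnc : ¬ IsCyclic E := fun hc => by
    obtain ⟨g, hg⟩ := hc.exists_ofOrder_eq_natCard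
    have h1 : orderOf g ≤ p := Nat.le_of_dvd (Fact.out : p.Prime).pos
      (orderOf_dvd_of_pow_eq_one (Subtype.ext (by simpa using hEp g g.2)))
    have := (Fact.out : p.Prime).one_lt
    rw [hg] at h1
    nlinarith
  by_cases hp2 : p ≠ 2
  · obtain ⟨U, -, h1, h2, h3⟩ := PLocal.CyclicExtension.exists_normal_elementaryAbelian_sq hp2 hP ⊤
      (fun hc => hEnc (by
        have : IsCyclic P := (Subgroup.topEquiv.isCyclic).mp hc
        infer_instance))
    exact ⟨U, h1, h2, h3⟩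
  push Not at hp2
  subst hp2
  by_contra hcon
  obtain ⟨A, -, ⟨hAn, hAab⟩, hAmax⟩ := Set.Finite.exists_le_maximal
    (Set.toFinite {A : Subgroup P | A.Normal ∧ IsMulCommutative A}) (a := ⊥)
    ⟨inferInstance, inferInstance⟩
  have := hAn
  have := hAab
  have hCA : centralizer (A : Set P) = A :=
    PGroups.AbelianNormal.centralizer_eq_self hP A fun B h1 h2 h3 => le_antisymm (hAmax ⟨h1, h2⟩ h3) h3
  have hAc : IsCyclic A := by
    by_contra hAc
    let O : Subgroup P :=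
      { carrier := {z | z ∈ A ∧ z ^ 2 = 1}
        one_mem' := ⟨A.one_mem, one_pow 2⟩
        mul_mem' := fun {x y} hx hy => ⟨A.mul_mem hx.1 hy.1, by
          rw [(show Commute x y from congrArg Subtype.val (mul_comm' (⟨x, hx.1⟩ : A) ⟨y, hy.1⟩)).mul_pow,
            hx.2, hy.2, one_mul]⟩
        inv_mem' := fun {x} hx => ⟨A.inv_mem hx.1, by rw [inv_pow, hx.2, inv_one]⟩ }
    have hOn : O.Normal := ⟨fun z hz g => ⟨hAn.conj_mem z hz.1 g, by
      rw [conj_pow, hz.2, mul_one, mul_inv_cancel]⟩⟩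
    have hOe : IsElementaryAbelian 2 O := ⟨⟨⟨fun x y => Subtype.ext
      (congrArg Subtype.val (mul_comm' (⟨x, x.2.1⟩ : A) ⟨y, y.2.1⟩) :)⟩⟩, fun z hz => hz.2⟩
    by_cases hO4 : 2 ^ 2 ≤ Nat.card O
    · obtain ⟨M, hMn, hMO, hMc⟩ := PGroups.Normal.exists_normal_le_card hP O 2 hO4
      refine hcon ⟨M, hMn, ⟨⟨⟨fun x y => Subtype.ext (congrArg Subtype.val
        (mul_comm' (⟨x, (hMO x.2).1⟩ : A) ⟨y, (hMO y.2).1⟩) :)⟩⟩, fun z hz => (hMO hz).2⟩, hMc⟩
    · refine hAc (PGroups.UniqueSubgroup.isCyclic_of_abelian (p := 2) (hP.to_subgroup A) fun x y hx' hy' hx1 => ?_)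
      by_contra hxy'
      have hy1 : y ≠ 1 := fun h => hxy' (h ▸ one_mem _)
      have hx : orderOf x = 2 := orderOf_eq_prime hx' hx1
      have hy : orderOf y = 2 := orderOf_eq_prime hy' hy1
      have hxy : x ≠ y := fun h => hxy' (h ▸ mem_zpowers x)
      refine hO4 ?_
      have key : ∀ z : A, orderOf z = 2 → (z : P) ∈ O := fun z hz => ⟨z.2, by
        have := pow_orderOf_eq_one z
        rw [hz] at this
        exact congrArg Subtype.val this⟩
      have hs : ({1, (x : P), (y : P)} : Set P) ⊆ (O : Set P) := by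
        rintro w (rfl | rfl | rfl)
        exacts [O.one_mem, key x hx, key y hy]
      have h3 := Set.ncard_le_ncard hs (Set.toFinite _)
      rw [Set.ncard_eq_three.mpr ⟨1, (x : P), (y : P), fun h => hx1 (Subtype.ext h.symm),
        fun h => hy1 (Subtype.ext h.symm), fun h => hxy (Subtype.ext h), rfl⟩,
        ← Nat.card_coe_set_eq] at h3
      obtain ⟨k, hk⟩ := IsPGroup.iff_card.mp (hP.to_subgroup O)
      change 3 ≤ Nat.card O at h3
      rw [hk] at h3 ⊢
      rcases k with _ | _ | k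
      · simp at h3
      · simp at h3
      · exact Nat.pow_le_pow_right (by norm_num) (by omega)
  obtain ⟨⟨a, haA⟩, ha⟩ := hAc.exists_generator
  have hgen : ∀ x ∈ A, ∃ i : ℤ, a ^ i = x := fun x hx => by
    obtain ⟨i, hi⟩ := mem_zpowers_iff.mp (ha ⟨x, hx⟩)
    exact ⟨i, congrArg Subtype.val hi⟩
  obtain ⟨n, hn⟩ := (IsPGroup.iff_orderOf.mp hP) a
  have hact : ∀ g : P, ∃ k : ℤ, g * a * g⁻¹ = a ^ k := fun g => by
    obtain ⟨k, hk⟩ := hgen _ (hAn.conj_mem a haA g)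
    exact ⟨k, hk.symm⟩
  choose k hk using hact
  have hcomp : ∀ g h : P, g * h * a * (g * h)⁻¹ = a ^ (k g * k h) := fun g h => by
    calc g * h * a * (g * h)⁻¹ = g * (h * a * h⁻¹) * g⁻¹ := by group
      _ = (g * a * g⁻¹) ^ k h := by rw [hk h, conj_zpow]
      _ = _ := by rw [hk g, zpow_mul]
  have hmemA : ∀ g : P, (2 : ℤ) ^ n ∣ k g - 1 → g ∈ A := fun g hg => by
    rw [← hCA]
    refine mem_centralizer_iff.mpr fun x hx => ?_
    obtain ⟨i, rfl⟩ := hgen x hx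
    have h1 : g * a * g⁻¹ = a := by
      rw [hk g]
      conv_rhs => rw [← zpow_one a]
      rw [zpow_eq_zpow_iff_modEq, hn]
      exact (Int.modEq_iff_dvd.mpr (by simpa using hg)).symm
    exact (Commute.zpow_right (show Commute g a from mul_inv_eq_iff_eq_mul.mp h1) i).eq.symm
  have hsq : ∀ e ∈ E, (2 : ℤ) ^ n ∣ k e * k e - 1 := fun e he => by
    have h := hcomp e e
    rw [show e * e = 1 by rw [← pow_two]; exact hEp e he, one_mul, inv_one, mul_one] at h
    have h' : a ^ (1 : ℤ) = a ^ (k e * k e) := by rw [zpow_one]; exact h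
    rw [zpow_eq_zpow_iff_modEq, hn] at h'
    simpa using Int.modEq_iff_dvd.mp h'
  have hEA : Nat.card ↥(E ⊓ A) ≤ 2 := by
    by_contra hlt
    push Not at hlt
    have : IsCyclic ↥(E ⊓ A : Subgroup P) := Subgroup.isCyclic_of_le inf_le_right
    obtain ⟨g, hg⟩ := IsCyclic.exists_ofOrder_eq_natCard (α := ↥(E ⊓ A : Subgroup P))
    have h1 : orderOf g ≤ 2 := Nat.le_of_dvd two_pos
      (orderOf_dvd_of_pow_eq_one (Subtype.ext (by simpa using hEp g g.2.1)))
    omega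
  obtain ⟨e₁, he₁, he₁A⟩ : ∃ e ∈ E, e ∉ A := by
    by_contra h
    push Not at h
    rw [inf_eq_left.mpr h] at hEA
    omega
  obtain ⟨e₂, he₂, he₂A, he₁₂⟩ : ∃ e ∈ E, e ∉ A ∧ e₁ * e ∉ A := by
    by_contra h
    push Not at h
    have hle : E ≤ (E ⊓ A) ⊔ zpowers e₁ := fun e he => by
      by_cases heA : e ∈ A
      · exact mem_sup_left ⟨he, heA⟩
      · have h1 := mul_mem_sup (S := E ⊓ A) ⟨E.mul_mem he₁ he, h e he heA⟩ (mem_zpowers e₁)
        have h2 : e₁ * e * e₁ = e := by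
          rw [show e₁ * e = e * e₁ from congrArg Subtype.val (mul_comm' (⟨e₁, he₁⟩ : E) ⟨e, he⟩), mul_assoc,
            ← pow_two, hEp e₁ he₁, mul_one]
        rwa [h2] at h1
    have h1 := card_le_of_le hle
    have h2 : Nat.card ↥((E ⊓ A) ⊔ zpowers e₁) = Nat.card ↥(E ⊓ A) * Nat.card (zpowers e₁) := by
      refine Coprime.card_sup_of_disjoint ((zpowers_le.mpr (mem_centralizer_iff.mpr fun c hc =>
        congrArg Subtype.val (mul_comm' (⟨c, hc.1⟩ : E) ⟨e₁, he₁⟩))).trans (centralizer_le_normalizer _)) ?_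
      rw [disjoint_def]
      intro x hx hx'
      by_contra hx1
      have hle : zpowers x ≤ zpowers e₁ := zpowers_le.mpr hx'
      have h2 := eq_of_le_of_card_ge hle (by
        rw [Nat.card_zpowers, Nat.card_zpowers, orderOf_eq_prime (hEp x hx.1) hx1]
        exact Nat.le_of_dvd two_pos (orderOf_dvd_of_pow_eq_one (hEp e₁ he₁)))
      exact he₁A ((zpowers_le.mpr hx.2) (h2 ▸ mem_zpowers e₁))
    rw [h2, Nat.card_zpowers] at h1
    have h3 : orderOf e₁ ≤ 2 := Nat.le_of_dvd two_pos (orderOf_dvd_of_pow_eq_one (hEp e₁ he₁))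
    have h4 := Nat.mul_le_mul hEA h3
    omega
  have hdvd : ∀ e ∈ E, e ∉ A → ∃ m, n = m + 2 := fun e he heA => by
    rcases n with _ | _ | m
    · exact absurd (hmemA e (by simp)) heA
    · refine absurd (hmemA e ?_) heA
      have := hsq e he
      rw [zero_add, pow_one] at this ⊢
      by_contra hodd
      obtain ⟨t, ht⟩ : ∃ t, k e = 2 * t := ⟨k e / 2, by omega⟩
      rw [ht] at this
      have h2 : (2 : ℤ) ∣ 2 * t * (2 * t) := ⟨2 * t * t, by ring⟩
      have : (2 : ℤ) ∣ 1 := by simpa using Int.dvd_sub h2 this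
      omega
    · exact ⟨m, rfl⟩
  obtain ⟨m, rfl⟩ := hdvd e₁ he₁ he₁A
  have hm0 : m ≠ 0 := by
    rintro rfl
    have h4 : ∀ u ∈ E, u ∉ A → (4 : ℤ) ∣ k u + 1 := fun u hu huA => by
      have hne : ¬ (4 : ℤ) ∣ k u - 1 := fun h => huA (hmemA u (by simpa using h))
      rcases int_sq_cases (hsq u hu) with h | h <;>
      · simp only [zero_add, pow_one] at h
        omega
    refine he₁₂ (hmemA _ ?_)
    have h := hcomp e₁ e₂
    rw [hk, zpow_eq_zpow_iff_modEq, hn] at h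
    have h7 : (4 : ℤ) ∣ k e₁ * k e₂ - k (e₁ * e₂) := by simpa using Int.modEq_iff_dvd.mp h
    have h8 : (4 : ℤ) ∣ k e₁ * k e₂ - 1 := by
      rw [show k e₁ * k e₂ - 1 = (k e₁ + 1) * k e₂ - (k e₂ + 1) by ring]
      exact Int.dvd_sub (Dvd.dvd.mul_right (h4 e₁ he₁ he₁A) _) (h4 e₂ he₂ he₂A)
    rw [show (2 : ℤ) ^ (0 + 2) = 4 by norm_num,
      show k (e₁ * e₂) - 1 = (k e₁ * k e₂ - 1) - (k e₁ * k e₂ - k (e₁ * e₂)) by ring]
    exact Int.dvd_sub h8 h7
  -- an involution outside `A` acting trivially modulo the element of order two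
  obtain ⟨e, he, heA, hek⟩ : ∃ e ∈ E, e ∉ A ∧ (2 : ℤ) ^ (m + 1) ∣ k e - 1 := by
    rcases int_sq_cases (hsq e₁ he₁) with h1 | h1
    · exact ⟨e₁, he₁, he₁A, h1⟩
    rcases int_sq_cases (hsq e₂ he₂) with h2 | h2
    · exact ⟨e₂, he₂, he₂A, h2⟩
    refine ⟨e₁ * e₂, E.mul_mem he₁ he₂, he₁₂, ?_⟩
    have h := hcomp e₁ e₂
    rw [hk, zpow_eq_zpow_iff_modEq, hn] at h
    have h3 : (2 : ℤ) ^ (m + 1) ∣ k e₁ * k e₂ - 1 := by
      rw [show k e₁ * k e₂ - 1 = (k e₁ + 1) * k e₂ - (k e₂ + 1) by ring]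
      exact Int.dvd_sub (Dvd.dvd.mul_right h1 _) h2
    have h4 : (2 : ℤ) ^ (m + 1) ∣ k e₁ * k e₂ - k (e₁ * e₂) :=
      (pow_dvd_pow (2 : ℤ) (Nat.le_succ (m + 1))).trans (by simpa using Int.modEq_iff_dvd.mp h)
    rw [show k (e₁ * e₂) - 1 = (k e₁ * k e₂ - 1) - (k e₁ * k e₂ - k (e₁ * e₂)) by ring]
    exact Int.dvd_sub h3 h4
  obtain ⟨t, ht⟩ := hek
  have htodd : ¬ (2 : ℤ) ∣ t := fun ⟨s, hs⟩ => heA (hmemA e ⟨s, by rw [ht, hs]; ring⟩)
  set z := a ^ ((2 : ℤ) ^ (m + 1)) with hz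
  have hz2 : z ^ 2 = 1 := by
    rw [hz, ← zpow_natCast, ← zpow_mul]
    refine orderOf_dvd_iff_zpow_eq_one.mp ?_
    rw [hn]
    exact ⟨1, by push_cast; ring⟩
  have hz1 : z ≠ 1 := fun h => by
    rw [hz] at h
    have := orderOf_dvd_iff_zpow_eq_one.mpr h
    rw [hn] at this
    push_cast at this
    have h2 := Int.le_of_dvd (by positivity) this
    have : (2 : ℤ) ^ (m + 1) < 2 ^ (m + 2) := pow_lt_pow_right₀ (by norm_num) (by omega)
    exact absurd h2 (not_le.mpr this)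
  have hzo : orderOf z = 2 := orderOf_eq_prime hz2 hz1
  have heo : orderOf e = 2 := orderOf_eq_prime (hEp e he) fun h => heA (h ▸ A.one_mem)
  have hzA : z ∈ A := zpow_mem haA _
  have hzu : ∀ x ∈ A, x ^ 2 = 1 → x ∈ zpowers z := fun x hx hx2 => by
    obtain ⟨i, rfl⟩ := hgen x hx
    rw [← zpow_natCast, ← zpow_mul] at hx2
    have := orderOf_dvd_iff_zpow_eq_one.mpr hx2
    rw [hn] at this
    push_cast at this
    rw [pow_succ] at this
    obtain ⟨d, hd⟩ := Int.dvd_of_mul_dvd_mul_right (by norm_num : (2 : ℤ) ≠ 0) this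
    exact ⟨d, by show z ^ d = a ^ i; rw [hz, ← zpow_mul, ← hd]⟩
  have hzn : (zpowers z).Normal := ⟨fun w hw g => hzu _ (hAn.conj_mem w (zpowers_le.mpr hzA hw) g) (by
    rw [conj_pow, orderOf_dvd_iff_pow_eq_one.mp (hzo ▸ orderOf_dvd_of_mem_zpowers hw), mul_one,
      mul_inv_cancel])⟩
  have hzc : zpowers z ≤ center P :=
    PLocal.CyclicExtension.le_center_of_card_eq hP (by rw [Nat.card_zpowers, hzo])
  set U := zpowers z ⊔ zpowers e with hU
  have hUe : IsElementaryAbelian 2 U :=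
    PLocal.ThompsonSubgroup.IsElementaryAbelian.sup
      (PLocal.ThompsonSubgroup.isElementaryAbelian_zpowers hz2)
      (PLocal.ThompsonSubgroup.isElementaryAbelian_zpowers (hEp e he))
      (hzc.trans (center_le_centralizer _))
  have hconj : ∀ g : P, g * e * g⁻¹ ∈ U := fun g => by
    set c := g * e * g⁻¹ * e⁻¹ with hc
    have hcA : c ∈ A := by
      rw [← hCA]
      refine mem_centralizer_iff.mpr fun x hx => ?_
      obtain ⟨i, rfl⟩ := hgen x hx
      have h1 : ∀ y ∈ A, g * e * g⁻¹ * y * (g * e * g⁻¹)⁻¹ = e * y * e⁻¹ := fun y hy => by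
        obtain ⟨j, rfl⟩ := hgen y hy
        calc g * e * g⁻¹ * a ^ j * (g * e * g⁻¹)⁻¹
            = g * e * (g⁻¹ * a * g⁻¹⁻¹) ^ j * e⁻¹ * g⁻¹ := by rw [conj_zpow]; group
          _ = g * (e * a * e⁻¹) ^ (k g⁻¹ * j) * g⁻¹ := by rw [hk g⁻¹, ← zpow_mul, conj_zpow]; group
          _ = (g * a * g⁻¹) ^ (k g⁻¹ * (k e * j)) := by
              rw [hk e, ← zpow_mul, conj_zpow]; ring_nf
          _ = ((g * g⁻¹) * a * (g * g⁻¹)⁻¹) ^ (k e * j) := by
              rw [hcomp g g⁻¹, hk g, ← zpow_mul, ← zpow_mul]; ring_nf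
          _ = e * a ^ j * e⁻¹ := by rw [mul_inv_cancel, one_mul, inv_one, mul_one, ← conj_zpow, hk e, ← zpow_mul]
      have h2 := h1 _ (hAn.conj_mem (a ^ i) (zpow_mem haA i) e⁻¹)
      rw [inv_inv] at h2
      have h3 : e * (e⁻¹ * a ^ i * e) * e⁻¹ = a ^ i := by group
      rw [h3] at h2
      have : c * a ^ i * c⁻¹ = a ^ i := by
        calc c * a ^ i * c⁻¹ = g * e * g⁻¹ * (e⁻¹ * a ^ i * e) * (g * e * g⁻¹)⁻¹ := by rw [hc]; group
          _ = a ^ i := h2
      exact (mul_inv_eq_iff_eq_mul.mp this).symm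
    obtain ⟨i, hi⟩ := hgen c hcA
    have hcsq : (c * e) ^ 2 = 1 := by
      rw [hc, inv_mul_cancel_right, conj_pow, hEp e he, mul_one, mul_inv_cancel]
    have heai : e * a ^ i * e⁻¹ = a ^ (k e * i) := by rw [← conj_zpow, hk e, ← zpow_mul]
    have h4 : a ^ (i + k e * i) = 1 := by
      rw [zpow_add, ← heai, ← hcsq, ← hi, pow_two]
      have he2 : e⁻¹ = e := inv_eq_of_mul_eq_one_left (by rw [← pow_two]; exact hEp e he)
      rw [he2]
      group
    have h5 := orderOf_dvd_iff_zpow_eq_one.mpr h4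
    rw [hn] at h5
    push_cast at h5
    rw [show i + k e * i = i * (2 + (k e - 1)) by ring, ht,
      show i * (2 + 2 ^ (m + 1) * t) = (i * (1 + 2 ^ m * t)) * 2 by ring,
      show (2 : ℤ) ^ (m + 2) = 2 ^ (m + 1) * 2 by ring] at h5
    have h6 := Int.dvd_of_mul_dvd_mul_right (by norm_num : (2 : ℤ) ≠ 0) h5
    rcases m with _ | m
    · exact absurd rfl hm0
    · have hn2 : ¬ (2 : ℤ) ∣ 1 + 2 ^ (m + 1) * t := by
        intro h
        have h2 : (2 : ℤ) ∣ 2 ^ (m + 1) * t := Dvd.dvd.mul_right (dvd_pow_self 2 (by omega)) _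
        have : (2 : ℤ) ∣ 1 := by simpa using Int.dvd_sub h h2
        omega
      obtain ⟨d, hd⟩ := Prime.pow_dvd_of_dvd_mul_right Int.prime_two (m + 1 + 1) hn2 h6
      have hcz : c ∈ zpowers z := ⟨d, by show z ^ d = c; rw [← hi, hz, ← zpow_mul, ← hd]⟩
      have : g * e * g⁻¹ = c * e := by rw [hc, inv_mul_cancel_right]
      rw [this]
      exact mul_mem_sup hcz (mem_zpowers e)
  refine hcon ⟨U, ⟨fun u hu g => ?_⟩, hUe, ?_⟩
  · have hle : U ≤ U.comap (MulAut.conj g).toMonoidHom := by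
      refine sup_le (zpowers_le.mpr ?_) (zpowers_le.mpr (hconj g))
      show g * z * g⁻¹ ∈ U
      exact mem_sup_left (hzn.conj_mem z (mem_zpowers z) g)
    exact hle hu
  · rw [hU, Coprime.card_sup_of_disjoint, Nat.card_zpowers, Nat.card_zpowers, hzo, heo, sq]
    · rw [normalizer_eq_top]; exact le_top
    · rw [disjoint_def]
      intro x hx hx'
      by_contra hx1
      have hA' : x ∈ A := zpowers_le.mpr hzA hx
      have h2 := eq_of_le_of_card_ge (zpowers_le.mpr hx') (by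
        rw [Nat.card_zpowers, Nat.card_zpowers, heo,
          orderOf_eq_prime (orderOf_dvd_iff_pow_eq_one.mp (heo ▸ orderOf_dvd_of_mem_zpowers hx')) hx1])
      exact heA (zpowers_le.mpr hA' (h2 ▸ mem_zpowers e))

end Cfsg.Agent.Components.RankTwo

namespace Cfsg.Agent.Components.RankTwo

open Cfsg Subgroup

variable {P : Type*} [Group P] [Finite P]

lemma not_pRankLE_subgroup_iff (p k : ℕ) (C : Subgroup P) :
    ¬ PRankLE p k ↥C ↔ ∃ F : Subgroup P, F ≤ C ∧ IsElementaryAbelian p F ∧ p ^ k < Nat.card F := by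
  simp only [PRankLE, not_forall, not_le]
  constructor
  · rintro ⟨F, h1, h2, h3⟩
    refine ⟨F.map C.subtype, map_subtype_le _, ⟨inferInstance, ?_⟩, by rwa [card_subtype]⟩
    rintro _ ⟨a, ha, rfl⟩
    rw [← map_pow, h2 a ha, map_one]
  · rintro ⟨F, hFC, ⟨hab, he⟩, hc⟩
    refine ⟨F.subgroupOf C, ⟨⟨fun x y => Subtype.ext (Subtype.ext
      (congrArg Subtype.val (mul_comm' (⟨x, x.2⟩ : F) ⟨y, y.2⟩) :))⟩⟩,
      fun a ha => Subtype.ext (by simpa using he _ ha), ?_⟩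
    rwa [Nat.card_congr (subgroupOfEquivOfLe hFC).toEquiv]

/-- The centralizer of a normal subgroup of order `p ^ 2` meets `F` in index at most `p`. -/
lemma card_le_mul_inf_centralizer {p : ℕ} [Fact p.Prime] (hP : IsPGroup p P) {U : Subgroup P}
    [U.Normal] (hU : Nat.card U = p ^ 2) (F : Subgroup P) :
    Nat.card F ≤ p * Nat.card ↥(F ⊓ centralizer (U : Set P)) := by
  have h := PGroups.AbelianNormal.index_centralizer_le hP U hU
  rw [Nat.choose_self, pow_one] at h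
  set C := centralizer (U : Set P)
  have h1 : Nat.card ↥(F ⊓ C) * C.relIndex F = Nat.card F := by
    rw [← inf_relIndex_left, ← relIndex_bot_left, ← relIndex_bot_left F]
    exact relIndex_mul_relIndex _ _ _ bot_le inf_le_left
  have h2 : C.relIndex F ≤ C.index :=
    Nat.le_of_dvd (Nat.pos_of_ne_zero FiniteIndex.index_ne_zero) (relIndex_dvd_index_of_normal _ _)
  rw [← h1, mul_comm]
  exact Nat.mul_le_mul_right _ (h2.trans h)

end Cfsg.Agent.Components.RankTwo
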