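import Cfsg.Agent.Lib.Components.BirthTools
import Cfsg.Agent.Lib.CharP.SubnormalResidual
import Cfsg.Agent.Lib.Coprime.Commutator
import Cfsg.Agent.Lib.Coprime.OmegaDetect
import Cfsg.Agent.Lib.PGroups.AbelianNormal
import Cfsg.Agent.Lib.PGroups.UniqueSubgroup
import Cfsg.Agent.Lib.Transfer.Frobenius
import Cfsg.Agent.Solvable.Basics

/-!
2-groups without non-cyclic abelian subgroups of order 8 under a group of odd order.
-/

set_option autoImplicit false
set_option linter.all false

namespace Cfsg.Agent.Components.SmallTwo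

open Subgroup
open scoped commutatorElement

universe u

variable {G : Type u} [Group G] [Finite G]

lemma mem_cent_iff' {x g : G} : g ∈ centralizer ({x} : Set G) ↔ Commute x g :=
  Link.mem_cent_iff

/-- Contains a non-cyclic abelian subgroup of order 8. -/
def Bad (K : Subgroup G) : Prop :=
  ∃ A : Subgroup G, A ≤ K ∧ IsMulCommutative ↥A ∧ ¬ IsCyclic ↥A ∧ Nat.card ↥A = 8

lemma Bad.mono {K L : Subgroup G} (h : Bad K) (hKL : K ≤ L) : Bad L := by
  obtain ⟨A, hA, h⟩ := h
  exact ⟨A, hA.trans hKL, h⟩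

lemma two_mul_card_le {A B : Subgroup G} (hB : IsPGroup 2 B) (hAB : A ≤ B) (hne : ¬ B ≤ A) :
    2 * Nat.card A ≤ Nat.card B := by
  obtain ⟨k, hk⟩ := IsPGroup.iff_card.1 hB
  obtain ⟨j, hjk, hj⟩ := (Nat.dvd_prime_pow Nat.prime_two).mp (hk ▸ card_dvd_of_le hAB)
  have hlt : j < k := by
    refine lt_of_le_of_ne hjk fun e => hne ?_
    exact (eq_of_le_of_card_ge hAB (by rw [hj, hk, e])).ge
  rw [hj, hk, ← pow_succ']
  exact Nat.pow_le_pow_right two_pos hlt

lemma not_isCyclic_of_involutions {B : Subgroup G} {u v : G} (hu : u ∈ B) (hv : v ∈ B)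
    (huo : orderOf u = 2) (hvo : orderOf v = 2) (hne : u ≠ v) : ¬ IsCyclic ↥B := by
  classical
  intro hc
  haveI := Fintype.ofFinite ↥B
  have h := IsCyclic.card_pow_eq_one_le (α := ↥B) (n := 2) two_pos
  set u' : ↥B := ⟨u, hu⟩
  set v' : ↥B := ⟨v, hv⟩
  have hsub : ({1, u', v'} : Finset ↥B) ⊆ Finset.univ.filter fun a => a ^ 2 = 1 := by
    intro a ha
    simp only [Finset.mem_insert, Finset.mem_singleton] at ha
    refine Finset.mem_filter.mpr ⟨Finset.mem_univ _, ?_⟩
    rcases ha with rfl | rfl | rfl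
    · exact one_pow 2
    · exact Subtype.ext (by simpa [u', ← huo] using pow_orderOf_eq_one u)
    · exact Subtype.ext (by simpa [v', ← hvo] using pow_orderOf_eq_one v)
  have h1 : (1 : ↥B) ≠ u' := fun e => by
    rw [show u = 1 from (congrArg Subtype.val e).symm, orderOf_one] at huo; omega
  have h2 : (1 : ↥B) ≠ v' := fun e => by
    rw [show v = 1 from (congrArg Subtype.val e).symm, orderOf_one] at hvo; omega
  have h3 : u' ≠ v' := fun e => hne (congrArg Subtype.val e)
  have h4 := Finset.card_le_card hsub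
  rw [Finset.card_insert_of_notMem (by simp [h1, h2]), Finset.card_insert_of_notMem (by simp [h3]),
    Finset.card_singleton] at h4
  omega

/-- An abelian 2-group with two involutions and order at least 8 has a non-cyclic subgroup of order 8. -/
lemma bad_of_two_involutions {B K : Subgroup G} (hB : IsPGroup 2 B) (hBK : B ≤ K)
    (hc : ∀ a ∈ B, ∀ b ∈ B, Commute a b) {u v : G} (hu : u ∈ B) (hv : v ∈ B) (huo : orderOf u = 2)
    (hvo : orderOf v = 2) (hne : u ≠ v) (h8 : 8 ≤ Nat.card B) : Bad K := by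
  haveI : Fact (Nat.Prime 2) := ⟨Nat.prime_two⟩
  set E := zpowers u ⊔ zpowers v
  have hvu : v ∉ zpowers u := fun h => by
    obtain ⟨i, hi, hvi⟩ := PairTools.exists_pow_eq huo h
    interval_cases i
    · rw [pow_zero] at hvi; rw [hvi, orderOf_one] at hvo; omega
    · exact hne (by simpa using hvi.symm)
  have hE : Nat.card E = 4 := by
    rw [PairTools.card_sup_of_disjoint ?_ (PairTools.inf_zpowers_eq_bot hvo hvu), Nat.card_zpowers,
      Nat.card_zpowers, huo, hvo]
    rw [zpowers_le]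
    refine mem_centralizer_iff.mpr ?_
    rintro _ ⟨k, rfl⟩
    exact ((hc v hv u hu).zpow_left k).eq
  have hEB : E ≤ B := sup_le (zpowers_le.mpr hu) (zpowers_le.mpr hv)
  obtain ⟨k, hk⟩ := IsPGroup.iff_card.1 hB
  have h3 : 2 ^ 3 ∣ Nat.card ↥B := by
    rw [hk]
    refine pow_dvd_pow 2 ?_
    by_contra hlt
    have := Nat.pow_le_pow_right two_pos (show k ≤ 2 by omega)
    omega
  obtain ⟨A, hA, hEA⟩ := Sylow.exists_subgroup_card_pow_prime_le (p := 2) h3 (E.subgroupOf B)
    (show Nat.card (E.subgroupOf B) = 2 ^ 2 by rw [Nat.card_congr (subgroupOfEquivOfLe hEB).toEquiv, hE]; rfl)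
    (by norm_num)
  have hAB : A.map B.subtype ≤ B := map_subtype_le A
  refine ⟨A.map B.subtype, hAB.trans hBK,
    ⟨⟨fun a b => Subtype.ext (hc a (hAB a.2) b (hAB b.2))⟩⟩,
    not_isCyclic_of_involutions ⟨⟨u, hu⟩, hEA (mem_subgroupOf.mpr (mem_sup_left (mem_zpowers u))), rfl⟩
      ⟨⟨v, hv⟩, hEA (mem_subgroupOf.mpr (mem_sup_right (mem_zpowers v))), rfl⟩ huo hvo hne, ?_⟩
  rw [card_subtype, hA]
  norm_num

/-- Small abelian 2-subgroups are cyclic or four-groups. -/
lemma cyclic_or_four {B K : Subgroup G} (hB : IsPGroup 2 B) (hBK : B ≤ K)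
    (hc : ∀ a ∈ B, ∀ b ∈ B, Commute a b) (hK : ¬ Bad K) :
    IsCyclic ↥B ∨ (Nat.card B = 4 ∧ ∀ b ∈ B, b * b = 1) := by
  haveI : Fact (Nat.Prime 2) := ⟨Nat.prime_two⟩
  by_cases hcy : IsCyclic ↥B
  · exact Or.inl hcy
  right
  obtain ⟨u, v, hu, hv, huo, hvo, hne⟩ :
      ∃ u v : G, u ∈ B ∧ v ∈ B ∧ orderOf u = 2 ∧ orderOf v = 2 ∧ u ≠ v := by
    by_contra hno
    push Not at hno
    have huniq : ∀ H L : Subgroup ↥B, Nat.card H = 2 → Nat.card L = 2 → H = L := by
      intro H L hH hL
      obtain ⟨a, ha⟩ := exists_prime_orderOf_dvd_card' (G := H) 2 (hH ▸ dvd_rfl)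
      obtain ⟨b, hb⟩ := exists_prime_orderOf_dvd_card' (G := L) 2 (hL ▸ dvd_rfl)
      have e := hno _ _ (a : ↥B).2 (b : ↥B).2 (by rw [orderOf_coe, orderOf_coe, ha])
        (by rw [orderOf_coe, orderOf_coe, hb])
      have ea : zpowers (a : ↥B) = H := eq_of_le_of_card_ge (zpowers_le.mpr a.2)
        (by rw [Nat.card_zpowers, orderOf_coe, ha, hH])
      have eb : zpowers (b : ↥B) = L := eq_of_le_of_card_ge (zpowers_le.mpr b.2)
        (by rw [Nat.card_zpowers, orderOf_coe, hb, hL])
      rw [← ea, ← eb, Subtype.ext e]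
    rcases PGroups.UniqueSubgroup.isCyclic_or_quaternion hB huniq with h | ⟨-, n, ⟨e⟩⟩
    · exact hcy h
    · rcases Nat.eq_zero_or_pos n with rfl | hn
      · refine hcy (isCyclic_of_orderOf_eq_card (e.symm (QuaternionGroup.xa 0)) ?_)
        rw [MulEquiv.orderOf_eq, Nat.card_congr e.toEquiv, QuaternionGroup.orderOf_xa, Nat.card_eq_fintype_card, QuaternionGroup.card]
        simp
      · have h1 : e.symm (QuaternionGroup.a 1) * e.symm (QuaternionGroup.xa 0) =
            e.symm (QuaternionGroup.xa 0) * e.symm (QuaternionGroup.a 1) :=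
          Subtype.ext (hc _ (e.symm _).2 _ (e.symm _).2).eq
        rw [← map_mul, ← map_mul] at h1
        have h2 := e.symm.injective h1
        rw [QuaternionGroup.a_mul_xa, QuaternionGroup.xa_mul_a] at h2
        have h3 := QuaternionGroup.xa.inj h2
        have h4 : ((2 : ℕ) : ZMod (2 * 2 ^ n)) = 0 := by
          push_cast
          linear_combination -h3
        rw [ZMod.natCast_eq_zero_iff] at h4
        have := Nat.le_of_dvd two_pos h4
        have := Nat.pow_le_pow_right two_pos hn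
        omega
  have hlt : Nat.card B < 8 := not_le.mp fun h =>
    hK (bad_of_two_involutions hB hBK hc hu hv huo hvo hne h)
  obtain ⟨k, hk⟩ := IsPGroup.iff_card.1 hB
  have hk2 : k = 2 := by
    rcases k with _ | _ | _ | k
    · exfalso
      rw [pow_zero, card_eq_one] at hk
      rw [hk, Subgroup.mem_bot] at hu
      rw [hu, orderOf_one] at huo
      omega
    · exact absurd (isCyclic_of_prime_card (p := 2) (by simpa using hk)) hcy
    · rfl
    · exfalso
      have := Nat.pow_le_pow_right two_pos (show 3 ≤ k + 1 + 1 + 1 by omega)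
      omega
  refine ⟨by rw [hk, hk2]; rfl, fun b hb => ?_⟩
  have hd : orderOf b ∣ 2 ^ 2 := by
    have := orderOf_dvd_natCard B hb
    rwa [hk, hk2] at this
  obtain ⟨j, hj, hbj⟩ := (Nat.dvd_prime_pow Nat.prime_two).mp hd
  have hj1 : j ≤ 1 := by
    by_contra hj1
    refine hcy (isCyclic_of_orderOf_eq_card ⟨b, hb⟩ ?_)
    rw [orderOf_mk, hbj, hk, hk2, show j = 2 by omega]
  rw [← sq, ← orderOf_dvd_iff_pow_eq_one, hbj]
  exact (pow_dvd_pow 2 hj1).trans (by norm_num)

/-- If `R` centralizes the coset of `x` modulo `X'` and `X = ⁅X, R⁆`, then `x ∈ X'`. -/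
lemma mem_commutator_of_fixed {X R : Subgroup G} (hRX : R ≤ normalizer (X : Set G))
    (hcop : (Nat.card R).Coprime (Nat.card X)) (hXR : ⁅X, R⁆ = X) {x : G} (hx : x ∈ X)
    (hfix : ∀ r ∈ R, r * x * r⁻¹ * x⁻¹ ∈ ⁅X, X⁆) : x ∈ ⁅X, X⁆ := by
  classical
  haveI := Fintype.ofFinite ↥R
  let π : ↥X →* Abelianization ↥X := Abelianization.of
  have hker : ∀ y : ↥X, π y = 1 ↔ (y : G) ∈ ⁅X, X⁆ := fun y => by
    have hk : π.ker = commutator ↥X := Abelianization.ker_of ↥X
    rw [← MonoidHom.mem_ker, hk, ← Subgroup.map_subtype_commutator]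
    exact (Subgroup.mem_map_iff_mem X.subtype_injective).symm
  let φ : ↥R → ↥X →* ↥X := fun r => MonoidHom.mk'
    (fun y => ⟨(r : G) * y * (r : G)⁻¹, (mem_normalizer_iff.mp (hRX r.2) y).mp y.2⟩)
    fun a b => Subtype.ext (show (r : G) * (a * b : G) * (r : G)⁻¹ =
      (r : G) * a * (r : G)⁻¹ * ((r : G) * b * (r : G)⁻¹) by group)
  let ν : ↥X →* Abelianization ↥X := MonoidHom.mk' (fun y => ∏ r : ↥R, π (φ r y))
    fun a b => by rw [← Finset.prod_mul_distrib]; simp [map_mul]
  have hinv : ∀ (s : ↥R) (y : ↥X), ν (φ s y) = ν y := fun s y =>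
    Fintype.prod_equiv (Equiv.mulRight s) _ _ fun r => by
      congr 1
      refine Subtype.ext ?_
      show (r : G) * ((s : G) * y * (s : G)⁻¹) * (r : G)⁻¹ =
        ((r : G) * s) * y * ((r : G) * s)⁻¹
      group
  have hall : ⁅X, R⁆ ≤ ν.ker.map X.subtype := by
    rw [commutator_le]
    intro y hy r hr
    refine ⟨⟨y, hy⟩ * φ ⟨r, hr⟩ ⟨y, hy⟩⁻¹, ?_, ?_⟩
    · rw [SetLike.mem_coe, MonoidHom.mem_ker, map_mul, hinv, ← map_mul, mul_inv_cancel, map_one]
    · show y * (r * y⁻¹ * r⁻¹) = _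
      rw [commutatorElement_def]; group
  rw [hXR] at hall
  obtain ⟨x', hx', rfl⟩ := hall hx
  have h1 : π x' ^ Nat.card R = 1 := by
    rw [← MonoidHom.mem_ker.mp hx', Nat.card_eq_fintype_card, ← Finset.card_univ, ← Finset.prod_const]
    refine Finset.prod_congr rfl fun r _ => ?_
    have h := (hker (φ r x' * x'⁻¹)).mpr (by
      show (r : G) * x' * (r : G)⁻¹ * (x' : G)⁻¹ ∈ ⁅X, X⁆
      exact hfix r r.2)
    rw [map_mul, map_inv, mul_inv_eq_one] at h
    exact h.symm
  refine (hker x').mp (orderOf_eq_one_iff.mp (Nat.eq_one_of_dvd_coprimes hcop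
    (orderOf_dvd_of_pow_eq_one h1) ((orderOf_map_dvd π x').trans (orderOf_dvd_natCard x'))))

/-- A 2-group normalizing `W` and commuting with `R` modulo the action acts trivially on `W / Φ₀`,
when every `R`-invariant proper subgroup of `W` is centralized by `R`. -/
lemma trivial_mod {W N Φ₀ R : Subgroup G} (hW : IsPGroup 2 W) (hN : IsPGroup 2 N)
    (hNW : N ≤ normalizer (W : Set G)) (hRN : R ≤ normalizer (N : Set G))
    (hRW : R ≤ normalizer (W : Set G)) (hcop : (Nat.card R).Coprime (Nat.card W))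
    (hWR : ⁅W, R⁆ = W) (hΦW : Φ₀ ≤ W) (hΦ : ⁅W, W⁆ ≤ Φ₀)
    (hΦn : W ⊔ N ⊔ R ≤ normalizer (Φ₀ : Set G)) (hΦeq : Φ₀ ≤ ⁅W, W⁆) (hne : ¬ W ≤ Φ₀)
    (hmin : ∀ V ≤ W, R ≤ normalizer (V : Set G) → V ≠ W → R ≤ centralizer (V : Set G)) :
    ∀ n ∈ N, ∀ w ∈ W, n * w * n⁻¹ * w⁻¹ ∈ Φ₀ := by
  haveI : Fact (Nat.Prime 2) := ⟨Nat.prime_two⟩
  have hWn : ∀ g ∈ W ⊔ N ⊔ R, ∀ a, a ∈ Φ₀ → g * a * g⁻¹ ∈ Φ₀ := fun g hg a ha =>
    (mem_normalizer_iff.mp (hΦn hg) a).mp ha
  let D : Subgroup G :=
    { carrier := {w | w ∈ W ∧ ∀ n ∈ N, n * w * n⁻¹ * w⁻¹ ∈ Φ₀}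
      one_mem' := ⟨one_mem W, fun n _ => by simpa using one_mem Φ₀⟩
      mul_mem' := by
        rintro a b ⟨ha, ha'⟩ ⟨hb, hb'⟩
        refine ⟨mul_mem ha hb, fun n hn => ?_⟩
        have := mul_mem (ha' n hn) (hWn a (mem_sup_left (mem_sup_left ha)) _ (hb' n hn))
        convert this using 1
        group
      inv_mem' := by
        rintro a ⟨ha, ha'⟩
        refine ⟨inv_mem ha, fun n hn => ?_⟩
        have := hWn a⁻¹ (mem_sup_left (mem_sup_left (inv_mem ha))) _ (inv_mem (ha' n hn))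
        convert this using 1
        group }
  have hDW : D ≤ W := fun w hw => hw.1
  suffices D = W by
    intro n hn w hw
    exact ((this.ge hw) : w ∈ W ∧ _).2 n hn
  by_contra hDne
  have hRD : R ≤ normalizer (D : Set G) := by
    refine Subgroup.le_normalizer_iff.mpr fun r hr w hw => ?_
    obtain ⟨hw1, hw2⟩ := hw
    refine ⟨(mem_normalizer_iff.mp (hRW hr) w).mp hw1, fun n hn => ?_⟩
    have h1 : r⁻¹ * n * r ∈ N := by simpa using (mem_normalizer_iff.mp (inv_mem (hRN hr)) n).mp hn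
    have h2 := hWn r (mem_sup_right hr) _ (hw2 _ h1)
    convert h2 using 1
    group
  have hcent := hmin D hDW hRD hDne
  set T := W ⊔ N with hT
  have hTp : IsPGroup 2 T := hW.to_sup_of_normal_left' hN hNW
  have hWT : W ≤ T := le_sup_left
  haveI : (Φ₀.subgroupOf T).Normal := normal_subgroupOf_of_le_normalizer (le_sup_left.trans hΦn)
  haveI : (W.subgroupOf T).Normal := normal_subgroupOf_of_le_normalizer (sup_le le_normalizer hNW)
  obtain ⟨w, hwW, hwΦ, -, hwc⟩ := PGroups.AbelianNormal.exists_step hTp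
    (B := Φ₀.subgroupOf T) (N := W.subgroupOf T)
    (lt_of_le_not_ge (fun a ha => hΦW ha) fun h => hne fun a ha => h (show (⟨a, hWT ha⟩ : ↥T) ∈ W.subgroupOf T from ha))
  have hwD : (w : G) ∈ D := ⟨hwW, fun n hn => hwc ⟨n, mem_sup_right hn⟩⟩
  refine hwΦ (hΦ (mem_commutator_of_fixed hRW hcop hWR hwW fun r hr => ?_))
  show r * (w : G) * r⁻¹ * (w : G)⁻¹ ∈ _
  rw [(mem_centralizer_iff.mp (hcent hr) _ hwD).symm, mul_inv_cancel_right, mul_inv_cancel]
  exact one_mem _

lemma exists_orderOf_two_pow {P : Subgroup G} (hP : IsPGroup 2 P) {x : G} (hx : x ∈ P) :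
    ∃ k, orderOf x = 2 ^ k := by
  obtain ⟨n, hn⟩ := hP ⟨x, hx⟩
  obtain ⟨j, -, hj⟩ := (Nat.dvd_prime_pow Nat.prime_two).mp
    (orderOf_dvd_of_pow_eq_one (show x ^ 2 ^ n = 1 by simpa using congrArg Subtype.val hn))
  exact ⟨j, hj⟩

lemma coprime_card {P R : Subgroup G} (hP : IsPGroup 2 P) (hR : Odd (Nat.card R)) :
    (Nat.card R).Coprime (Nat.card P) := by
  haveI : Fact (Nat.Prime 2) := ⟨Nat.prime_two⟩
  obtain ⟨n, hn⟩ := IsPGroup.iff_card.1 hP
  rw [hn]
  exact (Nat.coprime_two_right.mpr hR).pow_right n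

lemma coprime_of_le {V P R : Subgroup G} (hP : IsPGroup 2 P) (hR : Odd (Nat.card R)) (h : V ≤ P) :
    (Nat.card R).Coprime (Nat.card V) := coprime_card (hP.to_le h) hR

lemma centralizes_of_cyclic {V R : Subgroup G} (hV : IsPGroup 2 V) (hR : Odd (Nat.card R))
    (hRV : R ≤ normalizer (V : Set G)) [IsCyclic ↥V] : R ≤ centralizer (V : Set G) := by
  haveI : Fact (Nat.Prime 2) := ⟨Nat.prime_two⟩
  obtain ⟨⟨v, hv⟩, hgen⟩ := IsCyclic.exists_generator (α := ↥V)
  have hzp : ∀ a ∈ V, a ∈ zpowers v := fun a ha => by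
    obtain ⟨i, hi⟩ := mem_zpowers_iff.mp (hgen ⟨a, ha⟩)
    exact mem_zpowers_iff.mpr ⟨i, by simpa using congrArg Subtype.val hi⟩
  intro r hr
  suffices hc : Commute r v by
    rw [mem_centralizer_iff]
    intro a ha
    obtain ⟨i, rfl⟩ := mem_zpowers_iff.mp (hzp a ha)
    exact (hc.zpow_right i).eq.symm
  obtain ⟨k, hk⟩ := exists_orderOf_two_pow hV hv
  rcases k with _ | k
  · rw [pow_zero, orderOf_eq_one_iff] at hk
    rw [hk]; exact Commute.one_right r
  -- the automorphism has order dividing both `|R|` and `φ(2 ^ (k+1))`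
  obtain ⟨i, hi⟩ := mem_zpowers_iff.mp (hzp _ ((mem_normalizer_iff.mp (hRV hr) v).mp hv))
  have hiter : ∀ m : ℕ, r ^ m * v * (r ^ m)⁻¹ = v ^ (i ^ m) := by
    intro m
    induction m with
    | zero => simp
    | succ m ih =>
      rw [pow_succ r m, pow_succ' i m, mul_inv_rev]
      calc r ^ m * r * v * (r⁻¹ * (r ^ m)⁻¹) = r ^ m * (r * v * r⁻¹) * (r ^ m)⁻¹ := by group
        _ = r ^ m * v ^ i * (r ^ m)⁻¹ := by rw [hi]
        _ = (r ^ m * v * (r ^ m)⁻¹) ^ i := (conj_zpow).symm
        _ = v ^ (i * i ^ m) := by rw [ih, ← zpow_mul, mul_comm]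
  have h1 : v ^ (i ^ Nat.card R) = v ^ (1 : ℤ) := by
    rw [← hiter, show r ^ Nat.card R = 1 from
      orderOf_dvd_iff_pow_eq_one.mp (orderOf_dvd_natCard R hr)]
    simp
  rw [zpow_eq_zpow_iff_modEq, hk, ← ZMod.intCast_eq_intCast_iff] at h1
  push_cast at h1
  have hu : IsUnit (i : ZMod (2 ^ (k + 1))) := IsUnit.of_pow_eq_one h1 (Nat.pos_iff_ne_zero.mp Nat.card_pos)
  obtain ⟨w, hw⟩ := hu
  have h2 : w ^ Nat.card R = 1 := Units.ext (by rw [Units.val_pow_eq_pow_val, hw, h1, Units.val_one])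
  have h3 : orderOf w ∣ 2 ^ k := by
    have := orderOf_dvd_card (G := (ZMod (2 ^ (k + 1)))ˣ) (x := w)
    rwa [ZMod.card_units_eq_totient, Nat.totient_prime_pow_succ Nat.prime_two, Nat.mul_one] at this
  have h4 : w = 1 := orderOf_eq_one_iff.mp (Nat.eq_one_of_dvd_coprimes
    ((Nat.coprime_two_right.mpr hR).pow_right k) (orderOf_dvd_of_pow_eq_one h2) h3)
  have h5 : r * v * r⁻¹ = v := by
    rw [← hi]
    conv_rhs => rw [← zpow_one v]
    rw [zpow_eq_zpow_iff_modEq, hk, ← ZMod.intCast_eq_intCast_iff, ← hw, h4]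
    simp
  exact mul_inv_eq_iff_eq_mul.mp h5

/-- The two possible shapes of a small group moved by a group of odd order. -/
def IsQ8 (P : Subgroup G) (z : G) : Prop :=
  Nat.card P = 8 ∧ z ∈ P ∧ orderOf z = 2 ∧ (∀ x ∈ P, Commute z x) ∧ ⁅P, P⁆ = zpowers z ∧
    ∀ x ∈ P, x ∉ zpowers z → x * x = z

structure Shape (P R : Subgroup G) : Prop where
  comm : ⁅P, R⁆ = P
  min : ∀ V ≤ P, R ≤ normalizer (V : Set G) → V ≠ P → R ≤ centralizer (V : Set G)
  cases : (Nat.card P = 4 ∧ (∀ a ∈ P, a * a = 1) ∧ ∀ a ∈ P, ∀ b ∈ P, Commute a b) ∨ ∃ z, IsQ8 P z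

variable [Group.IsSolvable G]

lemma sq_mem_frattini {W : Subgroup G} (hW : IsPGroup 2 W) {x : G} (hx : x ∈ W) :
    x * x ∈ (frattini ↥W).map W.subtype := by
  haveI : Fact (Nat.Prime 2) := ⟨Nat.prime_two⟩
  refine ⟨⟨x, hx⟩ ^ 2, Solvable.Basics.pow_mem_frattini hW _, ?_⟩
  simp [sq]

lemma commutator_le_frattini {W : Subgroup G} (hW : IsPGroup 2 W) :
    ⁅W, W⁆ ≤ (frattini ↥W).map W.subtype := by
  haveI : Fact (Nat.Prime 2) := ⟨Nat.prime_two⟩
  haveI := hW.isNilpotent
  rw [← Subgroup.map_subtype_commutator]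
  exact Subgroup.map_mono (Coprime.commutator_le_frattini ↥W)

/-- Squares of commutators in class two with central squares. -/
lemma commutatorElement_sq_eq_one {W : Subgroup G} {x y : G} (hx : x ∈ W) (hy : y ∈ W)
    (hc : ∀ w ∈ W, Commute ⁅x, y⁆ w) (hsq : Commute (x * x) y) : ⁅x, y⁆ * ⁅x, y⁆ = 1 := by
  have h1 : ⁅x * x, y⁆ = 1 := commutatorElement_eq_one_iff_commute.mpr hsq
  rw [commutatorElement_mul_left_eq_conj_mul, ← (hc x hx).eq, mul_inv_cancel_right] at h1
  exact h1

/-- The main lemma on small groups. -/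
theorem shape_of_moved {P R : Subgroup G} (hP : IsPGroup 2 P) (hsmall : ¬ Bad P)
    (hR : Odd (Nat.card R)) (hRP : R ≤ normalizer (P : Set G)) (hne : ¬ R ≤ centralizer (P : Set G)) :
    Shape P R := by
  haveI : Fact (Nat.Prime 2) := ⟨Nat.prime_two⟩
  obtain ⟨W, hWP, ⟨hRW, hWne⟩, hWmin⟩ := Basic.exists_minimal_le
    (fun V : Subgroup G => R ≤ normalizer (V : Set G) ∧ ¬ R ≤ centralizer (V : Set G)) (H := P) ⟨hRP, hne⟩
  have hW : IsPGroup 2 W := hP.to_le hWP
  have hsW : ¬ Bad W := fun h => hsmall (h.mono hWP)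
  have hcop := coprime_card hW hR
  have hsolv : Group.IsSolvable ↥R ∨ Group.IsSolvable ↥W := Or.inl inferInstance
  have hmin : ∀ V ≤ W, R ≤ normalizer (V : Set G) → V ≠ W → R ≤ centralizer (V : Set G) :=
    fun V hV hVn hVne => by_contra fun h => hVne (hWmin V hV ⟨hVn, h⟩)
  have hWR : ⁅W, R⁆ = W := by
    by_contra h
    refine hWne (Coprime.le_centralizer_of_commutator_commutator_eq_bot hRW hcop hsolv ?_)
    exact Coprime.commutator_eq_bot_iff_le_centralizer'.mpr
      (hmin _ (Coprime.commutator_le_of_le_normalizer hRW) (normalizer_commutator_ge_right W R) h)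
  set Φ := (frattini ↥W).map W.subtype with hΦdef
  have hΦW : Φ ≤ W := map_subtype_le _
  have hnorm : normalizer (W : Set G) ≤ normalizer (Φ : Set G) :=
    CharP.le_normalizer_resOf.normalizer_le_normalizer_map_subtype W (frattini ↥W)
  have hΦne : Φ ≠ W := fun h => by
    have h2 : frattini ↥W = ⊤ := Subgroup.map_injective W.subtype_injective (by
      rw [← MonoidHom.range_eq_map, range_subtype]; exact h)
    have h3 : (⊥ : Subgroup ↥W) = ⊤ := frattini_nongenerating (by rw [h2, sup_top_eq])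
    refine hWne ?_
    rw [← range_subtype W, MonoidHom.range_eq_map, ← h3, Subgroup.map_bot, le_centralizer_iff]
    exact bot_le
  have hΦc : R ≤ centralizer (Φ : Set G) := hmin Φ hΦW (hRW.trans hnorm) hΦne
  have hΦZ : Φ ≤ centralizer (W : Set G) := by
    rw [← commutator_eq_bot_iff_le_centralizer, Subgroup.commutator_comm]
    have hn : ⁅W, Φ⁆ ≤ Φ := by
      rw [Subgroup.commutator_comm]
      exact le_normalizer_iff_commutator_le_left.mp (le_normalizer.trans hnorm)
    have h1 : ⁅⁅Φ, R⁆, W⁆ = ⊥ := by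
      rw [Coprime.commutator_eq_bot_iff_le_centralizer'.mpr hΦc, commutator_bot_left]
    have h2 : ⁅⁅W, Φ⁆, R⁆ = ⊥ := le_bot_iff.mp ((commutator_mono hn le_rfl).trans
      (Coprime.commutator_eq_bot_iff_le_centralizer'.mpr hΦc).le)
    have h3 : ⁅⁅R, W⁆, Φ⁆ = ⊥ := commutator_commutator_eq_bot_of_rotate h2 h1
    rwa [Subgroup.commutator_comm R W, hWR] at h3
  have hsq : ∀ x ∈ W, x * x ∈ Φ := fun x hx => sq_mem_frattini hW hx
  have hW' : ⁅W, W⁆ ≤ Φ := commutator_le_frattini hW
  have hcomm2 : ∀ x ∈ W, ∀ y ∈ W, ⁅x, y⁆ * ⁅x, y⁆ = 1 := fun x hx y hy =>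
    commutatorElement_sq_eq_one hx hy
      (fun w hw => (mem_centralizer_iff.mp (hΦZ (hW' (commutator_mem_commutator hx hy))) w hw).symm)
      (mem_centralizer_iff.mp (hΦZ (hsq x hx)) y hy).symm
  by_cases hab : ∀ a ∈ W, ∀ b ∈ W, Commute a b
  · -- the abelian shape
    rcases cyclic_or_four hW le_rfl hab hsW with hcy | ⟨h4, hexp⟩
    · exact absurd (centralizes_of_cyclic hW hR hRW) hWne
    have hW'bot : ⁅W, W⁆ = ⊥ := commutator_eq_bot_iff_le_centralizer.mpr fun a ha =>
      mem_centralizer_iff.mpr fun b hb => (hab b hb a ha).eq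
    suffices hPW : P = W by
      subst hPW
      exact ⟨hWR, hmin, Or.inl ⟨h4, hexp, hab⟩⟩
    by_contra hPW
    set N := P ⊓ normalizer (W : Set G)
    have hlt : W < N := Transfer.Frobenius.lt_inf_normalizer hP (lt_of_le_of_ne hWP (Ne.symm hPW))
    have hRN : R ≤ normalizer (N : Set G) :=
      (le_inf hRP (hRW.trans le_normalizer)).trans inf_normalizer_le_normalizer_inf
    have htriv := trivial_mod (Φ₀ := ⊥) hW (hP.to_le (inf_le_left : N ≤ P)) inf_le_right hRN hRW hcop hWR
      bot_le hW'bot.le (le_top.trans (Eq.ge (show normalizer ((⊥ : Subgroup G) : Set G) = ⊤ from normalizer_eq_top_iff.mpr inferInstance))) bot_le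
      (fun h => by rw [le_bot_iff.mp h, Subgroup.card_bot] at h4; omega) hmin
    refine hlt.not_ge fun n hn => ?_
    have hnW : ∀ w ∈ W, Commute n w := fun w hw =>
      mul_inv_eq_iff_eq_mul.mp (mul_inv_eq_one.mp (Subgroup.mem_bot.mp (htriv n hn w hw)))
    set B := W ⊔ zpowers n
    have hBP : B ≤ P := sup_le hWP (zpowers_le.mpr hn.1)
    have hBc : ∀ a ∈ B, ∀ b ∈ B, Commute a b := by
      have hB : B ≤ centralizer (B : Set G) := by
        refine sup_le (le_centralizer_iff.mpr (sup_le ?_ ?_)) (le_centralizer_iff.mpr (sup_le ?_ ?_))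
        · exact fun a ha => mem_centralizer_iff.mpr fun b hb => (hab b hb a ha).eq
        · rw [zpowers_le]; exact mem_centralizer_iff.mpr fun b hb => (hnW b hb).eq.symm
        · rintro a ha
          rw [Link.centralizer_zpowers n]
          exact mem_centralizer_iff.mpr fun b hb => by rw [Set.mem_singleton_iff.mp hb]; exact (hnW a ha).eq
        · rw [Link.centralizer_zpowers n, zpowers_le]
          exact mem_centralizer_iff.mpr fun b hb => by rw [Set.mem_singleton_iff.mp hb]
      exact fun a ha b hb => (mem_centralizer_iff.mp (hB ha) b hb).symm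
    rcases cyclic_or_four (hP.to_le hBP) hBP hBc hsmall with hcy | ⟨hB4, -⟩
    · haveI := hcy
      obtain ⟨a, b, ha, hb, hao, hbo, hne2⟩ : ∃ a b : G, a ∈ W ∧ b ∈ W ∧ orderOf a = 2 ∧ orderOf b = 2 ∧ a ≠ b := by
        obtain ⟨a, ha, ha1⟩ : ∃ a ∈ W, a ≠ 1 := by
          by_contra hno
          push Not at hno
          rw [show W = ⊥ from (eq_bot_iff_forall W).mpr hno, Subgroup.card_bot] at h4
          omega
        have hao : orderOf a = 2 := orderOf_eq_prime (by rw [sq]; exact hexp a ha) ha1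
        obtain ⟨b, hb, hba⟩ : ∃ b ∈ W, b ∉ zpowers a := by
          by_contra hno
          push Not at hno
          have := card_le_of_le (fun b hb => hno b hb : W ≤ zpowers a)
          rw [h4, Nat.card_zpowers, hao] at this
          omega
        exact ⟨a, b, ha, hb, hao, orderOf_eq_prime (by rw [sq]; exact hexp b hb) fun h => hba (h ▸ one_mem _),
          fun h => hba (h ▸ mem_zpowers a)⟩
      exact absurd hcy (not_isCyclic_of_involutions (mem_sup_left ha) (mem_sup_left hb) hao hbo hne2)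
    · exact (eq_of_le_of_card_ge (le_sup_left : W ≤ B) (by rw [hB4, h4])).ge (mem_sup_right (mem_zpowers n))
  -- the quaternion shape
  push Not at hab
  obtain ⟨u, hu, v, hv, huv⟩ := hab
  have hΦab : ∀ a ∈ Φ, ∀ b ∈ Φ, Commute a b := fun a ha b hb =>
    (mem_centralizer_iff.mp (hΦZ ha) b (hΦW hb)).symm
  have hz0 : ⁅u, v⁆ ∈ Φ := hW' (commutator_mem_commutator hu hv)
  set z := ⁅u, v⁆ with hzdef
  have hz1 : z ≠ 1 := fun h => huv (commutatorElement_eq_one_iff_commute.mp h)
  have hzo : orderOf z = 2 := orderOf_eq_prime (by rw [sq]; exact hcomm2 u hu v hv) hz1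
  have hΦcyc : IsCyclic ↥Φ := by
    rcases cyclic_or_four (hW.to_le hΦW) (hΦW.trans hWP) hΦab hsmall with h | ⟨h4, hexp⟩
    · exact h
    exfalso
    have huΦ : u ∉ Φ := fun h => huv (mem_centralizer_iff.mp (hΦZ h) v hv).symm
    obtain ⟨e, heΦ, hez⟩ : ∃ e ∈ Φ, e ∉ zpowers z := by
      by_contra hno
      push Not at hno
      have := card_le_of_le (fun e he => hno e he : Φ ≤ zpowers z)
      rw [h4, Nat.card_zpowers, hzo] at this
      omega
    set B := Φ ⊔ zpowers u
    have hBW : B ≤ W := sup_le hΦW (zpowers_le.mpr hu)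
    have hBc : B ≤ centralizer (B : Set G) := by
      refine sup_le (hΦZ.trans (centralizer_le hBW)) (zpowers_le.mpr (mem_centralizer_iff.mpr ?_))
      intro b hb
      exact mem_centralizer_iff.mp ((sup_le (fun a ha => mem_centralizer_iff.mpr fun c hc => by
          rw [Set.mem_singleton_iff.mp hc]; exact mem_centralizer_iff.mp (hΦZ ha) u hu)
        (zpowers_le.mpr (mem_centralizer_iff.mpr fun c hc => by rw [Set.mem_singleton_iff.mp hc])) :
          B ≤ centralizer ({u} : Set G)) hb) u rfl |>.symm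
    refine hsmall (bad_of_two_involutions (hW.to_le hBW) (hBW.trans hWP)
      (fun a ha b hb => (mem_centralizer_iff.mp (hBc ha) b hb).symm) (mem_sup_left hz0) (mem_sup_left heΦ) hzo
      (orderOf_eq_prime (by rw [sq]; exact hexp e heΦ) fun h => hez (h ▸ one_mem _))
      (fun h => hez (h ▸ mem_zpowers z)) ?_)
    have := two_mul_card_le (hW.to_le hBW) (le_sup_left : Φ ≤ B)
      fun h => huΦ (h (mem_sup_right (mem_zpowers u)))
    omega
  have hW'z : ⁅W, W⁆ = zpowers z := by
    refine le_antisymm (commutator_le.mpr fun a ha b hb => ?_) (zpowers_le.mpr (commutator_mem_commutator hu hv))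
    by_contra hne'
    have h1 : ⁅a, b⁆ ∈ Φ := hW' (commutator_mem_commutator ha hb)
    refine not_isCyclic_of_involutions (B := Φ) h1 hz0 (orderOf_eq_prime (by rw [sq]; exact hcomm2 a ha b hb)
      fun h => hne' (h ▸ one_mem _)) hzo (fun h => hne' (h ▸ mem_zpowers z)) hΦcyc
  have hΦz : Φ = zpowers z := le_antisymm (fun f hf => hW'z.le (mem_commutator_of_fixed hRW hcop hWR (hΦW hf)
    fun r hr => by
      rw [(mem_centralizer_iff.mp (hΦc hr) f hf).symm, mul_inv_cancel_right, mul_inv_cancel]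
      exact one_mem _)) (hW'z.ge.trans hW')
  have hzW : z ∈ W := hΦW hz0
  have hzc : ∀ x ∈ W, Commute z x := fun x hx => (mem_centralizer_iff.mp (hΦZ hz0) x hx).symm
  have hΦmem : ∀ f ∈ Φ, f = 1 ∨ f = z := fun f hf => by
    obtain ⟨i, hi, rfl⟩ := PairTools.exists_pow_eq hzo (hΦz.le hf)
    interval_cases i <;> simp
  have hzz : z * z = 1 := hcomm2 u hu v hv
  -- at most order eight
  have huΦ : u ∉ Φ := fun h => huv (mem_centralizer_iff.mp (hΦZ h) v hv).symm
  have hle8 : Nat.card W ≤ 8 := by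
    by_contra h8
    set C := W ⊓ centralizer ({u} : Set G)
    have hCidx : Nat.card W ≤ 2 * Nat.card C := by
      let φ : Fin 2 × C → W := fun ic => ⟨v ^ (ic.1 : ℕ) * ic.2, mul_mem (pow_mem hv _) ic.2.2.1⟩
      have hφ : Function.Surjective φ := by
        rintro ⟨w, hw⟩
        by_cases hwc : Commute u w
        · exact ⟨(0, ⟨w, hw, mem_cent_iff'.mpr hwc⟩), Subtype.ext (by simp [φ])⟩
        refine ⟨(1, ⟨v⁻¹ * w, Subgroup.mem_inf.mpr ⟨mul_mem (inv_mem hv) hw, mem_cent_iff'.mpr ?_⟩⟩), Subtype.ext (by simp [φ])⟩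
        have hwz : ⁅u, w⁆ = z := ((hΦmem _ (hW' (commutator_mem_commutator hu hw))).resolve_left
          fun h => hwc (commutatorElement_eq_one_iff_commute.mp h))
        have e1 : u * v * u⁻¹ = z * v := by rw [hzdef, commutatorElement_def]; group
        have e2 : u * w * u⁻¹ = z * w := by rw [← hwz, commutatorElement_def]; group
        have e3 : u * (v⁻¹ * w) * u⁻¹ = v⁻¹ * w := by
          calc u * (v⁻¹ * w) * u⁻¹ = (u * v * u⁻¹)⁻¹ * (u * w * u⁻¹) := by group
            _ = v⁻¹ * z⁻¹ * (z * w) := by rw [e1, e2, mul_inv_rev]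
            _ = v⁻¹ * w := by group
        exact mul_inv_eq_iff_eq_mul.mp e3
      have := Nat.card_le_card_of_surjective φ hφ
      rwa [Nat.card_prod, Nat.card_fin] at this
    obtain ⟨k, hk⟩ := IsPGroup.iff_card.1 hW
    have hk4 : 16 ≤ Nat.card W := by
      have : 4 ≤ k := by
        by_contra hlt
        have := Nat.pow_le_pow_right two_pos (show k ≤ 3 by omega)
        omega
      have := Nat.pow_le_pow_right two_pos this
      omega
    set E := zpowers z ⊔ zpowers u
    have hsq4 : ∀ x ∈ W, orderOf x ∣ 4 := fun x hx => orderOf_dvd_of_pow_eq_one (by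
      rw [show (4 : ℕ) = 2 * 2 from rfl, pow_mul, sq x]
      rcases hΦmem _ (hsq x hx) with h | h <;> rw [h]
      · exact one_pow 2
      · rw [sq]; exact hzz)
    have hcu : zpowers z ≤ centralizer ((zpowers u : Subgroup G) : Set G) := by
      rw [Link.centralizer_zpowers u, zpowers_le]
      exact mem_cent_iff'.mpr (hzc u hu).symm
    have hE : Nat.card E ≤ 4 := by
      rw [show E = zpowers u ⊔ zpowers z from sup_comm _ _]
      by_cases hzu : z ∈ zpowers u
      · rw [sup_eq_left.mpr (zpowers_le.mpr hzu), Nat.card_zpowers]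
        exact Nat.le_of_dvd (by norm_num) (hsq4 u hu)
      · have hu2 : orderOf u ∣ 2 := orderOf_dvd_of_pow_eq_one (by
          rw [sq]
          rcases hΦmem _ (hsq u hu) with h | h
          · exact h
          · exact absurd (h ▸ mul_mem (mem_zpowers u) (mem_zpowers u)) hzu)
        rw [PairTools.card_sup_of_disjoint (le_centralizer_iff.mp hcu) (PairTools.inf_zpowers_eq_bot hzo hzu),
          Nat.card_zpowers, Nat.card_zpowers, hzo]
        have := Nat.le_of_dvd two_pos hu2
        omega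
    obtain ⟨y, hyC, hyE⟩ : ∃ y ∈ C, y ∉ E := by
      by_contra hno
      push Not at hno
      have := card_le_of_le (fun y hy => hno y hy : C ≤ E)
      omega
    set B := E ⊔ zpowers y
    have hBW : B ≤ W := sup_le (sup_le (zpowers_le.mpr hzW) (zpowers_le.mpr hu)) (zpowers_le.mpr hyC.1)
    have hEy : E ≤ centralizer ((zpowers y : Subgroup G) : Set G) := by
      rw [Link.centralizer_zpowers y]
      exact sup_le (zpowers_le.mpr (mem_cent_iff'.mpr (hzc y hyC.1).symm))
        (zpowers_le.mpr (mem_cent_iff'.mpr (mem_cent_iff'.mp hyC.2).symm))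
    have hcent : ∀ {A : Subgroup G} {g : G}, A ≤ centralizer (A : Set G) →
        A ≤ centralizer ((zpowers g : Subgroup G) : Set G) →
        A ⊔ zpowers g ≤ centralizer ((A ⊔ zpowers g : Subgroup G) : Set G) := fun {A g} h1 h2 => by
      refine sup_le (le_centralizer_iff.mpr (sup_le h1 ?_)) (le_centralizer_iff.mpr (sup_le ?_ ?_))
      · exact le_centralizer_iff.mp h2
      · exact h2
      · exact le_centralizer_iff_isMulCommutative.mpr inferInstance
    have hBc : B ≤ centralizer (B : Set G) :=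
      hcent (hcent (le_centralizer_iff_isMulCommutative.mpr inferInstance) hcu) hEy
    have hB8 : 8 ≤ Nat.card B := by
      have h1 := two_mul_card_le (hW.to_le (le_sup_left.trans hBW : E ≤ W)) (le_sup_left : zpowers z ≤ E)
        fun h => huΦ (hΦz.ge (h (mem_sup_right (mem_zpowers u))))
      have h2 := two_mul_card_le (hW.to_le hBW) (le_sup_left : E ≤ B)
        fun h => hyE (h (mem_sup_right (mem_zpowers y)))
      rw [Nat.card_zpowers, hzo] at h1
      omega
    rcases cyclic_or_four (hW.to_le hBW) (hBW.trans hWP)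
      (fun a ha b hb => (mem_centralizer_iff.mp (hBc ha) b hb).symm) hsmall with hcy | ⟨h4, -⟩
    · obtain ⟨g, hg⟩ := IsCyclic.exists_ofOrder_eq_natCard (α := ↥B)
      have := hsq4 (g : G) (hBW g.2)
      rw [orderOf_coe, hg] at this
      have := Nat.le_of_dvd (by norm_num) this
      omega
    · omega
  have hge8 : 8 ≤ Nat.card W := by
    set E := zpowers z ⊔ zpowers u
    have hEW : E ≤ W := sup_le (zpowers_le.mpr hzW) (zpowers_le.mpr hu)
    have h1 := two_mul_card_le (hW.to_le hEW) (le_sup_left : zpowers z ≤ E)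
      fun h => huΦ (hΦz.ge (h (mem_sup_right (mem_zpowers u))))
    have h2 := two_mul_card_le hW hEW fun h => huv (by
      have : E ≤ centralizer ({u} : Set G) :=
        sup_le (zpowers_le.mpr (mem_cent_iff'.mpr (hzc u hu).symm)) (zpowers_le.mpr (mem_cent_iff'.mpr (Commute.refl u)))
      exact mem_cent_iff'.mp (this (h hv)))
    rw [Nat.card_zpowers, hzo] at h1
    omega
  have hW8 : Nat.card W = 8 := le_antisymm hle8 hge8
  -- all elements outside the centre square to `z`
  have hsqz : ∀ x ∈ W, x ∉ zpowers z → x * x = z := by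
    intro a ha haz
    refine (hΦmem _ (hsq a ha)).resolve_left fun haa => ?_
    have hconjW : ∀ r ∈ R, ∀ x ∈ W, r * x * r⁻¹ ∈ W := fun r hr x hx => (mem_normalizer_iff.mp (hRW hr) x).mp hx
    have hconjΦ : ∀ r ∈ R, ∀ x, r * x * r⁻¹ ∈ Φ ↔ x ∈ Φ := fun r hr x =>
      (mem_normalizer_iff.mp (hnorm (hRW hr)) x).symm
    have haΦ : a ∉ Φ := fun h => haz (hΦz.le h)
    obtain ⟨r, hr, hrb⟩ : ∃ r ∈ R, r * a * r⁻¹ * a⁻¹ ∉ Φ := by
      by_contra hno
      push Not at hno
      exact haΦ (hW' (mem_commutator_of_fixed hRW hcop hWR ha fun r hr => by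
        rw [hW'z, ← hΦz]; exact hno r hr))
    set b := r * a * r⁻¹ with hbdef
    have hbW : b ∈ W := hconjW r hr a ha
    have hbΦ : b ∉ Φ := fun h => haΦ ((hconjΦ r hr a).mp h)
    have hbb : b * b = 1 := by rw [hbdef, show r * a * r⁻¹ * (r * a * r⁻¹) = r * (a * a) * r⁻¹ by group, haa]; group
    have hcza : zpowers z ≤ centralizer ((zpowers a : Subgroup G) : Set G) := by
      rw [Link.centralizer_zpowers a, zpowers_le]
      exact mem_cent_iff'.mpr (hzc a ha).symm
    set E := zpowers z ⊔ zpowers a with hEdef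
    have hEmem : ∀ e ∈ E, e ∈ Φ ∨ e * a⁻¹ ∈ Φ := by
      intro e he
      rw [hEdef, ← SetLike.mem_coe, coe_mul_of_left_le_normalizer_right _ _
        (hcza.trans (centralizer_le_normalizer _))] at he
      obtain ⟨f, hf, g, hg, rfl⟩ := he
      obtain ⟨i, hi, rfl⟩ := PairTools.exists_pow_eq (orderOf_eq_prime (by rw [sq]; exact haa) fun h => haz (by rw [h]; exact one_mem _)) hg
      interval_cases i
      · left; simpa using hΦz.ge hf
      · right; simpa using hΦz.ge hf
    have hEW : E ≤ W := sup_le (zpowers_le.mpr hzW) (zpowers_le.mpr ha)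
    have hbE : b ∉ E := fun h => (hEmem b h).elim hbΦ hrb
    have hWEb : W = E ⊔ zpowers b := by
      refine (eq_of_le_of_card_ge (sup_le hEW (zpowers_le.mpr hbW)) ?_).symm
      have h1 := two_mul_card_le (hW.to_le hEW) (le_sup_left : zpowers z ≤ E)
        fun h => haΦ (hΦz.ge (h (mem_sup_right (mem_zpowers a))))
      have h2 := two_mul_card_le (hW.to_le (sup_le hEW (zpowers_le.mpr hbW))) (le_sup_left : E ≤ E ⊔ zpowers b)
        fun h => hbE (h (mem_sup_right (mem_zpowers b)))
      rw [Nat.card_zpowers, hzo] at h1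
      omega
    have hEn : zpowers b ≤ normalizer (E : Set G) := by
      refine (zpowers_le.mpr hbW).trans (BirthTools.le_normalizer_of_conj_mem fun g hg e he => ?_)
      have h1 : g * e * g⁻¹ * e⁻¹ ∈ zpowers z := by
        rw [← hΦz, ← commutatorElement_def]
        exact hW' (commutator_mem_commutator hg (hEW he))
      have := mul_mem (mem_sup_left (T := zpowers a) h1) he
      rwa [inv_mul_cancel_right] at this
    -- the image of `b` is in the third coset
    set c := r * b * r⁻¹ with hcdef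
    have hcW : c ∈ W := hconjW r hr b hbW
    have hcc : c * c = 1 := by rw [hcdef, show r * b * r⁻¹ * (r * b * r⁻¹) = r * (b * b) * r⁻¹ by group, hbb]; group
    have hcmem := hWEb.le hcW
    rw [← SetLike.mem_coe, coe_mul_of_right_le_normalizer_left _ _ hEn] at hcmem
    obtain ⟨e, he, g, hg, hegc⟩ := hcmem
    obtain ⟨j, hj, rfl⟩ := PairTools.exists_pow_eq (orderOf_eq_prime (by rw [sq]; exact hbb) fun h => hbΦ (by rw [h]; exact one_mem _)) hg
    interval_cases j
    · simp only [pow_zero, mul_one] at hegc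
      subst hegc
      rcases hEmem c he with h | h
      · exact hbΦ ((hconjΦ r hr b).mp h)
      · -- `r²` fixes the coset of `a`
        have hfix : ∀ m : ℕ, (r ^ 2) ^ m * a * ((r ^ 2) ^ m)⁻¹ * a⁻¹ ∈ Φ := by
          intro m
          induction m with
          | zero => simp
          | succ m ih =>
            have h2 : (r ^ 2) ^ m ∈ R := pow_mem (pow_mem hr 2) m
            have := mul_mem (((hconjΦ _ h2 _).mpr h)) ih
            convert this using 1
            rw [hcdef, hbdef, pow_succ, sq]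
            group
        obtain ⟨d, hd⟩ : ∃ d, r = (r ^ 2) ^ d := by
          obtain ⟨q, hq⟩ := hR
          refine ⟨q + 1, ?_⟩
          rw [← pow_mul, show 2 * (q + 1) = Nat.card R + 1 by omega, pow_succ,
            orderOf_dvd_iff_pow_eq_one.mp (orderOf_dvd_natCard R hr), one_mul]
        refine hrb ?_
        rw [hbdef, hd]
        exact hfix d
    · simp only [pow_one] at hegc
      rcases hEmem e he with h | h
      · -- `b` has a fixed coset
        have h1 : c * b⁻¹ ∈ Φ := by rw [← hegc, mul_inv_cancel_right]; exact h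
        rw [hcdef, show r * b * r⁻¹ * b⁻¹ = r * (b * a⁻¹) * r⁻¹ by rw [hbdef]; group] at h1
        exact hrb ((hconjΦ r hr _).mp h1)
      · -- `a * b` is an involution
        obtain ⟨f, hf, rfl⟩ : ∃ f ∈ Φ, e = f * a := ⟨e * a⁻¹, h, (inv_mul_cancel_right e a).symm⟩
        have hfab : Commute f (a * b) := (mem_centralizer_iff.mp (hΦZ hf) _ (mul_mem ha hbW)).symm
        have hff : f * f = 1 := by rcases hΦmem f hf with rfl | rfl <;> [exact one_mul 1; exact hzz]
        have hab1 : a * b * (a * b) = 1 := by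
          have := hcc
          rw [← hegc, show f * a * b * (f * a * b) = f * (a * b) * (f * (a * b)) by group,
            hfab.symm.mul_mul_mul_comm, hff, one_mul] at this
          exact this
        have hcab : Commute a b := by
          have hi : a * b = (a * b)⁻¹ := (inv_eq_of_mul_eq_one_right hab1).symm
          rw [mul_inv_rev, inv_eq_of_mul_eq_one_right haa, inv_eq_of_mul_eq_one_right hbb] at hi
          exact hi
        refine huv (?_ : Commute u v)
        have hWc : W ≤ centralizer (W : Set G) := by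
          rw [hWEb]
          refine sup_le (sup_le ?_ ?_) ?_
          · rw [← hWEb]; exact hΦz ▸ hΦZ
          · rw [zpowers_le, mem_centralizer_iff]
            intro w hw
            exact (mem_cent_iff'.mp ((sup_le (sup_le (zpowers_le.mpr (mem_cent_iff'.mpr (hzc a ha).symm))
              (zpowers_le.mpr (mem_cent_iff'.mpr (Commute.refl a)))) (zpowers_le.mpr (mem_cent_iff'.mpr hcab)) :
                E ⊔ zpowers b ≤ centralizer ({a} : Set G)) hw)).eq.symm
          · rw [zpowers_le, mem_centralizer_iff]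
            intro w hw
            exact (mem_cent_iff'.mp ((sup_le (sup_le (zpowers_le.mpr (mem_cent_iff'.mpr (hzc b hbW).symm))
              (zpowers_le.mpr (mem_cent_iff'.mpr hcab.symm))) (zpowers_le.mpr (mem_cent_iff'.mpr (Commute.refl b))) :
                E ⊔ zpowers b ≤ centralizer ({b} : Set G)) hw)).eq.symm
        exact (mem_centralizer_iff.mp (hWc hu) v hv).symm
  have hQ : IsQ8 W z := ⟨hW8, hzW, hzo, hzc, hW'z, hsqz⟩
  suffices hPW : P = W by
    subst hPW
    exact ⟨hWR, hmin, Or.inr ⟨z, hQ⟩⟩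
  by_contra hPW
  set N := P ⊓ normalizer (W : Set G)
  have hlt : W < N := Transfer.Frobenius.lt_inf_normalizer hP (lt_of_le_of_ne hWP (Ne.symm hPW))
  have hRN : R ≤ normalizer (N : Set G) :=
    (le_inf hRP (hRW.trans le_normalizer)).trans inf_normalizer_le_normalizer_inf
  have htriv := trivial_mod (Φ₀ := Φ) hW (hP.to_le (inf_le_left : N ≤ P)) inf_le_right hRN hRW hcop hWR
    hΦW hW' (sup_le (sup_le (le_normalizer.trans hnorm) (inf_le_right.trans hnorm)) (hRW.trans hnorm))
    (hW'z.ge.trans' hΦz.le) (fun h => hΦne (le_antisymm hΦW h)) hmin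
  refine hlt.not_ge fun n hn => ?_
  have e1 : v * u * v⁻¹ = z * u := by
    have : v * u * v⁻¹ * u⁻¹ = z := by
      have h0 : ⁅v, u⁆ = z⁻¹ := by rw [hzdef, commutatorElement_inv]
      rwa [inv_eq_of_mul_eq_one_right hzz, commutatorElement_def] at h0
    exact mul_inv_eq_iff_eq_mul.mp this
  have e2 : u * v * u⁻¹ = z * v := mul_inv_eq_iff_eq_mul.mp (by rw [hzdef, commutatorElement_def])
  -- correct `n` by an element of `W`
  obtain ⟨m, hmW, hmu, hmv⟩ : ∃ m ∈ W, (m * n) * u * (m * n)⁻¹ = u ∧ (m * n) * v * (m * n)⁻¹ = v := by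
    have hnu : n * u * n⁻¹ = u ∨ n * u * n⁻¹ = z * u := (hΦmem _ (htriv n hn u hu)).imp
      (fun h => mul_inv_eq_one.mp h) (fun h => mul_inv_eq_iff_eq_mul.mp h)
    have hnv : n * v * n⁻¹ = v ∨ n * v * n⁻¹ = z * v := (hΦmem _ (htriv n hn v hv)).imp
      (fun h => mul_inv_eq_one.mp h) (fun h => mul_inv_eq_iff_eq_mul.mp h)
    have hcalc : ∀ m x, (m * n) * x * (m * n)⁻¹ = m * (n * x * n⁻¹) * m⁻¹ := fun m x => by group
    have hmz : ∀ m ∈ W, ∀ x, m * (z * x) * m⁻¹ = z * (m * x * m⁻¹) := fun m hm x => by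
      rw [← mul_assoc, ← (hzc m hm).eq]; group
    rcases hnu with h1 | h1 <;> rcases hnv with h2 | h2
    · exact ⟨1, one_mem W, by simp [h1], by simp [h2]⟩
    · refine ⟨u, hu, by rw [hcalc, h1, mul_inv_cancel_right], ?_⟩
      rw [hcalc, h2, hmz u hu, e2, ← mul_assoc, hzz, one_mul]
    · refine ⟨v, hv, ?_, by rw [hcalc, h2, mul_inv_cancel_right]⟩
      rw [hcalc, h1, hmz v hv, e1, ← mul_assoc, hzz, one_mul]
    · refine ⟨u * v, mul_mem hu hv, ?_, ?_⟩
      · rw [hcalc, h1, hmz _ (mul_mem hu hv), show u * v * u * (u * v)⁻¹ = u * (v * u * v⁻¹) * u⁻¹ by group,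
          e1, hmz u hu, mul_inv_cancel_right, ← mul_assoc, hzz, one_mul]
      · rw [hcalc, h2, hmz _ (mul_mem hu hv), show u * v * v * (u * v)⁻¹ = u * v * u⁻¹ by group,
          e2, ← mul_assoc, hzz, one_mul]
  set c := m * n with hcdef
  have hcP : c ∈ P := mul_mem (hWP hmW) hn.1
  have hcu : Commute c u := mul_inv_eq_iff_eq_mul.mp hmu
  have hcv : Commute c v := mul_inv_eq_iff_eq_mul.mp hmv
  set B := zpowers u ⊔ zpowers c
  have hBP : B ≤ P := sup_le (zpowers_le.mpr (hWP hu)) (zpowers_le.mpr hcP)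
  have hucc : zpowers u ≤ centralizer ((zpowers c : Subgroup G) : Set G) := by
    rw [Link.centralizer_zpowers c, zpowers_le]; exact mem_cent_iff'.mpr hcu
  have hBc : ∀ a ∈ B, ∀ b ∈ B, Commute a b := by
    have hB : B ≤ centralizer (B : Set G) := by
      refine sup_le (le_centralizer_iff.mpr (sup_le ?_ (le_centralizer_iff.mp hucc)))
        (le_centralizer_iff.mpr (sup_le hucc ?_)) <;>
        exact le_centralizer_iff_isMulCommutative.mpr inferInstance
    exact fun a ha b hb => (mem_centralizer_iff.mp (hB ha) b hb).symm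
  have huz : u * u = z := hsqz u hu fun h => huΦ (hΦz.ge h)
  have huo : orderOf u = 4 := orderOf_eq_prime_pow (p := 2) (n := 1) (by simp [sq, huz, hz1])
    (by rw [show 2 ^ (1 + 1) = 2 * 2 from rfl, pow_mul, sq u, huz, sq, hzz])
  suffices hcW : c ∈ W by
    have := mul_mem (inv_mem hmW) hcW
    rwa [hcdef, inv_mul_cancel_left] at this
  rcases cyclic_or_four (hP.to_le hBP) hBP hBc hsmall with hcy | ⟨-, hexp⟩
  swap
  · exact absurd (hexp u (mem_sup_left (mem_zpowers u))) (by rw [huz]; exact hz1)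
  obtain ⟨g, hg⟩ := IsCyclic.exists_ofOrder_eq_natCard (α := ↥B)
  by_cases hsmallB : Nat.card B ≤ 4
  · exact (zpowers_le.mpr hu : zpowers u ≤ W) ((eq_of_le_of_card_ge (le_sup_left : zpowers u ≤ B)
      (by rwa [Nat.card_zpowers, huo])).ge (mem_sup_right (mem_zpowers c)))
  exfalso
  obtain ⟨i, hi⟩ : ∃ i : ℕ, g ^ i = (⟨u, mem_sup_left (mem_zpowers u)⟩ : ↥B) := by
    have : zpowers g = ⊤ := eq_top_of_card_eq _ (by rw [Nat.card_zpowers, hg])
    exact mem_powers_iff_mem_zpowers.mpr (this ▸ mem_top _)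
  have hieven : Even i := by
    by_contra hio
    rw [Nat.not_even_iff_odd] at hio
    have h1 : orderOf (g ^ i) = orderOf g := by
      refine Nat.Coprime.orderOf_pow ?_
      obtain ⟨j, hj⟩ := exists_orderOf_two_pow (hP.to_le hBP) g.2
      rw [orderOf_coe] at hj
      rw [hj]
      exact (Nat.coprime_two_left.mpr hio).pow_left j
    rw [hi, orderOf_mk, huo, hg] at h1
    omega
  obtain ⟨d, hd⟩ := hieven
  have hgB := g.2
  rw [← SetLike.mem_coe, coe_mul_of_left_le_normalizer_right _ _ (hucc.trans (centralizer_le_normalizer _))] at hgB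
  obtain ⟨a, ha, b, hb, hgab⟩ := hgB
  obtain ⟨ia, hia⟩ := mem_zpowers_iff.mp ha
  obtain ⟨ib, hib⟩ := mem_zpowers_iff.mp hb
  have hgv : Commute ((g : G) ^ 2) v := by
    rw [← hgab, (show Commute a b from (mem_cent_iff'.mp (by
      rw [← Link.centralizer_zpowers b]; exact
        (centralizer_le (zpowers_le.mpr hb : zpowers b ≤ zpowers c) (hucc ha)))).symm).mul_pow]
    refine Commute.mul_left ?_ ?_
    · rw [← hia, ← zpow_natCast, ← zpow_mul, mul_comm, zpow_mul, zpow_natCast, sq u, huz]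
      exact (hzc v hv).zpow_left ia
    · rw [← hib]
      exact (hcv.zpow_left ib).pow_left 2
  refine huv ?_
  have : u = ((g : G) ^ 2) ^ d := by
    rw [← pow_mul, two_mul, ← hd]
    exact (congrArg Subtype.val hi).symm
  rw [this]
  exact hgv.pow_left d

end Cfsg.Agent.Components.SmallTwo
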