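import Cfsg.Agent.Lib.Components.SmallTwoTools
import Cfsg.Agent.Lib.JComp.Basic

/-!
Minimal solvable groups containing a non-cyclic abelian subgroup of order 8.
-/

set_option autoImplicit false
set_option linter.all false

namespace Cfsg.Agent.Components.SmallTwo

open Subgroup
open scoped commutatorElement

universe u

variable {G : Type u} [Group G] [Finite G] [Group.IsSolvable G]

/-- If the 2-core is small, the whole group is small. -/
lemma pCore_bad (hO : Cfsg.pPrimeCore 2 G = ⊥) (h : Bad (⊤ : Subgroup G)) :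
    Bad (Cfsg.pCore 2 G) := by
  haveI : Fact (Nat.Prime 2) := ⟨Nat.prime_two⟩
  by_contra hsm
  set Q := Cfsg.pCore 2 G with hQdef
  have hQp : IsPGroup 2 Q := PLocal.Cores.isPGroup_pCore
  haveI hQn : Q.Normal := Subgroup.sSup_normal _ fun N hN => hN.1
  have hC : centralizer (Q : Set G) ≤ Q := PLocal.PSolvable.centralizer_pCore_le hO
    (PLocal.SolvableSeparable.isPSolvable_of_isSolvable 2 _)
  obtain ⟨A, -, hAc', hAcyc, hA8⟩ := h
  have hAc : ∀ a ∈ A, ∀ b ∈ A, Commute a b := fun a ha b hb =>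
    congrArg Subtype.val (hAc'.is_comm.comm (⟨a, ha⟩ : A) ⟨b, hb⟩)
  have hnQ : ∀ H : Subgroup G, H ≤ normalizer (Q : Set G) := fun H => by
    rw [normalizer_eq_top_iff.mpr hQn]; exact le_top
  obtain ⟨r, hrodd, hrQ⟩ : ∃ r : G, Odd (orderOf r) ∧ ¬ zpowers r ≤ centralizer (Q : Set G) := by
    by_contra hno
    push Not at hno
    refine hsm ?_
    have hG : IsPGroup 2 G := by
      rintro g
      obtain ⟨k, m, hm, hkm⟩ := Nat.exists_eq_two_pow_mul_odd (orderOf_pos g).ne'
      refine ⟨k, ?_⟩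
      have ho : orderOf (g ^ 2 ^ k) = m := by
        rw [orderOf_pow_of_dvd (by positivity) (hkm ▸ dvd_mul_right _ _), hkm,
          Nat.mul_div_cancel_left _ (by positivity)]
      obtain ⟨n, hn⟩ := hQp ⟨_, hC (hno _ (ho.symm ▸ hm) (mem_zpowers _))⟩
      refine orderOf_eq_one_iff.mp (ho.trans ?_)
      obtain ⟨j, -, hj⟩ := (Nat.dvd_prime_pow Nat.prime_two).mp
        (ho ▸ orderOf_dvd_of_pow_eq_one (show (g ^ 2 ^ k) ^ 2 ^ n = 1 by simpa using congrArg Subtype.val hn))
      rcases j with _ | j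
      · simpa using hj
      · exact absurd (hj ▸ hm) (Nat.not_odd_iff_even.mpr (by simp [parity_simps]))
    exact ⟨A, (le_top.trans (PLocal.Cores.isPGroup_iff_pCore_eq_top.mp hG).ge), hAc', hAcyc, hA8⟩
  have hA2 : IsPGroup 2 A := IsPGroup.of_card (n := 3) (by rw [hA8]; rfl)
  have hfixed : ∀ z : G, orderOf z = 2 → z ∈ Q →
      (∀ w, w ∈ Q → orderOf w = 2 → (∀ x ∈ Q, Commute w x) → w = z) → (∀ x ∈ Q, Commute z x) →
      ∀ a ∈ A, a * z * a⁻¹ = z := by
    intro z hzo hzQ huniq hzc a ha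
    refine huniq _ (hQn.conj_mem z hzQ a) (by
      rw [show a * z * a⁻¹ = MulAut.conj a z from rfl, MulEquiv.orderOf_eq, hzo]) fun x hx => ?_
    have := (hzc _ (hQn.conj_mem' x hx a)).map (MulAut.conj a).toMonoidHom
    simpa [mul_assoc] using this
  rcases (shape_of_moved hQp hsm (by rwa [Nat.card_zpowers]) (hnQ _) hrQ).cases with
    ⟨h4, hexp, hQab⟩ | ⟨z, hQ⟩
  · -- the four-group
    set T := Q ⊔ A
    have hTp : IsPGroup 2 T := hQp.to_sup_of_normal_left' hA2 (hnQ A)
    haveI : (Q.subgroupOf T).Normal := normal_subgroupOf_of_le_normalizer (hnQ T)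
    obtain ⟨⟨e, he⟩, heQ, he1, -, hec⟩ := PGroups.AbelianNormal.exists_step hTp
      (B := (⊥ : Subgroup ↥T)) (N := Q.subgroupOf T) (by
        rw [bot_lt_iff_ne_bot, Ne, ← card_eq_one, Nat.card_congr (subgroupOfEquivOfLe le_sup_left).toEquiv, h4]
        omega)
    have heQ' : e ∈ Q := heQ
    have hec' : ∀ a ∈ A, Commute a e := fun a ha => by
      have := hec ⟨a, mem_sup_right ha⟩
      rw [Subgroup.mem_bot] at this
      exact mul_inv_eq_iff_eq_mul.mp (mul_inv_eq_one.mp (congrArg Subtype.val this))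
    have he2 : orderOf e = 2 := orderOf_eq_prime (by rw [sq]; exact hexp e heQ')
      fun h => he1 (by rw [Subgroup.mem_bot]; exact Subtype.ext h)
    obtain ⟨b, hbQ, hbe⟩ : ∃ b ∈ Q, b ∉ zpowers e := by
      by_contra hno
      push Not at hno
      have := card_le_of_le (fun b hb => hno b hb : Q ≤ zpowers e)
      rw [h4, Nat.card_zpowers, he2] at this
      omega
    have hQgen : zpowers e ⊔ zpowers b = Q := by
      refine eq_of_le_of_card_ge (sup_le (zpowers_le.mpr heQ') (zpowers_le.mpr hbQ)) ?_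
      have := two_mul_card_le (hQp.to_le (sup_le (zpowers_le.mpr heQ') (zpowers_le.mpr hbQ)))
        (le_sup_left : zpowers e ≤ zpowers e ⊔ zpowers b)
        fun h => hbe (h (mem_sup_right (mem_zpowers b)))
      rw [Nat.card_zpowers, he2] at this
      omega
    have hstab : ∀ a ∈ A, a * b * a⁻¹ = b → a ∈ Q := fun a ha hab => hC (by
      have : Q ≤ centralizer ({a} : Set G) := by
        rw [← hQgen]
        exact sup_le (zpowers_le.mpr (mem_cent_iff'.mpr (hec' a ha)))
          (zpowers_le.mpr (mem_cent_iff'.mpr (mul_inv_eq_iff_eq_mul.mp hab)))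
      exact mem_centralizer_iff.mpr fun x hx => (mem_cent_iff'.mp (this hx)).eq.symm)
    have hmove : ∀ a ∈ A, a ∉ Q → a * b * a⁻¹ = e * b := by
      intro a ha haQ
      have hm := hQn.conj_mem b hbQ a
      rw [← hQgen, ← SetLike.mem_coe, coe_mul_of_right_le_normalizer_left] at hm
      · obtain ⟨x, hx, y, hy, hxy⟩ := hm
        obtain ⟨i, hi, rfl⟩ := PairTools.exists_pow_eq he2 hx
        obtain ⟨j, hj, rfl⟩ := PairTools.exists_pow_eq (orderOf_eq_prime (by rw [sq]; exact hexp b hbQ)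
          fun h => hbe (by rw [h]; exact one_mem _)) hy
        have hne : a * b * a⁻¹ ≠ b := fun h => haQ (hstab a ha h)
        have hnote : a * b * a⁻¹ ∉ zpowers e := fun h => hbe (by
          have hb' : b = a⁻¹ * (a * b * a⁻¹) * a := by group
          obtain ⟨i, hi⟩ := h
          rw [hb', ← hi, show a⁻¹ * e ^ i * a = e ^ i by
            rw [mul_assoc, ← ((hec' a ha).zpow_right i).eq, inv_mul_cancel_left]]
          exact zpow_mem (mem_zpowers e) i)
        interval_cases j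
        · exact absurd (by rw [← hxy]; simp) hnote
        · interval_cases i
          · exact absurd (by rw [← hxy]; simp) hne
          · simpa using hxy.symm
      · refine (zpowers_le.mpr hbQ).trans (BirthTools.le_normalizer_of_conj_mem fun g hg w hw => ?_)
        rw [(hQab g hg w (zpowers_le.mpr heQ' hw)).eq, mul_inv_cancel_right]
        exact hw
    by_cases hAQ : A ≤ Q
    · have := card_le_of_le hAQ; omega
    obtain ⟨a0, ha0, ha0Q⟩ := SetLike.not_le_iff_exists.mp hAQ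
    set K := A ⊓ Q
    let φ : Fin 2 × K → A := fun ic => ⟨a0 ^ (ic.1 : ℕ) * ic.2, mul_mem (pow_mem ha0 _) ic.2.2.1⟩
    have hφ : Function.Surjective φ := by
      rintro ⟨a, ha⟩
      by_cases haQ : a ∈ Q
      · exact ⟨(0, ⟨a, ha, haQ⟩), Subtype.ext (by simp [φ])⟩
      refine ⟨(1, ⟨a0⁻¹ * a, Subgroup.mem_inf.mpr ⟨mul_mem (inv_mem ha0) ha,
        hstab _ (mul_mem (inv_mem ha0) ha) ?_⟩⟩), Subtype.ext (by simp [φ])⟩
      rw [show a0⁻¹ * a * b * (a0⁻¹ * a)⁻¹ = a0⁻¹ * (a * b * a⁻¹) * a0 by group, hmove a ha haQ,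
        ← hmove a0 ha0 ha0Q]
      group
    have hK := Nat.card_le_card_of_surjective φ hφ
    rw [Nat.card_prod, Nat.card_fin, hA8] at hK
    have hKQ : K = Q := eq_of_le_of_card_ge inf_le_right (by omega)
    have hQA : Q ≤ A := hKQ ▸ inf_le_left
    exact ha0Q (hC (mem_centralizer_iff.mpr fun q hq => (hAc q (hQA hq) a0 ha0).eq))
  · -- the quaternion group
    refine hQ.false_of_normalizer hQp hC hA8 hAc hAcyc (hnQ A)
      (hfixed z hQ.2.2.1 hQ.z_mem ?_ hQ.2.2.2.1)
    intro w hwQ hwo hwc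
    by_contra hwz
    refine hwz ((hQ.mem_zpowers_z ?_).resolve_left fun h => by rw [h, orderOf_one] at hwo; omega)
    by_contra hn
    have := hQ.orderOf_eq_four hwQ hn
    omega

lemma center_map_eq (P : Subgroup G) :
    (Subgroup.center ↥P).map P.subtype = P ⊓ centralizer (P : Set G) :=
  (PairTools.inf_centralizer_eq P).symm

/-- A group of order at most 16 with centre and derived group of order 2 has no abelian subgroup of order 8. -/
lemma false_of_card_le {P A Z : Subgroup G} (hP : IsPGroup 2 P) (hAP : A ≤ P)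
    (hAc : ∀ a ∈ A, ∀ b ∈ A, Commute a b) (hA : Nat.card A = 8) (hle : Nat.card P ≤ 16)
    (hnab : ¬ ∀ a ∈ P, ∀ b ∈ P, Commute a b) (hZ : Z = P ⊓ centralizer (P : Set G))
    (hZ2 : Nat.card Z = 2) (hcomm : ⁅P, P⁆ ≤ Z) : False := by
  classical
  haveI : Fact (Nat.Prime 2) := ⟨Nat.prime_two⟩
  have hZc : ∀ z ∈ Z, ∀ x ∈ P, Commute z x := fun z hz x hx => by
    rw [hZ] at hz
    exact (mem_centralizer_iff.mp hz.2 x hx).symm
  have hZP : Z ≤ P := hZ ▸ inf_le_left
  obtain ⟨u, hu, huA⟩ : ∃ u ∈ P, u ∉ A := by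
    by_contra hno
    push Not at hno
    exact hnab fun a ha b hb => hAc a (hno a ha) b (hno b hb)
  have hgen : A ⊔ zpowers u = P := by
    refine eq_of_le_of_card_ge (sup_le hAP (zpowers_le.mpr hu)) ?_
    have := two_mul_card_le (hP.to_le (sup_le hAP (zpowers_le.mpr hu))) (le_sup_left : A ≤ A ⊔ zpowers u)
      fun h => huA (h (mem_sup_right (mem_zpowers u)))
    omega
  set C := A ⊓ centralizer ({u} : Set G)
  have hCc : C ≤ Z := fun c hc => by
    rw [hZ]
    refine ⟨hAP hc.1, ?_⟩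
    have : P ≤ centralizer ({c} : Set G) := by
      rw [← hgen]
      exact sup_le (fun a ha => mem_cent_iff'.mpr (hAc c hc.1 a ha))
        (zpowers_le.mpr (mem_cent_iff'.mpr (mem_cent_iff'.mp hc.2).symm))
    exact mem_centralizer_iff.mpr fun b hb => (mem_cent_iff'.mp (this hb)).eq.symm
  by_cases hAu : A ≤ centralizer ({u} : Set G)
  · have := card_le_of_le ((le_inf le_rfl hAu).trans hCc)
    omega
  obtain ⟨a0, ha0, ha0u⟩ := SetLike.not_le_iff_exists.mp hAu
  have hne : ∀ a ∈ A, a ∉ centralizer ({u} : Set G) → ∀ z ∈ Z, z ≠ 1 → a * u * a⁻¹ = z * u := by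
    intro a ha hau z hz hz1
    have h1 : a * u * a⁻¹ * u⁻¹ ∈ Z := by
      rw [← commutatorElement_def]; exact hcomm (commutator_mem_commutator (hAP ha) hu)
    have h2 : a * u * a⁻¹ * u⁻¹ ≠ 1 := fun h =>
      hau (mem_cent_iff'.mpr (mul_inv_eq_iff_eq_mul.mp (mul_inv_eq_one.mp h)).symm)
    refine mul_inv_eq_iff_eq_mul.mp ?_
    obtain ⟨w, hw1, hw⟩ := (Nat.card_eq_two_iff' (1 : ↥Z)).mp hZ2
    exact congrArg Subtype.val ((hw ⟨_, h1⟩ fun e => h2 (congrArg Subtype.val e)).trans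
      (hw ⟨z, hz⟩ fun e => hz1 (congrArg Subtype.val e)).symm)
  let φ : Fin 2 × C → A := fun ic => ⟨a0 ^ (ic.1 : ℕ) * ic.2, mul_mem (pow_mem ha0 _) ic.2.2.1⟩
  have hφ : Function.Surjective φ := by
    rintro ⟨a, ha⟩
    by_cases hau : a ∈ centralizer ({u} : Set G)
    · exact ⟨(0, ⟨a, ha, hau⟩), Subtype.ext (by simp [φ])⟩
    refine ⟨(1, ⟨a0⁻¹ * a, Subgroup.mem_inf.mpr ⟨mul_mem (inv_mem ha0) ha,
      mem_cent_iff'.mpr ?_⟩⟩), Subtype.ext (by simp [φ])⟩
    obtain ⟨z, hz, hz1⟩ : ∃ z ∈ Z, z ≠ 1 := by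
      by_contra hno
      push Not at hno
      rw [show Z = ⊥ from (eq_bot_iff_forall Z).mpr hno, Subgroup.card_bot] at hZ2
      omega
    refine (mul_inv_eq_iff_eq_mul.mp ?_ : Commute (a0⁻¹ * a) u).symm
    rw [show a0⁻¹ * a * u * (a0⁻¹ * a)⁻¹ = a0⁻¹ * (a * u * a⁻¹) * a0 by group, hne a ha hau z hz hz1,
      ← hne a0 ha0 ha0u z hz hz1]
    group
  have h := Nat.card_le_card_of_surjective φ hφ
  rw [Nat.card_prod, Nat.card_fin, hA] at h
  have := card_le_of_le hCc
  omega

/-- The quaternion factorization when `⁅P, R⁆` is proper. -/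
theorem structure_of_commutator_ne {P R : Subgroup G} (hP : IsPGroup 2 P) (hR : Odd (Nat.card R))
    (hRP : R ≤ normalizer (P : Set G))
    (hsmall : ∀ V ≤ P, R ≤ normalizer (V : Set G) → V ≠ P → ¬ Bad V)
    (hne : ¬ R ≤ centralizer (P : Set G)) (hnab : ¬ ∀ a ∈ P, ∀ b ∈ P, Commute a b)
    (hYP : ⁅P, R⁆ ≠ P) :
    ∃ (X₀ : Subgroup G) (k : ℕ), X₀ ≤ P ∧ X₀.relIndex P = 2 ∧
      Nonempty (↥X₀ ≃* QuaternionGroup (2 ^ (k + 1))) ∧ X₀ ⊔ (P ⊓ centralizer (X₀ : Set G)) = P := by
  classical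
  haveI : Fact (Nat.Prime 2) := ⟨Nat.prime_two⟩
  have hcop := coprime_card hP hR
  have hsolv : Group.IsSolvable ↥R ∨ Group.IsSolvable ↥P := Or.inl inferInstance
  set Y := ⁅P, R⁆ with hY
  have hYP' : Y ≤ P := Coprime.commutator_le_of_le_normalizer hRP
  have hYp : IsPGroup 2 Y := hP.to_le hYP'
  have hRY : R ≤ normalizer (Y : Set G) := normalizer_commutator_ge_right P R
  have hPY : P ≤ normalizer (Y : Set G) := normalizer_commutator_ge_left P R
  have hYR : ⁅Y, R⁆ = Y := Coprime.commutator_commutator_eq hRP hcop hsolv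
  have hYne : ¬ R ≤ centralizer (Y : Set G) := fun h => by
    refine hne (Coprime.le_centralizer_of_commutator_commutator_eq_bot hRP hcop hsolv ?_)
    exact Coprime.commutator_eq_bot_iff_le_centralizer'.mpr h
  have hcopY := coprime_card hYp hR
  set C := P ⊓ centralizer (R : Set G) with hCdef
  have hPC : Y ⊔ C = P := Coprime.commutator_sup_inf_centralizer hRP hcop hsolv
  have hCY : C ≤ normalizer (Y : Set G) := inf_le_left.trans hPY
  have hRC : R ≤ centralizer (C : Set G) := le_centralizer_iff.mp inf_le_right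
  have hRCn : R ≤ normalizer (C : Set G) := hRC.trans (centralizer_le_normalizer _)
  have hsY : ¬ Bad Y := hsmall Y hYP' hRY hYP
  have hS := shape_of_moved hYp hsY hR hRY hYne
  have hCne : ¬ C ≤ Y := fun h => hYP (le_antisymm hYP' (hPC.ge.trans (sup_le le_rfl h)))
  rcases hS.cases with ⟨h4, hexp, hYab⟩ | ⟨z, hQ⟩
  · exfalso
    have hY'bot : ⁅Y, Y⁆ = ⊥ := commutator_eq_bot_iff_le_centralizer.mpr fun a ha =>
      mem_centralizer_iff.mpr fun b hb => (hYab b hb a ha).eq
    have htriv := trivial_mod (Φ₀ := ⊥) hYp (hP.to_le (inf_le_left : C ≤ P)) hCY hRCn hRY hcopY hYR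
      bot_le hY'bot.le
      (le_top.trans (Eq.ge (show normalizer ((⊥ : Subgroup G) : Set G) = ⊤ from normalizer_eq_top_iff.mpr inferInstance)))
      bot_le (fun h => by rw [le_bot_iff.mp h, Subgroup.card_bot] at h4; omega) hS.min
    have hdisj : ∀ y, y ∈ Y → y ∈ C → y = 1 := fun y hy hyC => by
      refine Subgroup.mem_bot.mp (hY'bot.le (mem_commutator_of_fixed hRY hcopY hYR hy fun r hr => ?_))
      rw [(mem_centralizer_iff.mp (hRC hr) y hyC).symm, mul_inv_cancel_right, mul_inv_cancel]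
      exact one_mem _
    obtain ⟨w, hw⟩ := exists_prime_orderOf_dvd_card' (G := ↥C) 2 (by
      obtain ⟨k, hk⟩ := IsPGroup.iff_card.1 (hP.to_le (inf_le_left : C ≤ P))
      rcases k with _ | k
      · rw [pow_zero, card_eq_one] at hk
        exact absurd (hk.le.trans bot_le) hCne
      · rw [hk]; exact dvd_pow_self 2 k.succ_ne_zero)
    have hwo : orderOf (w : G) = 2 := by rw [orderOf_coe, hw]
    have hwY : (w : G) ∉ Y := fun h => by
      rw [hdisj _ h w.2, orderOf_one] at hwo; omega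
    have hwc : ∀ y ∈ Y, Commute (w : G) y := fun y hy =>
      mul_inv_eq_iff_eq_mul.mp (mul_inv_eq_one.mp (Subgroup.mem_bot.mp (htriv w w.2 y hy)))
    set E := Y ⊔ zpowers (w : G) with hEdef
    have hEP : E ≤ P := sup_le hYP' (zpowers_le.mpr w.2.1)
    have hEc : ∀ a ∈ E, ∀ b ∈ E, Commute a b := by
      refine commute_sup hYab ?_ ?_
      · rintro _ ⟨i, rfl⟩ _ ⟨j, rfl⟩; exact (Commute.refl (w : G)).zpow_zpow i j
      · rintro a ha _ ⟨j, rfl⟩; exact ((hwc a ha).zpow_left j).symm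
    have hEbad : Bad E := by
      obtain ⟨y, hy, hy1⟩ : ∃ y ∈ Y, y ≠ 1 := by
        by_contra hno
        push Not at hno
        rw [show Y = ⊥ from (eq_bot_iff_forall Y).mpr hno, Subgroup.card_bot] at h4
        omega
      refine bad_of_two_involutions (hP.to_le hEP) le_rfl hEc (mem_sup_left hy)
        (mem_sup_right (mem_zpowers _)) (orderOf_eq_prime (by rw [sq]; exact hexp y hy) hy1) hwo
        (fun h => hwY (h ▸ hy)) ?_
      have := two_mul_card_le (hP.to_le hEP) (le_sup_left : Y ≤ E)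
        fun h => hwY (h (mem_sup_right (mem_zpowers _)))
      omega
    have hRE : R ≤ normalizer (E : Set G) := by
      refine (le_inf hRY ?_).trans (JComp.normalizer_inf_le_normalizer_sup _ _)
      refine le_trans ?_ (centralizer_le_normalizer _)
      exact le_centralizer_iff.mpr (zpowers_le.mpr w.2.2)
    have hEeq : E = P := by_contra fun h => hsmall E hEP hRE h hEbad
    exact hnab (hEeq ▸ hEc)
  -- the quaternion case
  have hzR : R ≤ centralizer ((zpowers z : Subgroup G) : Set G) := by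
    refine hS.min _ (zpowers_le.mpr hQ.z_mem) ?_ fun h => by
      have := hQ.card_zpowers_z
      rw [h, hQ.1] at this
      omega
    rw [← hQ.2.2.2.2.1]
    exact (le_inf hRY hRY).trans (JComp.normalizer_inf_le_normalizer_commutator _ _)
  have hZn : ∀ g ∈ normalizer (Y : Set G), g ∈ normalizer ((zpowers z : Subgroup G) : Set G) := fun g hg => by
    rw [← hQ.2.2.2.2.1]
    exact JComp.normalizer_inf_le_normalizer_commutator _ _ ⟨hg, hg⟩
  have htriv := trivial_mod (Φ₀ := zpowers z) hYp (hP.to_le (inf_le_left : C ≤ P)) hCY hRCn hRY hcopY hYR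
    (zpowers_le.mpr hQ.z_mem) hQ.2.2.2.2.1.le
    (fun g hg => hZn g (sup_le (sup_le le_normalizer hCY) hRY hg)) hQ.2.2.2.2.1.ge
    (fun h => by obtain ⟨u, hu, huz⟩ := hQ.exists_notMem_z; exact huz (h hu)) hS.min
  have hYC : C ≤ centralizer (Y : Set G) := by
    rw [← Coprime.commutator_eq_bot_iff_le_centralizer']
    have h1 : ⁅⁅R, C⁆, Y⁆ = ⊥ := by
      rw [Subgroup.commutator_comm R C, Coprime.commutator_eq_bot_iff_le_centralizer'.mpr hRC, commutator_bot_left]
    have h2 : ⁅⁅C, Y⁆, R⁆ = ⊥ := by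
      refine le_bot_iff.mp ((commutator_mono (commutator_le.mpr fun c hc y hy => ?_) le_rfl).trans
        (Coprime.commutator_eq_bot_iff_le_centralizer'.mpr hzR).le)
      rw [commutatorElement_def]
      exact htriv c hc y hy
    have h3 : ⁅⁅Y, R⁆, C⁆ = ⊥ := commutator_commutator_eq_bot_of_rotate h1 h2
    rwa [hYR] at h3
  obtain ⟨c0, hc0, hc0Y⟩ := SetLike.not_le_iff_exists.mp hCne
  have hex : ∃ k, c0 ^ 2 ^ k ∈ Y := by
    obtain ⟨k, hk⟩ := exists_orderOf_two_pow hP hc0.1
    exact ⟨k, by rw [← hk, pow_orderOf_eq_one]; exact one_mem Y⟩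
  obtain ⟨k, hk⟩ : ∃ k, Nat.find hex = k + 1 := Nat.exists_eq_succ_of_ne_zero fun h0 => hc0Y (by
    have := Nat.find_spec hex; rwa [h0, pow_zero, pow_one] at this)
  set c := c0 ^ 2 ^ k with hcdef
  have hcC : c ∈ C := pow_mem hc0 _
  have hcY : c ∉ Y := Nat.find_min hex (by omega)
  have hccY : c * c ∈ Y := by
    have := Nat.find_spec hex
    rw [hk, pow_succ, pow_mul, sq] at this
    exact this
  have hccz : c * c ∈ zpowers z := by
    by_contra hn
    obtain ⟨v, hv, hvc⟩ := hQ.exists_notMem_zpowers hccY hn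
    refine hQ.not_commutative ?_
    rw [← hQ.sup_eq hYp hccY hn hv hvc]
    exact commute_of_zpowers (mem_centralizer_iff.mp (hYC (mul_mem hcC hcC)) v hv).symm
  set H := Y ⊔ zpowers c with hHdef
  have hHP : H ≤ P := sup_le hYP' (zpowers_le.mpr hcC.1)
  have hRH : R ≤ normalizer (H : Set G) := by
    refine (le_inf hRY ?_).trans (JComp.normalizer_inf_le_normalizer_sup _ _)
    exact le_trans (le_centralizer_iff.mpr (zpowers_le.mpr hcC.2)) (centralizer_le_normalizer _)
  have hHeq : H = P := by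
    by_contra h
    have hsH := hsmall H hHP hRH h
    obtain ⟨u, hu, huz⟩ := hQ.exists_notMem_z
    set B := zpowers u ⊔ zpowers c
    have hBH : B ≤ H := sup_le (zpowers_le.mpr (mem_sup_left hu)) (zpowers_le.mpr (mem_sup_right (mem_zpowers c)))
    have hBP : B ≤ P := hBH.trans hHP
    have hcu : Commute u c := mem_centralizer_iff.mp (hYC hcC) u hu
    have hBc := commute_of_zpowers hcu
    have hcu' : c ∉ zpowers u := fun h => hcY (zpowers_le.mpr hu h)
    have h8 : 8 ≤ Nat.card B := by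
      have := two_mul_card_le (hP.to_le hBP) (le_sup_left : zpowers u ≤ B)
        fun h => hcu' (h (mem_sup_right (mem_zpowers c)))
      rw [Nat.card_zpowers, hQ.orderOf_eq_four hu huz] at this
      omega
    rcases cyclic_or_four (hP.to_le hBP) hBH hBc hsH with hcy | ⟨-, hexp⟩
    · obtain ⟨g, hg⟩ := IsCyclic.exists_ofOrder_eq_natCard (α := ↥B)
      have hu4 : u ^ 4 = 1 := by rw [← hQ.orderOf_eq_four hu huz, pow_orderOf_eq_one]
      have hc4 : c ^ 4 = 1 := by
        rw [show (4 : ℕ) = 2 * 2 from rfl, pow_mul, sq c]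
        rcases hQ.mem_zpowers_z hccz with e | e <;> rw [e]
        · exact one_pow 2
        · rw [sq]; exact hQ.z_sq
      have hgB := g.2
      have hn : zpowers c ≤ normalizer ((zpowers u : Subgroup G) : Set G) :=
        le_trans (zpowers_le.mpr (by rw [Link.centralizer_zpowers]; exact mem_cent_iff'.mpr hcu))
          (centralizer_le_normalizer _)
      rw [← SetLike.mem_coe, coe_mul_of_right_le_normalizer_left _ _ hn] at hgB
      obtain ⟨a, ⟨i, hi⟩, b, ⟨j, hj⟩, hab⟩ := hgB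
      have hg4 : (g : G) ^ 4 = 1 := by
        have hp : ∀ (x : G) (m : ℤ), x ^ 4 = 1 → (x ^ m) ^ 4 = 1 := fun x m hx => by
          rw [← zpow_natCast, zpow_comm, zpow_natCast, hx, one_zpow]
        rw [← hab, ← hi, ← hj]
        show (u ^ i * c ^ j) ^ 4 = 1
        rw [(hcu.zpow_zpow i j).mul_pow, hp u i hu4, hp c j hc4, one_mul]
      have := orderOf_dvd_of_pow_eq_one hg4
      rw [orderOf_coe, hg] at this
      have := Nat.le_of_dvd (by norm_num) this
      omega
    · have := hexp u (mem_sup_left (mem_zpowers u))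
      rw [hQ.2.2.2.2.2 u hu huz] at this
      exact hQ.z_ne this
  have huniq : ∀ H L : Subgroup ↥Y, Nat.card H = 2 → Nat.card L = 2 → H = L := by
    have key : ∀ H : Subgroup ↥Y, Nat.card H = 2 → H = zpowers (⟨z, hQ.z_mem⟩ : ↥Y) := by
      intro H hH
      obtain ⟨a, ha⟩ := exists_prime_orderOf_dvd_card' (G := H) 2 (hH ▸ dvd_rfl)
      have haz : ((a : ↥Y) : G) = z := by
        refine (hQ.mem_zpowers_z ?_).resolve_left fun h => ?_
        · by_contra hn
          have := hQ.orderOf_eq_four (a : ↥Y).2 hn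
          rw [orderOf_coe, orderOf_coe, ha] at this
          omega
        · have := ha; rw [← orderOf_coe, ← orderOf_coe, h, orderOf_one] at this
          omega
      rw [show (⟨z, hQ.z_mem⟩ : ↥Y) = a from Subtype.ext haz.symm]
      exact (eq_of_le_of_card_ge (zpowers_le.mpr a.2)
        (by rw [Nat.card_zpowers, orderOf_coe, ha, hH])).symm
    intro H L hH hL
    rw [key H hH, key L hL]
  obtain ⟨n, ⟨e⟩⟩ : ∃ n : ℕ, Nonempty (↥Y ≃* QuaternionGroup (2 ^ n)) := by
    rcases PGroups.UniqueSubgroup.isCyclic_or_quaternion hYp huniq with h | ⟨-, h⟩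
    · exact absurd (fun a ha b hb => congrArg Subtype.val
        (h.commGroup.mul_comm (⟨a, ha⟩ : ↥Y) ⟨b, hb⟩)) hQ.not_commutative
    · exact h
  have hn1 : n = 1 := by
    have h1 := Nat.card_congr e.toEquiv
    rw [hQ.1, Nat.card_eq_fintype_card, QuaternionGroup.card] at h1
    have h2 : 2 ^ n = 2 ^ 1 := by omega
    exact Nat.pow_right_injective le_rfl h2
  subst hn1
  refine ⟨Y, 0, hYP', ?_, ⟨e⟩, ?_⟩
  · rw [relIndex, index_eq_two_iff]
    refine ⟨⟨c, hcC.1⟩, fun b => ?_⟩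
    have hbH : (b : G) ∈ H := hHeq.ge b.2
    rw [← SetLike.mem_coe, hHdef,
      coe_mul_of_right_le_normalizer_left _ _ (zpowers_le.mpr (hCY hcC))] at hbH
    obtain ⟨y, hy, d, ⟨i, hi⟩, hyd⟩ := hbH
    rw [mem_subgroupOf, mem_subgroupOf, coe_mul, ← hyd, ← hi]
    show Xor (y * c ^ i * c ∈ Y) (y * c ^ i ∈ Y)
    have hcm : ∀ m : ℤ, c ^ (2 * m) ∈ Y := fun m => by
      rw [zpow_mul, zpow_two]; exact zpow_mem hccY m
    rcases Int.even_or_odd i with ⟨m, rfl⟩ | ⟨m, rfl⟩
    · rw [← two_mul]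
      refine Or.inr ⟨mul_mem hy (hcm m), fun h => hcY ?_⟩
      have := mul_mem (inv_mem (mul_mem hy (hcm m))) h
      rwa [inv_mul_cancel_left] at this
    · refine Or.inl ⟨?_, fun h => hcY ?_⟩
      · rw [mul_assoc, ← zpow_add_one, show 2 * m + 1 + 1 = 2 * (m + 1) by ring]
        exact mul_mem hy (hcm _)
      · rw [zpow_add_one, ← mul_assoc] at h
        have := mul_mem (inv_mem (mul_mem hy (hcm m))) h
        rwa [inv_mul_cancel_left] at this
  · refine le_antisymm (sup_le hYP' inf_le_left) ?_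
    calc P = Y ⊔ C := hPC.symm
      _ ≤ Y ⊔ (P ⊓ centralizer (Y : Set G)) := sup_le_sup_left (le_inf inf_le_left hYC) _

/-- The special group when `⁅P, R⁆ = P`. -/
theorem structure_of_commutator_eq {P R : Subgroup G} (hP : IsPGroup 2 P) (hR : Odd (Nat.card R))
    (hRP : R ≤ normalizer (P : Set G)) (hbad : Bad P)
    (hsmall : ∀ V ≤ P, R ≤ normalizer (V : Set G) → V ≠ P → ¬ Bad V)
    (hne : ¬ R ≤ centralizer (P : Set G)) (hnab : ¬ ∀ a ∈ P, ∀ b ∈ P, Commute a b)
    (hPR : ⁅P, R⁆ = P) :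
    (Cfsg.IsExtraspecial 2 ↥P ∧ 32 ≤ Nat.card P) ∨
      (Cfsg.IsSpecial 2 ↥P ∧ Nat.card (Subgroup.center ↥P) = 4) := by
  haveI : Fact (Nat.Prime 2) := ⟨Nat.prime_two⟩
  have hcop := coprime_card hP hR
  set Φ := (frattini ↥P).map P.subtype with hΦdef
  have hΦP : Φ ≤ P := map_subtype_le _
  have hΦp : IsPGroup 2 Φ := hP.to_le hΦP
  have hnorm : normalizer (P : Set G) ≤ normalizer (Φ : Set G) :=
    CharP.le_normalizer_resOf.normalizer_le_normalizer_map_subtype P (frattini ↥P)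
  have hΦne : Φ ≠ P := fun h => by
    have h2 : frattini ↥P = ⊤ := Subgroup.map_injective P.subtype_injective (by
      rw [← MonoidHom.range_eq_map, range_subtype]; exact h)
    have h3 : (⊥ : Subgroup ↥P) = ⊤ := frattini_nongenerating (by rw [h2, sup_top_eq])
    refine hnab fun a ha b hb => ?_
    have : (⟨a, ha⟩ : ↥P) ∈ (⊥ : Subgroup ↥P) := h3 ▸ mem_top _
    rw [Subgroup.mem_bot] at this
    rw [show a = 1 from congrArg Subtype.val this]
    exact Commute.one_left b
  have hRΦ : R ≤ normalizer (Φ : Set G) := hRP.trans hnorm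
  have hsΦ : ¬ Bad Φ := hsmall Φ hΦP hRΦ hΦne
  have hP'Φ : ⁅P, P⁆ ≤ Φ := commutator_le_frattini hP
  have hPΦ : P ≤ normalizer (Φ : Set G) := le_normalizer.trans hnorm
  have hcopΦ := coprime_card hΦp hR
  -- the Frattini subgroup is central
  have hΦZ : Φ ≤ centralizer (P : Set G) := by
    by_cases hRc : R ≤ centralizer (Φ : Set G)
    · rw [← commutator_eq_bot_iff_le_centralizer, Subgroup.commutator_comm]
      have hn : ⁅P, Φ⁆ ≤ Φ := by
        rw [Subgroup.commutator_comm]; exact le_normalizer_iff_commutator_le_left.mp hPΦ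
      have h1 : ⁅⁅Φ, R⁆, P⁆ = ⊥ := by
        rw [Coprime.commutator_eq_bot_iff_le_centralizer'.mpr hRc, commutator_bot_left]
      have h2 : ⁅⁅P, Φ⁆, R⁆ = ⊥ := le_bot_iff.mp ((commutator_mono hn le_rfl).trans
        (Coprime.commutator_eq_bot_iff_le_centralizer'.mpr hRc).le)
      have h3 : ⁅⁅R, P⁆, Φ⁆ = ⊥ := commutator_commutator_eq_bot_of_rotate h2 h1
      rwa [Subgroup.commutator_comm R P, hPR] at h3
    · have hS := shape_of_moved hΦp hsΦ hR hRΦ hRc
      rcases hS.cases with ⟨h4, -, hΦab⟩ | ⟨z, hQ⟩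
      · have hbot : ⁅Φ, Φ⁆ = ⊥ := commutator_eq_bot_iff_le_centralizer.mpr fun a ha =>
          mem_centralizer_iff.mpr fun b hb => (hΦab b hb a ha).eq
        have htriv := trivial_mod (Φ₀ := ⊥) hΦp hP hPΦ hRP hRΦ hcopΦ hS.comm bot_le hbot.le
          (le_top.trans (Eq.ge (show normalizer ((⊥ : Subgroup G) : Set G) = ⊤ from normalizer_eq_top_iff.mpr inferInstance)))
          bot_le (fun h => by rw [le_bot_iff.mp h, Subgroup.card_bot] at h4; omega) hS.min
        exact fun f hf => mem_centralizer_iff.mpr fun n hn =>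
          mul_inv_eq_iff_eq_mul.mp (mul_inv_eq_one.mp (Subgroup.mem_bot.mp (htriv n hn f hf)))
      · exfalso
        have hzn : normalizer (Φ : Set G) ≤ normalizer ((zpowers z : Subgroup G) : Set G) := by
          rw [← hQ.2.2.2.2.1]; exact (le_inf le_rfl le_rfl).trans (JComp.normalizer_inf_le_normalizer_commutator _ _)
        have htriv := trivial_mod (Φ₀ := zpowers z) hΦp hP hPΦ hRP hRΦ hcopΦ hS.comm
          (zpowers_le.mpr hQ.z_mem) hQ.2.2.2.2.1.le
          ((sup_le (sup_le le_normalizer hPΦ) hRΦ).trans hzn) hQ.2.2.2.2.1.ge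
          (fun h => by obtain ⟨u, hu, huz⟩ := hQ.exists_notMem_z; exact huz (h hu)) hS.min
        obtain ⟨u, hu, huz⟩ := hQ.exists_notMem_z
        obtain ⟨v, hv, hvu⟩ := hQ.exists_notMem_zpowers hu huz
        have htop : (centralizer (Φ : Set G)).subgroupOf P ⊔ frattini ↥P = ⊤ := by
          rw [eq_top_iff]
          rintro ⟨n, hn⟩ -
          obtain ⟨m, hm, hmn⟩ := hQ.correct hΦp hu huz hv hvu (htriv n hn u hu) (htriv n hn v hv)
          obtain ⟨m', hm', hmm⟩ := hm
          have : (⟨n, hn⟩ : ↥P) = m'⁻¹ * (m' * ⟨n, hn⟩) := by group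
          rw [this]
          refine mul_mem (mem_sup_right (inv_mem hm')) (mem_sup_left ?_)
          show (m' : G) * n ∈ centralizer (Φ : Set G)
          rw [show (m' : G) = m from hmm]; exact hmn
        have h3 := frattini_nongenerating htop
        refine hQ.not_commutative fun a ha b hb => ?_
        have : (⟨a, hΦP ha⟩ : ↥P) ∈ (centralizer (Φ : Set G)).subgroupOf P := h3 ▸ mem_top _
        exact (mem_centralizer_iff.mp this b hb).symm
  set Z := P ⊓ centralizer (P : Set G) with hZdef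
  have hZP : Z ≤ P := inf_le_left
  have hZp : IsPGroup 2 Z := hP.to_le hZP
  have hRZ : R ≤ normalizer (Z : Set G) :=
    (le_inf hRP (hRP.trans (JComp.normalizer_le_normalizer_centralizer' _))).trans
      inf_normalizer_le_normalizer_inf
  have hΦleZ : Φ ≤ Z := le_inf hΦP hΦZ
  have hZne : Z ≠ P := fun h => hnab fun a ha b hb =>
    (mem_centralizer_iff.mp (h.ge ha).2 b hb).symm
  have hsZ : ¬ Bad Z := hsmall Z hZP hRZ hZne
  have hZc : ∀ a ∈ Z, ∀ b ∈ Z, Commute a b := fun a ha b hb => (mem_centralizer_iff.mp ha.2 b hb.1).symm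
  -- the derived subgroup
  set D := ⁅P, P⁆ with hD
  have hDΦ : D ≤ Φ := hP'Φ
  have hRD : R ≤ normalizer (D : Set G) := (le_inf hRP hRP).trans (JComp.normalizer_inf_le_normalizer_commutator _ _)
  have hD1 : D ≠ ⊥ := fun h => hnab fun a ha b hb =>
    commutatorElement_eq_one_iff_commute.mp (Subgroup.mem_bot.mp (h.le (commutator_mem_commutator ha hb)))
  have hDexp : ∀ d ∈ D, d * d = 1 := by
    let Ω : Subgroup G :=
      { carrier := {x | x ∈ Z ∧ x * x = 1}
        one_mem' := ⟨one_mem Z, one_mul 1⟩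
        mul_mem' := by
          rintro a b ⟨ha, ha'⟩ ⟨hb, hb'⟩
          refine ⟨mul_mem ha hb, ?_⟩
          rw [(hZc b hb a ha).mul_mul_mul_comm, ha', hb', one_mul]
        inv_mem' := by
          rintro a ⟨ha, ha'⟩
          refine ⟨inv_mem ha, ?_⟩
          rw [← mul_inv_rev, ha', inv_one] }
    have : D ≤ Ω := commutator_le.mpr fun x hx y hy => by
      have hm := hΦleZ (hP'Φ (commutator_mem_commutator hx hy))
      exact ⟨hm, commutatorElement_sq_eq_one hx hy
        (fun w hw => (mem_centralizer_iff.mp hm.2 w hw).symm)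
        (mem_centralizer_iff.mp (hΦleZ (sq_mem_frattini hP hx)).2 y hy).symm⟩
    exact fun d hd => (this hd).2
  -- elements fixed by `R`
  have hfixD : ∀ V ≤ P, R ≤ centralizer (V : Set G) → V ≤ D := fun V hV hc f hf =>
    mem_commutator_of_fixed hRP hcop hPR (hV hf) fun r hr => by
      rw [(mem_centralizer_iff.mp (hc hr) f hf).symm, mul_inv_cancel_right, mul_inv_cancel]
      exact one_mem _
  obtain ⟨hΦD, hZΦ⟩ : Φ = D ∧ Z = Φ := by
    by_cases hRc : R ≤ centralizer (Φ : Set G)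
    · have e : Φ = D := le_antisymm (hfixD Φ hΦP hRc) hDΦ
      refine ⟨e, ?_⟩
      by_cases hRcZ : R ≤ centralizer (Z : Set G)
      · exact le_antisymm ((hfixD Z hZP hRcZ).trans e.ge) hΦleZ
      exfalso
      have hS := shape_of_moved hZp hsZ hR hRZ hRcZ
      rcases hS.cases with ⟨-, -, hab⟩ | ⟨z, hQ⟩
      · have hbot : ⁅Z, Z⁆ = ⊥ := commutator_eq_bot_iff_le_centralizer.mpr fun a ha =>
          mem_centralizer_iff.mpr fun b hb => (hab b hb a ha).eq
        refine hD1 (le_bot_iff.mp fun d hd => hbot.le (mem_commutator_of_fixed hRZ (coprime_card hZp hR)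
          hS.comm (hΦleZ (hDΦ hd)) fun r hr => ?_))
        rw [(mem_centralizer_iff.mp (hRc hr) d (hDΦ hd)).symm, mul_inv_cancel_right, mul_inv_cancel]
        exact one_mem _
      · exact hQ.not_commutative hZc
    · have hS := shape_of_moved hΦp hsΦ hR hRΦ hRc
      rcases hS.cases with ⟨h4, hexp, hab⟩ | ⟨z, hQ⟩
      swap
      · exact absurd (fun a ha b hb => hZc a (hΦleZ ha) b (hΦleZ hb)) hQ.not_commutative
      have e : Φ = D := by
        by_contra hDne
        have hbot : ⁅Φ, Φ⁆ = ⊥ := commutator_eq_bot_iff_le_centralizer.mpr fun a ha =>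
          mem_centralizer_iff.mpr fun b hb => (hab b hb a ha).eq
        have hc := hS.min D hDΦ hRD (Ne.symm hDne)
        refine hD1 (le_bot_iff.mp fun d hd => hbot.le (mem_commutator_of_fixed hRΦ hcopΦ
          hS.comm (hDΦ hd) fun r hr => ?_))
        rw [(mem_centralizer_iff.mp (hc hr) d hd).symm, mul_inv_cancel_right, mul_inv_cancel]
        exact one_mem _
      refine ⟨e, (eq_of_le_of_card_ge hΦleZ ?_).symm⟩
      rcases cyclic_or_four hZp le_rfl hZc hsZ with hcy | ⟨hZ4, -⟩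
      · haveI := hcy
        haveI : IsCyclic ↥(Φ.subgroupOf Z) := inferInstance
        haveI : IsCyclic ↥Φ := isCyclic_of_surjective _ (subgroupOfEquivOfLe hΦleZ).surjective
        exact absurd (centralizes_of_cyclic hΦp hR hRΦ) hRc
      · omega
  have hZeq : Z = D := hZΦ.trans hΦD
  have hspec : Cfsg.IsSpecial 2 ↥P := by
    refine ⟨hP, Subgroup.map_injective P.subtype_injective ?_, Subgroup.map_injective P.subtype_injective ?_⟩
    · rw [center_map_eq, ← hZdef, hZΦ]
    · rw [center_map_eq, ← hZdef, hZeq, Subgroup.map_subtype_commutator]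
  have hcard : Nat.card (Subgroup.center ↥P) = Nat.card Z := by
    rw [hZdef, ← center_map_eq, card_subtype]
  have hDexp' : ∀ z ∈ Z, z * z = 1 := fun z hz => hDexp z (hZeq.le hz)
  rcases cyclic_or_four hZp le_rfl hZc hsZ with hcy | ⟨hZ4, -⟩
  · obtain ⟨g, hg⟩ := IsCyclic.exists_ofOrder_eq_natCard (α := ↥Z)
    have hg2 : orderOf g ∣ 2 := orderOf_dvd_of_pow_eq_one (by
      rw [sq]; exact Subtype.ext (hDexp' g g.2))
    have hZ2 : Nat.card Z = 2 := by
      rw [← hg]
      refine ((Nat.dvd_prime Nat.prime_two).mp hg2).resolve_left fun h => hD1 ?_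
      rw [hg, card_eq_one] at h
      rw [← hZeq]; exact h
    refine Or.inl ⟨⟨hspec, hcard.trans hZ2⟩, ?_⟩
    by_contra hlt
    obtain ⟨k, hk⟩ := IsPGroup.iff_card.1 hP
    have hle : Nat.card P ≤ 16 := by
      rw [hk] at hlt ⊢
      have hk5 : k < 5 := by
        by_contra h5
        exact hlt (le_trans (by norm_num) (Nat.pow_le_pow_right two_pos (not_lt.mp h5)))
      exact le_trans (Nat.pow_le_pow_right two_pos (show k ≤ 4 by omega)) (by norm_num)
    obtain ⟨A, hAP, hAc', -, hA8⟩ := hbad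
    exact false_of_card_le hP hAP (fun a ha b hb =>
      congrArg Subtype.val (hAc'.is_comm.comm (⟨a, ha⟩ : A) ⟨b, hb⟩)) hA8 hle hnab hZdef hZ2 hZeq.ge
  · exact Or.inr ⟨hspec, hcard.trans hZ4⟩

/-- The theorem. -/
theorem sylow_structure {G : Type u} [Group G] [Finite G] [Group.IsSolvable G]
    (hO : Cfsg.pPrimeCore 2 G = ⊥) (h8 : Bad (⊤ : Subgroup G))
    (hmin : ∀ R : Subgroup G, R ≠ ⊤ → (∃ k : ℕ, R.index = 2 ^ k) → ¬ Bad R) (X : Sylow 2 G) :
    (X : Subgroup G).Normal ∧
      (IsMulCommutative ↥X ∨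
        (Cfsg.IsExtraspecial 2 ↥X ∧ 32 ≤ Nat.card ↥X) ∨
        (∃ (X₀ : Subgroup G) (k : ℕ), X₀ ≤ (X : Subgroup G) ∧ X₀.relIndex (X : Subgroup G) = 2 ∧
          Nonempty (↥X₀ ≃* QuaternionGroup (2 ^ (k + 1))) ∧
            X₀ ⊔ ((X : Subgroup G) ⊓ Subgroup.centralizer (X₀ : Set G)) = (X : Subgroup G)) ∨
        (Cfsg.IsSpecial 2 ↥X ∧ Nat.card ↥(Subgroup.center ↥X) = 4)) := by
  haveI : Fact (Nat.Prime 2) := ⟨Nat.prime_two⟩
  set Q := Cfsg.pCore 2 G with hQdef
  have hQp : IsPGroup 2 Q := PLocal.Cores.isPGroup_pCore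
  haveI hQn : Q.Normal := Subgroup.sSup_normal _ fun N hN => hN.1
  have hC : centralizer (Q : Set G) ≤ Q := PLocal.PSolvable.centralizer_pCore_le hO
    (PLocal.SolvableSeparable.isPSolvable_of_isSolvable 2 _)
  have hQbad : Bad Q := pCore_bad hO h8
  obtain ⟨R, hRπ, hRidx⟩ := Hall.exists_hall ({q | q ≠ 2} : Set ℕ) G
  have hRodd : Odd (Nat.card R) := Nat.not_even_iff_odd.mp fun he =>
    hRπ 2 Nat.prime_two he.two_dvd rfl
  obtain ⟨m, hm⟩ : ∃ m, R.index = 2 ^ m := by
    refine ⟨R.index.primeFactorsList.length,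
      (Nat.eq_prime_pow_of_unique_prime_dvd Subgroup.index_ne_zero_of_finite fun {d} hd hdd => ?_)⟩
    by_contra h
    exact hRidx d hd h hdd
  have hsup : ∀ V : Subgroup G, R ≤ normalizer (V : Set G) → V ⊔ R ≠ ⊤ → ¬ Bad V := fun V _ hne hb => by
    obtain ⟨j, -, hj⟩ := (Nat.dvd_prime_pow Nat.prime_two).mp
      (hm ▸ index_dvd_of_le (le_sup_right : R ≤ V ⊔ R))
    exact hmin _ hne ⟨j, hj⟩ (hb.mono le_sup_left)
  have hnQ : R ≤ normalizer (Q : Set G) := by rw [normalizer_eq_top_iff.mpr hQn]; exact le_top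
  have htop : Q ⊔ R = ⊤ := by_contra fun h => hsup Q hnQ h hQbad
  have hdisj : ∀ V : Subgroup G, IsPGroup 2 V → V ⊓ R = ⊥ := fun V hV =>
    inf_eq_bot_of_coprime ((coprime_card hV hRodd).symm)
  have hcardG : Nat.card G = Nat.card Q * Nat.card R := by
    have h := Hall.card_mul_inf Q R
    rw [hdisj Q hQp, Subgroup.card_bot, mul_one] at h
    rw [← h, ← coe_mul_of_right_le_normalizer_left Q R hnQ, htop]
    exact (Nat.card_univ (α := G)).symm
  have hXQ : (X : Subgroup G) = Q := by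
    refine (eq_of_le_of_card_ge (PLocal.Cores.pCore_le_sylow X) ?_).symm
    obtain ⟨j, hj⟩ := IsPGroup.iff_card.1 X.isPGroup'
    obtain ⟨i, hi⟩ := IsPGroup.iff_card.1 hQp
    rw [hj, hi]
    refine Nat.le_of_dvd (by positivity) ?_
    have h1 := card_subgroup_dvd_card (X : Subgroup G)
    rw [hj, hcardG, hi] at h1
    exact ((Nat.coprime_two_left.mpr hRodd).pow_left j).dvd_of_dvd_mul_right h1
  refine ⟨hXQ ▸ hQn, ?_⟩
  have hP : IsPGroup 2 (X : Subgroup G) := X.isPGroup'
  have hsmall : ∀ V ≤ Q, R ≤ normalizer (V : Set G) → V ≠ Q → ¬ Bad V := fun V hV hn hne => by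
    refine hsup V hn fun ht => hne (eq_of_le_of_card_ge hV ?_)
    have h := Hall.card_mul_inf V R
    rw [hdisj V (hQp.to_le hV), Subgroup.card_bot, mul_one] at h
    refine Nat.le_of_mul_le_mul_right ?_ (Nat.card_pos (α := R))
    rw [← hcardG, ← h, ← coe_mul_of_right_le_normalizer_left V R hn, ht]
    exact (Nat.card_univ (α := G)).ge
  by_cases hab : ∀ a ∈ Q, ∀ b ∈ Q, Commute a b
  · left
    rw [← hXQ] at hab
    exact ⟨⟨fun a b => Subtype.ext (hab a a.2 b b.2)⟩⟩
  right
  have hne : ¬ R ≤ centralizer (Q : Set G) := fun h => by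
    have hR1 : R = ⊥ := by
      rw [← hdisj Q hQp]
      exact le_antisymm (le_inf (h.trans hC) le_rfl) inf_le_right
    have hQtop : Q = ⊤ := by rwa [hR1, sup_bot_eq] at htop
    obtain ⟨A, hA, hAc, hAcyc, hA8⟩ := h8
    by_cases hAt : A = ⊤
    · exact hab fun a _ b _ => congrArg Subtype.val
        (hAc.is_comm.comm (⟨a, hAt ▸ mem_top a⟩ : A) ⟨b, hAt ▸ mem_top b⟩)
    · obtain ⟨j, -, hj⟩ := (Nat.dvd_prime_pow Nat.prime_two).mp
        (show A.index ∣ 2 ^ m by
          rw [← hm, hR1, index_bot]; exact index_dvd_card A)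
      exact hmin A hAt ⟨j, hj⟩ ⟨A, le_rfl, hAc, hAcyc, hA8⟩
  rw [← hXQ] at hab hne hnQ hQbad hsmall
  by_cases hPR : ⁅(X : Subgroup G), R⁆ = (X : Subgroup G)
  · rcases structure_of_commutator_eq hP hRodd hnQ hQbad hsmall hne hab hPR with h | h
    · exact Or.inl h
    · exact Or.inr (Or.inr h)
  · exact Or.inr (Or.inl (structure_of_commutator_ne hP hRodd hnQ hsmall hne hab hPR))

end Cfsg.Agent.Components.SmallTwo
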