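import Cfsg.Agent.Lib.Components.SmallTwo
import Cfsg.Agent.Lib.PLocal.PSolvable
import Cfsg.Agent.Lib.PLocal.SolvableSeparable
import Cfsg.Agent.Lib.Hall.Solvable

/-!
The quaternion group of order 8 as a self-centralizing or invariant subgroup.
-/

set_option autoImplicit false
set_option linter.all false

namespace Cfsg.Agent.Components.SmallTwo

open Subgroup
open scoped commutatorElement

universe u

variable {G : Type u} [Group G] [Finite G]

lemma commute_sup {A B : Subgroup G} (hA : ∀ a ∈ A, ∀ b ∈ A, Commute a b)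
    (hB : ∀ a ∈ B, ∀ b ∈ B, Commute a b) (hAB : ∀ a ∈ A, ∀ b ∈ B, Commute a b) :
    ∀ a ∈ A ⊔ B, ∀ b ∈ A ⊔ B, Commute a b := by
  have h1 : A ⊔ B ≤ centralizer ((A ⊔ B : Subgroup G) : Set G) := by
    refine sup_le (le_centralizer_iff.mpr (sup_le ?_ ?_)) (le_centralizer_iff.mpr (sup_le ?_ ?_))
    · exact fun a ha => mem_centralizer_iff.mpr fun b hb => (hA b hb a ha).eq
    · exact fun b hb => mem_centralizer_iff.mpr fun a ha => (hAB a ha b hb).eq
    · exact fun a ha => mem_centralizer_iff.mpr fun b hb => (hAB a ha b hb).eq.symm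
    · exact fun a ha => mem_centralizer_iff.mpr fun b hb => (hB b hb a ha).eq
  exact fun a ha b hb => (mem_centralizer_iff.mp (h1 ha) b hb).symm

lemma commute_of_zpowers {u c : G} (h : Commute u c) :
    ∀ a ∈ zpowers u ⊔ zpowers c, ∀ b ∈ zpowers u ⊔ zpowers c, Commute a b := by
  have hz : ∀ x : G, ∀ a ∈ zpowers x, ∀ b ∈ zpowers x, Commute a b := by
    rintro x _ ⟨i, rfl⟩ _ ⟨j, rfl⟩
    exact (Commute.refl x).zpow_zpow i j
  refine commute_sup (hz u) (hz c) ?_
  rintro _ ⟨i, rfl⟩ _ ⟨j, rfl⟩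
  exact h.zpow_zpow i j

namespace IsQ8

variable {P : Subgroup G} {z : G}

lemma z_mem (hQ : IsQ8 P z) : z ∈ P := hQ.2.1

lemma z_sq (hQ : IsQ8 P z) : z * z = 1 := by
  rw [← sq, ← hQ.2.2.1, pow_orderOf_eq_one]

lemma z_ne (hQ : IsQ8 P z) : z ≠ 1 := fun h => by
  have := hQ.2.2.1; rw [h, orderOf_one] at this; omega

lemma mem_zpowers_z (hQ : IsQ8 P z) {f : G} (hf : f ∈ zpowers z) : f = 1 ∨ f = z := by
  obtain ⟨i, hi, rfl⟩ := PairTools.exists_pow_eq hQ.2.2.1 hf
  interval_cases i <;> simp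

lemma card_zpowers_z (hQ : IsQ8 P z) : Nat.card (zpowers z) = 2 := by
  rw [Nat.card_zpowers, hQ.2.2.1]

lemma exists_notMem_z (hQ : IsQ8 P z) : ∃ u ∈ P, u ∉ zpowers z := by
  by_contra hno
  push Not at hno
  have := card_le_of_le (fun x hx => hno x hx : P ≤ zpowers z)
  rw [hQ.1, hQ.card_zpowers_z] at this
  omega

lemma orderOf_eq_four (hQ : IsQ8 P z) {u : G} (hu : u ∈ P) (huz : u ∉ zpowers z) : orderOf u = 4 := by
  haveI : Fact (Nat.Prime 2) := ⟨Nat.prime_two⟩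
  have huz' : u * u = z := hQ.2.2.2.2.2 u hu huz
  exact orderOf_eq_prime_pow (p := 2) (n := 1) (by simp [sq, huz', hQ.z_ne])
    (by rw [show 2 ^ (1 + 1) = 2 * 2 from rfl, pow_mul, sq u, huz', sq, hQ.z_sq])

lemma z_mem_zpowers (hQ : IsQ8 P z) {u : G} (hu : u ∈ P) (huz : u ∉ zpowers z) : z ∈ zpowers u := by
  rw [← hQ.2.2.2.2.2 u hu huz]
  exact mul_mem (mem_zpowers u) (mem_zpowers u)

lemma exists_notMem_zpowers (hQ : IsQ8 P z) {u : G} (hu : u ∈ P) (huz : u ∉ zpowers z) :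
    ∃ v ∈ P, v ∉ zpowers u := by
  by_contra hno
  push Not at hno
  have := card_le_of_le (fun x hx => hno x hx : P ≤ zpowers u)
  rw [hQ.1, Nat.card_zpowers, hQ.orderOf_eq_four hu huz] at this
  omega

lemma sup_eq (hP : IsPGroup 2 P) (hQ : IsQ8 P z) {u v : G} (hu : u ∈ P) (huz : u ∉ zpowers z)
    (hv : v ∈ P) (hvu : v ∉ zpowers u) : zpowers u ⊔ zpowers v = P := by
  refine eq_of_le_of_card_ge (sup_le (zpowers_le.mpr hu) (zpowers_le.mpr hv)) ?_
  have h := two_mul_card_le (hP.to_le (sup_le (zpowers_le.mpr hu) (zpowers_le.mpr hv)))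
    (le_sup_left : zpowers u ≤ zpowers u ⊔ zpowers v)
    fun h => hvu (h (mem_sup_right (mem_zpowers v)))
  rw [Nat.card_zpowers, hQ.orderOf_eq_four hu huz] at h
  rw [hQ.1]
  omega

lemma not_commutative (hQ : IsQ8 P z) : ¬ ∀ a ∈ P, ∀ b ∈ P, Commute a b := fun h => by
  refine hQ.z_ne (Subgroup.mem_bot.mp ?_)
  rw [← (commutator_eq_bot_iff_le_centralizer.mpr fun a ha =>
    mem_centralizer_iff.mpr fun b hb => (h b hb a ha).eq : ⁅P, P⁆ = ⊥), hQ.2.2.2.2.1]
  exact mem_zpowers z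

lemma commutator_eq (hP : IsPGroup 2 P) (hQ : IsQ8 P z) {u v : G} (hu : u ∈ P) (huz : u ∉ zpowers z)
    (hv : v ∈ P) (hvu : v ∉ zpowers u) : ⁅u, v⁆ = z := by
  refine (hQ.mem_zpowers_z (hQ.2.2.2.2.1 ▸ commutator_mem_commutator hu hv)).resolve_left fun h => ?_
  refine hQ.not_commutative ?_
  rw [← hQ.sup_eq hP hu huz hv hvu]
  exact commute_of_zpowers (commutatorElement_eq_one_iff_commute.mp h)

lemma centralizes (hP : IsPGroup 2 P) (hQ : IsQ8 P z) {u v g : G} (hu : u ∈ P) (huz : u ∉ zpowers z)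
    (hv : v ∈ P) (hvu : v ∉ zpowers u) (h1 : Commute g u) (h2 : Commute g v) :
    g ∈ centralizer (P : Set G) := by
  have h : P ≤ centralizer ({g} : Set G) := by
    rw [← hQ.sup_eq hP hu huz hv hvu]
    exact sup_le (zpowers_le.mpr (mem_cent_iff'.mpr h1)) (zpowers_le.mpr (mem_cent_iff'.mpr h2))
  exact mem_centralizer_iff.mpr fun b hb => (mem_cent_iff'.mp (h hb)).eq.symm

lemma correct (hP : IsPGroup 2 P) (hQ : IsQ8 P z) {u v n : G} (hu : u ∈ P) (huz : u ∉ zpowers z)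
    (hv : v ∈ P) (hvu : v ∉ zpowers u) (hnu : n * u * n⁻¹ * u⁻¹ ∈ zpowers z)
    (hnv : n * v * n⁻¹ * v⁻¹ ∈ zpowers z) : ∃ m ∈ P, m * n ∈ centralizer (P : Set G) := by
  suffices ∃ m ∈ P, (m * n) * u * (m * n)⁻¹ = u ∧ (m * n) * v * (m * n)⁻¹ = v by
    obtain ⟨m, hm, h1, h2⟩ := this
    exact ⟨m, hm, hQ.centralizes hP hu huz hv hvu (mul_inv_eq_iff_eq_mul.mp h1)
      (mul_inv_eq_iff_eq_mul.mp h2)⟩
  have hzz := hQ.z_sq
  have hzdef := hQ.commutator_eq hP hu huz hv hvu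
  have hzc := hQ.2.2.2.1
  have e1 : v * u * v⁻¹ = z * u := by
    have : v * u * v⁻¹ * u⁻¹ = z := by
      have h0 : ⁅v, u⁆ = z⁻¹ := by rw [← hzdef, commutatorElement_inv]
      rwa [inv_eq_of_mul_eq_one_right hzz, commutatorElement_def] at h0
    exact mul_inv_eq_iff_eq_mul.mp this
  have e2 : u * v * u⁻¹ = z * v := mul_inv_eq_iff_eq_mul.mp (by rw [← hzdef, commutatorElement_def])
  have hnu' : n * u * n⁻¹ = u ∨ n * u * n⁻¹ = z * u := (hQ.mem_zpowers_z hnu).imp
    (fun h => mul_inv_eq_one.mp h) (fun h => mul_inv_eq_iff_eq_mul.mp h)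
  have hnv' : n * v * n⁻¹ = v ∨ n * v * n⁻¹ = z * v := (hQ.mem_zpowers_z hnv).imp
    (fun h => mul_inv_eq_one.mp h) (fun h => mul_inv_eq_iff_eq_mul.mp h)
  have hcalc : ∀ m x, (m * n) * x * (m * n)⁻¹ = m * (n * x * n⁻¹) * m⁻¹ := fun m x => by group
  have hmz : ∀ m ∈ P, ∀ x, m * (z * x) * m⁻¹ = z * (m * x * m⁻¹) := fun m hm x => by
    rw [← mul_assoc, ← (hzc m hm).eq]; group
  rcases hnu' with h1 | h1 <;> rcases hnv' with h2 | h2
  · exact ⟨1, one_mem P, by simp [h1], by simp [h2]⟩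
  · refine ⟨u, hu, by rw [hcalc, h1, mul_inv_cancel_right], ?_⟩
    rw [hcalc, h2, hmz u hu, e2, ← mul_assoc, hzz, one_mul]
  · refine ⟨v, hv, ?_, by rw [hcalc, h2, mul_inv_cancel_right]⟩
    rw [hcalc, h1, hmz v hv, e1, ← mul_assoc, hzz, one_mul]
  · refine ⟨u * v, mul_mem hu hv, ?_, ?_⟩
    · rw [hcalc, h1, hmz _ (mul_mem hu hv), show u * v * u * (u * v)⁻¹ = u * (v * u * v⁻¹) * u⁻¹ by group,
        e1, hmz u hu, mul_inv_cancel_right, ← mul_assoc, hzz, one_mul]
    · rw [hcalc, h2, hmz _ (mul_mem hu hv), show u * v * v * (u * v)⁻¹ = u * v * u⁻¹ by group,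
        e2, ← mul_assoc, hzz, one_mul]

lemma exists_pow_lt {x y : G} {n : ℕ} (hx : orderOf x = n) (hy : y ∈ zpowers x) :
    ∃ i, i < n ∧ y = x ^ i := by
  classical
  rw [mem_zpowers_iff_mem_range_orderOf, Finset.mem_image] at hy
  obtain ⟨i, hi, hiy⟩ := hy
  exact ⟨i, hx ▸ Finset.mem_range.mp hi, hiy.symm⟩

lemma mem_inner (hP : IsPGroup 2 P) (hQ : IsQ8 P z) (hCP : centralizer (P : Set G) ≤ P) {u v n : G}
    (hu : u ∈ P) (huz : u ∉ zpowers z) (hv : v ∈ P) (hvu : v ∉ zpowers u)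
    (hnu : n * u * n⁻¹ * u⁻¹ ∈ zpowers z) (hnv : n * v * n⁻¹ * v⁻¹ ∈ zpowers z) : n ∈ P := by
  obtain ⟨m, hm, hma⟩ := hQ.correct hP hu huz hv hvu hnu hnv
  have := mul_mem (inv_mem hm) (hCP hma)
  rwa [inv_mul_cancel_left] at this

lemma conj_eq_mul (hP : IsPGroup 2 P) (hQ : IsQ8 P z) (hCP : centralizer (P : Set G) ≤ P) {u v a : G}
    (hu : u ∈ P) (huz : u ∉ zpowers z) (hv : v ∈ P) (hvu : v ∉ zpowers u) (haP : a ∉ P)
    (ha : a ∈ normalizer (P : Set G)) (haz : a * z * a⁻¹ = z)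
    (hau : a * u * a⁻¹ * u⁻¹ ∈ zpowers z) :
    a * v * a⁻¹ = u * v ∨ a * v * a⁻¹ = z * (u * v) := by
  have hvz : v ∉ zpowers z := fun h => hvu (zpowers_le.mpr (hQ.z_mem_zpowers hu huz) h)
  have hzu := hQ.2.2.2.1 u hu
  have huu := hQ.2.2.2.2.2 u hu huz
  have hvv := hQ.2.2.2.2.2 v hv hvz
  have hz := mem_zpowers z
  have hne : a * v * a⁻¹ * v⁻¹ ∉ zpowers z := fun h =>
    haP (hQ.mem_inner hP hCP hu huz hv hvu hau h)
  have hmem : a * v * a⁻¹ ∈ P := (mem_normalizer_iff.mp ha v).mp hv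
  have hzc : zpowers z ≤ zpowers u := zpowers_le.mpr (hQ.z_mem_zpowers hu huz)
  have hconjz : ∀ x, a * x * a⁻¹ ∈ zpowers z → x ∈ zpowers z := fun x hx => by
    have : x = a⁻¹ * (a * x * a⁻¹) * a := by group
    rw [this]
    rcases hQ.mem_zpowers_z hx with h | h <;> rw [h]
    · rw [mul_one, inv_mul_cancel]; exact one_mem _
    · rw [show a⁻¹ * z * a = z by
        calc a⁻¹ * z * a = a⁻¹ * (a * z * a⁻¹) * a := by rw [haz]
          _ = z := by group]
      exact hz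
  have hnu : a * v * a⁻¹ ∉ zpowers u := fun h => by
    obtain ⟨i, hi, hia⟩ := exists_pow_lt (hQ.orderOf_eq_four hu huz) h
    have hcase : a * v * a⁻¹ ∈ zpowers z ∨ ∃ f ∈ zpowers z, a * v * a⁻¹ = f * u := by
      interval_cases i
      · exact Or.inl (by rw [hia, pow_zero]; exact one_mem _)
      · exact Or.inr ⟨1, one_mem _, by rw [hia, pow_one, one_mul]⟩
      · exact Or.inl (by rw [hia, sq, huu]; exact hz)
      · exact Or.inr ⟨z, hz, by rw [hia, pow_succ, sq, huu]⟩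
    rcases hcase with h' | ⟨f, hf, hfa⟩
    · exact hvz (hconjz v h')
    · refine hvu ?_
      have h3 : a * (v * u⁻¹) * a⁻¹ ∈ zpowers z := by
        have : a * (v * u⁻¹) * a⁻¹ = f * (a * u * a⁻¹ * u⁻¹)⁻¹ := by
          calc a * (v * u⁻¹) * a⁻¹ = (a * v * a⁻¹) * (a * u * a⁻¹)⁻¹ := by group
            _ = f * u * (a * u * a⁻¹)⁻¹ := by rw [hfa]
            _ = _ := by group
        rw [this]
        exact mul_mem hf (inv_mem hau)
      have := mul_mem (hzc (hconjz _ h3)) (mem_zpowers u)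
      rwa [inv_mul_cancel_right] at this
  rw [← hQ.sup_eq hP hu huz hv hvu, ← SetLike.mem_coe, coe_mul_of_right_le_normalizer_left] at hmem
  · obtain ⟨e, he, f, hf, hef⟩ := hmem
    obtain ⟨f', hf', i, hi, hcase⟩ : ∃ f' ∈ zpowers z, ∃ i, i < 4 ∧
        (a * v * a⁻¹ = u ^ i * f' ∨ a * v * a⁻¹ = u ^ i * (f' * v)) := by
      obtain ⟨i, hi, rfl⟩ := exists_pow_lt (hQ.orderOf_eq_four hu huz) he
      obtain ⟨j, hj, rfl⟩ := exists_pow_lt (hQ.orderOf_eq_four hv hvz) hf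
      interval_cases j
      · exact ⟨1, one_mem _, i, hi, Or.inl (by rw [← hef]; simp)⟩
      · exact ⟨1, one_mem _, i, hi, Or.inr (by rw [← hef]; simp)⟩
      · exact ⟨z, hz, i, hi, Or.inl (by rw [← hef]; simp [sq, hvv])⟩
      · exact ⟨z, hz, i, hi, Or.inr (by rw [← hef]; simp [pow_succ, hvv])⟩
    rcases hcase with h | h
    · exact absurd (h ▸ mul_mem (pow_mem (mem_zpowers u) i) (hzc hf')) hnu
    · have hfu : Commute f' u := by
        obtain ⟨k, rfl⟩ := hf'
        exact hzu.zpow_left k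
      interval_cases i
      · exact absurd (by rw [h, pow_zero, one_mul, mul_inv_cancel_right]; exact hf') hne
      · have h' : a * v * a⁻¹ = f' * (u * v) := by
          rw [h, pow_one, ← mul_assoc, ← hfu.eq, mul_assoc]
        rcases hQ.mem_zpowers_z hf' with e | e <;> rw [e] at h'
        · exact Or.inl (by rw [h', one_mul])
        · exact Or.inr h'
      · exact absurd (by rw [h, sq, huu, ← mul_assoc, mul_inv_cancel_right]; exact mul_mem hz hf') hne
      · rw [pow_succ, sq, huu, show z * u * (f' * v) = z * (u * f') * v by group, ← hfu.eq] at h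
        rcases hQ.mem_zpowers_z hf' with e | e <;> rw [e] at h
        · exact Or.inr (by rw [h]; group)
        · exact Or.inl (by rw [h, show z * (z * u) * v = z * z * (u * v) by group, hQ.z_sq, one_mul])
  · refine BirthTools.le_normalizer_of_conj_mem fun g hg w hw => ?_
    obtain ⟨i, rfl⟩ := hw
    show g * u ^ i * g⁻¹ ∈ _
    rw [← conj_zpow]
    refine zpow_mem ?_ i
    have h1 : g * u * g⁻¹ * u⁻¹ ∈ zpowers z := by
      rw [← hQ.2.2.2.2.1, ← commutatorElement_def]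
      exact commutator_mem_commutator (zpowers_le.mpr hv hg) hu
    have := mul_mem (hzc h1) (mem_zpowers u)
    rwa [inv_mul_cancel_right] at this

/-- An abelian subgroup of order 8 cannot normalize a self-centralizing quaternion group. -/
lemma false_of_normalizer (hP : IsPGroup 2 P) (hQ : IsQ8 P z) (hCP : centralizer (P : Set G) ≤ P)
    {A : Subgroup G} (hA : Nat.card A = 8) (hAc : ∀ a ∈ A, ∀ b ∈ A, Commute a b)
    (hAcyc : ¬ IsCyclic ↥A) (hAP : A ≤ normalizer (P : Set G))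
    (hfix : ∀ a ∈ A, a * z * a⁻¹ = z) : False := by
  haveI : Fact (Nat.Prime 2) := ⟨Nat.prime_two⟩
  -- a fixed coset of the centre
  obtain ⟨u, hu, huz, hufix⟩ : ∃ u ∈ P, u ∉ zpowers z ∧ ∀ a ∈ A, a * u * a⁻¹ * u⁻¹ ∈ zpowers z := by
    have hA2 : IsPGroup 2 A := IsPGroup.of_card (n := 3) (by rw [hA]; rfl)
    set T := P ⊔ A
    have hTp : IsPGroup 2 T := hP.to_sup_of_normal_left' hA2 hAP
    have hZT : T ≤ normalizer ((zpowers z : Subgroup G) : Set G) := by
      refine BirthTools.le_normalizer_of_conj_mem fun g hg w hw => ?_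
      obtain ⟨i, rfl⟩ := hw
      have hg' : Commute g z := by
        have : T ≤ centralizer ({z} : Set G) := sup_le
          (fun x hx => mem_cent_iff'.mpr (hQ.2.2.2.1 x hx))
          (fun a ha => mem_cent_iff'.mpr (mul_inv_eq_iff_eq_mul.mp (hfix a ha)).symm)
        exact (mem_cent_iff'.mp (this hg)).symm
      show g * z ^ i * g⁻¹ ∈ _
      rw [(hg'.zpow_right i).eq, mul_inv_cancel_right]
      exact zpow_mem (mem_zpowers z) i
    haveI : ((zpowers z).subgroupOf T).Normal := normal_subgroupOf_of_le_normalizer hZT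
    haveI : (P.subgroupOf T).Normal := normal_subgroupOf_of_le_normalizer (sup_le le_normalizer hAP)
    obtain ⟨u0, hu0, hu0'⟩ := hQ.exists_notMem_z
    obtain ⟨w, hw, hwz, -, hwc⟩ := PGroups.AbelianNormal.exists_step hTp
      (B := (zpowers z).subgroupOf T) (N := P.subgroupOf T)
      (lt_of_le_not_ge (fun a ha => zpowers_le.mpr hQ.z_mem ha) fun h => hu0'
        (h (show (⟨u0, mem_sup_left hu0⟩ : ↥T) ∈ P.subgroupOf T from hu0)))
    exact ⟨(w : G), hw, hwz, fun a ha => hwc ⟨a, mem_sup_right ha⟩⟩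
  obtain ⟨v, hv, hvu⟩ := hQ.exists_notMem_zpowers hu huz
  -- the intersection has order four
  set K := A ⊓ P with hK
  have hK4 : 4 ≤ Nat.card K := by
    by_cases hAleP : A ≤ P
    · rw [hK, inf_eq_left.mpr hAleP, hA]; omega
    obtain ⟨a0, ha0, ha0P⟩ := SetLike.not_le_iff_exists.mp hAleP
    let φ : Fin 2 × K → A := fun ic => ⟨a0 ^ (ic.1 : ℕ) * ic.2, mul_mem (pow_mem ha0 _) ic.2.2.1⟩
    have hφ : Function.Surjective φ := by
      rintro ⟨a, ha⟩
      by_cases haP : a ∈ P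
      · exact ⟨(0, ⟨a, ha, haP⟩), Subtype.ext (by simp [φ])⟩
      refine ⟨(1, ⟨a0⁻¹ * a, Subgroup.mem_inf.mpr ⟨mul_mem (inv_mem ha0) ha,
        hQ.mem_inner hP hCP hu huz hv hvu (hufix _ (mul_mem (inv_mem ha0) ha)) ?_⟩⟩),
        Subtype.ext (by simp [φ])⟩
      have key : ∀ x y, (x = u * v ∨ x = z * (u * v)) → (y = u * v ∨ y = z * (u * v)) →
          x * y⁻¹ ∈ zpowers z := by
        rintro x y (rfl | rfl) (rfl | rfl) <;> simp [mul_assoc]
      have h1 := key _ _ (hQ.conj_eq_mul hP hCP hu huz hv hvu haP (hAP ha) (hfix a ha) (hufix a ha))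
        (hQ.conj_eq_mul hP hCP hu huz hv hvu ha0P (hAP ha0) (hfix a0 ha0) (hufix a0 ha0))
      have h2 : a0⁻¹ * (a * v * a⁻¹ * (a0 * v * a0⁻¹)⁻¹) * a0 ∈ zpowers z := by
        rcases hQ.mem_zpowers_z h1 with h | h <;> rw [h]
        · simp
        · rw [show a0⁻¹ * z * a0 = z by
            calc a0⁻¹ * z * a0 = a0⁻¹ * (a0 * z * a0⁻¹) * a0 := by rw [hfix a0 ha0]
              _ = z := by group]
          exact mem_zpowers z
      convert h2 using 1
      group
    have := Nat.card_le_card_of_surjective φ hφ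
    rw [Nat.card_prod, Nat.card_fin, hA] at this
    omega
  obtain ⟨w, hwK, hwz⟩ : ∃ w ∈ K, w ∉ zpowers z := by
    by_contra hno
    push Not at hno
    have := card_le_of_le (fun x hx => hno x hx : K ≤ zpowers z)
    rw [hQ.card_zpowers_z] at this
    omega
  have hw : w ∈ P := hwK.2
  obtain ⟨x, hx, hxw⟩ := hQ.exists_notMem_zpowers hw hwz
  obtain ⟨a, ha, haw⟩ : ∃ a ∈ A, a ∉ zpowers w := by
    by_contra hno
    push Not at hno
    have := card_le_of_le (fun y hy => hno y hy : A ≤ zpowers w)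
    rw [hA, Nat.card_zpowers, hQ.orderOf_eq_four hw hwz] at this
    omega
  have hPw : ∀ y ∈ P, Commute y w → y ∈ zpowers w := fun y hy hyw => by
    by_contra hn
    refine hQ.not_commutative ?_
    rw [← hQ.sup_eq hP hw hwz hy hn]
    exact commute_of_zpowers hyw.symm
  have hcommw : ∀ b ∈ A, b * w * b⁻¹ * w⁻¹ ∈ zpowers z := fun b hb => by
    rw [(show Commute b w from hAc b hb w hwK.1).eq, mul_inv_cancel_right, mul_inv_cancel]
    exact one_mem _
  have haP : a ∉ P := fun h => haw (hPw a h (hAc a ha w hwK.1))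
  have hax := hQ.conj_eq_mul hP hCP hw hwz hx hxw haP (hAP ha) (hfix a ha) (hcommw a ha)
  have hww := hQ.2.2.2.2.2 w hw hwz
  -- `a²` sends `x` to `z * x`
  have haax : a * a * x * (a * a)⁻¹ = z * x := by
    have hawx : a * (w * x) * a⁻¹ = w * (a * x * a⁻¹) := by
      rw [← mul_assoc, (show Commute a w from hAc a ha w hwK.1).eq]; group
    rw [show a * a * x * (a * a)⁻¹ = a * (a * x * a⁻¹) * a⁻¹ by group]
    rcases hax with h | h <;> rw [h]
    · rw [hawx, h, ← mul_assoc, hww]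
    · rw [show a * (z * (w * x)) * a⁻¹ = (a * z * a⁻¹) * (a * (w * x) * a⁻¹) by group, hfix a ha, hawx, h,
        show z * (w * (z * (w * x))) = z * (w * z) * (w * x) by group, ← (hQ.2.2.2.1 w hw).eq,
        show z * (z * w) * (w * x) = z * z * (w * w) * x by group, hQ.z_sq, hww, one_mul]
  have haaP : a * a ∈ P := hQ.mem_inner hP hCP hw hwz hx hxw (hcommw _ (mul_mem ha ha))
    (by rw [haax, mul_inv_cancel_right]; exact mem_zpowers z)
  have haaw : a * a ∈ zpowers w := hPw _ haaP (hAc _ (mul_mem ha ha) w hwK.1)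
  have haaz : a * a ∉ zpowers z := fun h => by
    refine hQ.z_ne (mul_right_cancel (show z * x = 1 * x from ?_))
    rw [← haax, one_mul]
    rcases hQ.mem_zpowers_z h with e | e <;> rw [e]
    · group
    · rw [(hQ.2.2.2.1 x hx).eq, mul_inv_cancel_right]
  have h4 : orderOf (a * a) = 4 := hQ.orderOf_eq_four (zpowers_le.mpr hw haaw) haaz
  have h8 : orderOf a = 8 := orderOf_eq_prime_pow (p := 2) (n := 2)
    (by
      intro h
      have : orderOf (a * a) ∣ 2 := orderOf_dvd_of_pow_eq_one (by rw [← h]; simp [pow_succ, mul_assoc])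
      rw [h4] at this
      omega)
    (by
      have := pow_orderOf_eq_one (a * a)
      rw [h4, ← sq, ← pow_mul] at this
      exact this)
  exact hAcyc (isCyclic_of_orderOf_eq_card ⟨a, ha⟩ (by rw [orderOf_mk, h8, hA]))

end IsQ8

end Cfsg.Agent.Components.SmallTwo
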