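/-
The preimage of a Borel subgroup in SL(2, Z/5^k): a solvable maximal subgroup of a perfect group
whose derived length grows with `k`.
-/
import Mathlib

set_option autoImplicit false
set_option linter.all false

namespace Cfsg.Agent.Components.SolvableMaximal

open Matrix

abbrev R (k : ℕ) : Type := ZMod (5 ^ (k + 1))

abbrev SL (k : ℕ) : Type := SpecialLinearGroup (Fin 2) (R k)

variable {k : ℕ}

def x12 (t : R k) : SL k := ⟨!![1, t; 0, 1], by simp [det_fin_two]⟩

def x21 (t : R k) : SL k := ⟨!![1, 0; t, 1], by simp [det_fin_two]⟩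

def hd (u : (R k)ˣ) : SL k := ⟨!![(u : R k), 0; 0, (↑u⁻¹ : R k)], by simp [det_fin_two]⟩

theorem x12_coe (t : R k) : (x12 t : Matrix (Fin 2) (Fin 2) (R k)) = !![1, t; 0, 1] := rfl

theorem x21_coe (t : R k) : (x21 t : Matrix (Fin 2) (Fin 2) (R k)) = !![1, 0; t, 1] := rfl

theorem hd_coe (u : (R k)ˣ) :
    (hd u : Matrix (Fin 2) (Fin 2) (R k)) = !![(u : R k), 0; 0, (↑u⁻¹ : R k)] := rfl

theorem x12_add (s t : R k) : x12 (s + t) = x12 s * x12 t := by
  ext i j
  fin_cases i <;> fin_cases j <;> simp [x12_coe, Matrix.mul_apply, Fin.sum_univ_two, add_comm]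

theorem x21_add (s t : R k) : x21 (s + t) = x21 s * x21 t := by
  ext i j
  fin_cases i <;> fin_cases j <;> simp [x21_coe, Matrix.mul_apply, Fin.sum_univ_two, add_comm]

theorem x12_zero : x12 (0 : R k) = 1 := by
  ext i j
  fin_cases i <;> fin_cases j <;> simp [x12_coe]

theorem x21_zero : x21 (0 : R k) = 1 := by
  ext i j
  fin_cases i <;> fin_cases j <;> simp [x21_coe]

theorem x12_inv (t : R k) : (x12 t)⁻¹ = x12 (-t) :=
  inv_eq_of_mul_eq_one_right (by rw [← x12_add, add_neg_cancel, x12_zero])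

theorem x21_inv (t : R k) : (x21 t)⁻¹ = x21 (-t) :=
  inv_eq_of_mul_eq_one_right (by rw [← x21_add, add_neg_cancel, x21_zero])

theorem hd_inv (u : (R k)ˣ) : (hd u)⁻¹ = hd u⁻¹ :=
  inv_eq_of_mul_eq_one_right (by
    ext i j
    fin_cases i <;> fin_cases j <;> simp [hd_coe, Matrix.mul_apply, Fin.sum_univ_two])

theorem comm_hd_x12 (u : (R k)ˣ) (t : R k) :
    hd u * x12 t * (hd u)⁻¹ * (x12 t)⁻¹ = x12 (((u : R k) ^ 2 - 1) * t) := by
  rw [hd_inv, x12_inv]
  ext i j
  fin_cases i <;> fin_cases j <;> simp [hd_coe, x12_coe, Matrix.mul_apply, Fin.sum_univ_two] <;> ring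

theorem comm_hd_x21 (u : (R k)ˣ) (t : R k) :
    hd u * x21 t * (hd u)⁻¹ * (x21 t)⁻¹ = x21 (((↑u⁻¹ : R k) ^ 2 - 1) * t) := by
  rw [hd_inv, x21_inv]
  ext i j
  fin_cases i <;> fin_cases j <;> simp [hd_coe, x21_coe, Matrix.mul_apply, Fin.sum_univ_two] <;> ring

theorem gauss (g : SL k) (c : (R k)ˣ) (hc : g.1 1 0 = c) :
    g = x12 ((g.1 0 0 - 1) * (↑c⁻¹ : R k)) * x21 (c : R k) *
      x12 ((g.1 1 1 - 1) * (↑c⁻¹ : R k)) := by
  have hdet : g.1 0 0 * g.1 1 1 - g.1 0 1 * g.1 1 0 = 1 := by rw [← det_fin_two]; exact g.2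
  have h1 : (↑c⁻¹ : R k) * c = 1 := c.inv_mul
  rw [hc] at hdet
  ext i j
  fin_cases i <;> fin_cases j <;> simp [x12_coe, x21_coe, Matrix.mul_apply, Fin.sum_univ_two]
  · linear_combination -(↑c⁻¹ : R k) * hdet - (g.1 0 1) * h1
  · exact hc
  · linear_combination -(g.1 1 1 - 1) * h1

theorem five_dvd : 5 ∣ 5 ^ (k + 1) := dvd_pow_self 5 (Nat.succ_ne_zero k)

/-- Reduction modulo 5. -/
def red : R k →+* ZMod 5 := ZMod.castHom five_dvd (ZMod 5)

theorem dvd_of_red_eq_zero {x : R k} (h : red x = 0) : (5 : R k) ∣ x := by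
  obtain ⟨n, rfl⟩ := ZMod.natCast_zmod_surjective x
  rw [map_natCast, ZMod.natCast_eq_zero_iff] at h
  obtain ⟨m, rfl⟩ := h
  exact ⟨m, by push_cast; ring⟩

theorem isUnit_of_red_ne {x : R k} (h : red x ≠ 0) : IsUnit x := by
  obtain ⟨n, rfl⟩ := ZMod.natCast_zmod_surjective x
  rw [map_natCast, Ne, ZMod.natCast_eq_zero_iff] at h
  rw [ZMod.isUnit_iff_coprime]
  exact Nat.Coprime.pow_right _ ((Nat.Prime.coprime_iff_not_dvd (by norm_num)).2 h).symm

theorem five_pow_eq_zero : (5 : R k) ^ (k + 1) = 0 := by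
  have : ((5 ^ (k + 1) : ℕ) : R k) = 0 := ZMod.natCast_self _
  rwa [Nat.cast_pow] at this

theorem five_nilpotent : IsNilpotent (5 : R k) := ⟨k + 1, five_pow_eq_zero⟩

theorem red_five_mul (x : R k) : red (5 * x) = 0 := by
  rw [map_mul, map_ofNat, show (5 : ZMod 5) = 0 from rfl, zero_mul]

/-- The preimage of the Borel subgroup. -/
def M (k : ℕ) : Subgroup (SL k) where
  carrier := {g | red (g.1 1 0) = 0}
  one_mem' := by simp
  mul_mem' {g h} hg hh := by
    simp only [Set.mem_setOf_eq] at hg hh ⊢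
    simp [Matrix.mul_apply, Fin.sum_univ_two, hg, hh]
  inv_mem' {g} hg := by
    simp only [Set.mem_setOf_eq] at hg ⊢
    simp [SpecialLinearGroup.coe_inv, adjugate_fin_two, hg]

theorem mem_M {g : SL k} : g ∈ M k ↔ red (g.1 1 0) = 0 := Iff.rfl

theorem x12_mem (t : R k) : x12 t ∈ M k := by simp [mem_M, x12_coe]

theorem x21_mul_mem (K : Subgroup (SL k)) {c : R k} (hc : IsUnit c) (h : x21 c ∈ K) (t : R k) :
    x21 t ∈ K := by
  obtain ⟨u, rfl⟩ := hc
  have hn : ∀ n : ℕ, x21 ((n : R k) * (u : R k)) ∈ K := by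
    intro n
    induction n with
    | zero => simp [x21_zero, K.one_mem]
    | succ n ih => rw [Nat.cast_succ, add_mul, one_mul, x21_add]; exact K.mul_mem ih h
  obtain ⟨n, hn'⟩ := ZMod.natCast_zmod_surjective (t * (↑u⁻¹ : R k))
  have := hn n
  rwa [hn', mul_assoc, u.inv_mul, mul_one] at this

theorem eq_top_of_generators (K : Subgroup (SL k)) (h12 : ∀ t, x12 t ∈ K) (h21 : ∀ t, x21 t ∈ K) :
    K = ⊤ := by
  rw [eq_top_iff]
  rintro g -
  have key : ∀ g : SL k, IsUnit (g.1 1 0) → g ∈ K := by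
    intro g hg
    obtain ⟨c, hc⟩ := hg
    rw [gauss g c hc.symm]
    exact K.mul_mem (K.mul_mem (h12 _) (h21 _)) (h12 _)
  by_cases hc : red (g.1 1 0) = 0
  · have h : x21 1 * g ∈ K := by
      refine key _ (isUnit_of_red_ne ?_)
      intro h
      have h' : red (g.1 0 0) = 0 := by
        simpa [x21_coe, Matrix.mul_apply, Fin.sum_univ_two, hc] using h
      have hdet : g.1 0 0 * g.1 1 1 - g.1 0 1 * g.1 1 0 = 1 := by rw [← det_fin_two]; exact g.2
      have := congrArg red hdet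
      simp [hc, h'] at this
      exact absurd this (by decide)
    have := K.mul_mem (K.inv_mem (h21 1)) h
    rwa [inv_mul_cancel_left] at this
  · exact key g (isUnit_of_red_ne hc)

theorem isCoatom_M : IsCoatom (M k) := by
  refine ⟨fun h => ?_, fun K hK => ?_⟩
  · have : x21 (1 : R k) ∈ M k := h ▸ Subgroup.mem_top _
    simp [mem_M, x21_coe] at this
    exact absurd this (by decide)
  · obtain ⟨g, hgK, hgM⟩ := SetLike.exists_of_lt hK
    obtain ⟨c, hc⟩ := isUnit_of_red_ne hgM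
    have h12 : ∀ t, x12 t ∈ K := fun t => hK.le (x12_mem t)
    have hc' : x21 (c : R k) ∈ K := by
      have h := gauss g c hc.symm
      have e : x21 (c : R k) = (x12 ((g.1 0 0 - 1) * (↑c⁻¹ : R k)))⁻¹ * g *
          (x12 ((g.1 1 1 - 1) * (↑c⁻¹ : R k)))⁻¹ := by
        conv_rhs => enter [1, 2]; rw [h]
        group
      rw [e]
      exact K.mul_mem (K.mul_mem (K.inv_mem (h12 _)) hgK) (K.inv_mem (h12 _))
    exact eq_top_of_generators K h12 (x21_mul_mem K c.isUnit hc')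

theorem commutator_eq_top : commutator (SL k) = ⊤ := by
  obtain ⟨u, hu⟩ : IsUnit (2 : R k) := isUnit_of_red_ne (by rw [map_ofNat]; decide)
  have h3 : IsUnit ((u : R k) ^ 2 - 1) := isUnit_of_red_ne (by
    rw [hu, map_sub, map_pow, map_ofNat, map_one]; decide)
  have h3' : IsUnit ((↑u⁻¹ : R k) ^ 2 - 1) := by
    have e : (↑u⁻¹ : R k) ^ 2 - 1 = -((↑u⁻¹ : R k) ^ 2 * ((u : R k) ^ 2 - 1)) := by
      linear_combination ((↑u⁻¹ : R k) * u + 1) * u.inv_mul
    rw [e]
    exact ((u⁻¹.isUnit.pow 2).mul h3).neg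
  refine eq_top_of_generators _ (fun t => ?_) (fun t => ?_)
  · obtain ⟨s, rfl⟩ : ∃ s, t = ((u : R k) ^ 2 - 1) * s :=
      ⟨(↑h3.unit⁻¹ : R k) * t, by rw [← mul_assoc, h3.mul_val_inv, one_mul]⟩
    rw [← comm_hd_x12, commutator_def, ← commutatorElement_def]
    exact Subgroup.commutator_mem_commutator (Subgroup.mem_top _) (Subgroup.mem_top _)
  · obtain ⟨s, rfl⟩ : ∃ s, t = ((↑u⁻¹ : R k) ^ 2 - 1) * s :=
      ⟨(↑h3'.unit⁻¹ : R k) * t, by rw [← mul_assoc, h3'.mul_val_inv, one_mul]⟩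
    rw [← comm_hd_x21, commutator_def, ← commutatorElement_def]
    exact Subgroup.commutator_mem_commutator (Subgroup.mem_top _) (Subgroup.mem_top _)

/-- The diagonal entry modulo 5. -/
def diagHom (k : ℕ) : M k →* (ZMod 5)ˣ :=
  MonoidHom.toHomUnits
    { toFun := fun g => red (g.1.1 0 0)
      map_one' := by simp
      map_mul' := fun g h => by
        have hh : red (h.1.1 1 0) = 0 := h.2
        simp [Matrix.mul_apply, Fin.sum_univ_two, hh] }

theorem isPGroup_ker : IsPGroup 5 (diagHom k).ker := by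
  intro g
  refine ⟨k + 2, Subtype.ext (Subtype.ext (Subtype.ext ?_))⟩
  set A := (g.1.1 : SL k) with hA
  have ha : red (A.1 0 0) = 1 := congrArg Units.val g.2
  have hc : red (A.1 1 0) = 0 := g.1.2
  have hd' : red (A.1 1 1) = 1 := by
    have hdet : A.1 0 0 * A.1 1 1 - A.1 0 1 * A.1 1 0 = 1 := by rw [← det_fin_two]; exact A.2
    simpa [ha, hc] using congrArg red hdet
  have hmap : A.1.map red = !![1, red (A.1 0 1); 0, 1] := by
    ext i j
    fin_cases i <;> fin_cases j <;> simp [ha, hc, hd']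
  have hpow : ∀ n : ℕ, (!![1, red (A.1 0 1); 0, 1] : Matrix (Fin 2) (Fin 2) (ZMod 5)) ^ n =
      !![1, n * red (A.1 0 1); 0, 1] := by
    intro n
    induction n with
    | zero => simp [Matrix.one_fin_two]
    | succ n ih => rw [pow_succ, ih]; simp [add_mul, add_comm]
  have h5 : (A.1 ^ 5).map red = 1 := by
    have := map_pow red.mapMatrix A.1 5
    rw [RingHom.mapMatrix_apply, RingHom.mapMatrix_apply, hmap, hpow] at this
    rw [this, show ((5 : ℕ) : ZMod 5) = 0 from rfl, zero_mul, Matrix.one_fin_two]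
  have hX : ∀ i j, ∃ y, (A.1 ^ 5 - 1 : Matrix (Fin 2) (Fin 2) (R k)) i j = 5 * y := fun i j => by
    refine dvd_of_red_eq_zero ?_
    have := congrFun (congrFun h5 i) j
    rw [Matrix.map_apply] at this
    rw [Matrix.sub_apply, map_sub, this]
    by_cases h : i = j
    · subst h; simp
    · simp [Matrix.one_apply_ne h]
  choose Y hY using hX
  have hA5 : A.1 ^ 5 = 1 + (5 : R k) • Matrix.of Y := by
    ext i j
    have := hY i j
    rw [Matrix.sub_apply] at this
    simp only [Matrix.add_apply, Matrix.smul_apply, Matrix.of_apply, smul_eq_mul]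
    linear_combination this
  have hdvd : (5 : Polynomial (R k)) ^ (k + 2) ∣
      (1 + 5 * Polynomial.X) ^ 5 ^ (k + 1) - 1 ^ 5 ^ (k + 1) :=
    dvd_sub_pow_of_dvd_sub (p := 5) ⟨Polynomial.X, by push_cast; ring⟩ (k + 1)
  obtain ⟨Q, hQ⟩ := hdvd
  have := congrArg (Polynomial.aeval (Matrix.of Y)) hQ
  simp only [map_sub, map_pow, map_add, map_one, map_mul, Polynomial.aeval_X, one_pow,
    map_ofNat] at this
  have h50 : (5 : Matrix (Fin 2) (Fin 2) (R k)) ^ (k + 2) = 0 := by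
    rw [show (5 : Matrix (Fin 2) (Fin 2) (R k)) = algebraMap (R k) _ 5 from (map_ofNat _ 5).symm,
      ← map_pow, show (5 : R k) ^ (k + 2) = 0 from by
        rw [pow_succ, five_pow_eq_zero, zero_mul], map_zero]
  rw [h50, zero_mul, sub_eq_zero] at this
  have he : (5 : Matrix (Fin 2) (Fin 2) (R k)) * Matrix.of Y = (5 : R k) • Matrix.of Y := by
    rw [Algebra.smul_def, map_ofNat]
  rw [he, ← hA5, ← pow_mul, ← pow_succ'] at this
  rw [show k + 2 = k + 1 + 1 from rfl]
  simp only [SubgroupClass.coe_pow, SpecialLinearGroup.coe_pow, OneMemClass.coe_one, SpecialLinearGroup.coe_one]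
  rw [← hA]
  exact this

theorem isSolvable_M : Group.IsSolvable (M k) := by
  have : Fact (Nat.Prime 5) := ⟨by norm_num⟩
  have : Group.IsNilpotent (diagHom k).ker := isPGroup_ker.isNilpotent
  exact Group.isSolvable_of_ker_le_range (diagHom k).ker.subtype (diagHom k) (by simp)

theorem isUnit_one_add_five_pow {a : ℕ} (ha : a ≠ 0) (z : R k) :
    IsUnit (1 + (5 : R k) ^ a * z) :=
  IsNilpotent.isUnit_one_add ((Commute.all _ _).isNilpotent_mul_right (five_nilpotent.pow_of_pos ha))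

theorem level (j : ℕ) :
    (∀ t, x12 ((5 : R k) ^ (2 ^ j) * t) ∈ (derivedSeries (M k) j).map (M k).subtype) ∧
    (∀ t, x21 ((5 : R k) ^ (2 ^ j) * t) ∈ (derivedSeries (M k) j).map (M k).subtype) ∧
    ∃ u w : (R k)ˣ, (u : R k) = 1 + 5 ^ (2 ^ j) * w ∧
      hd u ∈ (derivedSeries (M k) j).map (M k).subtype := by
  induction j with
  | zero =>
    rw [derivedSeries_zero, ← MonoidHom.range_eq_map, Subgroup.range_subtype]
    refine ⟨fun t => x12_mem _, fun t => ?_,
      ⟨(isUnit_one_add_five_pow (a := 2 ^ 0) (by simp) 1).unit, 1, rfl, by simp [mem_M, hd_coe]⟩⟩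
    rw [mem_M, x21_coe]
    simpa using red_five_mul t
  | succ j ih =>
    obtain ⟨h12, h21, u, w, hu, hud⟩ := ih
    set a := 2 ^ j
    have ha2 : 2 ^ (j + 1) = a + a := by rw [pow_succ]; ring
    rw [ha2, derivedSeries_succ, Subgroup.map_commutator]
    set D := (derivedSeries (M k) j).map (M k).subtype
    have hv : IsUnit ((w : R k) * (2 + 5 ^ a * w)) := by
      refine w.isUnit.mul (isUnit_of_red_ne ?_)
      rw [map_add, map_mul, map_pow, map_ofNat, map_ofNat, show (5 : ZMod 5) = 0 from rfl,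
        zero_pow (by simp [a]), zero_mul, add_zero]
      decide
    have hu2 : (u : R k) ^ 2 - 1 = 5 ^ a * ((w : R k) * (2 + 5 ^ a * w)) := by rw [hu]; ring
    have e1 : ∀ t, x12 ((5 : R k) ^ (a + a) * t) ∈ ⁅D, D⁆ := by
      intro t
      obtain ⟨v, hv⟩ := hv
      have : (5 : R k) ^ (a + a) * t = ((u : R k) ^ 2 - 1) * (5 ^ a * ((↑v⁻¹ : R k) * t)) := by
        rw [hu2, ← hv]
        linear_combination -((5 : R k) ^ (a + a) * t) * v.mul_inv
      rw [this, ← comm_hd_x12, ← commutatorElement_def]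
      exact Subgroup.commutator_mem_commutator hud (h12 _)
    have e2 : ∀ t, x21 ((5 : R k) ^ (a + a) * t) ∈ ⁅D, D⁆ := by
      intro t
      obtain ⟨v, hv⟩ := hv
      have hiu : (↑u⁻¹ : R k) ^ 2 - 1 = -((↑u⁻¹ : R k) ^ 2 * ((u : R k) ^ 2 - 1)) := by
        linear_combination ((↑u⁻¹ : R k) * u + 1) * u.inv_mul
      have : (5 : R k) ^ (a + a) * t = ((↑u⁻¹ : R k) ^ 2 - 1) *
          (5 ^ a * (-(u : R k) ^ 2 * (↑v⁻¹ : R k) * t)) := by
        rw [hiu, hu2, ← hv]
        linear_combination -((5 : R k) ^ (a + a) * t * ((↑u⁻¹ : R k) * u) ^ 2) * v.mul_inv -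
          ((5 : R k) ^ (a + a) * t * ((↑u⁻¹ : R k) * u + 1)) * u.inv_mul
      rw [this, ← comm_hd_x21, ← commutatorElement_def]
      exact Subgroup.commutator_mem_commutator hud (h21 _)
    refine ⟨e1, e2, ?_⟩
    obtain ⟨α, hα⟩ := isUnit_one_add_five_pow (a := a + a) (by simp [a]) (1 + 5 ^ (a + a) : R k)
    obtain ⟨w', hw'⟩ := isUnit_one_add_five_pow (a := a + a) (by simp [a]) (1 : R k)
    refine ⟨α, w', by rw [hα, hw', mul_one], ?_⟩
    have hcm : x12 (5 ^ a) * x21 (5 ^ a) * (x12 (5 ^ a))⁻¹ * (x21 ((5 : R k) ^ a))⁻¹ =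
        x21 (5 ^ (a + a) * (5 ^ a * (↑α⁻¹ : R k))) * hd α *
          x12 (5 ^ (a + a) * (-(5 ^ a) * (↑α⁻¹ : R k))) := by
      rw [x12_inv, x21_inv]
      ext i j
      fin_cases i <;> fin_cases j <;>
        simp [x12_coe, x21_coe, hd_coe, Matrix.mul_apply, Fin.sum_univ_two]
      · linear_combination -hα
      · linear_combination ((5 : R k) ^ a * 5 ^ (a + a)) * α.mul_inv
      · linear_combination -((5 : R k) ^ a * 5 ^ (a + a)) * α.inv_mul
      · linear_combination ((5 : R k) ^ a * 5 ^ (a + a)) ^ 2 * (↑α⁻¹ : R k) * α.mul_inv +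
          (1 - (5 : R k) ^ (a + a)) * (↑α⁻¹ : R k) * hα - (1 - (5 : R k) ^ (a + a)) * α.mul_inv
    have hc : x12 (5 ^ a) * x21 (5 ^ a) * (x12 (5 ^ a))⁻¹ * (x21 ((5 : R k) ^ a))⁻¹ ∈ ⁅D, D⁆ := by
      rw [← commutatorElement_def]
      have h1 := h12 1
      have h2 := h21 1
      rw [mul_one] at h1 h2
      exact Subgroup.commutator_mem_commutator h1 h2
    rw [hcm] at hc
    have := Subgroup.mul_mem _ (Subgroup.mul_mem _ (Subgroup.inv_mem _ (e2 ((5 : R k) ^ a * (↑α⁻¹ : R k)))) hc)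
      (Subgroup.inv_mem _ (e1 (-(5 ^ a) * (↑α⁻¹ : R k))))
    rwa [← mul_assoc, ← mul_assoc, inv_mul_cancel, one_mul, mul_inv_cancel_right] at this

theorem derivedSeries_ne_bot {j : ℕ} (hj : 2 ^ j ≤ k) : derivedSeries (M k) j ≠ ⊥ := by
  intro h
  have := (level (k := k) j).1 1
  rw [h, Subgroup.map_bot, Subgroup.mem_bot, mul_one] at this
  have h0 : ((5 ^ 2 ^ j : ℕ) : R k) = 0 := by
    have e := congrArg (fun g : SL k => g.1 0 1) this
    simpa [x12_coe] using e
  rw [ZMod.natCast_eq_zero_iff, Nat.pow_dvd_pow_iff_le_right (by norm_num)] at h0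
  omega

end Cfsg.Agent.Components.SolvableMaximal
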