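import Cfsg.Agent.Lib.Components.ComponentTwo
import Cfsg.Agent.Lib.Components.Layer

/-!
Components of involution centralizers and standard subgroups, with the solvability of groups of odd
order as a hypothesis.
-/

set_option autoImplicit false
set_option linter.unusedSectionVars false
set_option linter.style.haveILetI false

namespace Cfsg.Agent.Components.StandardTrichotomy

open Subgroup
open scoped commutatorElement
open Cfsg.Agent.Components.Basic Cfsg.Agent.Components.Fitting Cfsg.Agent.Components.ComponentTwo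

universe u

/-- solvability of groups of odd order -/
def OddSolvable : Prop :=
  ∀ (K : Type u) [Group K] [Finite K], Odd (Nat.card K) → Group.IsSolvable K

variable {G : Type u} [Group G] [Finite G]

lemma even_card (hFT : OddSolvable.{u}) {L : Subgroup G} (hL : Cfsg.IsQuasisimple L) :
    Even (Nat.card L) := by
  by_contra h
  exact quasisimple_not_isSolvable hL (hFT L (Nat.not_even_iff_odd.mp h))

lemma pLayer_commutator_core (hFT : OddSolvable.{u}) (hE : Cfsg.pLayer 2 G = Cfsg.layer G) :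
    ⁅Cfsg.pLayer 2 G, Cfsg.oddCore G⁆ = ⊥ := by
  haveI : Fact (Nat.Prime 2) := ⟨Nat.prime_two⟩
  rw [hE]
  refine commutator_layer_eq_bot fun K hK => component_commutator_eq_bot_of_isSolvable hK
    (inferInstance : (Cfsg.pPrimeCore 2 G).Normal).isSubnormal (hFT _ ?_)
  exact Nat.coprime_two_right.mp (Cores.pPrimeCore_card_coprime (G := G) 2)

/-- A perfect subnormal subgroup of a quasisimple subgroup is everything. -/
lemma eq_of_le_quasisimple {L R : Subgroup G} (hR : Cfsg.IsQuasisimple R) (hLR : L ≤ R)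
    (hsn : (L.subgroupOf R).IsSubnormal) (hL : ¬ Group.IsSolvable L) : L = R := by
  rcases quasisimple_eq_top_or_le_center_of_isSubnormal hR _ hsn with h | h
  · exact le_antisymm hLR (subgroupOf_eq_top.mp h)
  · refine absurd (Group.isSolvable_of_comm (fun a b => ?_)) hL
    have := Subgroup.mem_center_iff.mp (h (show (⟨a, hLR a.2⟩ : R) ∈ L.subgroupOf R from a.2))
      ⟨b, hLR b.2⟩
    exact Subtype.ext (congrArg (fun z : R => (z : G)) this).symm

lemma not_isSolvable_of_isComponent_subgroupOf {L C : Subgroup G} (hLC : L ≤ C)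
    (hL : Cfsg.IsComponent (L.subgroupOf C)) : ¬ Group.IsSolvable L :=
  quasisimple_not_isSolvable ((isQuasisimple_congr (subgroupOfEquivOfLe hLC)).mp hL.2)

/-- The diagonal is quasisimple. -/
lemma range_diag {D : Subgroup G} (hD : Cfsg.IsComponent D) {a : G}
    (h : ⁅D, D.map (MulAut.conj a).toMonoidHom⁆ = ⊥) (hne : (diag D a h).range ≠ ⊥) :
    Cfsg.IsQuasisimple (diag D a h).range := by
  haveI : Nontrivial (diag D a h).range := (Subgroup.nontrivial_iff_ne_bot _).mpr hne
  exact Local.isQuasisimple_of_surjective (diag D a h).rangeRestrict_surjective hD.2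

lemma commute_conj {D : Subgroup G} {a : G} (h : ⁅D, D.map (MulAut.conj a).toMonoidHom⁆ = ⊥)
    {x y : G} (hx : x ∈ D) (hy : y ∈ D) : x * (a * y * a⁻¹) = (a * y * a⁻¹) * x :=
  (mem_centralizer_iff.mp (commutator_eq_bot_iff_le_centralizer.mp h hx) _ ⟨y, hy, rfl⟩).symm

lemma conj_conj_mem {D : Subgroup G} {a : G} (ha : a * a = 1) {z : G}
    (hz : z ∈ D.map (MulAut.conj a).toMonoidHom) : a * z * a⁻¹ ∈ D := by
  obtain ⟨w, hw, rfl⟩ := hz
  show a * (a * w * a⁻¹) * a⁻¹ ∈ D
  rw [show a * (a * w * a⁻¹) * a⁻¹ = (a * a) * w * (a * a)⁻¹ by group, ha, one_mul, inv_one, mul_one]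
  exact hw

lemma diag_fixed {D : Subgroup G} {a : G} (ha : a * a = 1)
    (h : ⁅D, D.map (MulAut.conj a).toMonoidHom⁆ = ⊥) :
    (diag D a h).range ≤ centralizer ({a} : Set G) := by
  rintro _ ⟨x, rfl⟩
  show (x : G) * (a * x * a⁻¹) ∈ _
  rw [mem_centralizer_singleton_iff]
  refine (mul_inv_eq_iff_eq_mul.mp ?_).symm
  calc a * ((x : G) * (a * x * a⁻¹)) * a⁻¹ = (a * x * a⁻¹) * ((a * a) * x * (a * a)⁻¹) := by group
    _ = (x : G) * (a * x * a⁻¹) := by rw [ha, one_mul, inv_one, mul_one, commute_conj h x.2 x.2]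

lemma component_eq_range {D : Subgroup G} (hD : Cfsg.IsComponent D) {a : G} (ha : a * a = 1)
    (h : ⁅D, D.map (MulAut.conj a).toMonoidHom⁆ = ⊥) {K : Subgroup G}
    (hK : Cfsg.IsComponent (K.subgroupOf (centralizer ({a} : Set G))))
    (hKa : K ≤ centralizer ({a} : Set G)) (hKR : K ≤ (diag D a h).range) :
    K = (diag D a h).range := by
  have hns := not_isSolvable_of_isComponent_subgroupOf hKa hK
  refine eq_of_le_quasisimple (range_diag hD h fun h0 => hns ?_) hKR
    (hK.1.comap (Subgroup.inclusion (diag_fixed ha h))) hns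
  exact Group.isSolvable_of_isSolvable_injective (Subgroup.inclusion_injective (hKR.trans h0.le))

/-- Components of the centralizer of an involution when the 2-layer is the layer. -/
theorem component_trichotomy (hFT : OddSolvable.{u}) (hL2 : Cfsg.pLayer 2 G = Cfsg.layer G) (t : G)
    (ht : orderOf t = 2) (L : Subgroup G) (hLt : L ≤ centralizer ({t} : Set G))
    (hL : Cfsg.IsComponent (L.subgroupOf (centralizer ({t} : Set G)))) :
    ∃ D : Subgroup G, Cfsg.IsComponent D ∧ (L = D ∨ (L < D ∧ D = ⁅D, zpowers t⁆) ∨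
      (D.map (MulAut.conj t).toMonoidHom ≠ D ∧
        L = (Cfsg.layer ↥((D ⊔ D.map (MulAut.conj t).toMonoidHom) ⊓ centralizer ({t} : Set G))).map
          ((D ⊔ D.map (MulAut.conj t).toMonoidHom) ⊓ centralizer ({t} : Set G)).subtype)) := by
  haveI : Fact (Nat.Prime 2) := ⟨Nat.prime_two⟩
  have htt : t * t = 1 := by rw [← pow_two, ← ht]; exact pow_orderOf_eq_one t
  have hp : IsPGroup 2 (zpowers t) :=
    IsPGroup.of_card (n := 1) (by rw [Nat.card_zpowers, ht, pow_one])
  have hns := not_isSolvable_of_isComponent_subgroupOf hLt hL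
  have hE : L ≤ Cfsg.layer G := le_layer_of_component hp hLt hL
    (even_card hFT ((isQuasisimple_congr (subgroupOfEquivOfLe hLt)).mp hL.2))
    (pLayer_commutator_core hFT hL2)
  obtain ⟨D, hD, -, hfix, hmov⟩ := exists_component htt hLt hL hE
  refine ⟨D, hD, ?_⟩
  by_cases hDt : D.map (MulAut.conj t).toMonoidHom = D
  · have hLD := hfix hDt
    by_cases heq : L = D
    · exact Or.inl heq
    refine Or.inr (Or.inl ⟨lt_of_le_of_ne hLD heq, ?_⟩)
    set X := ⁅D, zpowers t⁆ with hX
    have htN : zpowers t ≤ normalizer (D : Set G) :=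
      zpowers_le.mpr (mem_normalizer_iff_map_conj_eq.mpr hDt)
    have hXD : X ≤ D := commutator_le.mpr fun d hd z hz => by
      rw [commutatorElement_def, show d * z * d⁻¹ * z⁻¹ = d * (z * d⁻¹ * z⁻¹) by group]
      exact D.mul_mem hd ((mem_normalizer_iff.mp (htN hz) _).mp (D.inv_mem hd))
    haveI : (X.subgroupOf D).Normal :=
      normal_subgroupOf_of_le_normalizer (normalizer_commutator_ge_left _ _)
    rcases quasisimple_eq_top_or_le_center_of_normal hD.2 (X.subgroupOf D) with h | h
    · exact le_antisymm (subgroupOf_eq_top.mp h) hXD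
    · exfalso
      have hXc : X ≤ centralizer (D : Set G) := fun x hx => mem_centralizer_iff.mpr fun d hd =>
        congrArg (fun z : D => (z : G))
          (Subgroup.mem_center_iff.mp (h (show (⟨x, hXD hx⟩ : D) ∈ X.subgroupOf D from hx)) ⟨d, hd⟩)
      have h0 : ⁅D, zpowers t⁆ = ⊥ := Basic.commutator_eq_bot_of_perfect (component_commutator_self hD)
        (commutator_eq_bot_iff_le_centralizer.mpr hXc)
      have hDC : D ≤ centralizer ({t} : Set G) := (commutator_eq_bot_iff_le_centralizer.mp h0).trans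
        (centralizer_le (by simp))
      exact heq (eq_of_le_quasisimple hD.2 hLD (hL.1.comap (Subgroup.inclusion hDC)) hns)
  refine Or.inr (Or.inr ⟨hDt, ?_⟩)
  obtain ⟨h, hLR⟩ := hmov hDt
  rw [component_eq_range hD htt h hL hLt hLR]
  set R := (diag D t h).range with hR
  set Dt := D.map (MulAut.conj t).toMonoidHom with hDtdef
  set W := (D ⊔ Dt) ⊓ centralizer ({t} : Set G) with hW
  have hRW : R ≤ W := le_inf (by
    rintro _ ⟨x, rfl⟩
    exact mul_mem_sup x.2 ⟨x, x.2, rfl⟩) (diag_fixed htt h)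
  have hdec : ∀ w ∈ W, ∃ r ∈ R, ∃ c ∈ centralizer ((D ⊔ Dt : Subgroup G) : Set G), w = r * c := by
    intro w hw'
    have hw : w ∈ ((D ⊔ Dt : Subgroup G) : Set G) := hw'.1
    have hwt : w ∈ centralizer ({t} : Set G) := hw'.2
    rw [coe_mul_of_left_le_normalizer_right D Dt
      ((commutator_eq_bot_iff_le_centralizer.mp h).trans (centralizer_le_normalizer _))] at hw
    obtain ⟨x, hx, y, ⟨z, hz, rfl⟩, rfl⟩ := hw
    change (x * (t * z * t⁻¹)) ∈ centralizer ({t} : Set G) at hwt
    have e : x * (t * z * t⁻¹) = z * (t * x * t⁻¹) := by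
      rw [commute_conj h hz hx]
      calc x * (t * z * t⁻¹) = (x * (t * z * t⁻¹) * t) * t⁻¹ := by group
        _ = t * (x * (t * z * t⁻¹)) * t⁻¹ := by rw [mem_centralizer_singleton_iff.mp hwt]
        _ = (t * x * t⁻¹) * ((t * t) * z * (t * t)⁻¹) := by group
        _ = (t * x * t⁻¹) * z := by rw [htt, one_mul, inv_one, mul_one]
    set c := x⁻¹ * z with hc
    have hcD : c ∈ D := mul_mem (inv_mem hx) hz
    have htc : t * c * t⁻¹ ∈ D := by
      have : t * (x * z⁻¹) * t⁻¹ = z⁻¹ * x := by
        calc t * (x * z⁻¹) * t⁻¹ = (t * x * t⁻¹) * (t * z * t⁻¹)⁻¹ := by group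
          _ = z⁻¹ * (z * (t * x * t⁻¹)) * (t * z * t⁻¹)⁻¹ := by group
          _ = z⁻¹ * x := by rw [← e]; group
      rw [show t * c * t⁻¹ = t * (t * (x * z⁻¹) * t⁻¹)⁻¹ * t⁻¹ by rw [this, hc]; group,
        show t * (t * (x * z⁻¹) * t⁻¹)⁻¹ * t⁻¹ = (t * t) * (x * z⁻¹)⁻¹ * (t * t)⁻¹ by group,
        htt, one_mul, inv_one, mul_one]
      exact inv_mem (mul_mem hx (inv_mem hz))
    refine ⟨x * (t * x * t⁻¹), ⟨⟨x, hx⟩, rfl⟩, t * c * t⁻¹, ?_, ?_⟩
    · rw [Subgroup.mem_centralizer_iff]
      have h1 : D ⊔ Dt ≤ centralizer ({t * c * t⁻¹} : Set G) := by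
        refine sup_le (fun d hd => ?_) fun d hd => ?_
        · exact mem_centralizer_singleton_iff.mpr (commute_conj h hd hcD)
        · obtain ⟨d', hd', rfl⟩ := hd
          exact mem_centralizer_singleton_iff.mpr (commute_conj h htc hd').symm
      exact fun g hg => mem_centralizer_singleton_iff.mp (h1 hg)
    · show x * (t * z * t⁻¹) = x * (t * x * t⁻¹) * (t * c * t⁻¹)
      rw [hc]
      group
  have hWR : ∀ a ∈ W, ∀ b ∈ W, ⁅a, b⁆ ∈ R := by
    intro a ha b hb
    obtain ⟨r, hr, c, hc, rfl⟩ := hdec a ha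
    obtain ⟨s, hs, d, hd, rfl⟩ := hdec b hb
    have hrs := fun (x : G) (hx : x ∈ R) (c : G) (hc : c ∈ centralizer ((D ⊔ Dt : Subgroup G) : Set G)) =>
      (mem_centralizer_iff.mp hc x (hRW hx).1)
    have k1 : c * d = d * c := (mem_centralizer_iff.mp hd c (by
      have := (D ⊔ Dt).mul_mem ((D ⊔ Dt).inv_mem (hRW hr).1) ha.1
      rwa [inv_mul_cancel_left] at this))
    have : ⁅r * c, s * d⁆ = ⁅r, s⁆ := by
      rw [commutatorElement_def, commutatorElement_def, mul_inv_rev, mul_inv_rev,
        show r * c * (s * d) * (c⁻¹ * r⁻¹) * (d⁻¹ * s⁻¹) =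
          r * (c * s) * (d * c⁻¹) * (r⁻¹ * d⁻¹) * s⁻¹ by group,
        ← hrs s hs c hc, show d * c⁻¹ = c⁻¹ * d by
          rw [eq_inv_mul_iff_mul_eq, ← mul_assoc, k1, mul_inv_cancel_right],
        hrs r⁻¹ (inv_mem hr) d⁻¹ (inv_mem hd)]
      rw [show r * (s * c) * (c⁻¹ * d) * (d⁻¹ * r⁻¹) * s⁻¹ = r * s * r⁻¹ * s⁻¹ by group]
    rw [this]
    exact mul_mem (mul_mem (mul_mem hr hs) (inv_mem hr)) (inv_mem hs)
  apply le_antisymm
  · have hn : (R.subgroupOf W).Normal := ⟨fun r hr w => by
      show (w : G) * r * (w : G)⁻¹ ∈ R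
      rw [show (w : G) * r * (w : G)⁻¹ = ⁅(w : G), (r : G)⁆ * r by rw [commutatorElement_def]; group]
      exact R.mul_mem (hWR _ w.2 _ r.2) hr⟩
    have hc : Cfsg.IsComponent (R.subgroupOf W) :=
      ⟨hn.isSubnormal, (isQuasisimple_congr (subgroupOfEquivOfLe hRW)).mpr
        (range_diag hD h fun h0 => hns
          (Group.isSolvable_of_isSolvable_injective (Subgroup.inclusion_injective (hLR.trans h0.le))))⟩
    have := Subgroup.map_mono (f := W.subtype) (le_layer hc)
    rwa [map_subgroupOf_eq_of_le hRW] at this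
  · rw [← commutator_layer_self, map_commutator]
    refine commutator_le.mpr ?_
    rintro _ ⟨a, -, rfl⟩ _ ⟨b, -, rfl⟩
    exact hWR _ a.2 _ b.2

section Standard

variable {A : Subgroup G}

/-- Fusion into the centralizer of a standard subgroup. -/
lemma mem_normalizer_of_involution (hA : Cfsg.IsStandardSubgroup A) {z g : G} (hz : orderOf z = 2)
    (hzA : z ∈ centralizer (A : Set G)) (hc : g * z = z * g) : g ∈ normalizer (A : Set G) := by
  by_contra hg
  rw [hA.2.2.2] at hg
  have hodd := hA.2.1.2 g hg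
  have hmem : z ∈ centralizer (A : Set G) ⊓ (centralizer (A : Set G)).map (MulAut.conj g).toMonoidHom :=
    ⟨hzA, z, hzA, show g * z * g⁻¹ = z by rw [hc, mul_inv_cancel_right]⟩
  have h2 := orderOf_dvd_natCard (⟨z, hmem⟩ : ↥(centralizer (A : Set G) ⊓
    (centralizer (A : Set G)).map (MulAut.conj g).toMonoidHom))
  rw [Subgroup.orderOf_mk, hz] at h2
  exact Nat.not_even_iff_odd.mpr hodd (even_iff_two_dvd.mpr h2)

lemma exists_involution {M : Subgroup G} (h : Even (Nat.card M)) : ∃ z ∈ M, orderOf z = 2 := by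
  haveI : Fact (Nat.Prime 2) := ⟨Nat.prime_two⟩
  obtain ⟨z, hz⟩ := exists_prime_orderOf_dvd_card' 2 (even_iff_two_dvd.mp h)
  exact ⟨z, z.2, by rwa [Subgroup.orderOf_coe]⟩

/-- Nothing of even order centralizes a subgroup containing the standard subgroup without normalizing it. -/
lemma odd_of_centralizes (hA : Cfsg.IsStandardSubgroup A) {M D E : Subgroup G} (hAE : A ≤ E) (hDE : D ≤ E)
    (hM : M ≤ centralizer (E : Set G)) (hD : ¬ D ≤ normalizer (A : Set G)) : Odd (Nat.card M) := by
  rw [← Nat.not_even_iff_odd]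
  intro he
  obtain ⟨z, hzM, hz⟩ := exists_involution he
  exact hD fun d hd => mem_normalizer_of_involution hA hz (centralizer_le hAE (hM hzM))
    (mem_centralizer_iff.mp (hM hzM) d (hDE hd))

/-- The standard subgroup trichotomy. -/
theorem standard_trichotomy (hFT : OddSolvable.{u}) (A : Subgroup G) (hA : Cfsg.IsStandardSubgroup A)
    (hO : Cfsg.oddCore G = ⊥) (t : G) (ht : orderOf t = 2) (htA : t ∈ centralizer (A : Set G)) :
    A.Normal ∨ (∃ X : Subgroup G, IsSimpleGroup ↥X ∧ ¬ IsMulCommutative ↥X ∧ Nonempty (↥X ≃* ↥A) ∧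
      (∀ a ∈ X, ∀ b ∈ X.map (MulAut.conj t).toMonoidHom, a * b = b * a) ∧
      X ⊓ X.map (MulAut.conj t).toMonoidHom = ⊥ ∧ X ⊔ X.map (MulAut.conj t).toMonoidHom = Cfsg.layer G ∧
      centralizer (A : Set G) = zpowers t) ∨
      (A ≤ Cfsg.layer G ∧ IsSimpleGroup ↥(Cfsg.layer G) ∧ ¬ IsMulCommutative ↥(Cfsg.layer G)) := by
  haveI : Fact (Nat.Prime 2) := ⟨Nat.prime_two⟩
  have htt : t * t = 1 := by rw [← pow_two, ← ht]; exact pow_orderOf_eq_one t
  have hp : IsPGroup 2 (zpowers t) :=
    IsPGroup.of_card (n := 1) (by rw [Nat.card_zpowers, ht, pow_one])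
  set C := centralizer ({t} : Set G) with hC
  have hAC : A ≤ C := fun a ha => mem_centralizer_singleton_iff.mpr (mem_centralizer_iff.mp htA a ha)
  have hCN : C ≤ normalizer (A : Set G) := fun g hg =>
    mem_normalizer_of_involution hA ht htA (mem_centralizer_singleton_iff.mp hg)
  haveI : (A.subgroupOf C).Normal := normal_subgroupOf_of_le_normalizer hCN
  have hns : ¬ Group.IsSolvable A := quasisimple_not_isSolvable hA.1
  have hAc : Cfsg.IsComponent (A.subgroupOf C) :=
    ⟨(inferInstance : (A.subgroupOf C).Normal).isSubnormal, (isQuasisimple_congr (subgroupOfEquivOfLe hAC)).mpr hA.1⟩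
  have hAE : A ≤ Cfsg.layer G := le_layer_of_component hp hAC hAc (even_card hFT hA.1)
    (by rw [show Cfsg.oddCore G = ⊥ from hO, commutator_bot_right])
  obtain ⟨D, hD, -, hfix, hmov⟩ := exists_component htt hAC hAc hAE
  -- if the component normalizes `A` it is `A`
  have hstuck : D.map (MulAut.conj t).toMonoidHom = D → D ≤ normalizer (A : Set G) → A.Normal := by
    intro hDt hn
    haveI : (A.subgroupOf D).Normal := normal_subgroupOf_of_le_normalizer hn
    have heq : A = D := eq_of_le_quasisimple hD.2 (hfix hDt) (inferInstance : (A.subgroupOf D).Normal).isSubnormal hns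
    subst heq
    rw [← normalizer_eq_top_iff, eq_top_iff]
    rintro g -
    by_contra hg
    have hne : A.map (MulAut.conj g).toMonoidHom ≠ A := fun e => hg (mem_normalizer_iff_map_conj_eq.mpr e)
    exact hA.2.2.1 g hne (component_commutator_eq_bot_of_ne hD (component_conj hD g) (Ne.symm hne))
  -- the centralizer of the layer is trivial as soon as some component moves `A`
  have hCE : ¬ D ≤ normalizer (A : Set G) → centralizer (Cfsg.layer G : Set G) = ⊥ := fun hn => by
    have h1 : Odd (Nat.card (centralizer (Cfsg.layer G : Set G))) :=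
      odd_of_centralizes hA hAE (le_layer hD) le_rfl hn
    have h2 := Cores.le_pPrimeCore (G := G) (p := 2) (N := centralizer (Cfsg.layer G : Set G))
      (Nat.coprime_two_right.mpr h1)
    exact le_bot_iff.mp (h2.trans hO.le)
  have hsimple : ∀ {X : Subgroup G}, Cfsg.IsComponent X → centralizer (Cfsg.layer G : Set G) = ⊥ →
      IsSimpleGroup ↥X ∧ ¬ IsMulCommutative ↥X := by
    intro X hX hc
    have hz : Subgroup.center X = ⊥ := by
      refine (eq_bot_iff_forall _).mpr fun x hx => ?_
      have hxX : (x : G) ∈ centralizer (X : Set G) := mem_centralizer_iff.mpr fun y hy =>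
        congrArg (fun z : X => (z : G)) (Subgroup.mem_center_iff.mp hx ⟨y, hy⟩)
      have : (x : G) ∈ centralizer (Cfsg.layer G : Set G) := by
        refine Subgroup.le_centralizer_iff.mp (layer_le fun L hL => ?_) (show (x : G) ∈ zpowers (x : G) from mem_zpowers _)
        rw [Subgroup.le_centralizer_iff, zpowers_le]
        by_cases h : L = X
        · rw [h]; exact hxX
        · exact commutator_eq_bot_iff_le_centralizer.mp
            (component_commutator_eq_bot_of_ne hX hL (Ne.symm h)) x.2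
      rw [hc, Subgroup.mem_bot] at this
      exact Subtype.ext this
    refine ⟨?_, fun h => component_not_isSolvable hX (Group.isSolvable_of_comm fun a b => h.is_comm.comm a b)⟩
    haveI : IsSimpleGroup (↥X ⧸ Subgroup.center X) := hX.2.2
    haveI : IsSimpleGroup (↥X ⧸ (⊥ : Subgroup X)) :=
      (QuotientGroup.quotientMulEquivOfEq hz).symm.isSimpleGroup
    exact (QuotientGroup.quotientBot (G := ↥X)).symm.isSimpleGroup
  by_cases hDt : D.map (MulAut.conj t).toMonoidHom = D
  · by_cases hn : D ≤ normalizer (A : Set G)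
    · exact Or.inl (hstuck hDt hn)
    refine Or.inr (Or.inr ⟨hAE, ?_⟩)
    have hE : Cfsg.layer G = D := by
      refine le_antisymm (layer_le fun M hM => ?_) (le_layer hD)
      by_contra hne
      have hMD : M ≤ centralizer (D : Set G) := commutator_eq_bot_iff_le_centralizer.mp
        (component_commutator_eq_bot_of_ne hM hD fun e => hne e.le)
      exact Nat.not_even_iff_odd.mpr (odd_of_centralizes hA (hfix hDt) le_rfl hMD hn) (even_card hFT hM.2)
    rw [hE]
    exact hsimple hD (hCE hn)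
  refine Or.inr (Or.inl ?_)
  obtain ⟨h, hAR⟩ := hmov hDt
  have hAeq : A = (diag D t h).range := component_eq_range hD htt h hAc hAC hAR
  set Dt := D.map (MulAut.conj t).toMonoidHom with hDtdef
  have hADD : A ≤ D ⊔ Dt := by
    rw [hAeq]
    rintro _ ⟨x, rfl⟩
    exact mul_mem_sup x.2 ⟨x, x.2, rfl⟩
  have hkey : D ≤ normalizer (A : Set G) → ∀ d x : D, ∀ w ∈ D, w * ⁅(d : G), (x : G)⁆ = ⁅(d : G), (x : G)⁆ * w := by
    intro hn d x
    have hm : (diag D t h) x ∈ A := hAeq ▸ ⟨x, rfl⟩
    have hm' := (mem_normalizer_iff.mp (hn d.2) _).mp hm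
    rw [hAeq] at hm'
    obtain ⟨y, hy⟩ := hm'
    change (y : G) * (t * y * t⁻¹) = d * ((x : G) * (t * x * t⁻¹)) * (d : G)⁻¹ at hy
    rw [show (d : G) * ((x : G) * (t * x * t⁻¹)) * (d : G)⁻¹ =
      d * x * ((t * x * t⁻¹) * (d : G)⁻¹) by group, ← commute_conj h (D.inv_mem d.2) x.2] at hy
    -- both sides lie in `D * D^t`
    set c₁ := (y : G)⁻¹ * (d * x * (d : G)⁻¹) with hc₁
    set c₂ := (y : G) * (x : G)⁻¹ with hc₂
    have e : c₁ = t * c₂ * t⁻¹ := by
      calc c₁ = (y : G)⁻¹ * (d * x * ((d : G)⁻¹ * (t * x * t⁻¹))) * (t * x * t⁻¹)⁻¹ := by rw [hc₁]; group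
        _ = t * c₂ * t⁻¹ := by rw [← hy, hc₂]; group
    have hc₂D : c₂ ∈ D := D.mul_mem y.2 (D.inv_mem x.2)
    have hc₁D : c₁ ∈ D := D.mul_mem (D.inv_mem y.2) (D.mul_mem (D.mul_mem d.2 x.2) (D.inv_mem d.2))
    have z₁ : ∀ w ∈ D, w * c₁ = c₁ * w := fun w hw => by rw [e]; exact commute_conj h hw hc₂D
    have z₂ : ∀ w ∈ D, w * c₂ = c₂ * w := fun w hw => by
      have h3 : t * c₁ * t⁻¹ = c₂ := by
        rw [e, show t * (t * c₂ * t⁻¹) * t⁻¹ = (t * t) * c₂ * (t * t)⁻¹ by group, htt, one_mul, inv_one, mul_one]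
      rw [← h3]
      exact commute_conj h hw hc₁D
    -- so the derived subgroup is central
    have key : (d : G) * x * (d : G)⁻¹ * (x : G)⁻¹ = c₂ * c₁ := by
      calc (d : G) * x * (d : G)⁻¹ * (x : G)⁻¹ = ((y : G) * c₁) * (x : G)⁻¹ := by rw [hc₁]; group
        _ = (y : G) * ((x : G)⁻¹ * c₁) := by rw [mul_assoc, z₁ _ (D.inv_mem x.2)]
        _ = c₂ * c₁ := by rw [hc₂, mul_assoc]
    intro w hw
    rw [commutatorElement_def, key, ← mul_assoc, z₂ w hw, mul_assoc, z₁ w hw, ← mul_assoc]
  have hn : ¬ D ≤ normalizer (A : Set G) := fun hn => by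
    have hder : D ≤ centralizer (D : Set G) := by
      refine (component_commutator_self hD).symm.le.trans (commutator_le.mpr ?_)
      intro d' hd' x' hx'
      obtain ⟨d, rfl⟩ : ∃ d : D, (d : G) = d' := ⟨⟨d', hd'⟩, rfl⟩
      obtain ⟨x, rfl⟩ : ∃ x : D, (x : G) = x' := ⟨⟨x', hx'⟩, rfl⟩
      refine mem_centralizer_iff.mpr fun w hw => ?_
      exact (hkey hn d x) w hw
    exact component_not_isSolvable hD (Group.isSolvable_of_comm fun a b =>
      Subtype.ext (mem_centralizer_iff.mp (hder b.2) a a.2))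
  have hc := hCE hn
  have hE : D ⊔ Dt = Cfsg.layer G := by
    refine le_antisymm (sup_le (le_layer hD) (le_layer (component_conj hD t))) (layer_le fun M hM => ?_)
    by_contra hne
    have hMD : M ≤ centralizer (D : Set G) := commutator_eq_bot_iff_le_centralizer.mp
      (component_commutator_eq_bot_of_ne hM hD fun e => hne (e ▸ le_sup_left))
    have hMDt : M ≤ centralizer (Dt : Set G) := commutator_eq_bot_iff_le_centralizer.mp
      (component_commutator_eq_bot_of_ne hM (component_conj hD t) fun e => hne (e ▸ le_sup_right))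
    have hM2 : M ≤ centralizer ((D ⊔ Dt : Subgroup G) : Set G) := Subgroup.le_centralizer_iff.mp
      (sup_le (Subgroup.le_centralizer_iff.mp hMD) (Subgroup.le_centralizer_iff.mp hMDt))
    exact Nat.not_even_iff_odd.mpr (odd_of_centralizes hA hADD le_sup_left hM2 hn) (even_card hFT hM.2)
  have hDDt : D ⊓ Dt = ⊥ := by
    refine (eq_bot_iff_forall _).mpr fun x hx => ?_
    have : x ∈ centralizer (Cfsg.layer G : Set G) := by
      rw [← hE]
      refine Subgroup.le_centralizer_iff.mp (sup_le ?_ ?_) (show x ∈ zpowers x from mem_zpowers _)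
      · exact Subgroup.le_centralizer_iff.mp (zpowers_le.mpr
          ((commutator_eq_bot_iff_le_centralizer.mp (commutator_comm D Dt ▸ h)) hx.2))
      · exact Subgroup.le_centralizer_iff.mp (zpowers_le.mpr
          ((commutator_eq_bot_iff_le_centralizer.mp h) hx.1))
    rwa [hc, Subgroup.mem_bot] at this
  have hinj : Function.Injective (diag D t h) := by
    rw [← MonoidHom.ker_eq_bot_iff, eq_bot_iff]
    intro x hx
    have hx' : (x : G) * (t * x * t⁻¹) = 1 := hx
    have hm : t * (x : G) * t⁻¹ ∈ D ⊓ Dt := by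
      refine ⟨?_, ⟨x, x.2, rfl⟩⟩
      rw [eq_inv_of_mul_eq_one_right hx']
      exact D.inv_mem x.2
    rw [hDDt, Subgroup.mem_bot] at hm
    refine Subgroup.mem_bot.mpr (Subtype.ext ?_)
    rw [hm, mul_one] at hx'
    exact hx'
  obtain ⟨hsim, hnc⟩ := hsimple hD hc
  refine ⟨D, hsim, hnc, ⟨(MonoidHom.ofInjective hinj).trans (MulEquiv.subgroupCongr hAeq.symm)⟩,
    fun a ha b hb => ?_, hDDt, hE, le_antisymm ?_ (zpowers_le.mpr htA)⟩
  · obtain ⟨b', hb', rfl⟩ := hb
    exact commute_conj h ha hb'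
  have hfixD : ∀ k ∈ centralizer (A : Set G), D.map (MulAut.conj k).toMonoidHom = D → k = 1 := by
    intro k hk hkD
    have hkN : k ∈ normalizer (D : Set G) := mem_normalizer_iff_map_conj_eq.mpr hkD
    have hkDt : Dt.map (MulAut.conj k).toMonoidHom = Dt := by
      have hcm : Cfsg.IsComponent (Dt.map (MulAut.conj k).toMonoidHom) := component_conj (component_conj hD t) k
      by_contra hne
      have hne' : Dt.map (MulAut.conj k).toMonoidHom ≠ D := fun e => hDt
        (Subgroup.map_injective (MulAut.conj k).injective (e.trans hkD.symm))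
      refine component_not_isSolvable hcm (Group.isSolvable_of_comm fun a b => Subtype.ext ?_)
      have hle : Dt.map (MulAut.conj k).toMonoidHom ≤ centralizer (Cfsg.layer G : Set G) := by
        rw [← hE]
        exact Subgroup.le_centralizer_iff.mp (sup_le
          (Subgroup.le_centralizer_iff.mp (commutator_eq_bot_iff_le_centralizer.mp
            (component_commutator_eq_bot_of_ne hcm hD hne')))
          (Subgroup.le_centralizer_iff.mp (commutator_eq_bot_iff_le_centralizer.mp
            (component_commutator_eq_bot_of_ne hcm (component_conj hD t) hne))))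
      rw [hc] at hle
      have ha := Subgroup.mem_bot.mp (hle a.2)
      show (a : G) * b = b * a
      rw [ha, one_mul, mul_one]
    have key : ∀ x ∈ D, k * x * k⁻¹ = x ∧ k * (t * x * t⁻¹) * k⁻¹ = t * x * t⁻¹ := by
      intro x hx
      have hk' : k * (x * (t * x * t⁻¹)) * k⁻¹ = x * (t * x * t⁻¹) := by
        rw [← mem_centralizer_iff.mp hk _ (hAeq ▸ ⟨⟨x, hx⟩, rfl⟩), mul_inv_cancel_right]
      have e : x⁻¹ * (k * x * k⁻¹) = (t * x * t⁻¹) * (k * (t * x * t⁻¹) * k⁻¹)⁻¹ := by
        calc x⁻¹ * (k * x * k⁻¹) = x⁻¹ * (k * (x * (t * x * t⁻¹)) * k⁻¹) * (k * (t * x * t⁻¹) * k⁻¹)⁻¹ := by group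
          _ = _ := by rw [hk']; group
      have hm : x⁻¹ * (k * x * k⁻¹) ∈ D ⊓ Dt := by
        refine ⟨D.mul_mem (D.inv_mem hx) ((mem_normalizer_iff.mp hkN x).mp hx), ?_⟩
        rw [e]
        exact Dt.mul_mem ⟨x, hx, rfl⟩ (Dt.inv_mem
          ((mem_normalizer_iff.mp (mem_normalizer_iff_map_conj_eq.mpr hkDt) _).mp ⟨x, hx, rfl⟩))
      rw [hDDt, Subgroup.mem_bot] at hm
      have h1 : k * x * k⁻¹ = x := (inv_mul_eq_one.mp hm).symm
      refine ⟨h1, ?_⟩
      rw [hm, eq_comm, mul_inv_eq_one] at e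
      exact e.symm
    have hkE : k ∈ centralizer (Cfsg.layer G : Set G) := by
      rw [← hE]
      refine Subgroup.le_centralizer_iff.mp (sup_le (fun x hx => ?_) ?_) (mem_zpowers k)
      · exact Subgroup.le_centralizer_iff.mp (zpowers_le.mpr (mem_centralizer_iff.mpr fun y hy =>
          (mul_inv_eq_iff_eq_mul.mp (key y hy).1).symm)) hx
      · exact Subgroup.le_centralizer_iff.mp (zpowers_le.mpr (mem_centralizer_iff.mpr (by
          rintro _ ⟨y, hy, rfl⟩
          exact (mul_inv_eq_iff_eq_mul.mp (key y hy).2).symm)))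
    rwa [hc, Subgroup.mem_bot] at hkE
  intro k hk
  by_cases hkD : D.map (MulAut.conj k).toMonoidHom = D
  · rw [hfixD k hk hkD]
    exact one_mem _
  have hcm : Cfsg.IsComponent (D.map (MulAut.conj k).toMonoidHom) := component_conj hD k
  have hkDt : D.map (MulAut.conj k).toMonoidHom = Dt := by
    by_contra hne
    refine component_not_isSolvable hcm (Group.isSolvable_of_comm fun a b => Subtype.ext ?_)
    have hle : D.map (MulAut.conj k).toMonoidHom ≤ centralizer (Cfsg.layer G : Set G) := by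
      rw [← hE]
      exact Subgroup.le_centralizer_iff.mp (sup_le
        (Subgroup.le_centralizer_iff.mp (commutator_eq_bot_iff_le_centralizer.mp
          (component_commutator_eq_bot_of_ne hcm hD hkD)))
        (Subgroup.le_centralizer_iff.mp (commutator_eq_bot_iff_le_centralizer.mp
          (component_commutator_eq_bot_of_ne hcm (component_conj hD t) hne))))
    rw [hc] at hle
    have ha := Subgroup.mem_bot.mp (hle a.2)
    show (a : G) * b = b * a
    rw [ha, one_mul, mul_one]
  have hmem : t * k ∈ centralizer (A : Set G) := mul_mem htA hk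
  have hcomp : (MulAut.conj (t * k)).toMonoidHom =
      (MulAut.conj t).toMonoidHom.comp (MulAut.conj k).toMonoidHom := by
    rw [map_mul]
    rfl
  have h1 := hfixD (t * k) hmem (by
    rw [hcomp, ← Subgroup.map_map, hkDt, hDtdef, Subgroup.map_map]
    conv_rhs => rw [← Subgroup.map_id D]
    congr 1
    ext x
    show t * (t * x * t⁻¹) * t⁻¹ = x
    rw [show t * (t * x * t⁻¹) * t⁻¹ = (t * t) * x * (t * t)⁻¹ by group, htt, one_mul, inv_one, mul_one])
  rw [eq_inv_of_mul_eq_one_right h1]
  exact inv_mem (mem_zpowers t)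

end Standard

end Cfsg.Agent.Components.StandardTrichotomy
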