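import Cfsg.Agent.Lib.Components.SylowCentralizer
import Cfsg.Agent.Lib.Components.SchreierBalance
import Cfsg.Agent.Lib.Coprime.Action
import Cfsg.Agent.Lib.Transfer.Frobenius

/-!
`L_{2'}`-balance without any hypothesis on the components: `L_{2'}(N(P)) ≤ L_{2'}(G)` for every
2-subgroup `P`.
-/

set_option autoImplicit false
set_option linter.style.haveILetI false
set_option linter.unusedSectionVars false

namespace Cfsg.Agent.Components.TwoBalance

open Subgroup
open scoped commutatorElement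
open Cfsg.Agent.Components.Basic Cfsg.Agent.Components.Fitting Cfsg.Agent.Components.PComponents
open Cfsg.Agent.CharP Cfsg.Agent.Techniques.Alperin.Radical

universe u

variable {G : Type u} [Group G]

lemma normalizer_le_normalizer_centralizer' (A : Subgroup G) :
    normalizer (A : Set G) ≤ normalizer ((centralizer (A : Set G) : Subgroup G) : Set G) := by
  intro g hg
  have key : ∀ g ∈ normalizer (A : Set G), ∀ c ∈ centralizer (A : Set G), g * c * g⁻¹ ∈ centralizer (A : Set G) := by
    intro g hg c hc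
    refine mem_centralizer_iff.mpr fun a ha => ?_
    have h := mem_centralizer_iff.mp hc (g⁻¹ * a * g) (by
      simpa using (mem_normalizer_iff.mp (inv_mem hg) a).mp ha)
    calc a * (g * c * g⁻¹) = g * ((g⁻¹ * a * g) * c) * g⁻¹ := by group
      _ = g * (c * (g⁻¹ * a * g)) * g⁻¹ := by rw [h]
      _ = g * c * g⁻¹ * a := by group
  rw [mem_normalizer_iff]
  refine fun c => ⟨key g hg c, fun hc => ?_⟩
  simpa [mul_assoc] using key g⁻¹ (inv_mem hg) _ hc

/-- A normal `p'`-subgroup of `Y` lies in the `p'`-core of `Y`. -/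
lemma le_kOf [Finite G] {p : ℕ} {X Y : Subgroup G} (hXY : X ≤ Y) (hn : Y ≤ normalizer (X : Set G))
    (hc : (Nat.card X).Coprime p) : X ≤ kOf p Y := by
  haveI : (X.subgroupOf Y).Normal := normal_subgroupOf_of_le_normalizer hn
  refine (map_subgroupOf_eq_of_le hXY).symm.le.trans (Subgroup.map_mono (Cores.le_pPrimeCore ?_))
  rwa [Nat.card_congr (subgroupOfEquivOfLe hXY).toEquiv]

/-- `J` is perfect and generated by its 2-elements. -/
def IsPerfectTwoGen (J : Subgroup G) : Prop := ⁅J, J⁆ = J ∧ pGen 2 J = J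

lemma IsPerfectTwoGen.map {G' : Type u} [Group G'] {J : Subgroup G} (h : IsPerfectTwoGen J)
    (f : G →* G') : IsPerfectTwoGen (J.map f) := by
  refine ⟨by rw [← map_commutator, h.1], le_antisymm (pGen_le _) ?_⟩
  conv_lhs => rw [← h.2]
  exact map_pGen_le f J

lemma IsPerfectTwoGen.subgroupOf {J N : Subgroup G} (h : IsPerfectTwoGen J) (hJ : J ≤ N) :
    IsPerfectTwoGen (J.subgroupOf N) := by
  constructor
  · apply Subgroup.map_injective N.subtype_injective
    rw [map_commutator, map_subgroupOf_eq_of_le hJ, h.1]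
  · apply Subgroup.map_injective N.subtype_injective
    rw [← PComponentCriterion.pGen_map N.subtype_injective, map_subgroupOf_eq_of_le hJ, h.2]

/-- A perfect 2-generated group with image of odd order is trivial. -/
lemma eq_bot_of_coprime [Finite G] {J : Subgroup G} (h : IsPerfectTwoGen J) (hc : (Nat.card J).Coprime 2) :
    J = ⊥ := by
  rw [← h.2, eq_bot_iff]
  refine (closure_le _).mpr ?_
  rintro x ⟨hx, k, hk⟩
  exact orderOf_eq_one_iff.mp (Nat.eq_one_of_dvd_coprimes (hc.symm.pow_left k)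
    (orderOf_dvd_of_pow_eq_one hk) (orderOf_dvd_natCard J hx))

variable [Finite G]

/-- The state of the climb along a Sylow 2-subgroup. -/
structure State (E P W Q J : Subgroup G) : Prop where
  normQ : P ≤ normalizer (Q : Set G)
  ptg : IsPerfectTwoGen J
  cent : J ≤ centralizer ((P ⊔ Q : Subgroup G) : Set G)
  le : J ≤ W ⊔ E
  ge : W ≤ J ⊔ E
  comm : ⁅J, E ⊓ centralizer ((P ⊔ Q : Subgroup G) : Set G)⁆ ≤
    kOf 2 (E ⊓ centralizer ((P ⊔ Q : Subgroup G) : Set G))

/-- A minimal subgroup covering a perfect 2-generated group modulo `O` is perfect and 2-generated. -/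
lemma ptg_of_minimal {J O J' C : Subgroup G} (hJ : IsPerfectTwoGen J) (hJO : J ≤ normalizer (O : Set G))
    (_hJ'C : J' ≤ C) (hsup : J' ⊔ O = J ⊔ O) (hmin : ∀ X ≤ J', X ⊔ O = J ⊔ O → X = J') :
    IsPerfectTwoGen J' := by
  haveI : Fact (Nat.Prime 2) := ⟨Nat.prime_two⟩
  set NO := normalizer (O : Set G)
  set q := QuotientGroup.mk' (O.subgroupOf NO)
  have hJ'O : J' ≤ NO := (le_sup_left.trans hsup.le).trans (sup_le hJO le_normalizer)
  have hrep : ∀ j ∈ J, ∃ c ∈ J', ∃ o ∈ O, j = c * o := by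
    intro j hj
    have h : j ∈ (↑(J' ⊔ O) : Set G) := by rw [hsup]; exact mem_sup_left hj
    rw [coe_mul_of_left_le_normalizer_right _ _ hJ'O] at h
    obtain ⟨c, hc, o, ho, rfl⟩ := h
    exact ⟨c, hc, o, ho, rfl⟩
  have hqe : ∀ {c o : G} (hc : c ∈ NO) (ho : o ∈ O) (hco : c * o ∈ NO),
      q ⟨c * o, hco⟩ = q ⟨c, hc⟩ := by
    intro c o hc ho hco
    symm
    refine (QuotientGroup.eq (s := O.subgroupOf NO)).mpr ?_
    show c⁻¹ * (c * o) ∈ O
    rwa [inv_mul_cancel_left]
  have hback : ∀ {X : Subgroup G} {a : G} (haN : a ∈ NO) (b : ↥NO), (b : G) ∈ X →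
      q b = q ⟨a, haN⟩ → a ∈ X ⊔ O := by
    intro X a haN b hb hq
    have h : (b : G)⁻¹ * a ∈ O := (QuotientGroup.eq (s := O.subgroupOf NO)).mp hq
    simpa using mul_mem_sup hb h
  have hfin : ∀ X ≤ J', J ≤ X ⊔ O → X = J' := fun X hX hJX => hmin X hX
    (le_antisymm (sup_le_sup_right (hX.trans le_rfl) O |>.trans hsup.le) (sup_le hJX le_sup_right))
  constructor
  · refine hfin _ ?_ ?_
    · exact (le_normalizer_iff_commutator_le_left.mp le_normalizer)
    conv_lhs => rw [← hJ.1]
    refine commutator_le.mpr fun a ha b hb => ?_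
    obtain ⟨c, hc, o, ho, rfl⟩ := hrep a ha
    obtain ⟨c', hc', o', ho', rfl⟩ := hrep b hb
    have ha' := hJO ha
    have hb' := hJO hb
    refine hback (a := ⁅c * o, c' * o'⁆) (by
      rw [commutatorElement_def]
      exact mul_mem (mul_mem (mul_mem ha' hb') (inv_mem ha')) (inv_mem hb'))
      ⁅(⟨c, hJ'O hc⟩ : NO), ⟨c', hJ'O hc'⟩⁆ (commutator_mem_commutator hc hc') ?_
    rw [map_commutatorElement, ← hqe (hJ'O hc) ho ha', ← hqe (hJ'O hc') ho' hb', ← map_commutatorElement]
    rfl
  · refine hfin _ (pGen_le J') ?_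
    conv_lhs => rw [← hJ.2]
    refine (closure_le _).mpr ?_
    rintro x ⟨hx, k, hk⟩
    obtain ⟨c, hc, o, ho, rfl⟩ := hrep x hx
    obtain ⟨n, hn⟩ : ∃ n, n = orderOf c := ⟨_, rfl⟩
    have hn0 : n ≠ 0 := hn ▸ (orderOf_pos c).ne'
    set m := ordCompl[2] n with hm
    have hcop : (2 ^ k).Coprime m := (Nat.coprime_ordCompl Nat.prime_two hn0).pow_left k
    obtain ⟨e, he1, he2⟩ := Nat.chineseRemainder hcop 1 0
    have hme : m ∣ e := (Nat.modEq_zero_iff_dvd).mp he2
    have h2 : (c ^ e) ^ 2 ^ n.factorization 2 = 1 := by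
      rw [← pow_mul, ← orderOf_dvd_iff_pow_eq_one, ← hn, mul_comm]
      conv_lhs => rw [← Nat.ordProj_mul_ordCompl_eq_self n 2]
      exact Nat.mul_dvd_mul_left _ hme
    refine hback (a := c * o) (hJO hx) ((⟨c, hJ'O hc⟩ : NO) ^ e)
      (subset_closure ⟨by rw [SubgroupClass.coe_pow]; exact J'.pow_mem hc e,
        _, by rw [SubgroupClass.coe_pow]; exact h2⟩) ?_
    rw [map_pow, ← hqe (hJ'O hc) ho (hJO hx)]
    have h3 : (q ⟨c * o, hJO hx⟩) ^ 2 ^ k = 1 := by
      rw [← map_pow, show (⟨c * o, hJO hx⟩ : NO) ^ 2 ^ k = 1 from Subtype.ext hk, map_one]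
    have h4 := (pow_eq_pow_iff_modEq (x := q ⟨c * o, hJO hx⟩)).mpr
      (he1.of_dvd (orderOf_dvd_of_pow_eq_one h3))
    rwa [pow_one] at h4

/-- One step of the climb. -/
lemma State.step {E P W Q J S : Subgroup G} [E.Normal] (hst : State E P W Q J) (hP : IsPGroup 2 P)
    (hS : IsPGroup 2 S) (hSE : S ≤ E) (hPS : P ≤ normalizer (S : Set G)) (hQS : Q < S) :
    ∃ Q' J', Q < Q' ∧ Q' ≤ S ∧ State E P W Q' J' := by
  haveI : Fact (Nat.Prime 2) := ⟨Nat.prime_two⟩
  set W0 := S ⊓ normalizer (Q : Set G) with hW0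
  have hQW0 : Q < W0 := Transfer.Frobenius.lt_inf_normalizer hS hQS
  have hPW0 : P ≤ normalizer (W0 : Set G) :=
    (le_inf hPS (hst.normQ.trans le_normalizer)).trans inf_normalizer_le_normalizer_inf
  set T0 := P ⊔ W0 with hT0
  have hT0p : IsPGroup 2 T0 := hP.to_sup_of_normal_right' (hS.to_le inf_le_left) hPW0
  obtain ⟨s, hs, hsQ, hfix⟩ := SylowCentralizer.exists_fixed_step hT0p hQW0 le_sup_right
    (sup_le hPW0 le_normalizer) (sup_le hst.normQ inf_le_right)
  set A := P ⊔ Q with hA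
  set U := centralizer (A : Set G) with hU
  set Y := E ⊓ U with hY
  set O := kOf 2 Y with hO
  have hsA : s ∈ normalizer (A : Set G) := by
    rw [mem_normalizer_iff_map_conj_eq]
    refine eq_of_le_of_card_ge ?_ (le_of_eq (card_map_of_injective (MulAut.conj s).injective).symm)
    rw [hA, Subgroup.map_sup]
    refine sup_le ?_ ((le_of_eq (mem_normalizer_iff_map_conj_eq.mp hs.2)).trans le_sup_right)
    rintro _ ⟨x, hx, rfl⟩
    have h := hfix x (mem_sup_left hx)
    show s * x * s⁻¹ ∈ P ⊔ Q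
    rw [show s * x * s⁻¹ = ⁅x, s⁆⁻¹ * x by rw [commutatorElement_def]; group]
    exact mul_mem (mem_sup_right (Q.inv_mem h)) (mem_sup_left hx)
  have hsU : s ∈ normalizer (U : Set G) := normalizer_le_normalizer_centralizer' A hsA
  have hNY : ∀ {g : G}, g ∈ normalizer (U : Set G) → g ∈ normalizer (Y : Set G) := fun hg =>
    inf_normalizer_le_normalizer_inf ⟨le_normalizer_of_normal (mem_top _), hg⟩
  have hsY : s ∈ normalizer (Y : Set G) := hNY hsU
  have hJY : J ≤ normalizer (Y : Set G) := fun j hj => hNY (le_normalizer (hst.cent hj))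
  set NO := normalizer (O : Set G)
  have hYNO : normalizer (Y : Set G) ≤ NO := LocalFix.normalizer_le_normalizer_pPrimeCore Y
  have hJO : J ≤ NO := hJY.trans hYNO
  set q := QuotientGroup.mk' (O.subgroupOf NO) with hq
  have hq1 : ∀ {g : G} (hg : g ∈ NO), g ∈ O → q ⟨g, hg⟩ = 1 := fun hg h =>
    (QuotientGroup.eq_one_iff (N := O.subgroupOf NO) _).mpr h
  have hcY : ∀ {j y : G} (hj : j ∈ J) (hy : y ∈ Y),
      Commute (q ⟨j, hJO hj⟩) (q ⟨y, hYNO (le_normalizer hy)⟩) := by
    intro j y hj hy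
    rw [← commutatorElement_eq_one_iff_commute, ← map_commutatorElement]
    exact hq1 (g := ⁅j, y⁆) _ (hst.comm (commutator_mem_commutator hj hy))
  have hmem : ∀ {j : G}, j ∈ J → ⁅j, s⁆ ∈ Y := by
    intro j hj
    refine ⟨?_, ?_⟩
    · rw [commutatorElement_def]
      exact E.mul_mem (Normal.conj_mem inferInstance s (hSE hs.1) j) (E.inv_mem (hSE hs.1))
    · rw [commutatorElement_def, show j * s * j⁻¹ * s⁻¹ = j * (s * j⁻¹ * s⁻¹) by group]
      exact U.mul_mem (hst.cent hj) ((mem_normalizer_iff.mp hsU _).mp (U.inv_mem (hst.cent hj)))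
  have hjs : ∀ {j : G}, j ∈ J → ⁅j, s⁆ ∈ O := by
    have hcomm : ∀ {j y : G} (hj : j ∈ J) (hy : y ∈ Y),
        Commute (q ⟨⁅j, s⁆, hYNO (le_normalizer (hmem hj))⟩) (q ⟨y, hYNO (le_normalizer hy)⟩) := by
      intro j y hj hy
      set sN : NO := ⟨s, hYNO hsY⟩
      set jN : NO := ⟨j, hJO hj⟩
      have hy' : s⁻¹ * y * s ∈ Y := by
        simpa using (mem_normalizer_iff.mp (inv_mem hsY) y).mp hy
      rw [show (⟨⁅j, s⁆, hYNO (le_normalizer (hmem hj))⟩ : NO) = jN * (sN * jN⁻¹ * sN⁻¹) from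
        Subtype.ext (by show ⁅j, s⁆ = j * (s * j⁻¹ * s⁻¹); simp only [commutatorElement_def]; group), map_mul]
      refine (hcY hj hy).mul_left ?_
      have h := (hcY hj hy').inv_left
      have h' := h.map (MulAut.conj (q sN)).toMonoidHom
      simp only [MulEquiv.coe_toMonoidHom, MulAut.conj_apply] at h'
      rw [← map_inv q jN, ← map_inv q sN, ← map_mul, ← map_mul, ← map_mul, ← map_mul] at h'
      rwa [show sN * ⟨s⁻¹ * y * s, _⟩ * sN⁻¹ = (⟨y, hYNO (le_normalizer hy)⟩ : NO) from
        Subtype.ext (by simp [sN, mul_assoc])] at h'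
    let f : J →* ↥NO ⧸ O.subgroupOf NO :=
      { toFun := fun j => q ⟨⁅(j : G), s⁆, hYNO (le_normalizer (hmem j.2))⟩
        map_one' := by
          rw [← map_one q]
          exact congrArg q (Subtype.ext (commutatorElement_one_left s))
        map_mul' := fun a b => by
          set aN : NO := ⟨a, hJO a.2⟩
          set x : NO := ⟨⁅(a : G), s⁆, hYNO (le_normalizer (hmem a.2))⟩
          set y : NO := ⟨⁅(b : G), s⁆, hYNO (le_normalizer (hmem b.2))⟩
          rw [show (⟨⁅((a * b : J) : G), s⁆, hYNO (le_normalizer (hmem (a * b : J).2))⟩ : NO) =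
            aN * y * aN⁻¹ * x from Subtype.ext (by
              simp [aN, x, y, commutatorElement_mul_left_eq_conj_mul]), map_mul, map_mul, map_mul,
            map_inv, (hcY a.2 (hmem b.2)).eq, mul_inv_cancel_right]
          exact ((hcomm a.2 (hmem b.2)).eq).symm }
    have hker : commutator J ≤ f.ker := (_root_.commutator_def J).le.trans (commutator_le.mpr fun a _ b _ => by
      rw [MonoidHom.mem_ker, map_commutatorElement, commutatorElement_eq_one_iff_commute]
      exact hcomm a.2 (hmem b.2))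
    rw [(Subgroup.isPerfect_iff.mpr hst.ptg.1).commutator_eq_top] at hker
    intro j hj
    exact (QuotientGroup.eq_one_iff (N := O.subgroupOf NO) _).mp (hker (mem_top (⟨j, hj⟩ : J)))
  set Q' := Q ⊔ zpowers s with hQ'
  set A' := P ⊔ Q' with hA'
  have hQ'W : Q' ≤ W0 := sup_le hQW0.le (zpowers_le.mpr hs)
  have hA'T : A' ≤ T0 := sup_le le_sup_left (hQ'W.trans le_sup_right)
  have hAU : A ≤ centralizer (Y : Set G) := le_centralizer_iff.mp inf_le_right
  have hA'Y : A' ≤ normalizer (Y : Set G) := by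
    refine sup_le ?_ (sup_le ?_ (zpowers_le.mpr hsY))
    · exact (le_sup_left.trans hAU).trans (centralizer_le_normalizer _)
    · exact (le_sup_right.trans hAU).trans (centralizer_le_normalizer _)
  have hOc : (Nat.card O).Coprime 2 := by
    rw [hO, card_map_of_injective Y.subtype_injective]
    exact Cores.pPrimeCore_card_coprime 2
  obtain ⟨i, hi⟩ := IsPGroup.iff_card.1 (hT0p.to_le hA'T)
  have hsolv : Group.IsSolvable A' := by
    haveI := (hT0p.to_le hA'T).isNilpotent
    exact IsNilpotent.to_isSolvable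
  have hAA' : A ≤ A' := sup_le le_sup_left (le_sup_left.trans le_sup_right)
  set C := (J ⊔ O) ⊓ centralizer (A' : Set G) with hC
  have hcov : C ⊔ O = J ⊔ O := by
    refine le_antisymm (sup_le inf_le_left le_sup_right) (sup_le (fun j hj => ?_) le_sup_right)
    have hfixj : A' ≤ ((centralizer ({q ⟨j, hJO hj⟩} : Set _)).comap q).map NO.subtype := by
      refine sup_le (fun a ha => ?_) (sup_le (fun a ha => ?_) (zpowers_le.mpr ?_))
      · refine ⟨⟨a, hYNO (hA'Y (hAA' (mem_sup_left ha)))⟩, mem_centralizer_singleton_iff.mpr ?_, rfl⟩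
        rw [← map_mul, ← map_mul]
        exact congrArg q (Subtype.ext (mem_centralizer_iff.mp (hst.cent hj) a (mem_sup_left ha)))
      · refine ⟨⟨a, hYNO (hA'Y (hAA' (mem_sup_right ha)))⟩, mem_centralizer_singleton_iff.mpr ?_, rfl⟩
        rw [← map_mul, ← map_mul]
        exact congrArg q (Subtype.ext (mem_centralizer_iff.mp (hst.cent hj) a (mem_sup_right ha)))
      · refine ⟨⟨s, hYNO hsY⟩, mem_centralizer_singleton_iff.mpr (Commute.symm ?_).eq, rfl⟩
        rw [← commutatorElement_eq_one_iff_commute, ← map_commutatorElement]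
        exact hq1 (g := ⁅j, s⁆) _ (hjs hj)
    obtain ⟨n, hn, hjn⟩ := Coprime.exists_fixed_in_coset (hA'Y.trans hYNO)
      (hi ▸ hOc.symm.pow_left i) (Or.inl hsolv) (k := j) fun a ha => by
        obtain ⟨aN, haN, rfl⟩ := hfixj ha
        have h := mem_centralizer_singleton_iff.mp (mem_comap.mp haN)
        refine (QuotientGroup.eq_one_iff (N := O.subgroupOf NO) ((⟨j, hJO hj⟩ : NO)⁻¹ *
          (aN * ⟨j, hJO hj⟩ * aN⁻¹))).mp ?_
        show q _ = 1
        simp only [map_mul, map_inv, h, mul_inv_cancel_right, inv_mul_cancel]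
    rw [show j = j * n * n⁻¹ by group]
    exact mul_mem_sup ⟨mul_mem_sup hj hn, hjn⟩ (O.inv_mem hn)
  obtain ⟨J', hJ'C, hJ'sup, hmin⟩ := Basic.exists_minimal_le (fun X => X ⊔ O = J ⊔ O) (H := C) hcov
  have hptg := ptg_of_minimal hst.ptg hJO hJ'C hJ'sup hmin
  have hOE : O ≤ E := (map_subtype_le _).trans inf_le_left
  have hJ'J : J' ≤ J ⊔ O := le_sup_left.trans hJ'sup.le
  refine ⟨Q', J', lt_of_le_of_ne le_sup_left fun h => hsQ (h ▸ mem_sup_right (mem_zpowers s)),
    hQ'W.trans inf_le_left, ⟨?_, hptg, hJ'C.trans inf_le_right, ?_, ?_, ?_⟩⟩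
  · intro x hx
    rw [mem_normalizer_iff_map_conj_eq]
    refine eq_of_le_of_card_ge ?_ (le_of_eq (card_map_of_injective (MulAut.conj x).injective).symm)
    rw [hQ', Subgroup.map_sup, MonoidHom.map_zpowers]
    refine sup_le_sup (le_of_eq (mem_normalizer_iff_map_conj_eq.mp (hst.normQ hx))) le_rfl |>.trans ?_
    refine sup_le le_sup_left (zpowers_le.mpr ?_)
    show x * s * x⁻¹ ∈ Q ⊔ zpowers s
    rw [show x * s * x⁻¹ = ⁅x, s⁆ * s by rw [commutatorElement_def]; group]
    exact mul_mem_sup (hfix x (mem_sup_left hx)) (mem_zpowers s)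
  · exact hJ'J.trans (sup_le hst.le (hOE.trans le_sup_right))
  · refine hst.ge.trans (sup_le ?_ le_sup_right)
    exact (le_sup_left.trans hJ'sup.ge).trans (sup_le_sup_left hOE J')
  · set Y' := E ⊓ centralizer (A' : Set G) with hY'
    have hY'Y : Y' ≤ Y := inf_le_inf_left _ (centralizer_le hAA')
    have hJY' : J' ≤ normalizer (Y' : Set G) := fun j hj =>
      inf_normalizer_le_normalizer_inf ⟨le_normalizer_of_normal (mem_top _),
        le_normalizer (hJ'C hj).2⟩
    refine le_trans (le_inf ?_ ((le_normalizer_iff_commutator_le_right.mp hJY').trans le_rfl))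
      (le_kOf (p := 2) inf_le_right ?_ (hOc.coprime_dvd_left (card_dvd_of_le inf_le_left)) :
        O ⊓ Y' ≤ kOf 2 Y')
    · refine commutator_le.mpr fun j hj y hy => ?_
      have hjN : j ∈ NO := sup_le hJO le_normalizer (hJ'J hj)
      have hj' : j ∈ (↑(J ⊔ O) : Set G) := hJ'J hj
      rw [coe_mul_of_left_le_normalizer_right _ _ hJO] at hj'
      obtain ⟨a, ha, o, ho, hao⟩ := hj'
      have hao' : a * o = j := hao
      have hyN := hYNO (le_normalizer (hY'Y hy))
      refine (QuotientGroup.eq_one_iff (N := O.subgroupOf NO)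
        ⁅(⟨j, hjN⟩ : NO), ⟨y, hyN⟩⁆).mp ?_
      show q _ = 1
      rw [map_commutatorElement, commutatorElement_eq_one_iff_commute,
        show (⟨j, hjN⟩ : NO) = ⟨a, hJO ha⟩ * ⟨o, le_normalizer ho⟩ from Subtype.ext hao'.symm,
        map_mul, hq1 (le_normalizer ho) ho, mul_one]
      exact hcY ha (hY'Y hy)
    · exact (le_inf ((le_normalizer.trans' hY'Y).trans hYNO) le_normalizer).trans
        inf_normalizer_le_normalizer_inf

/-- The climb reaches the Sylow subgroup. -/
lemma exists_top_state {E P W S : Subgroup G} [E.Normal] (hP : IsPGroup 2 P) (hS : IsPGroup 2 S)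
    (hSE : S ≤ E) (hPS : P ≤ normalizer (S : Set G)) {Q J : Subgroup G} (hQS : Q ≤ S)
    (hst : State E P W Q J) : ∃ J', State E P W S J' := by
  induction Q using WellFoundedGT.induction generalizing J with
  | ind Q ih =>
    rcases hQS.lt_or_eq with hlt | rfl
    · obtain ⟨Q', J', h1, h2, h3⟩ := hst.step hP hS hSE hPS hlt
      exact ih Q' h1 h2 h3
    · exact ⟨J, hst⟩

/-- A perfect 2-generated group fixing the components and centralizing a Sylow 2-subgroup of a
component centralizes it. -/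
lemma centralizes_component (hO : Cfsg.pPrimeCore 2 G = ⊥) {L S J : Subgroup G} (hL : Cfsg.IsComponent L)
    (hS : IsSylIn 2 S L) (hJ : IsPerfectTwoGen J) (hJL : J ≤ normalizer (L : Set G))
    (hJS : J ≤ centralizer (S : Set G)) : J ≤ centralizer (L : Set G) := by
  haveI : Fact (Nat.Prime 2) := ⟨Nat.prime_two⟩
  set M := ↥L ⧸ Subgroup.center ↥L
  haveI : IsSimpleGroup M := hL.2.2
  haveI : Group.IsPerfect ↥L := hL.2.1
  haveI hperfM : Group.IsPerfect M :=
    Group.IsPerfect.ofSurjective (f := QuotientGroup.mk' (Subgroup.center ↥L)) (QuotientGroup.mk'_surjective _)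
  have hcM : Subgroup.center M = ⊥ := by
    refine ((inferInstance : (Subgroup.center M).Normal).eq_bot_or_eq_top).resolve_right fun h => ?_
    have h1 : commutator M = ⊥ := (_root_.commutator_def M).trans (commutator_top_left_eq_bot_iff_le_center.mpr h.ge)
    rw [hperfM.commutator_eq_top] at h1
    exact top_ne_bot h1
  have hOM : Cfsg.oddCore M = ⊥ := by
    refine ((inferInstance : (Cfsg.oddCore M).Normal).eq_bot_or_eq_top).resolve_right fun h => ?_
    refine quasisimple_center_ne_top hL.2 (component_eq_top_of_coprime_index hO hL _ ?_)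
    have h1 := Cores.pPrimeCore_card_coprime (G := M) 2
    rw [show Cfsg.pPrimeCore 2 M = ⊤ from h, card_top] at h1
    exact h1
  set c : M →* MulAut M := MulAut.conj
  have hcinj : Function.Injective c := by
    rw [← MonoidHom.ker_eq_bot_iff, eq_bot_iff]
    intro x hx
    rw [← hcM, Subgroup.mem_center_iff]
    intro y
    have h2 : x * y * x⁻¹ = y := by
      have := congrArg (fun e : MulAut M => e y) (MonoidHom.mem_ker.mp hx)
      simpa [c] using this
    exact (mul_inv_eq_iff_eq_mul.mp h2).symm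
  set D := c.range
  have key : ∀ (σ : MulAut M) (x : M), σ * c x * σ⁻¹ = c (σ x) := fun σ x => by
    ext y; simp [c]
  haveI : D.Normal := ⟨by rintro _ ⟨x, rfl⟩ σ; exact ⟨σ x, (key σ x).symm⟩⟩
  have hCD : centralizer (D : Set (MulAut M)) = ⊥ := by
    rw [eq_bot_iff]
    intro σ hσ
    rw [Subgroup.mem_bot]
    ext x
    refine hcinj ?_
    rw [← key, ← mem_centralizer_iff.mp hσ (c x) ⟨x, rfl⟩, mul_inv_cancel_right]
    rfl
  have hOD : Cfsg.oddCore D = ⊥ := by
    have h := Cores.map_pPrimeCore_eq (MonoidHom.ofInjective hcinj) 2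
    rw [show Cfsg.pPrimeCore 2 M = ⊥ from hOM, Subgroup.map_bot] at h
    exact h.symm
  set SM := (S.subgroupOf L).map (QuotientGroup.mk' (Subgroup.center ↥L))
  have hSD : IsSylIn 2 (SM.map c) D := by
    refine isSylIn_of_not_dvd ((hS.isPGroup.comap_subtype.map _).map _) (map_le_range _ _) ?_
    rw [show D = (⊤ : Subgroup M).map c from MonoidHom.range_eq_map c,
      relIndex_map_map_of_injective SM ⊤ hcinj, relIndex_top_right]
    exact fun h => hS.not_dvd (h.trans (index_map_dvd _ (QuotientGroup.mk'_surjective _)))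
  set act := LocalBalance.actQuot L
  set J' := (J.subgroupOf (normalizer (L : Set G))).map act
  have hJ' : IsPerfectTwoGen J' := (hJ.subgroupOf hJL).map act
  have hcent : J' ≤ centralizer (SM.map c : Set (MulAut M)) := by
    rintro _ ⟨j, hj, rfl⟩
    refine mem_centralizer_iff.mpr ?_
    rintro _ ⟨_, ⟨x, hx, rfl⟩, rfl⟩
    have hfix : act j (QuotientGroup.mk x) = QuotientGroup.mk x := by
      show act j _ = _
      rw [LocalBalance.actQuot_apply]
      refine congrArg _ (Subtype.ext ?_)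
      show (j : G) * x * (j : G)⁻¹ = x
      have hjx : (x : G) * (j : G) = (j : G) * x := mem_centralizer_iff.mp (hJS hj) x hx
      rw [← hjx, mul_inv_cancel_right]
    calc c (QuotientGroup.mk x) * act j = c (act j (QuotientGroup.mk x)) * act j := by rw [hfix]
      _ = act j * c (QuotientGroup.mk x) := by rw [← key, inv_mul_cancel_right]
  have hbot := SylowCentralizer.eq_bot_of_centralizes_sylow hCD hOD hSD hJ'.1 hJ'.2 hcent
  intro j hj
  refine (LocalBalance.actQuot_eq_one_iff hL ⟨j, hJL hj⟩).mp ?_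
  rw [← Subgroup.mem_bot, ← hbot]
  exact ⟨⟨j, hJL hj⟩, hj, rfl⟩

/-- The key proposition: with `O(G) = 1`, such a group lies in the layer. -/
theorem le_layer_of_two (hO : Cfsg.pPrimeCore 2 G = ⊥) {P W : Subgroup G} (hP : IsPGroup 2 P)
    (hW : IsPerfectTwoGen W) (hWP : W ≤ centralizer (P : Set G)) (hWf : W ≤ LocalFix.fixer G)
    (hWO : W ≤ centralizer (Cfsg.pCore 2 G : Set G))
    (hWY : ⁅W, Cfsg.layer G ⊓ centralizer (P : Set G)⁆ ≤
      kOf 2 (Cfsg.layer G ⊓ centralizer (P : Set G))) :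
    W ≤ Cfsg.layer G := by
  haveI : Fact (Nat.Prime 2) := ⟨Nat.prime_two⟩
  set E := Cfsg.layer G with hE
  obtain ⟨T, hT, hPT⟩ := exists_isSylIn_ge (H := E ⊔ P) hP le_sup_right
  set S := T ⊓ E with hS
  have hSE : IsSylIn 2 S E := by
    refine isSylIn_of_not_dvd (hT.isPGroup.to_le inf_le_left) inf_le_right fun h => hT.not_dvd ?_
    refine h.trans ?_
    rw [hS, inf_relIndex_right, ← relIndex_subgroupOf (K := E) (H := T) (le_sup_left : E ≤ E ⊔ P)]
    exact Cores.relIndex_dvd_index_right_normal (T.subgroupOf (E ⊔ P)) (E.subgroupOf (E ⊔ P))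
  have hPS : P ≤ normalizer (S : Set G) :=
    (le_inf (hPT.trans le_normalizer) le_normalizer_of_normal).trans inf_normalizer_le_normalizer_inf
  have h0 : State E P W ⊥ W := by
    refine ⟨le_normalizer_of_normal, hW, ?_, le_sup_left, le_sup_left, ?_⟩
    · rwa [sup_bot_eq]
    · rwa [sup_bot_eq]
  obtain ⟨J, hJ⟩ := exists_top_state hP hSE.isPGroup hSE.le hPS bot_le h0
  have hJf : J ≤ LocalFix.fixer G := hJ.le.trans (sup_le hWf LocalFix.layer_le_fixer)
  have hJO : J ≤ centralizer (Cfsg.pCore 2 G : Set G) :=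
    hJ.le.trans (sup_le hWO Local.layer_le_centralizer_pCore)
  have hJE : J ≤ centralizer (E : Set G) := by
    rw [le_centralizer_iff]
    refine layer_le fun L hL => le_centralizer_iff.mp ?_
    haveI : (L.subgroupOf E).Normal := normal_subgroupOf_of_le_normalizer (Basic.layer_le_normalizer hL)
    have hSL : IsSylIn 2 (S ⊓ L) L := by
      refine isSylIn_of_not_dvd (hSE.isPGroup.to_le inf_le_left) inf_le_right fun h => hSE.not_dvd ?_
      refine h.trans ?_
      rw [inf_relIndex_right, ← relIndex_subgroupOf (K := L) (H := S) (le_layer hL)]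
      exact Cores.relIndex_dvd_index_right_normal (S.subgroupOf E) (L.subgroupOf E)
    exact centralizes_component hO hL hSL hJ.ptg (hJf.trans (iInf_le_of_le ⟨L, hL⟩ le_rfl))
      (hJ.cent.trans (centralizer_le ((inf_le_left : S ⊓ L ≤ S).trans (le_sup_right : S ≤ P ⊔ S))))
  have hJF : J ≤ centralizer (Cfsg.generalizedFittingSubgroup G : Set G) := by
    rw [le_centralizer_iff, Cfsg.generalizedFittingSubgroup, fitting_eq_pCore hO]
    exact sup_le (le_centralizer_iff.mp hJE) (le_centralizer_iff.mp hJO)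
  have hJbot : J = ⊥ := by
    rw [← hJ.ptg.1, eq_bot_iff]
    refine commutator_le.mpr fun a ha b hb => Subgroup.mem_bot.mpr ?_
    rw [commutatorElement_eq_one_iff_commute]
    exact mem_centralizer_iff.mp (hJF hb) a (centralizer_genFitting_le (hJF ha))
  have := hJ.ge
  rwa [hJbot, bot_sup_eq] at this

/-- `L_{2'}`-balance: `L_{2'}(N(P)) ≤ L_{2'}(G)` for every 2-subgroup `P`. -/
theorem pLayer_normalizer_le {P : Subgroup G} (hP : IsPGroup 2 P) :
    (Cfsg.pLayer 2 ↥(normalizer (P : Set G))).map (normalizer (P : Set G)).subtype ≤ Cfsg.pLayer 2 G := by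
  haveI : Fact (Nat.Prime 2) := ⟨Nat.prime_two⟩
  set R := Cfsg.pPrimeCore 2 G with hR
  set q := QuotientGroup.mk' R with hq
  have hO := Cores.pPrimeCore_quotient_self (G := G) 2
  have hRc : (Nat.card R).Coprime 2 := Cores.pPrimeCore_card_coprime 2
  set N := normalizer (P : Set G) with hN
  set Nb := normalizer ((P.map q : Subgroup (G ⧸ R)) : Set (G ⧸ R)) with hNb
  have hNe : N.map q = Nb := Local.map_normalizer_eq hP hRc
  set f : N →* Nb := (q.comp N.subtype).codRestrict Nb (fun n => hNe.le ⟨n, n.2, rfl⟩) with hf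
  have hfs : Function.Surjective f := by
    rintro ⟨y, hy⟩
    obtain ⟨n, hn, rfl⟩ := hNe.ge hy
    exact ⟨⟨n, hn⟩, rfl⟩
  set ON := Cfsg.pPrimeCore 2 ↥Nb with hON
  set q2 := QuotientGroup.mk' ON with hq2
  refine map_le_iff_le_comap.mpr (sSup_le fun K hK => map_le_iff_le_comap.mp ?_)
  have hKptg : IsPerfectTwoGen K := ⟨pcomp_perfect hK, (PComponentCriterion.pcomp_isCore hK).1⟩
  set g : ↥N ⧸ Cfsg.pPrimeCore 2 ↥N →* ↥Nb ⧸ ON :=
    QuotientGroup.map _ _ f (map_le_iff_le_comap.mp (Cores.map_pPrimeCore_le hfs 2)) with hg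
  have hgs : Function.Surjective g := by
    intro y
    obtain ⟨y, rfl⟩ := QuotientGroup.mk'_surjective _ y
    obtain ⟨x, rfl⟩ := hfs y
    exact ⟨QuotientGroup.mk x, rfl⟩
  set Kb := K.map f with hKbdef
  have hKb : IsPerfectTwoGen Kb := hKptg.map f
  have hgeq : (K.map (QuotientGroup.mk' (Cfsg.pPrimeCore 2 ↥N))).map g = Kb.map q2 := by
    rw [hKbdef, Subgroup.map_map, Subgroup.map_map]
    rfl
  set W := Kb.map Nb.subtype with hW
  have hWe : W = (K.map N.subtype).map q := by
    rw [hW, hKbdef, Subgroup.map_map, Subgroup.map_map]; rfl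
  have hPb : IsPGroup 2 (P.map q) := hP.map q
  suffices hlay : W ≤ Cfsg.layer (G ⧸ R) by
    rw [hWe, ← map_pLayer, map_le_iff_le_comap, comap_map_eq, QuotientGroup.ker_mk'] at hlay
    haveI hLn : (Cfsg.pLayer 2 G).Normal := by
      refine ⟨fun n hn a => ?_⟩
      have : (Cfsg.pLayer 2 G).map (MulAut.conj a).toMonoidHom ≤ Cfsg.pLayer 2 G := by
        rw [map_le_iff_le_comap]
        exact sSup_le fun M hM => map_le_iff_le_comap.mp (le_sSup (ExtendedLayer.isPComponent_conj hM a))
      exact this ⟨n, hn, rfl⟩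
    have hWq : (K.map N.subtype).map (QuotientGroup.mk' (Cfsg.pLayer 2 G)) = ⊥ := by
      refine eq_bot_of_coprime ((hKptg.map N.subtype).map _) (Nat.Coprime.coprime_dvd_left ?_ hRc)
      refine (card_dvd_of_le ((Subgroup.map_mono hlay).trans (le_of_eq ?_))).trans
        (R.card_map_dvd (QuotientGroup.mk' (Cfsg.pLayer 2 G)))
      rw [Subgroup.map_sup, QuotientGroup.map_mk'_self, bot_sup_eq]
    rwa [Subgroup.map_eq_bot_iff, QuotientGroup.ker_mk'] at hWq
  by_cases hZ : Kb.map q2 = ⊥
  · rw [Subgroup.map_eq_bot_iff, QuotientGroup.ker_mk'] at hZ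
    rw [hW, eq_bot_of_coprime hKb ((Cores.pPrimeCore_card_coprime 2).coprime_dvd_left (card_dvd_of_le hZ)),
      Subgroup.map_bot]
    exact bot_le
  have hcomp : Cfsg.IsComponent (Kb.map q2) := by
    rw [← hgeq]
    haveI : Nontrivial ↥((K.map (QuotientGroup.mk' (Cfsg.pPrimeCore 2 ↥N))).map g) :=
      (Subgroup.nontrivial_iff_ne_bot _).mpr (by rw [hgeq]; exact hZ)
    exact ⟨hK.2.1.1.map hgs, Local.isQuasisimple_of_surjective (g.subgroupMap_surjective _) hK.2.1.2⟩
  have hKM : Kb ≤ (Cfsg.layer (↥Nb ⧸ ON)).comap q2 := map_le_iff_le_comap.mp (le_layer hcomp)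
  have hWP : W ≤ centralizer ((P.map q : Subgroup (G ⧸ R)) : Set (G ⧸ R)) := by
    rintro _ ⟨z, hz, rfl⟩
    refine mem_centralizer_iff.mpr fun v hv => ?_
    have hle := Local.comap_layer_le_centralizer_pCore (p := 2) (hKM hz)
    have hv' : (⟨v, le_normalizer hv⟩ : Nb) ∈ Cfsg.pCore 2 ↥Nb :=
      Cores.le_pCore (hN := normal_in_normalizer) (hPb.comap_subtype) hv
    exact congrArg Subtype.val (mem_centralizer_iff.mp hle _ hv')
  have hWf : W ≤ LocalFix.fixer (G ⧸ R) :=
    (Subgroup.map_mono hKM).trans (LocalFix.preimage_layer_le_fixer hO hPb)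
  have hWO : W ≤ centralizer (Cfsg.pCore 2 (G ⧸ R) : Set (G ⧸ R)) := by
    refine Local.le_of_pPrime_mem_of_perfect (p := 2) (hKb.map Nb.subtype).1 ?_
    rintro _ ⟨z, hz, rfl⟩ hord
    refine Local.mem_centralizer_pCore hPb hord ?_
    rw [mem_centralizer_iff]
    rintro _ ⟨v, hv, rfl⟩
    exact congrArg Subtype.val
      (mem_centralizer_iff.mp (Local.comap_layer_le_centralizer_pCore (hKM hz)) v hv)
  set Y := Cfsg.layer (G ⧸ R) ⊓ centralizer ((P.map q : Subgroup (G ⧸ R)) : Set (G ⧸ R)) with hY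
  have hYN : Y ≤ Nb := inf_le_right.trans (centralizer_le_normalizer _)
  haveI hY'n : (Y.subgroupOf Nb).Normal := normal_subgroupOf_of_le_normalizer
    ((le_inf le_normalizer_of_normal (normalizer_le_normalizer_centralizer' _)).trans
      inf_normalizer_le_normalizer_inf)
  set Y' := Y.subgroupOf Nb
  haveI : (Y'.map q2).Normal := Normal.map inferInstance _ (QuotientGroup.mk'_surjective _)
  rcases component_le_or_commutator_eq_bot hcomp (inferInstance : (Y'.map q2).Normal).isSubnormal with h | h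
  · rw [map_le_iff_le_comap, comap_map_eq, QuotientGroup.ker_mk'] at h
    have hb : Kb.map (QuotientGroup.mk' Y') = ⊥ := by
      refine eq_bot_of_coprime (hKb.map _) (Nat.Coprime.coprime_dvd_left ?_
        (Cores.pPrimeCore_card_coprime (G := ↥Nb) 2))
      refine (card_dvd_of_le ((Subgroup.map_mono h).trans (le_of_eq ?_))).trans
        (ON.card_map_dvd (QuotientGroup.mk' Y'))
      rw [Subgroup.map_sup, QuotientGroup.map_mk'_self, bot_sup_eq]
    rw [Subgroup.map_eq_bot_iff, QuotientGroup.ker_mk'] at hb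
    exact ((Subgroup.map_mono hb).trans (map_comap_le _ _)).trans inf_le_left
  · refine le_layer_of_two hO hPb (hKb.map Nb.subtype) hWP hWf hWO ?_
    rw [← map_commutator, Subgroup.map_eq_bot_iff, QuotientGroup.ker_mk'] at h
    have h' : ⁅Kb, Y'⁆ ≤ ON ⊓ Y' := le_inf h (commutator_le_right _ _)
    have hmap : ⁅W, Y⁆ ≤ (ON ⊓ Y').map Nb.subtype := by
      refine (le_of_eq ?_).trans (Subgroup.map_mono h')
      rw [map_commutator, map_subgroupOf_eq_of_le hYN]
    refine hmap.trans (le_kOf ((Subgroup.map_mono inf_le_right).trans (map_comap_le _ _)) ?_ ?_)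
    · intro y hy
      exact le_normalizer_map Nb.subtype ⟨⟨y, hYN hy⟩, le_normalizer_of_normal (mem_top _), rfl⟩
    · rw [card_map_of_injective Nb.subtype_injective]
      exact (Cores.pPrimeCore_card_coprime 2).coprime_dvd_left (card_dvd_of_le inf_le_left)

/-- `L_{2'}(C(T)) ≤ L_{2'}(G)` for every 2-subgroup `T`. -/
theorem pLayer_centralizer_le {T : Subgroup G} (hT : IsPGroup 2 T) :
    (Cfsg.pLayer 2 ↥(centralizer (T : Set G))).map (centralizer (T : Set G)).subtype ≤ Cfsg.pLayer 2 G := by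
  haveI : Fact (Nat.Prime 2) := ⟨Nat.prime_two⟩
  refine map_le_iff_le_comap.mpr (sSup_le fun K hK => map_le_iff_le_comap.mp ?_)
  set C := centralizer (T : Set G)
  set N := normalizer (T : Set G)
  set i := inclusion (centralizer_le_normalizer (T : Set G))
  haveI : (C.subgroupOf N).Normal :=
    normal_subgroupOf_of_le_normalizer (normalizer_le_normalizer_centralizer' T)
  have hrange : i.range.IsSubnormal := by
    rw [Subgroup.inclusion_range]
    exact Normal.isSubnormal inferInstance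
  have h := PComponentCriterion.isPComponent_map_of_range (inclusion_injective _) hrange hK
  refine le_trans (le_of_eq ?_) ((Subgroup.map_mono (f := N.subtype) (le_sSup h)).trans (pLayer_normalizer_le hT))
  rw [Subgroup.map_map]
  rfl

end Cfsg.Agent.Components.TwoBalance
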