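import Cfsg.Agent.Lib.JComp.Basic
import Cfsg.Agent.GroupStructure3.FrattiniAut
import Mathlib.GroupTheory.SpecificGroups.Cyclic

/-!
Automorphisms of order three of an elementary abelian `2`-group with a commutator subgroup of order four,
inside groups of odd order.
-/

set_option autoImplicit false
set_option linter.all false

namespace Cfsg.Agent.Components.TwoDim

open Subgroup

variable {M : Type*} [CommGroup M]

/-- The displacement homomorphism `m ↦ f m / m`. -/
def disp (f : MulAut M) : M →* M where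
  toFun m := f m / m
  map_one' := by simp
  map_mul' a b := by rw [map_mul, mul_div_mul_comm]

/-- The commutator subgroup `[M, f]`. -/
def cr (f : MulAut M) : Subgroup M := (disp f).range

lemma div_mem_cr (f : MulAut M) (m : M) : f m / m ∈ cr f := ⟨m, rfl⟩

/-- The automorphisms acting trivially on `M / U`. -/
def triv (U : Subgroup M) : Subgroup (MulAut M) where
  carrier := {h | ∀ m, h m / m ∈ U}
  one_mem' m := by simp
  mul_mem' {h k} hh hk m := by
    have := U.mul_mem (hh (k m)) (hk m)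
    rwa [div_mul_div_cancel] at this
  inv_mem' {h} hh m := by
    have := U.inv_mem (hh (h⁻¹ m))
    rwa [inv_div, MulAut.apply_inv_self] at this

lemma mem_triv_of_cr_le {U : Subgroup M} {f : MulAut M} (h : cr f ≤ U) : f ∈ triv U :=
  fun m => h (div_mem_cr f m)

lemma apply_mem_of_triv {U : Subgroup M} {h : MulAut M} (hh : h ∈ triv U) {u : M} (hu : u ∈ U) :
    h u ∈ U := by
  have := U.mul_mem (hh u) hu
  rwa [div_mul_cancel] at this

lemma cr_conj (g f : MulAut M) : cr (g * f * g⁻¹) = (cr f).map g.toMonoidHom := by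
  ext v
  constructor
  · rintro ⟨m, rfl⟩
    refine ⟨f (g⁻¹ m) / g⁻¹ m, div_mem_cr f _, ?_⟩
    show g (f (g⁻¹ m) / g⁻¹ m) = (g * f * g⁻¹) m / m
    rw [map_div, MulAut.apply_inv_self]; rfl
  · rintro ⟨w, ⟨m, rfl⟩, rfl⟩
    refine ⟨g m, ?_⟩
    show (g * f * g⁻¹) (g m) / g m = g (f m / m)
    rw [map_div, MulAut.mul_apply, MulAut.mul_apply, MulAut.inv_apply_self]

lemma map_cr_of_commute {f y : MulAut M} (h : Commute f y) {v : M} (hv : v ∈ cr y) :
    f v ∈ cr y := by
  obtain ⟨m, rfl⟩ := hv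
  refine ⟨f m, ?_⟩
  show y (f m) / f m = f (y m / m)
  rw [map_div, ← MulAut.mul_apply, ← h.eq, MulAut.mul_apply]

/-- Restriction of a group of automorphisms to an invariant subgroup. -/
def res (T : Subgroup (MulAut M)) (B : Subgroup M) (h : ∀ t ∈ T, ∀ u ∈ B, t u ∈ B) :
    T →* MulAut B where
  toFun t :=
    { toFun := fun u => ⟨(t : MulAut M) u, h t t.2 u u.2⟩
      invFun := fun u => ⟨(t : MulAut M)⁻¹ u, h _ (T.inv_mem t.2) u u.2⟩
      left_inv := fun u => Subtype.ext ((t : MulAut M).symm_apply_apply (u : M))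
      right_inv := fun u => Subtype.ext ((t : MulAut M).apply_symm_apply (u : M))
      map_mul' := fun u v => Subtype.ext (map_mul (t : MulAut M) (u : M) (v : M)) }
  map_one' := by ext u; rfl
  map_mul' s t := by ext u; rfl

lemma res_eq_one {T : Subgroup (MulAut M)} {B : Subgroup M} {h : ∀ t ∈ T, ∀ u ∈ B, t u ∈ B}
    {t : T} : res T B h t = 1 ↔ ∀ u ∈ B, (t : MulAut M) u = u := by
  constructor
  · intro h1 u hu
    exact congrArg Subtype.val (DFunLike.congr_fun h1 ⟨u, hu⟩)
  · intro h1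
    ext u
    exact h1 u u.2

lemma card_mulAut_bound {V : Type*} [Group V] [Finite V] {n : ℕ} (hV : Nat.card V = 2 ^ n) :
    (n ≤ 4 → Nat.card (MulAut V) ∣ 2 ^ 16 * 20160) ∧ (n ≤ 2 → Nat.card (MulAut V) ∣ 2 ^ 16 * 6) := by
  haveI := Fact.mk Nat.prime_two
  obtain ⟨r, hrn, hr⟩ := (Nat.dvd_prime_pow Nat.prime_two).1 (hV ▸ (frattini V).index_dvd_card)
  have h := Cfsg.Agent.GroupStructure3.FrattiniAut.card_mulAut_dvd hV hr
  refine ⟨fun hn => ?_, fun hn => ?_⟩ <;> refine h.trans ?_
  · refine Nat.mul_dvd_mul (pow_dvd_pow 2 ?_) ?_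
    · have : n - r ≤ 4 := by omega
      calc r * (n - r) ≤ 4 * 4 := Nat.mul_le_mul (by omega) this
        _ = 16 := rfl
    · have : r ≤ 4 := by omega
      interval_cases r <;> norm_num [Finset.prod_range_succ]
  · refine Nat.mul_dvd_mul (pow_dvd_pow 2 ?_) ?_
    · have : n - r ≤ 4 := by omega
      calc r * (n - r) ≤ 4 * 4 := Nat.mul_le_mul (by omega) this
        _ = 16 := rfl
    · have : r ≤ 2 := by omega
      interval_cases r <;> norm_num [Finset.prod_range_succ]

variable [Finite M] (hM : ∀ m : M, m ^ 2 = 1)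
include hM

lemma exists_card (U : Subgroup M) : ∃ n, Nat.card U = 2 ^ n := by
  haveI := Fact.mk Nat.prime_two
  exact IsPGroup.exists_card_eq (p := 2) (fun u => ⟨1, Subtype.ext (by simpa using hM u)⟩)

lemma eq_one_of_pow_odd {v : M} {k : ℕ} (hk : Odd k) (hv : v ^ k = 1) : v = 1 := by
  obtain ⟨j, rfl⟩ := hk
  rwa [pow_succ, pow_mul, hM, one_pow, one_mul] at hv

lemma self_mul (m : M) : m * m = 1 := by rw [← pow_two, hM]

/-- An odd group acting trivially on `M/U` acts faithfully on `U`. -/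
lemma res_injective {X : Subgroup (MulAut M)} (hX : Odd (Nat.card X)) {U : Subgroup M}
    (h : X ≤ triv U) : Function.Injective (res X U fun t ht u hu => apply_mem_of_triv (h ht) hu) := by
  refine (injective_iff_map_eq_one _).2 fun t ht => ?_
  rw [res_eq_one] at ht
  have h2 : t ^ 2 = 1 := by
    ext m
    have h1 := ht _ (h t.2 m)
    rw [map_div, div_eq_div_iff_mul_eq_mul, self_mul hM] at h1
    show (t : MulAut M) ((t : MulAut M) m) = m
    calc (t : MulAut M) ((t : MulAut M) m)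
        = (t : MulAut M) ((t : MulAut M) m) * (m * m) := by rw [self_mul hM, mul_one]
      _ = ((t : MulAut M) ((t : MulAut M) m) * m) * m := (mul_assoc _ _ _).symm
      _ = m := by rw [h1, one_mul]
  have h3 : orderOf t ∣ 2 := orderOf_dvd_of_pow_eq_one h2
  rcases (Nat.dvd_prime Nat.prime_two).1 h3 with h4 | h4
  · exact orderOf_eq_one_iff.1 h4
  · exact absurd (h4 ▸ orderOf_dvd_natCard t) hX.not_two_dvd_nat

lemma card_dvd_of_triv {X : Subgroup (MulAut M)} (hX : Odd (Nat.card X)) {U : Subgroup M}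
    (h : X ≤ triv U) (hU : Nat.card U ≤ 16) : Nat.card X ∣ 2 ^ 16 * 20160 := by
  obtain ⟨n, hn⟩ := exists_card hM U
  have hn4 : n ≤ 4 := (Nat.pow_le_pow_iff_right Nat.one_lt_two).1 (by rw [← hn]; simpa using hU)
  exact (Subgroup.card_dvd_of_injective _ (res_injective hM hX h)).trans ((card_mulAut_bound hn).1 hn4)

lemma fixed_eq_one {f : MulAut M} (hf : f ^ 3 = 1) {v : M} (hv : v ∈ cr f) (h : f v = v) : v = 1 := by
  obtain ⟨m, rfl⟩ := hv
  have h1 : f (f m / m) = f m / m := h
  rw [map_div, div_eq_div_iff_mul_eq_mul] at h1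
  have h2 : f (f m) = m := by
    calc f (f m) = f (f m) * m * m := by rw [mul_assoc, self_mul hM, mul_one]
      _ = f m * f m * m := by rw [h1]
      _ = m := by rw [self_mul hM, one_mul]
  have h3 : f (f (f m)) = m := by
    have := DFunLike.congr_fun hf m
    simpa [pow_succ, MulAut.mul_apply] using this
  rw [h2] at h3
  show f m / m = 1
  rw [h3, div_self']

/-- A subgroup of `[M,f]` invariant under `f` is trivial or all of it. -/
lemma invariant_cases {f : MulAut M} (hf : f ^ 3 = 1) (h4 : Nat.card (cr f) = 4) {I : Subgroup M}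
    (hI : I ≤ cr f) (hinv : ∀ v ∈ I, f v ∈ I) : I = ⊥ ∨ I = cr f := by
  have hd : Nat.card I ∣ 2 ^ 2 := by simpa [h4] using Subgroup.card_dvd_of_le hI
  obtain ⟨k, hk, hI2⟩ := (Nat.dvd_prime_pow Nat.prime_two).1 hd
  interval_cases k
  · left; exact Subgroup.card_eq_one.1 (by simpa using hI2)
  · exfalso
    obtain ⟨a, ha⟩ := (Nat.card_eq_two_iff' (1 : I)).1 (by simpa using hI2)
    have : f (a : M) = a := by
      refine congrArg Subtype.val (ha.2 ⟨f a, hinv a a.2⟩ fun h => ha.1 ?_)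
      have h1 : f (a : M) = 1 := congrArg Subtype.val h
      exact Subtype.ext (f.injective (h1.trans (map_one f).symm))
    exact ha.1 (Subtype.ext (fixed_eq_one hM hf (hI a.2) this))
  · right; exact Subgroup.eq_of_le_of_card_ge hI (by rw [h4, hI2]; norm_num)

lemma card_sup_le {U U' W : Subgroup M} (hU : Nat.card U ≤ 8) (hU' : Nat.card U' ≤ 8)
    (hW : W ≤ U ⊓ U') (h4 : Nat.card W = 4) : Nat.card ↥(U ⊔ U') ≤ 16 := by
  have h := Cfsg.Agent.JComp.card_sup_mul_inf (A := U) (B := U') le_normalizer_of_normal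
  have hi : 4 ≤ Nat.card ↥(U ⊓ U') := h4 ▸ Subgroup.card_le_of_le hW
  have h1 : Nat.card ↥(U ⊔ U') * 4 ≤ 8 * 8 :=
    (Nat.mul_le_mul_left _ hi).trans (h ▸ Nat.mul_le_mul hU hU')
  omega

/-- A `3`-group: conjugates by elements commuting with the commutator normalise `[M,f]`. -/
theorem map_cr_eq {f g : MulAut M} {T : Subgroup (MulAut M)} (hT : IsPGroup 3 T) (hfT : f ∈ T)
    (hgT : g ∈ T) (hf : f ^ 3 = 1) (h4 : Nat.card (cr f) = 4)
    (hc : Commute g (f⁻¹ * (g * f * g⁻¹))) : ∀ v ∈ cr f, g v ∈ cr f := by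
  haveI := Fact.mk Nat.prime_three
  set y := g * f * g⁻¹ with hy
  have hy4 : Nat.card (cr y) = 4 := by
    rw [hy, cr_conj, Subgroup.card_map_of_injective (MulEquiv.injective g), h4]
  suffices hWW : cr y = cr f by
    intro v hv
    rw [← hWW, hy, cr_conj]
    exact Subgroup.mem_map_of_mem _ hv
  have hy3 : y ^ 3 = 1 := by rw [hy, conj_pow, hf, mul_one, mul_inv_cancel]
  have hyT : y ∈ T := T.mul_mem (T.mul_mem hgT hfT) (T.inv_mem hgT)
  set X := closure ({f, y} : Set (MulAut M))
  have hXT : X ≤ T := (closure_le _).2 (by simp [Set.insert_subset_iff, hfT, hyT])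
  have hX3 : IsPGroup 3 X := hT.to_le hXT
  obtain ⟨k, hk⟩ := hX3.exists_card_eq
  have hXU : X ≤ triv (cr f ⊔ cr y) := (closure_le _).2 (by
    simp [Set.insert_subset_iff, mem_triv_of_cr_le])
  have hsize : Nat.card ↥(cr f ⊔ cr y) ≤ 16 := by
    have h := Cfsg.Agent.JComp.card_sup_mul_inf (A := cr f) (B := cr y) le_normalizer_of_normal
    rw [h4, hy4] at h
    have := Nat.card_pos (α := ↥(cr f ⊓ cr y))
    nlinarith
  have hd := card_dvd_of_triv hM (hk ▸ Odd.pow (by decide)) hXU hsize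
  rw [hk] at hd
  have hk2 : k ≤ 2 := by
    by_contra hk2
    exact absurd ((pow_dvd_pow 3 (show 3 ≤ k by omega)).trans hd) (by norm_num)
  have hcomm : Commute f y := by
    have hab : ∀ a b : X, a * b = b * a := by
      interval_cases k
      · have := (Nat.card_eq_one_iff_unique.1 (by rw [hk, pow_zero])).1
        exact fun a b => Subsingleton.elim _ _
      · haveI : IsCyclic X := isCyclic_of_prime_card (p := 3) (by simpa using hk)
        exact fun a b => IsCyclic.commGroup.mul_comm a b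
      · exact IsPGroup.commutative_of_card_eq_prime_sq hk
    exact congrArg Subtype.val (hab ⟨f, subset_closure (by simp)⟩ ⟨y, subset_closure (by simp)⟩)
  rcases invariant_cases hM hf h4 (I := cr f ⊓ cr y) inf_le_left
      (fun v hv => ⟨map_cr_of_commute (Commute.refl f) hv.1, map_cr_of_commute hcomm hv.2⟩) with hI | hI
  swap
  · exact (Subgroup.eq_of_le_of_card_ge (hI ▸ inf_le_right) (by rw [h4, hy4])).symm
  exfalso
  have hfix : ∀ v ∈ cr y, f v = v := fun v hv => by
    have : f v / v ∈ cr f ⊓ cr y :=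
      ⟨div_mem_cr f v, (cr y).div_mem (map_cr_of_commute hcomm hv) hv⟩
    rwa [hI, mem_bot, div_eq_one] at this
  have hfix' : ∀ v ∈ cr f, y v = v := fun v hv => by
    have : y v / v ∈ cr f ⊓ cr y :=
      ⟨(cr f).div_mem (map_cr_of_commute hcomm.symm hv) hv, div_mem_cr y v⟩
    rwa [hI, mem_bot, div_eq_one] at this
  set z := g * y * g⁻¹ with hz
  have hzeq : z = y * f⁻¹ * y := by
    have h1 : g * (f⁻¹ * y) * g⁻¹ = f⁻¹ * y := by rw [hc.eq, mul_inv_cancel_right]
    have h2 : g * (f⁻¹ * y) * g⁻¹ = y⁻¹ * z := by rw [hz, hy]; group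
    rw [h2] at h1
    rw [mul_assoc, ← h1, mul_inv_cancel_left]
  have hz4 : Nat.card (cr z) = 4 := by
    rw [hz, cr_conj, Subgroup.card_map_of_injective (MulEquiv.injective g), hy4]
  have hfW : ∀ v ∈ cr y, f⁻¹ v = v := fun v hv => by
    conv_lhs => rw [← hfix v hv]
    exact MulAut.inv_apply_self _ f v
  have onto : ∀ (h : MulAut M) (W : Subgroup M), (∀ v ∈ W, h v ∈ W) →
      (∀ v ∈ W, h v = v → v = 1) → W ≤ cr h := by
    intro h W hinv hfx
    let δ : W → W := fun w => ⟨h w / w, W.div_mem (hinv w w.2) w.2⟩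
    have hδ : Function.Injective δ := by
      intro a b hab
      have h1 : h (a : M) / a = h b / b := congrArg Subtype.val hab
      have h2 : (a : M) / b = 1 := hfx _ (W.div_mem a.2 b.2) (by
        rw [map_div, div_eq_div_iff_mul_eq_mul]
        exact (div_eq_div_iff_mul_eq_mul.1 h1).trans (mul_comm _ _))
      exact Subtype.ext (div_eq_one.1 h2)
    intro w hw
    obtain ⟨a, ha⟩ := Finite.surjective_of_injective hδ ⟨w, hw⟩
    have h1 : h (a : M) / a = w := congrArg Subtype.val ha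
    exact h1 ▸ div_mem_cr h (a : M)
  have hle1 : cr f ≤ cr z := by
    refine onto z (cr f) (fun v hv => ?_) (fun v hv h => ?_)
    · have h1 : f⁻¹ v ∈ cr f := map_cr_of_commute (Commute.refl f).inv_left hv
      rw [hzeq, MulAut.mul_apply, MulAut.mul_apply, hfix' v hv, hfix' _ h1]
      exact h1
    · have h1 : f⁻¹ v ∈ cr f := map_cr_of_commute (Commute.refl f).inv_left hv
      rw [hzeq, MulAut.mul_apply, MulAut.mul_apply, hfix' v hv, hfix' _ h1] at h
      refine fixed_eq_one hM hf hv ?_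
      conv_lhs => rw [← h]
      exact MulAut.apply_inv_self _ f v
  have hle2 : cr y ≤ cr z := by
    refine onto z (cr y) (fun v hv => ?_) (fun v hv h => ?_)
    · have h1 : y v ∈ cr y := map_cr_of_commute (Commute.refl y) hv
      rw [hzeq, MulAut.mul_apply, MulAut.mul_apply, hfW _ h1]
      exact map_cr_of_commute (Commute.refl y) h1
    · have h1 : y v ∈ cr y := map_cr_of_commute (Commute.refl y) hv
      rw [hzeq, MulAut.mul_apply, MulAut.mul_apply, hfW _ h1] at h
      refine fixed_eq_one hM hy3 hv ?_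
      have h3 : y (y (y v)) = v := by
        have := DFunLike.congr_fun hy3 v
        simpa [pow_succ, MulAut.mul_apply] using this
      rwa [h] at h3
  have e1 := Subgroup.eq_of_le_of_card_ge hle1 (by rw [h4, hz4])
  have e2 := Subgroup.eq_of_le_of_card_ge hle2 (by rw [hy4, hz4])
  rw [e1, e2, inf_idem] at hI
  rw [hI, Subgroup.card_bot] at hz4
  omega

/-- In a group of odd order a commutator-small span has order at most eight. -/
theorem card_span_le_eight {f : MulAut M} {p : ℕ} [hp : Fact p.Prime] (hp5 : 5 ≤ p)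
    {T R : Subgroup (MulAut M)} (hT : Odd (Nat.card T)) (hR : IsPGroup p R) (hRT : R ≤ T)
    (hfT : f ∈ T) (hfR : f ∈ normalizer (R : Set (MulAut M))) (hf : f ^ 3 = 1)
    (h4 : Nat.card (cr f) = 4) {s : Set (MulAut M)} (hfs : f ∈ s)
    (hs : ∀ y ∈ s, y * f⁻¹ ∈ R) (hs3 : ∀ y ∈ s, y ^ 3 = 1) {V : Subgroup M}
    (hVdef : V = ⨆ y ∈ s, cr y) (hV : Nat.card V ≤ 16) : Nat.card V ≤ 8 := by
  by_cases hall : ∀ y ∈ s, y = f
  · have : V ≤ cr f := hVdef ▸ iSup₂_le fun y hy => (hall y hy).symm ▸ le_rfl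
    have := Subgroup.card_le_of_le this
    omega
  push Not at hall
  obtain ⟨y, hys, hyf⟩ := hall
  set X := closure s
  have hXT : X ≤ T := (closure_le _).2 fun a ha => by
    have := T.mul_mem (hRT (hs a ha)) hfT
    rwa [inv_mul_cancel_right] at this
  have hXodd : Odd (Nat.card X) := hT.of_dvd_nat (Subgroup.card_dvd_of_le hXT)
  have hcrle : ∀ a ∈ s, cr a ≤ V := fun a ha => hVdef ▸ le_iSup₂_of_le a ha le_rfl
  have hXV : X ≤ triv V := (closure_le _).2 fun a ha => mem_triv_of_cr_le (hcrle a ha)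
  have hXc := card_dvd_of_triv hM hXodd hXV hV
  have hsX : ∀ a ∈ s, a * f⁻¹ ∈ R ⊓ X := fun a ha =>
    ⟨hs a ha, X.mul_mem (subset_closure ha) (X.inv_mem (subset_closure hfs))⟩
  set c := y * f⁻¹ with hcdef
  have hc : c ∈ R ⊓ X := hsX y hys
  have hc1 : c ≠ 1 := fun h => hyf (mul_inv_eq_one.1 h)
  obtain ⟨k, hk⟩ := (hR.to_le (inf_le_left : R ⊓ X ≤ R)).exists_card_eq
  have hZd : p ^ k ∣ 2 ^ 16 * 20160 := hk ▸ (Subgroup.card_dvd_of_le inf_le_right).trans hXc
  have hk0 : k ≠ 0 := by
    rintro rfl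
    rw [pow_zero] at hk
    rw [Subgroup.card_eq_one.1 hk, mem_bot] at hc
    exact hc1 hc
  have hdiv : ∀ i, p ^ i ∣ 2 ^ 16 * 20160 → p ^ i ∣ 315 := by
    intro i hi
    refine Nat.Coprime.dvd_of_dvd_mul_left ?_ (show p ^ i ∣ 2 ^ 22 * 315 by simpa using hi)
    exact Nat.Coprime.pow _ _ ((Nat.coprime_primes hp.out Nat.prime_two).2 (by omega))
  have hp315 : p ∣ 315 := by
    simpa using hdiv 1 (by simpa using (dvd_pow_self p hk0).trans hZd)
  have hp57 : p = 5 ∨ p = 7 := by
    have h1 : p ∣ 9 * 35 := by simpa using hp315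
    rcases hp.out.dvd_mul.1 h1 with h | h
    · have := Nat.le_of_dvd (by norm_num) h
      interval_cases p <;> first | omega | (exfalso; revert h; decide) | (exfalso; exact absurd hp.out (by norm_num))
    · rcases hp.out.dvd_mul.1 (show p ∣ 5 * 7 by simpa using h) with h | h
      · exact Or.inl ((Nat.prime_dvd_prime_iff_eq hp.out (by norm_num)).1 h)
      · exact Or.inr ((Nat.prime_dvd_prime_iff_eq hp.out (by norm_num)).1 h)
  have hk1 : k = 1 := by
    by_contra hk1
    have := (pow_dvd_pow p (show 2 ≤ k by omega)).trans (hdiv k hZd)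
    rcases hp57 with rfl | rfl <;> norm_num at this
  rw [hk1, pow_one] at hk
  have hco : orderOf c = p := orderOf_eq_prime (by
    have := pow_card_eq_one' (x := (⟨c, hc⟩ : ↥(R ⊓ X)))
    rw [hk] at this
    exact congrArg Subtype.val this) hc1
  have hZ : R ⊓ X = zpowers c := by
    refine (Subgroup.eq_of_le_of_card_ge ((zpowers_le).2 hc) ?_).symm
    rw [hk, Nat.card_zpowers, hco]
  have hnorm : f⁻¹ * c * f ∈ zpowers c := by
    rw [← hZ]
    refine ⟨?_, X.mul_mem (X.mul_mem (X.inv_mem (subset_closure hfs)) hc.2) (subset_closure hfs)⟩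
    have := (mem_normalizer_iff''.1 hfR c).1 hc.1
    exact this
  obtain ⟨n, hn⟩ := (mem_powers_iff_mem_zpowers.2 hnorm)
  rcases hp57 with rfl | rfl
  · exfalso
    have e : ∀ j : ℕ, f⁻¹ * c ^ j * f = c ^ (n * j) := fun j => by
      rw [pow_mul, show c ^ n = f⁻¹ * c * f from hn]
      have h := conj_pow (a := f⁻¹) (b := c) (i := j)
      rwa [inv_inv, eq_comm] at h
    have h3 : c ^ (n ^ 3) = c ^ 1 := by
      have e1 : c ^ (n ^ 3) = f⁻¹ * (f⁻¹ * (f⁻¹ * c * f) * f) * f := by
        rw [← pow_one c, e, ← pow_mul, e, e]; ring_nf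
      rw [e1, pow_one]
      have h3 : f * f * f = 1 := by rw [← hf]; simp [pow_succ]
      calc f⁻¹ * (f⁻¹ * (f⁻¹ * c * f) * f) * f = (f * f * f)⁻¹ * c * (f * f * f) := by group
        _ = c := by rw [h3]; simp
    rw [pow_eq_pow_iff_modEq, hco] at h3
    have hn1 : n % 5 = 1 := by
      have h5 : (n % 5) ^ 3 % 5 = 1 := by rw [← Nat.pow_mod]; exact h3
      have := Nat.mod_lt n (show 5 > 0 by norm_num)
      interval_cases h : n % 5 <;> simp_all
    have hcf : Commute c f := by
      have h1 : f⁻¹ * c * f = c := by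
        rw [← (show c ^ n = f⁻¹ * c * f from hn), ← pow_mod_orderOf, hco, hn1, pow_one]
      show c * f = f * c
      calc c * f = f * (f⁻¹ * c * f) := by group
        _ = f * c := by rw [h1]
    have hy : y = c * f := by rw [hcdef, inv_mul_cancel_right]
    have := hs3 y hys
    rw [hy, hcf.mul_pow, hf, mul_one] at this
    have := orderOf_dvd_of_pow_eq_one this
    rw [hco] at this
    omega
  by_contra hV8
  obtain ⟨e, he⟩ := exists_card hM V
  have he4 : e = 4 := by
    have h1 : e ≤ 4 := (Nat.pow_le_pow_iff_right Nat.one_lt_two).1 (by rw [← he]; simpa using hV)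
    interval_cases e <;> simp_all
  subst he4
  have hzX : zpowers c ≤ X := zpowers_le.2 hc.2
  have hinv : ∀ t ∈ zpowers c, ∀ u ∈ V, t u ∈ V := fun t ht u hu => apply_mem_of_triv (hXV (hzX ht)) hu
  letI : MulAction (zpowers c) V := MulAction.compHom V (res (zpowers c) V hinv)
  have h7 : IsPGroup 7 (zpowers c) := IsPGroup.of_card (n := 1) (by rw [Nat.card_zpowers, hco, pow_one])
  have hmod := h7.card_modEq_card_fixedPoints (α := V)
  let C : Subgroup M := V ⊓ MonoidHom.eqLocus c.toMonoidHom (MonoidHom.id M)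
  have hfixcard : Nat.card (MulAction.fixedPoints (zpowers c) V) = Nat.card C := by
    refine Nat.card_congr ⟨fun v => ⟨v.1.1, v.1.2, congrArg Subtype.val (v.2 ⟨c, mem_zpowers c⟩)⟩,
      fun v => ⟨⟨v.1, v.2.1⟩, fun t => Subtype.ext ?_⟩, fun v => rfl, fun v => rfl⟩
    show (t : MulAut M) v.1 = v.1
    have hst : c ∈ MulAction.stabilizer (MulAut M) v.1 := v.2.2
    exact zpowers_le.2 hst t.2
  rw [hfixcard, he] at hmod
  obtain ⟨i, hi, hC⟩ := (Nat.dvd_prime_pow Nat.prime_two).1 (he ▸ Subgroup.card_dvd_of_le (inf_le_left : C ≤ V))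
  have hi4 : i ≠ 4 := by
    rintro rfl
    have hCV : C = V := Subgroup.eq_of_le_of_card_ge inf_le_left (by rw [hC, he])
    have h1 : res X V (fun t ht u hu => apply_mem_of_triv (hXV ht) hu) ⟨c, hc.2⟩ = 1 :=
      res_eq_one.2 fun u hu => (show u ∈ C from hCV.symm ▸ hu).2
    have := res_injective hM hXodd hXV (h1.trans (map_one _).symm)
    exact hc1 (congrArg Subtype.val this)
  have hi1 : i = 1 := by
    rw [hC] at hmod
    interval_cases i <;> first | rfl | omega | (exfalso; revert hmod; decide)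
  subst hi1
  obtain ⟨v, hv1, hvu⟩ := (Nat.card_eq_two_iff' (1 : C)).1 (hC.trans (pow_one 2))
  have hfv : f (v : M) = v := by
    have hmem : f (v : M) ∈ C := by
      refine ⟨apply_mem_of_triv (hXV (subset_closure hfs)) v.2.1, ?_⟩
      show c (f v) = f v
      have hst : c ∈ MulAction.stabilizer (MulAut M) (v : M) := v.2.2
      have h1 : (f⁻¹ * c * f) (v : M) = v :=
        zpowers_le.2 hst hnorm
      calc c (f v) = f ((f⁻¹ * c * f) v) := by simp [MulAut.mul_apply]
        _ = f v := by rw [h1]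
    refine congrArg Subtype.val (hvu ⟨f v, hmem⟩ fun h => hv1 ?_)
    have h1 : f (v : M) = 1 := congrArg Subtype.val h
    exact Subtype.ext (f.injective (h1.trans (map_one f).symm))
  have hXfix : ∀ h ∈ X, h (v : M) = v := by
    have : X ≤ MulAction.stabilizer (MulAut M) (v : M) := (closure_le _).2 fun a ha => by
      have h1 : a * f⁻¹ ∈ MulAction.stabilizer (MulAut M) (v : M) := by
        have hst : c ∈ MulAction.stabilizer (MulAut M) (v : M) := v.2.2
        exact zpowers_le.2 hst (hZ ▸ hsX a ha)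
      have h2 : f ∈ MulAction.stabilizer (MulAut M) (v : M) := hfv
      simpa using mul_mem h1 h2
    exact fun h hh => this hh
  letI := Fintype.ofFinite X
  let N : M →* M :=
    { toFun := fun m => ∏ h : X, (h : MulAut M) m
      map_one' := by simp
      map_mul' := fun a b => by simp [Finset.prod_mul_distrib] }
  have hker : V ≤ N.ker := by
    rw [hVdef]
    refine iSup₂_le fun a ha => ?_
    rintro w ⟨m, rfl⟩
    show N (a m / m) = 1
    rw [map_div, div_eq_one]
    exact Fintype.prod_equiv (Equiv.mulRight (⟨a, subset_closure ha⟩ : X)) _ _ fun h => rfl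
  have hN : N (v : M) = (v : M) ^ Nat.card X := by
    show ∏ h : X, (h : MulAut M) v = _
    simp [fun h : X => hXfix h h.2]
  exact hv1 (Subtype.ext (eq_one_of_pow_odd hM hXodd (hN ▸ hker v.2.1)))

/-- The conjugates of `[M,f]` under a normalised odd `p`-group (`p ≥ 5`) span at most eight elements. -/
theorem exists_small_invariant {f : MulAut M} {p : ℕ} [hp : Fact p.Prime] (hp5 : 5 ≤ p)
    {T R : Subgroup (MulAut M)} (hT : Odd (Nat.card T)) (hR : IsPGroup p R) (hRT : R ≤ T)
    (hfT : f ∈ T) (hfR : f ∈ normalizer (R : Set (MulAut M))) (hf : f ^ 3 = 1)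
    (h4 : Nat.card (cr f) = 4) :
    ∃ B : Subgroup M, cr f ≤ B ∧ Nat.card B ≤ 8 ∧ ∀ g ∈ R, ∀ u ∈ B, g u ∈ B := by
  let Y := fun g : R => (g : MulAut M) * f * (g : MulAut M)⁻¹
  have hYR : ∀ g : R, Y g * f⁻¹ ∈ R := fun g => by
    have h1 := (mem_normalizer_iff.1 hfR (g : MulAut M)⁻¹).1 (R.inv_mem g.2)
    have h2 := R.mul_mem g.2 h1
    simp only [Y]
    convert h2 using 1
    all_goals simp only [mul_assoc]
  have hY3 : ∀ g : R, Y g ^ 3 = 1 := fun g => by simp only [Y]; rw [conj_pow, hf, mul_one, mul_inv_cancel]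
  have hY4 : ∀ g : R, Nat.card (cr (Y g)) = 4 := fun g => by
    simp only [Y]; rw [cr_conj, Subgroup.card_map_of_injective (MulEquiv.injective _), h4]
  have inv : ∀ B : Subgroup M, (∀ g : R, cr (Y g) ≤ B) → (B = ⨆ g : R, cr (Y g)) →
      ∀ g ∈ R, ∀ u ∈ B, g u ∈ B := by
    intro B hle hB g hg u hu
    have hmap : B.map (g : MulAut M).toMonoidHom ≤ B := by
      conv_lhs => rw [hB]
      rw [Subgroup.map_iSup]
      refine iSup_le fun h => le_trans (le_of_eq ?_) (hle (⟨g, hg⟩ * h))
      rw [← cr_conj]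
      try congr 1
      all_goals simp only [Y, Subgroup.coe_mul, mul_inv_rev, mul_assoc]
    exact hmap (Subgroup.mem_map_of_mem _ hu)
  have hY1 : Y 1 = f := by simp [Y]
  let B : Subgroup M := ⨆ g : R, cr (Y g)
  refine ⟨B, hY1 ▸ le_iSup (fun g : R => cr (Y g)) 1, ?_, inv B (le_iSup (fun g : R => cr (Y g))) rfl⟩
  by_cases hall : ∀ g : R, cr (Y g) ≤ cr f
  · have := Subgroup.card_le_of_le (show B ≤ cr f from iSup_le hall)
    omega
  push Not at hall
  obtain ⟨a, ha⟩ := hall
  have h8 : ∀ b : R, Nat.card ↥(cr f ⊔ cr (Y b)) ≤ 8 := by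
    intro b
    refine card_span_le_eight hM hp5 hT hR hRT hfT hfR hf h4 (s := {f, Y b}) (by simp) ?_ ?_ iSup_pair.symm ?_
    · rintro y (rfl | rfl); exacts [by simpa using R.one_mem, hYR b]
    · rintro y (rfl | rfl); exacts [hf, hY3 b]
    · have h := Cfsg.Agent.JComp.card_sup_mul_inf (A := cr f) (B := cr (Y b)) le_normalizer_of_normal
      rw [h4, hY4] at h
      have := Nat.card_pos (α := ↥(cr f ⊓ cr (Y b)))
      nlinarith
  obtain ⟨e, he⟩ := exists_card hM (cr f ⊔ cr (Y a))
  have hlt : 4 < Nat.card ↥(cr f ⊔ cr (Y a)) := by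
    by_contra hle
    exact ha ((le_sup_right : cr (Y a) ≤ cr f ⊔ cr (Y a)).trans
      (Subgroup.eq_of_le_of_card_ge le_sup_left (by omega)).ge)
  have hU8 : Nat.card ↥(cr f ⊔ cr (Y a)) = 8 := by
    have h1 := h8 a
    have h2 : e ≤ 3 := (Nat.pow_le_pow_iff_right Nat.one_lt_two).1 (by rw [← he]; simpa using h1)
    interval_cases e <;> omega
  refine le_trans (Subgroup.card_le_of_le (iSup_le fun b => ?_)) hU8.le
  have hV : Nat.card ↥((cr f ⊔ cr (Y a)) ⊔ (cr f ⊔ cr (Y b))) ≤ 8 := by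
    refine card_span_le_eight hM hp5 hT hR hRT hfT hfR hf h4 (s := {f, Y a, Y b}) (by simp) ?_ ?_ ?_
      (card_sup_le hM (h8 a) (h8 b) (le_inf le_sup_left le_sup_left) h4)
    · rintro y (rfl | rfl | rfl); exacts [by simpa using R.one_mem, hYR a, hYR b]
    · rintro y (rfl | rfl | rfl); exacts [hf, hY3 a, hY3 b]
    · rw [iSup_insert, iSup_pair, ← sup_sup_distrib_left]
  have he' := Subgroup.eq_of_le_of_card_ge (le_sup_left : cr f ⊔ cr (Y a) ≤ _) (hV.trans hU8.ge)
  rw [he']
  exact le_sup_of_le_right le_sup_right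

end Cfsg.Agent.Components.TwoDim
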